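import Mathlib
import Cfsg.Agent.Helper17.SylowKit

set_option autoImplicit false

namespace Cfsg.Agent.Helper58.Ord495

open Subgroup

/-- Every group of order `495 = 3^2 * 5 * 11` has an element of order `15`
(a Sylow `5`-subgroup is central in its normalizer, whose order is `45` or `495`). -/
theorem exists_15 {H : Type*} [Group H] [Finite H] (h : Nat.card H = 495) :
    ∃ g : H, orderOf g = 15 := by
  haveI : Fact (Nat.Prime 5) := ⟨by norm_num⟩
  haveI : Fact (Nat.Prime 3) := ⟨by norm_num⟩
  obtain ⟨P⟩ : Nonempty (Sylow 5 H) := inferInstance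
  have hP : Nat.card (P : Subgroup H) = 5 := by
    have := Helper17.card_sylow_subgroup_of_card_eq (p := 5) (k := 1) (m := 99)
      (by rw [h]; norm_num) (by norm_num) P
    simpa using this
  obtain ⟨h1, -⟩ := Helper17.relIndex_dvd_of_card_sylow_prime P hP
  have hNn : Nat.card (normalizer ((P : Subgroup H) : Set H)) * Nat.card (Sylow 5 H) = 495 :=
    h ▸ Helper17.card_normalizer_mul_card_sylow P
  have hn5 : Nat.card (Sylow 5 H) ≡ 1 [MOD 5] := card_sylow_modEq_one 5 H
  have hCN := Helper17.card_centralizer_mul_relIndex (P : Subgroup H)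
  -- the number of Sylow 5-subgroups is 1 or 11
  have hn5' : Nat.card (Sylow 5 H) ∣ 99 :=
    Helper17.card_sylow_dvd_of_card_eq (p := 5) (k := 1) (m := 99) (by rw [h]; norm_num) (by norm_num)
  have hn : Nat.card (Sylow 5 H) = 1 ∨ Nat.card (Sylow 5 H) = 11 := by
    have hmem : Nat.card (Sylow 5 H) ∈ Nat.divisors 99 := Nat.mem_divisors.mpr ⟨hn5', by norm_num⟩
    have hdiv : Nat.divisors 99 = {1, 3, 9, 11, 33, 99} := by decide
    rw [hdiv] at hmem
    simp only [Finset.mem_insert, Finset.mem_singleton] at hmem
    unfold Nat.ModEq at hn5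
    rcases hmem with h' | h' | h' | h' | h' | h' <;> rw [h'] at hn5 <;> simp_all
  have hN : Nat.card (normalizer ((P : Subgroup H) : Set H)) = 495 ∨
      Nat.card (normalizer ((P : Subgroup H) : Set H)) = 45 := by
    rcases hn with h' | h' <;> rw [h'] at hNn <;> omega
  -- the relative index divides 4 and an odd number, so it is 1
  have hd : (centralizer ((P : Subgroup H) : Set H)).relIndex
      (normalizer ((P : Subgroup H) : Set H)) = 1 := by
    have h4 : (centralizer ((P : Subgroup H) : Set H)).relIndex
        (normalizer ((P : Subgroup H) : Set H)) ∣ 4 := h1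
    have h495 : (centralizer ((P : Subgroup H) : Set H)).relIndex
        (normalizer ((P : Subgroup H) : Set H)) ∣ 495 := by
      have : (centralizer ((P : Subgroup H) : Set H)).relIndex
          (normalizer ((P : Subgroup H) : Set H)) ∣
          Nat.card (normalizer ((P : Subgroup H) : Set H)) := ⟨_, by rw [← hCN, mul_comm]⟩
      refine this.trans ?_
      rcases hN with h' | h' <;> rw [h'] <;> norm_num
    have := Nat.dvd_gcd h4 h495
    have hg : Nat.gcd 4 495 = 1 := by decide
    rw [hg] at this
    exact Nat.dvd_one.mp this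
  rw [hd, mul_one] at hCN
  have h3 : 3 ∣ Nat.card (centralizer ((P : Subgroup H) : Set H)) := by
    rw [hCN]; rcases hN with h' | h' <;> rw [h'] <;> norm_num
  obtain ⟨t, ht⟩ := exists_prime_orderOf_dvd_card' 3 h3
  obtain ⟨x, hx⟩ := exists_prime_orderOf_dvd_card' (G := (P : Subgroup H)) 5 (by rw [hP])
  have hcomm : Commute (x : H) (t : H) := by
    have := t.2
    rw [Subgroup.mem_centralizer_iff] at this
    exact this (x : H) x.2
  refine ⟨(x : H) * (t : H), ?_⟩
  have hx' : orderOf (x : H) = 5 := by rw [Subgroup.orderOf_coe]; exact hx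
  have ht' : orderOf (t : H) = 3 := by rw [Subgroup.orderOf_coe]; exact ht
  rw [hcomm.orderOf_mul_eq_mul_orderOf_of_coprime (by rw [hx', ht']; norm_num), hx', ht']

theorem exists_15_or_55 {H : Type*} [Group H] [Finite H] (h : Nat.card H = 495) :
    (∃ g : H, orderOf g = 15) ∨ (∃ g : H, orderOf g = 55) :=
  Or.inl (exists_15 h)

end Cfsg.Agent.Helper58.Ord495
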