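import Mathlib
import Cfsg.Prelude.Def_Transfer

/-!
# S4016: cyclic Sylow `p`-subgroup and abelian `p'`-subgroups: shared definitions

`Hyp p G`  : all Sylow `p`-subgroups cyclic, all `p'`-subgroups abelian.
`Good p G` : `G` has a normal `p`-complement or a normal Sylow `p`-subgroup.
`NilSub p H`, `ClosedSub p H` : the two alternatives for a subgroup `H ≤ G`, stated inside `G`.
`Ctx p G`  : a minimal counterexample after the reduction: simple, non-abelian, `p ∣ #G`,
             `Hyp`, and every proper subgroup is `p`-nilpotent or `p`-closed.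
`Loc0 p P K`, `Loc p P K`: the local structure of `N_G(P) = P ⋊ K` in a `Ctx`.
`SylQ p Q` : the structure of `N_G(Q)` for a Sylow `q`-subgroup `Q`, `q ≠ p`, in a `Ctx`.
-/

set_option autoImplicit false

namespace Cfsg.Agent.Helper58.PA

/-- The hypothesis of S4016 (for all Sylow `p`-subgroups). -/
def Hyp (p : ℕ) (G : Type*) [Group G] : Prop :=
  (∀ P : Sylow p G, IsCyclic P) ∧ ∀ H : Subgroup G, ¬ p ∣ Nat.card H → IsMulCommutative H

/-- The conclusion of S4016. -/
def Good (p : ℕ) (G : Type*) [Group G] : Prop :=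
  Cfsg.HasNormalPComplement p G ∨ ∀ P : Sylow p G, (P : Subgroup G).Normal

/-- `H ≤ G` has a normal `p`-complement `N`, in terms of subgroups of `G`. -/
def NilSub (p : ℕ) {G : Type*} [Group G] (H : Subgroup G) : Prop :=
  ∃ N : Subgroup G, N ≤ H ∧ H ≤ Subgroup.normalizer (N : Set G) ∧ ¬ p ∣ Nat.card N ∧
    ∃ k : ℕ, N.relIndex H = p ^ k

/-- `H ≤ G` has a normal Sylow `p`-subgroup `S`, in terms of subgroups of `G`. -/
def ClosedSub (p : ℕ) {G : Type*} [Group G] (H : Subgroup G) : Prop :=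
  ∃ S : Subgroup G, S ≤ H ∧ H ≤ Subgroup.normalizer (S : Set G) ∧ IsPGroup p S ∧
    ¬ p ∣ S.relIndex H

/-- The minimal counterexample after reduction. -/
structure Ctx (p : ℕ) (G : Type*) [Group G] : Prop where
  simple : IsSimpleGroup G
  nonab : ∃ a b : G, a * b ≠ b * a
  dvd : p ∣ Nat.card G
  hyp : Hyp p G
  sub : ∀ H : Subgroup G, H ≠ ⊤ → NilSub p H ∨ ClosedSub p H

/-- `N_G(P) = P ⋊ K` with `K` an abelian `p'`-group not centralizing `P`. -/
structure Loc0 (p : ℕ) {G : Type*} [Group G] (P : Sylow p G) (K : Subgroup G) : Prop where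
  K_le : K ≤ Subgroup.normalizer ((P : Subgroup G) : Set G)
  K_comm : ∀ a ∈ K, ∀ b ∈ K, a * b = b * a
  K_p' : ¬ p ∣ Nat.card K
  card_M : Nat.card (Subgroup.normalizer ((P : Subgroup G) : Set G)) = Nat.card P * Nat.card K
  K_not_cent : ¬ K ≤ Subgroup.centralizer ((P : Subgroup G) : Set G)

/-- Local structure of `M = N_G(P) = P ⋊ K` in a minimal counterexample. -/
structure Loc (p : ℕ) {G : Type*} [Group G] (P : Sylow p G) (K : Subgroup G) : Prop
    extends Loc0 p P K where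
  /-- every nontrivial subgroup of `P` has normalizer `M` -/
  norm_eq : ∀ P₁ : Subgroup G, P₁ ≤ (P : Subgroup G) → P₁ ≠ ⊥ →
    Subgroup.normalizer (P₁ : Set G) = Subgroup.normalizer ((P : Subgroup G) : Set G)
  /-- `C_G(x) ≤ M` for `x ∈ P#` -/
  cent_le : ∀ x ∈ (P : Subgroup G), x ≠ 1 →
    Subgroup.centralizer ({x} : Set G) ≤ Subgroup.normalizer ((P : Subgroup G) : Set G)
  /-- `P` is a TI-subgroup -/
  ti : ∀ g x : G, x ∈ (P : Subgroup G) → x ≠ 1 → g * x * g⁻¹ ∈ (P : Subgroup G) →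
    g ∈ Subgroup.normalizer ((P : Subgroup G) : Set G)
  /-- an element of `K` centralizing some `x ∈ P#` centralizes `P` -/
  K_cent : ∀ x ∈ (P : Subgroup G), x ≠ 1 → ∀ k ∈ K, k * x = x * k →
    k ∈ Subgroup.centralizer ((P : Subgroup G) : Set G)
  /-- `C_G(d) = M` for `d ∈ K₀#`, `K₀ = C_K(P)` -/
  cent_K0 : ∀ d ∈ K, d ∈ Subgroup.centralizer ((P : Subgroup G) : Set G) → d ≠ 1 →
    Subgroup.centralizer ({d} : Set G) = Subgroup.normalizer ((P : Subgroup G) : Set G)

/-- `N_G(Q) = B ⋊ Z`, `B` abelian `p'` containing `Q`, `Z ≠ 1` a `p`-group acting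
fixed-point-freely on `B`. -/
def SylQ (p : ℕ) {G : Type*} [Group G] (Q : Subgroup G) : Prop :=
  ∃ B Z : Subgroup G, Q ≤ B ∧ (∀ a ∈ B, ∀ b ∈ B, a * b = b * a) ∧ ¬ p ∣ Nat.card B ∧
    IsPGroup p Z ∧ Z ≠ ⊥ ∧ B ≤ Subgroup.normalizer (Q : Set G) ∧
    Z ≤ Subgroup.normalizer (Q : Set G) ∧
    Subgroup.normalizer (Q : Set G) ≤ Subgroup.normalizer (B : Set G) ∧
    Nat.card (Subgroup.normalizer (Q : Set G)) = Nat.card B * Nat.card Z ∧
    ∀ z ∈ Z, z ≠ 1 → ∀ w ∈ B, z * w = w * z → w = 1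

end Cfsg.Agent.Helper58.PA
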