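import Mathlib

set_option autoImplicit false

namespace Cfsg.Agent.Helper58.N3

open MulAction SubMulAction
open scoped Pointwise

section

variable {G Ω : Type*} [Group G] [MulAction G Ω]

/-- the action of the setwise stabilizer of `s` on the complement of `s` -/
def complAction (s : Set Ω) : SubMulAction (stabilizer G s) Ω where
  carrier := sᶜ
  smul_mem' := by
    intro g x hx hgx
    apply hx
    exact (mem_stabilizer_set.mp g.2 x).mp hgx

theorem mem_complAction {s : Set Ω} {x : Ω} : x ∈ complAction (G := G) s ↔ x ∉ s := Iff.rfl

theorem complAction_smul_coe {s : Set Ω} (g : stabilizer G s) (x : complAction (G := G) s) :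
    ((g • x : complAction (G := G) s) : Ω) = (g : G) • (x : Ω) := rfl

end

end Cfsg.Agent.Helper58.N3
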