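import Mathlib

set_option autoImplicit false

namespace Cfsg.Agent.Helper58

open MulAction

section J
variable {G Ω : Type*} [Group G] [MulAction G Ω]

/-- a Jordan set: the elements supported in `Λ` act transitively on `Λ` -/
def IsJ (G : Type*) {Ω : Type*} [Group G] [MulAction G Ω] (Λ : Set Ω) : Prop :=
  ∀ x ∈ Λ, ∀ y ∈ Λ, ∃ g : G, (∀ z ∉ Λ, g • z = z) ∧ g • x = y

lemma IsJ.preimage {Λ : Set Ω} (h : IsJ G Λ) (g : G) : IsJ G {z | g • z ∈ Λ} := by
  intro x hx y hy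
  obtain ⟨k, hk, hkxy⟩ := h (g • x) hx (g • y) hy
  refine ⟨g⁻¹ * k * g, ?_, ?_⟩
  · intro z hz
    have hz' : g • z ∉ Λ := hz
    rw [mul_smul, mul_smul, hk _ hz', inv_smul_smul]
  · rw [mul_smul, mul_smul, hkxy, inv_smul_smul]

lemma IsJ.union {Λ₁ Λ₂ : Set Ω} (h₁ : IsJ G Λ₁) (h₂ : IsJ G Λ₂) (hne : (Λ₁ ∩ Λ₂).Nonempty) :
    IsJ G (Λ₁ ∪ Λ₂) := by
  obtain ⟨c, hc1, hc2⟩ := hne
  have key : ∀ x ∈ Λ₁ ∪ Λ₂, ∃ g : G, (∀ z ∉ Λ₁ ∪ Λ₂, g • z = z) ∧ g • x = c := by
    intro x hx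
    rcases hx with hx | hx
    · obtain ⟨g, hg, hgx⟩ := h₁ x hx c hc1
      exact ⟨g, fun z hz => hg z (fun h => hz (Or.inl h)), hgx⟩
    · obtain ⟨g, hg, hgx⟩ := h₂ x hx c hc2
      exact ⟨g, fun z hz => hg z (fun h => hz (Or.inr h)), hgx⟩
  intro x hx y hy
  obtain ⟨g, hg, hgx⟩ := key x hx
  obtain ⟨k, hk, hky⟩ := key y hy
  refine ⟨k⁻¹ * g, ?_, ?_⟩
  · intro z hz
    rw [mul_smul, hg z hz, inv_smul_eq_iff, hk z hz]
  · rw [mul_smul, hgx, inv_smul_eq_iff, hky]

/-- Jordan: a primitive group with a proper Jordan set is 2-transitive (from Mathlib) -/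
lemma two_trans_of_IsJ [Finite Ω] (hprim : IsPreprimitive G Ω) {Γ : Set Ω} (hJ : IsJ G Γ)
    (h1 : 1 < Γ.ncard) (h2 : Γ.ncard < Nat.card Ω) :
    ∀ (a b c d : Ω), a ≠ b → c ≠ d → ∃ g : G, g • a = c ∧ g • b = d := by
  have hcard : Γᶜ.ncard + Γ.ncard = Nat.card Ω := by
    rw [add_comm]; exact Set.ncard_add_ncard_compl Γ
  have hpos : 0 < Γᶜ.ncard := by omega
  have h2t : IsMultiplyPretransitive G Ω 2 := by
    apply hprim.is_two_pretransitive (s := Γᶜ) (n := Γᶜ.ncard - 1) (by omega) (by omega)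
    constructor
    intro x y
    have hx : (x : Ω) ∈ Γ := by
      have := x.2
      rw [SubMulAction.mem_ofFixingSubgroup_iff] at this
      simpa using this
    have hy : (y : Ω) ∈ Γ := by
      have := y.2
      rw [SubMulAction.mem_ofFixingSubgroup_iff] at this
      simpa using this
    obtain ⟨g, hg, hgxy⟩ := hJ x hx y hy
    have hgmem : g ∈ fixingSubgroup G Γᶜ := by
      rw [mem_fixingSubgroup_iff]
      intro z hz
      exact hg z hz
    exact ⟨⟨g, hgmem⟩, Subtype.ext hgxy⟩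
  intro a b c d hab hcd
  exact is_two_pretransitive_iff.mp h2t hab hcd

end J


section count
variable {G Ω : Type*} [Group G] [MulAction G Ω]

/-- the arithmetic at the end of the counting argument -/
lemma marggraf_arith (c u s' N₁ N₂ : ℕ) (hc : 2 ≤ c) (hu : 3 ≤ u) (hs : 1 ≤ s') (hN : 1 ≤ N₂)
    (h2 : 2 * (s' + 1) ≤ c + u)
    (hi : (c + u - 1) * N₂ = N₁ * s')
    (hii : c * N₂ ≤ N₁ * (s' + 1 - (u - 1))) : False := by
  by_cases hw : s' + 1 < u - 1
  · have : s' + 1 - (u - 1) = 0 := by omega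
    rw [this, mul_zero] at hii
    have : 1 ≤ c * N₂ := Nat.one_le_iff_ne_zero.mpr (Nat.mul_ne_zero (by omega) (by omega))
    omega
  · push Not at hw
    obtain ⟨w, hwe⟩ : ∃ w, s' + 1 - (u - 1) = w := ⟨_, rfl⟩
    have hw' : w + u = s' + 2 := by omega
    rw [hwe] at hii
    obtain ⟨A, hA⟩ : ∃ A, c + u - 1 = A := ⟨_, rfl⟩
    have hA' : A + 1 = c + u := by omega
    rw [hA] at hi
    -- c * N₂ * s' ≤ N₁ * w * s' = A * N₂ * w
    have h3 : c * s' * N₂ ≤ A * w * N₂ := by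
      calc c * s' * N₂ = (c * N₂) * s' := by ring
        _ ≤ (N₁ * w) * s' := Nat.mul_le_mul_right _ hii
        _ = (N₁ * s') * w := by ring
        _ = (A * N₂) * w := by rw [hi]
        _ = A * w * N₂ := by ring
    have h4 : c * s' ≤ A * w := Nat.le_of_mul_le_mul_right h3 (by omega)
    -- now a contradiction
    have hc' : c = A + 1 - u := by omega
    have hs'' : s' = w + u - 2 := by omega
    subst hc'
    subst hs''
    zify [show u ≤ A + 1 by omega, show 2 ≤ w + u by omega] at h4 h2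
    have hw0 : (0:ℤ) ≤ (w:ℤ) := Int.natCast_nonneg w
    have hA0 : (0:ℤ) ≤ (A:ℤ) := Int.natCast_nonneg A
    have hu0 : (0:ℤ) ≤ (u:ℤ) - 3 := by
      have : (3:ℤ) ≤ (u:ℤ) := by exact_mod_cast hu
      linarith
    nlinarith [mul_nonneg hw0 hu0, mul_nonneg hA0 hu0]

theorem exists_J_compl_two [Finite G] [Finite Ω]
    (h2t : ∀ a b c d : Ω, a ≠ b → c ≠ d → ∃ g : G, g • a = c ∧ g • b = d)
    (Γ : Finset Ω) (hJ : IsJ G (Γ : Set Ω)) (h1 : 2 ≤ Γ.card) (h2 : 2 * Γ.card ≤ Nat.card Ω) :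
    ∃ Λ : Finset Ω, IsJ G (Λ : Set Ω) ∧ Λ.card + 2 = Nat.card Ω := by
  classical
  let _ : Fintype G := Fintype.ofFinite G
  let _ : Fintype Ω := Fintype.ofFinite Ω
  obtain ⟨n, hn⟩ : ∃ n, Fintype.card Ω = n := ⟨_, rfl⟩
  have hnc : Nat.card Ω = n := by rw [Nat.card_eq_fintype_card, hn]
  rw [hnc] at h2 ⊢
  obtain ⟨s, hs⟩ : ∃ s, Γ.card = s := ⟨_, rfl⟩
  rw [hs] at h1 h2
  have hex : ∃ u, 2 ≤ u ∧ ∃ Λ : Finset Ω, IsJ G (Λ : Set Ω) ∧ 2 ≤ Λ.card ∧ Λ.card + u = n :=
    ⟨n - s, by omega, Γ, hJ, by omega, by omega⟩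
  obtain ⟨hu2, Λ, hΛJ, hΛ2, hΛu⟩ := Nat.find_spec hex
  have hmax : ∀ Λ' : Finset Ω, IsJ G (Λ' : Set Ω) → 2 ≤ Λ'.card → Λ'.card + 2 ≤ n →
      Λ'.card ≤ Λ.card := by
    intro Λ' hJ' h2' hn'
    have : Nat.find hex ≤ n - Λ'.card := Nat.find_min' hex ⟨by omega, Λ', hJ', h2', by omega⟩
    omega
  obtain ⟨u, hue⟩ : ∃ u, Nat.find hex = u := ⟨_, rfl⟩
  rw [hue] at hu2 hΛu
  by_cases hu : u = 2
  · exact ⟨Λ, hΛJ, by omega⟩
  exfalso
  have hu3 : 3 ≤ u := by omega
  obtain ⟨b, hb⟩ : ∃ b, b ∉ Λ := by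
    by_contra h
    push Not at h
    have : Λ = Finset.univ := Finset.eq_univ_iff_forall.mpr h
    rw [this, Finset.card_univ, hn] at hΛu
    omega
  let N : Ω → Ω → ℕ := fun p q => (Finset.univ.filter (fun g : G => g • p ∈ Γ ∧ g • q ∈ Γ)).card
  have hN : ∀ p q p' q' : Ω, p ≠ q → p' ≠ q' → N p q = N p' q' := by
    intro p q p' q' hpq hpq'
    obtain ⟨h, hp, hq⟩ := h2t p q p' q' hpq hpq'
    symm
    apply Finset.card_equiv (Equiv.mulRight h)
    intro g
    simp only [Finset.mem_filter, Finset.mem_univ, true_and, Equiv.coe_mulRight, mul_smul, hp, hq]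
  obtain ⟨p₀, hp₀, q₀, hq₀, hpq₀⟩ := Finset.one_lt_card.mp (show 1 < Γ.card by omega)
  obtain ⟨N₂, hN₂⟩ : ∃ N₂, N p₀ q₀ = N₂ := ⟨_, rfl⟩
  have hNeq : ∀ a c : Ω, a ≠ c → N a c = N₂ := fun a c hac => by
    rw [← hN₂]; exact hN a c p₀ q₀ hac hpq₀
  have hN₂pos : 1 ≤ N₂ := by
    rw [← hN₂]
    exact Finset.card_pos.mpr ⟨1, by simp [hp₀, hq₀]⟩
  let Gb : Finset G := Finset.univ.filter (fun g : G => g • b ∈ Γ)
  obtain ⟨N₁, hN₁⟩ : ∃ N₁, Gb.card = N₁ := ⟨_, rfl⟩
  have hfib : ∀ g : G, (Finset.univ.filter (fun a : Ω => g • a ∈ Γ)).card = s := by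
    intro g
    rw [← hs]
    apply Finset.card_equiv (MulAction.toPerm g)
    intro a
    simp
  have hterm : ∀ a : Ω, (Finset.bipartiteAbove (fun (a : Ω) (g : G) => g • a ∈ Γ) Gb a).card
      = N a b := by
    intro a
    show (Gb.filter (fun g => g • a ∈ Γ)).card = N a b
    rw [Finset.filter_filter]
    apply congrArg
    apply Finset.filter_congr
    intro g _
    exact and_comm
  -- (i)
  have h_i : (n - 1) * N₂ = N₁ * (s - 1) := by
    have h := Finset.sum_card_bipartiteAbove_eq_sum_card_bipartiteBelow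
      (s := Finset.univ.erase b) (t := Gb) (fun (a : Ω) (g : G) => g • a ∈ Γ)
    have hl : ∑ a ∈ Finset.univ.erase b,
        (Finset.bipartiteAbove (fun (a : Ω) (g : G) => g • a ∈ Γ) Gb a).card = (n - 1) * N₂ := by
      rw [Finset.sum_congr rfl (fun a ha => by
        rw [hterm a, hNeq a b (Finset.ne_of_mem_erase ha)])]
      rw [Finset.sum_const, Finset.card_erase_of_mem (Finset.mem_univ b), Finset.card_univ, hn,
        smul_eq_mul]
    have hr : ∑ g ∈ Gb, (Finset.bipartiteBelow (fun (a : Ω) (g : G) => g • a ∈ Γ)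
        (Finset.univ.erase b) g).card = N₁ * (s - 1) := by
      rw [Finset.sum_congr rfl (fun g hg => by
        show ((Finset.univ.erase b).filter (fun a => g • a ∈ Γ)).card = s - 1
        rw [Finset.filter_erase, Finset.card_erase_of_mem, hfib]
        simpa [Gb] using hg)]
      rw [Finset.sum_const, hN₁, smul_eq_mul]
    rw [← hl, ← hr, h]
  -- (ii)
  have h_ii : Λ.card * N₂ ≤ N₁ * (s - (u - 1)) := by
    have h := Finset.sum_card_bipartiteAbove_eq_sum_card_bipartiteBelow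
      (s := Λ) (t := Gb) (fun (a : Ω) (g : G) => g • a ∈ Γ)
    have hl : ∑ a ∈ Λ,
        (Finset.bipartiteAbove (fun (a : Ω) (g : G) => g • a ∈ Γ) Gb a).card = Λ.card * N₂ := by
      rw [Finset.sum_congr rfl (fun a ha => by
        rw [hterm a, hNeq a b (fun h => hb (h ▸ ha))])]
      rw [Finset.sum_const, smul_eq_mul]
    have hr : ∑ g ∈ Gb, (Finset.bipartiteBelow (fun (a : Ω) (g : G) => g • a ∈ Γ) Λ g).card
        ≤ N₁ * (s - (u - 1)) := by
      rw [← hN₁, ← smul_eq_mul]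
      apply Finset.sum_le_card_nsmul
      intro g hg
      show (Λ.filter (fun a => g • a ∈ Γ)).card ≤ s - (u - 1)
      have hgb : g • b ∈ Γ := by simpa [Gb] using hg
      by_cases hf : (Λ.filter (fun a => g • a ∈ Γ)).card = 0
      · rw [hf]; exact Nat.zero_le _
      · set Λg : Finset Ω := Finset.univ.filter (fun a : Ω => g • a ∈ Γ) with hΛg
        have hΛgJ : IsJ G (Λg : Set Ω) := by
          have := hJ.preimage g
          have he : {z | g • z ∈ (Γ : Set Ω)} = (Λg : Set Ω) := by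
            ext z; simp [hΛg]
          rwa [he] at this
        have hinter : Λ ∩ Λg = Λ.filter (fun a => g • a ∈ Γ) := by
          ext a; simp [hΛg]
        have hne : ((Λ : Set Ω) ∩ (Λg : Set Ω)).Nonempty := by
          rw [← Finset.coe_inter, hinter, Finset.coe_nonempty, ← Finset.card_pos]
          omega
        have hUJ : IsJ G ((Λ ∪ Λg : Finset Ω) : Set Ω) := by
          rw [Finset.coe_union]; exact hΛJ.union hΛgJ hne
        have hcardU := Finset.card_union_add_card_inter Λ Λg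
        rw [hinter, hfib g] at hcardU
        have hlt : Λ.card < (Λ ∪ Λg).card := by
          apply Finset.card_lt_card
          refine ⟨Finset.subset_union_left, fun h => hb ?_⟩
          apply h
          apply Finset.mem_union_right
          simp [hΛg, hgb]
        have hbig : ¬ ((Λ ∪ Λg).card + 2 ≤ n) := by
          intro h
          have := hmax _ hUJ (by omega) h
          omega
        omega
    calc Λ.card * N₂ = _ := hl.symm
      _ = _ := h
      _ ≤ _ := hr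
  -- arithmetic
  have hs1 : 1 ≤ s - 1 := by omega
  refine marggraf_arith Λ.card u (s - 1) N₁ N₂ hΛ2 hu3 hs1 hN₂pos (by omega) ?_ ?_
  · rw [hΛu]; exact h_i
  · have : s - 1 + 1 = s := by omega
    rw [this]; exact h_ii

end count

/-- a 2-transitive group with a Jordan set of size `n - 2` is 3-transitive -/
theorem three_trans_of_J {G Ω : Type*} [Group G] [MulAction G Ω] [Finite Ω]
    (h2t : ∀ a b c d : Ω, a ≠ b → c ≠ d → ∃ g : G, g • a = c ∧ g • b = d)
    (Λ : Finset Ω) (hJ : IsJ G (Λ : Set Ω)) (hΛ : Λ.card + 2 = Nat.card Ω) :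
    IsMultiplyPretransitive G Ω 3 := by
  classical
  let _ : Fintype Ω := Fintype.ofFinite Ω
  have hc : Λᶜ.card = 2 := by
    rw [Finset.card_compl, ← Nat.card_eq_fintype_card, ← hΛ]; omega
  obtain ⟨a, b, hab, hcompl⟩ := Finset.card_eq_two.mp hc
  have hmem : ∀ z : Ω, z ≠ a → z ≠ b → z ∈ Λ := by
    intro z hza hzb
    by_contra hz
    have : z ∈ Λᶜ := Finset.mem_compl.mpr hz
    rw [hcompl] at this
    simp at this
    tauto
  have ha : a ∉ Λ := by
    have : a ∈ Λᶜ := by rw [hcompl]; simp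
    exact Finset.mem_compl.mp this
  have hb : b ∉ Λ := by
    have : b ∈ Λᶜ := by rw [hcompl]; simp
    exact Finset.mem_compl.mp this
  constructor
  intro x y
  have hx01 : x 0 ≠ x 1 := fun h => by simpa using x.injective h
  have hx02 : x 0 ≠ x 2 := fun h => by simpa using x.injective h
  have hx12 : x 1 ≠ x 2 := fun h => by simpa using x.injective h
  have hy01 : y 0 ≠ y 1 := fun h => by simpa using y.injective h
  have hy02 : y 0 ≠ y 2 := fun h => by simpa using y.injective h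
  have hy12 : y 1 ≠ y 2 := fun h => by simpa using y.injective h
  obtain ⟨g₁, hg₁a, hg₁b⟩ := h2t (x 0) (x 1) a b hx01 hab
  obtain ⟨g₂, hg₂a, hg₂b⟩ := h2t (y 0) (y 1) a b hy01 hab
  have hx2 : g₁ • x 2 ∈ Λ := by
    apply hmem
    · rw [← hg₁a]; exact fun h => hx02 (smul_left_cancel g₁ h).symm
    · rw [← hg₁b]; exact fun h => hx12 (smul_left_cancel g₁ h).symm
  have hy2 : g₂ • y 2 ∈ Λ := by
    apply hmem
    · rw [← hg₂a]; exact fun h => hy02 (smul_left_cancel g₂ h).symm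
    · rw [← hg₂b]; exact fun h => hy12 (smul_left_cancel g₂ h).symm
  obtain ⟨h, hfix, hh⟩ := hJ _ hx2 _ hy2
  refine ⟨g₂⁻¹ * h * g₁, ?_⟩
  ext i
  rw [Function.Embedding.smul_apply, mul_smul, mul_smul, inv_smul_eq_iff]
  fin_cases i
  · show h • g₁ • x 0 = g₂ • y 0
    rw [hg₁a, hg₂a, hfix a ha]
  · show h • g₁ • x 1 = g₂ • y 1
    rw [hg₁b, hg₂b, hfix b hb]
  · exact hh

end Cfsg.Agent.Helper58
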