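import Mathlib

/-!
# Automorphisms of an elementary abelian group embed in `GL_e(p)` (helper58)
-/

set_option autoImplicit false

namespace Cfsg.Agent.Helper58

/-- version with the module structure given as an instance -/
theorem exists_embedding_GL_aux {A : Type*} [CommGroup A] [Finite A] (p e : ℕ) [hp : Fact p.Prime]
    [Module (ZMod p) (Additive A)] (hcard : Nat.card A = p ^ e) :
    ∃ Θ : MulAut A →* GL (Fin e) (ZMod p), Function.Injective Θ := by
  classical
  have : Finite (Additive A) := inferInstanceAs (Finite A)
  have : Module.Finite (ZMod p) (Additive A) := Module.Finite.of_finite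
  have hfin : Module.finrank (ZMod p) (Additive A) = e := by
    have h1 : Nat.card (Additive A) = Nat.card (ZMod p) ^ Module.finrank (ZMod p) (Additive A) :=
      Module.natCard_eq_pow_finrank (K := ZMod p) (V := Additive A)
    have h2 : Nat.card (Additive A) = p ^ e := hcard
    rw [h2, Nat.card_eq_fintype_card, ZMod.card] at h1
    exact (Nat.pow_right_injective hp.out.two_le h1).symm
  let b : Module.Basis (Fin e) (ZMod p) (Additive A) :=
    Module.finBasisOfFinrankEq (ZMod p) (Additive A) hfin
  let f1 : MulAut A →* Module.End (ZMod p) (Additive A) :=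
    { toFun := fun α => (MulEquiv.toAdditive α : Additive A ≃+ Additive A).toAddMonoidHom.toZModLinearMap p
      map_one' := LinearMap.ext fun x => rfl
      map_mul' := fun α β => LinearMap.ext fun x => rfl }
  have hf1 : Function.Injective f1 := by
    intro α β h
    ext a
    exact LinearMap.congr_fun h (Additive.ofMul a)
  let f2 : MulAut A →* (Module.End (ZMod p) (Additive A))ˣ := f1.toHomUnits
  have hf2 : Function.Injective f2 := by
    intro α β h
    apply hf1
    have := congrArg Units.val h
    simpa [f2] using this
  let e3 : (Module.End (ZMod p) (Additive A))ˣ ≃* (Matrix (Fin e) (Fin e) (ZMod p))ˣ :=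
    Units.mapEquiv (LinearMap.toMatrixAlgEquiv b).toMulEquiv
  exact ⟨e3.toMonoidHom.comp f2, e3.injective.comp hf2⟩

/-- An elementary abelian group of order `p^e`: its automorphism group embeds in `GL_e(𝔽_p)`. -/
theorem exists_embedding_GL_comm {A : Type*} [CommGroup A] [Finite A] (p e : ℕ) [hp : Fact p.Prime]
    (hexp : ∀ a : A, a ^ p = 1) (hcard : Nat.card A = p ^ e) :
    ∃ Θ : MulAut A →* GL (Fin e) (ZMod p), Function.Injective Θ := by
  have hV : ∀ x : Additive A, p • x = 0 := fun x => hexp (Additive.toMul x)
  exact @exists_embedding_GL_aux A _ _ p e hp (AddCommGroup.zmodModule hV) hcard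

/-- the same for a group given with a proof of commutativity -/
theorem exists_embedding_GL {A : Type*} [Group A] [Finite A] (p e : ℕ) [hp : Fact p.Prime]
    (hcomm : ∀ a b : A, a * b = b * a)
    (hexp : ∀ a : A, a ^ p = 1) (hcard : Nat.card A = p ^ e) :
    ∃ Θ : MulAut A →* GL (Fin e) (ZMod p), Function.Injective Θ := by
  let _ : CommGroup A := { (inferInstance : Group A) with mul_comm := hcomm }
  exact exists_embedding_GL_comm p e hexp hcard

end Cfsg.Agent.Helper58
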