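import Mathlib

set_option autoImplicit false
open Polynomial

namespace Cfsg.Agent.Helper58

/-- ring automorphisms of a field of characteristic `p` are `ZMod p`-algebra automorphisms -/
noncomputable def ringAutToGal (K : Type*) [Field K] (p : ℕ) [Fact p.Prime] [Algebra (ZMod p) K] :
    (K ≃+* K) →* (K ≃ₐ[ZMod p] K) where
  toFun σ := AlgEquiv.ofRingEquiv (f := σ) (fun x => by
    have h := RingHom.congr_fun (Subsingleton.elim
      ((σ : K →+* K).comp (algebraMap (ZMod p) K)) (algebraMap (ZMod p) K)) x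
    simpa using h)
  map_one' := by ext x; rfl
  map_mul' := fun σ τ => by ext x; rfl

lemma ringAutToGal_injective (K : Type*) [Field K] (p : ℕ) [Fact p.Prime] [Algebra (ZMod p) K] :
    Function.Injective (ringAutToGal K p) := by
  intro σ τ h
  ext x
  have := congrArg (fun f : K ≃ₐ[ZMod p] K => f x) h
  exact this


/-- **Field-theoretic core.** A finite field `K` of order `p^d` generated as a ring by the image
of a group `T` of prime exponent `r`, and a group `H ⊇ T` acting on `K` by ring automorphisms with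
kernel exactly `T`. Then `|T| = r` is a primitive prime divisor of `p^d - 1`, and `H/T` is cyclic of
order dividing `d`. -/
theorem field_core {K : Type*} [Field K] [Finite K] (p d : ℕ) [hp : Fact p.Prime]
    (hK : Nat.card K = p ^ d)
    {H : Type*} [Group H] [Finite H] (T : Subgroup H) (Φ : H →* (K ≃+* K)) (hker : Φ.ker = T)
    (f : T →* K) (hf : Function.Injective f) (hgen : Subring.closure (Set.range f) = ⊤)
    (r : ℕ) (hr : r.Prime) (hexp : ∀ t : T, t ^ r = 1) (hTne : Nontrivial T) :
    Nat.card T = r ∧ r ∣ p ^ d - 1 ∧ (∀ i : ℕ, 0 < i → i < d → ¬ r ∣ p ^ i - 1) ∧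
    (∃ h : H, ∀ x : H, ∃ n : ℤ, x * h ^ n ∈ T) ∧ Nat.card H ∣ r * d := by
  classical
  let _ : Fintype K := Fintype.ofFinite K
  have hKc : Fintype.card K = p ^ d := by rw [← Nat.card_eq_fintype_card]; exact hK
  have hchar : CharP K p := charP_of_card_eq_prime_pow hKc
  -- `T` is cyclic of order `r`
  have hcyc : IsCyclic T := isCyclic_of_injective_ringHom f hf
  obtain ⟨t₀, ht₀⟩ := hcyc.exists_generator
  have hcardT : Nat.card T = r := by
    rw [← orderOf_eq_card_of_forall_mem_zpowers ht₀]
    have hdvd : orderOf t₀ ∣ r := orderOf_dvd_of_pow_eq_one (hexp t₀)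
    rcases (Nat.dvd_prime hr).mp hdvd with h1 | h1
    · exfalso
      have hone : t₀ = 1 := orderOf_eq_one_iff.mp h1
      obtain ⟨a, b, hab⟩ := hTne
      apply hab
      have ha := ht₀ a
      have hb := ht₀ b
      rw [hone, Subgroup.zpowers_one_eq_bot, Subgroup.mem_bot] at ha hb
      rw [ha, hb]
    · exact h1
  have ht₀1 : t₀ ≠ 1 := by
    intro h
    have : Nat.card T = 1 := by
      rw [← orderOf_eq_card_of_forall_mem_zpowers ht₀, h, orderOf_one]
    rw [hcardT] at this
    exact hr.one_lt.ne' this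
  have hfpow : ∀ (t : T) (n : ℕ), r ∣ n → f t ^ n = 1 := by
    intro t n hn
    obtain ⟨k, rfl⟩ := hn
    rw [← map_pow, pow_mul, hexp, one_pow, map_one]
  -- (ii)
  have hx0 : f t₀ ≠ 0 := by
    intro h
    have := hfpow t₀ r dvd_rfl
    rw [h, zero_pow hr.ne_zero] at this
    exact zero_ne_one this
  have hx1 : f t₀ ≠ 1 := by
    intro h
    apply ht₀1
    apply hf
    rw [h, map_one]
  have hrF : Fact r.Prime := ⟨hr⟩
  have hord : orderOf (f t₀) = r := orderOf_eq_prime (hfpow t₀ r dvd_rfl) hx1
  have hdiv : r ∣ p ^ d - 1 := by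
    rw [← hord]
    apply orderOf_dvd_of_pow_eq_one
    rw [← hKc]
    exact FiniteField.pow_card_sub_one_eq_one _ hx0
  refine ⟨hcardT, hdiv, ?_, ?_⟩
  · -- (iii)
    intro i hi hid hri
    have hfix : ∀ t : T, f t ^ (p ^ i) = f t := by
      intro t
      have h1 := hfpow t (p ^ i - 1) hri
      have hpos : 1 ≤ p ^ i := Nat.one_le_pow _ _ hp.out.pos
      calc f t ^ (p ^ i) = f t ^ (p ^ i - 1 + 1) := by rw [Nat.sub_add_cancel hpos]
        _ = f t := by rw [pow_succ, h1, one_mul]
    have hall : ∀ a : K, a ^ (p ^ i) = a := by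
      have hle : Subring.closure (Set.range f) ≤
          (iterateFrobenius K p i : K →+* K).eqLocus (RingHom.id K) := by
        rw [Subring.closure_le]
        rintro _ ⟨t, rfl⟩
        show iterateFrobenius K p i (f t) = f t
        rw [iterateFrobenius_def]
        exact hfix t
      intro a
      have : a ∈ (iterateFrobenius K p i : K →+* K).eqLocus (RingHom.id K) :=
        hle (hgen ▸ Subring.mem_top a)
      have h2 : iterateFrobenius K p i a = a := this
      rw [iterateFrobenius_def] at h2
      exact h2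
    have hcardle : Fintype.card K ≤ p ^ i := by
      have h1 := card_le_degree_of_subset_roots (R := K) (p := X ^ p ^ i - X)
        (Z := Finset.univ) (fun x _ => by
          rw [mem_roots', IsRoot, eval_sub, eval_pow, eval_X, hall x, sub_self]
          exact ⟨FiniteField.X_pow_card_pow_sub_X_ne_zero K hi.ne' hp.out.one_lt, rfl⟩)
      rw [FiniteField.X_pow_card_pow_sub_X_natDegree_eq K hi.ne' hp.out.one_lt] at h1
      exact h1
    rw [hKc] at hcardle
    have := (Nat.pow_le_pow_iff_right hp.out.one_lt).mp hcardle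
    omega
  · -- (iv), (v)
    let _ : Algebra (ZMod p) K := ZMod.algebra K p
    let Φ' : H →* (K ≃ₐ[ZMod p] K) := (ringAutToGal K p).comp Φ
    have hker' : Φ'.ker = T := by
      rw [← hker]
      ext x
      rw [MonoidHom.mem_ker, MonoidHom.mem_ker, MonoidHom.comp_apply,
        ← map_one (ringAutToGal K p), (ringAutToGal_injective K p).eq_iff]
    have hGalcard : Nat.card (K ≃ₐ[ZMod p] K) = d := by
      have h1 := Nat.card_congr (Equiv.ofBijective _
        (FiniteField.bijective_frobeniusAlgEquivOfAlgebraic_pow (ZMod p) K))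
      rw [Nat.card_eq_fintype_card, Fintype.card_fin] at h1
      rw [← h1]
      have h2 : Nat.card K = Nat.card (ZMod p) ^ Module.finrank (ZMod p) K :=
        Module.natCard_eq_pow_finrank (K := ZMod p) (V := K)
      rw [hK, Nat.card_eq_fintype_card, ZMod.card] at h2
      exact (Nat.pow_right_injective hp.out.two_le h2).symm
    have hcycG : IsCyclic (K ≃ₐ[ZMod p] K) := inferInstance
    have hcycR : IsCyclic Φ'.range := Subgroup.isCyclic _
    obtain ⟨⟨γ, h₀, rfl⟩, hγ⟩ := hcycR.exists_generator
    constructor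
    · refine ⟨h₀, fun x => ?_⟩
      have hx := hγ ⟨Φ' x, x, rfl⟩
      obtain ⟨n, hn⟩ := Subgroup.mem_zpowers_iff.mp hx
      have hn' : Φ' h₀ ^ n = Φ' x := congrArg Subtype.val hn
      refine ⟨-n, ?_⟩
      rw [← hker', MonoidHom.mem_ker, map_mul, map_zpow, zpow_neg, hn', mul_inv_cancel]
    · have h1 : Nat.card H = Nat.card Φ'.ker * Nat.card Φ'.range := by
        rw [← Subgroup.index_ker, mul_comm, Subgroup.index_mul_card]
      rw [h1, hker', hcardT]
      apply Nat.mul_dvd_mul_left
      rw [← hGalcard]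
      exact Subgroup.card_subgroup_dvd_card _

/-- the same for a finite commutative domain -/
theorem domain_core {K : Type*} [CommRing K] [IsDomain K] [Finite K] (p d : ℕ) [hp : Fact p.Prime]
    (hK : Nat.card K = p ^ d)
    {H : Type*} [Group H] [Finite H] (T : Subgroup H) (Φ : H →* (K ≃+* K)) (hker : Φ.ker = T)
    (f : T →* K) (hf : Function.Injective f) (hgen : Subring.closure (Set.range f) = ⊤)
    (r : ℕ) (hr : r.Prime) (hexp : ∀ t : T, t ^ r = 1) (hTne : Nontrivial T) :
    Nat.card T = r ∧ r ∣ p ^ d - 1 ∧ (∀ i : ℕ, 0 < i → i < d → ¬ r ∣ p ^ i - 1) ∧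
    (∃ h : H, ∀ x : H, ∃ n : ℤ, x * h ^ n ∈ T) ∧ Nat.card H ∣ r * d := by
  classical
  let _ : Fintype K := Fintype.ofFinite K
  let _ : Field K := Fintype.fieldOfDomain K
  exact field_core p d hK T Φ hker f hf hgen r hr hexp hTne

end Cfsg.Agent.Helper58
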