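/-
Helper58: affine and semi-affine groups of a field (`Cfsg.affineGroup`, `Cfsg.semiaffineGroup`):
normal form, cardinalities, the automorphism part, and a bound for subgroups fixing `0`.
-/
import Mathlib
import Cfsg.Prelude.Def_Perm
import Cfsg.Agent.Helper58.FieldCore

set_option autoImplicit false

namespace Cfsg.Agent.Helper58.SA

variable {F : Type*} [Field F]

/-- the semi-affine map `x ↦ a * φ x + b` -/
def saMk (a : Fˣ) (b : F) (φ : F ≃+* F) : Equiv.Perm F where
  toFun x := (a : F) * φ x + b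
  invFun y := φ.symm (((a⁻¹ : Fˣ) : F) * (y - b))
  left_inv x := by
    simp only [add_sub_cancel_right, ← mul_assoc, Units.inv_mul, one_mul, RingEquiv.symm_apply_apply]
  right_inv y := by
    simp only [RingEquiv.apply_symm_apply, ← mul_assoc, Units.mul_inv, one_mul, sub_add_cancel]

@[simp] lemma saMk_apply (a : Fˣ) (b : F) (φ : F ≃+* F) (x : F) :
    saMk a b φ x = (a : F) * φ x + b := rfl

lemma saMk_mem (a : Fˣ) (b : F) (φ : F ≃+* F) : saMk a b φ ∈ Cfsg.semiaffineGroup F :=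
  ⟨a, b, φ, fun _ => rfl⟩

lemma mem_semiaffine_iff {σ : Equiv.Perm F} :
    σ ∈ Cfsg.semiaffineGroup F ↔ ∃ a b φ, σ = saMk a b φ := by
  constructor
  · rintro ⟨a, b, φ, h⟩
    exact ⟨a, b, φ, Equiv.ext h⟩
  · rintro ⟨a, b, φ, rfl⟩
    exact saMk_mem a b φ

lemma mem_affine_iff {σ : Equiv.Perm F} :
    σ ∈ Cfsg.affineGroup F ↔ ∃ a b, σ = saMk a b (RingEquiv.refl F) := by
  constructor
  · rintro ⟨a, b, h⟩
    exact ⟨a, b, Equiv.ext h⟩
  · rintro ⟨a, b, rfl⟩
    exact ⟨a, b, fun _ => rfl⟩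

lemma saMk_inj {a a' : Fˣ} {b b' : F} {φ φ' : F ≃+* F} (h : saMk a b φ = saMk a' b' φ') :
    a = a' ∧ b = b' ∧ φ = φ' := by
  have h0 := congrArg (fun σ : Equiv.Perm F => σ 0) h
  have h1 := congrArg (fun σ : Equiv.Perm F => σ 1) h
  simp only [saMk_apply, map_zero, mul_zero, zero_add, map_one, mul_one] at h0 h1
  subst h0
  have ha : a = a' := Units.ext (add_right_cancel h1)
  subst ha
  refine ⟨rfl, rfl, ?_⟩
  ext x
  have hx := congrArg (fun σ : Equiv.Perm F => σ x) h
  simp only [saMk_apply] at hx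
  exact a.isUnit.mul_left_cancel (add_right_cancel hx)

lemma saMk_mul (a c : Fˣ) (b d : F) (φ ψ : F ≃+* F) :
    saMk a b φ * saMk c d ψ =
      saMk (a * Units.map (φ : F →* F) c) ((a : F) * φ d + b) (ψ.trans φ) := by
  ext x
  simp only [Equiv.Perm.coe_mul, Function.comp_apply, saMk_apply, Units.val_mul, Units.coe_map,
    MonoidHom.coe_coe, RingEquiv.coe_trans, map_add, map_mul, mul_add, mul_assoc, add_assoc]

/-- the parametrisation of the semi-affine group -/
noncomputable def saEquiv (F : Type*) [Field F] :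
    Fˣ × F × (F ≃+* F) ≃ Cfsg.semiaffineGroup F :=
  Equiv.ofBijective (fun t => ⟨saMk t.1 t.2.1 t.2.2, saMk_mem _ _ _⟩) (by
    constructor
    · rintro ⟨a, b, φ⟩ ⟨a', b', φ'⟩ h
      obtain ⟨h1, h2, h3⟩ := saMk_inj (Subtype.ext_iff.1 h)
      simp only at h1 h2 h3
      rw [h1, h2, h3]
    · rintro ⟨σ, hσ⟩
      obtain ⟨a, b, φ, rfl⟩ := mem_semiaffine_iff.1 hσ
      exact ⟨⟨a, b, φ⟩, rfl⟩)

lemma saEquiv_apply (a : Fˣ) (b : F) (φ : F ≃+* F) :
    ((saEquiv F (a, b, φ) : Cfsg.semiaffineGroup F) : Equiv.Perm F) = saMk a b φ := rfl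

/-- the parametrisation of the affine group -/
noncomputable def affEquiv (F : Type*) [Field F] : Fˣ × F ≃ Cfsg.affineGroup F :=
  Equiv.ofBijective (fun t => ⟨saMk t.1 t.2 (RingEquiv.refl F), mem_affine_iff.2 ⟨_, _, rfl⟩⟩) (by
    constructor
    · rintro ⟨a, b⟩ ⟨a', b'⟩ h
      obtain ⟨h1, h2, -⟩ := saMk_inj (Subtype.ext_iff.1 h)
      simp only at h1 h2
      rw [h1, h2]
    · rintro ⟨σ, hσ⟩
      obtain ⟨a, b, rfl⟩ := mem_affine_iff.1 hσ
      exact ⟨⟨a, b⟩, rfl⟩)

lemma card_units_eq [Finite F] : Nat.card Fˣ = Nat.card F - 1 := by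
  classical
  let _ : Fintype F := Fintype.ofFinite F
  rw [Nat.card_eq_fintype_card, Nat.card_eq_fintype_card, Fintype.card_units]

lemma card_semiaffine [Finite F] :
    Nat.card (Cfsg.semiaffineGroup F) = (Nat.card F - 1) * Nat.card F * Nat.card (F ≃+* F) := by
  rw [← Nat.card_congr (saEquiv F), Nat.card_prod, Nat.card_prod, card_units_eq, mul_assoc]

lemma card_affine [Finite F] :
    Nat.card (Cfsg.affineGroup F) = (Nat.card F - 1) * Nat.card F := by
  rw [← Nat.card_congr (affEquiv F), Nat.card_prod, card_units_eq]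

/-- the number of ring automorphisms of a field of order `p ^ d` -/
lemma card_ringAut [Finite F] (p d : ℕ) [hp : Fact p.Prime] (hF : Nat.card F = p ^ d) :
    Nat.card (F ≃+* F) = d := by
  classical
  let _ : Fintype F := Fintype.ofFinite F
  have hFc : Fintype.card F = p ^ d := by rw [← Nat.card_eq_fintype_card]; exact hF
  have hchar : CharP F p := charP_of_card_eq_prime_pow hFc
  let _ : Algebra (ZMod p) F := ZMod.algebra F p
  have hGalcard : Nat.card (F ≃ₐ[ZMod p] F) = d := by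
    have h1 := Nat.card_congr (Equiv.ofBijective _
      (FiniteField.bijective_frobeniusAlgEquivOfAlgebraic_pow (ZMod p) F))
    rw [Nat.card_eq_fintype_card, Fintype.card_fin] at h1
    rw [← h1]
    have h2 : Nat.card F = Nat.card (ZMod p) ^ Module.finrank (ZMod p) F :=
      Module.natCard_eq_pow_finrank (K := ZMod p) (V := F)
    rw [hF, Nat.card_eq_fintype_card, ZMod.card] at h2
    exact (Nat.pow_right_injective hp.out.two_le h2).symm
  rw [← hGalcard]
  refine Nat.card_congr (Equiv.ofBijective (ringAutToGal F p)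
    ⟨ringAutToGal_injective F p, fun τ => ⟨τ.toRingEquiv, ?_⟩⟩)
  ext x
  rfl

/-- the automorphism part of a semi-affine map -/
noncomputable def saAut (F : Type*) [Field F] : Cfsg.semiaffineGroup F →* (F ≃+* F) where
  toFun σ := ((saEquiv F).symm σ).2.2
  map_one' := by
    have h : (1 : Cfsg.semiaffineGroup F) = saEquiv F (1, 0, RingEquiv.refl F) := by
      apply Subtype.ext
      rw [saEquiv_apply]
      ext x
      simp
    rw [h, Equiv.symm_apply_apply]
    rfl
  map_mul' := by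
    intro σ τ
    obtain ⟨⟨a, b, φ⟩, rfl⟩ := (saEquiv F).surjective σ
    obtain ⟨⟨c, d, ψ⟩, rfl⟩ := (saEquiv F).surjective τ
    have h : saEquiv F (a, b, φ) * saEquiv F (c, d, ψ) =
        saEquiv F (a * Units.map (φ : F →* F) c, (a : F) * φ d + b, ψ.trans φ) := by
      apply Subtype.ext
      rw [Subgroup.coe_mul, saEquiv_apply, saEquiv_apply, saEquiv_apply, saMk_mul]
    rw [h, Equiv.symm_apply_apply, Equiv.symm_apply_apply, Equiv.symm_apply_apply]
    rfl

lemma saAut_mk (a : Fˣ) (b : F) (φ : F ≃+* F) :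
    saAut F ⟨saMk a b φ, saMk_mem a b φ⟩ = φ := by
  have h : (⟨saMk a b φ, saMk_mem a b φ⟩ : Cfsg.semiaffineGroup F) = saEquiv F (a, b, φ) := rfl
  show ((saEquiv F).symm _).2.2 = φ
  rw [h, Equiv.symm_apply_apply]

lemma mem_affine_of_saAut_eq_one (σ : Cfsg.semiaffineGroup F) (h : saAut F σ = 1) :
    (σ : Equiv.Perm F) ∈ Cfsg.affineGroup F := by
  obtain ⟨σ, hσ⟩ := σ
  obtain ⟨a, b, φ, rfl⟩ := mem_semiaffine_iff.1 hσ
  rw [saAut_mk] at h
  subst h
  exact mem_affine_iff.2 ⟨a, b, rfl⟩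

/-- A finite group embedded in the semi-affine group and fixing `0` has order dividing
`(|F| - 1) * |Aut F|`. -/
theorem card_dvd_of_fix_zero [Finite F] {L : Type*} [Group L] [Finite L]
    (g : L →* Cfsg.semiaffineGroup F) (hg : Function.Injective g)
    (h0 : ∀ l : L, (g l : Equiv.Perm F) 0 = 0) :
    Nat.card L ∣ (Nat.card F - 1) * Nat.card (F ≃+* F) := by
  classical
  -- the set of semi-affine maps fixing zero
  let S₀ : Subgroup (Cfsg.semiaffineGroup F) :=
    { carrier := {σ | (σ : Equiv.Perm F) 0 = 0}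
      one_mem' := by simp
      mul_mem' := by
        intro σ τ hσ hτ
        simp only [Set.mem_setOf_eq, Subgroup.coe_mul, Equiv.Perm.coe_mul, Function.comp_apply] at *
        rw [hτ, hσ]
      inv_mem' := by
        intro σ hσ
        simp only [Set.mem_setOf_eq, InvMemClass.coe_inv] at *
        rw [Equiv.Perm.inv_eq_iff_eq]
        exact hσ.symm }
  have hrange : g.range ≤ S₀ := by
    rintro _ ⟨l, rfl⟩
    exact h0 l
  have h1 : Nat.card L ∣ Nat.card S₀ := by
    rw [Nat.card_congr (MonoidHom.ofInjective hg).toEquiv]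
    exact Subgroup.card_dvd_of_le hrange
  refine h1.trans ?_
  -- `S₀ ≃ Fˣ × Aut F`
  have h2 : Nat.card S₀ = Nat.card (Fˣ × (F ≃+* F)) := by
    refine (Nat.card_congr (Equiv.ofBijective
      (fun t : Fˣ × (F ≃+* F) => (⟨⟨saMk t.1 0 t.2, saMk_mem _ _ _⟩, by
        show (saMk t.1 0 t.2) 0 = 0
        simp⟩ : S₀)) ?_)).symm
    constructor
    · rintro ⟨a, φ⟩ ⟨a', φ'⟩ h
      have h' : saMk a 0 φ = saMk a' 0 φ' := by
        have := congrArg (fun s : S₀ => ((s : Cfsg.semiaffineGroup F) : Equiv.Perm F)) h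
        exact this
      obtain ⟨h1, -, h3⟩ := saMk_inj h'
      rw [h1, h3]
    · rintro ⟨⟨σ, hσ⟩, hσ0⟩
      obtain ⟨a, b, φ, rfl⟩ := mem_semiaffine_iff.1 hσ
      have hb : b = 0 := by
        have : (saMk a b φ) 0 = 0 := hσ0
        simpa using this
      subst hb
      exact ⟨⟨a, φ⟩, rfl⟩
  rw [h2, Nat.card_prod, card_units_eq]

end Cfsg.Agent.Helper58.SA
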