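import Mathlib
import Cfsg.Agent.Helper77.PrimeDegDefs
import Cfsg.Agent.Helper78.Kernel

set_option autoImplicit false

namespace Cfsg.Agent.Helper58.PrimeDegE

open Cfsg Cfsg.Agent.Helper77.PrimeDeg

universe u

/-- kernel of an irreducible character of degree `≠ 1` of a finite simple group is trivial -/
theorem faithful_of_simple {G : Type u} [Group G] [Finite G] (hs : IsSimpleGroup G)
    (χ : IrrCharacter G) (hχ : charDegree (χ : G → ℂ) ≠ 1) :
    ∀ g : G, (χ : G → ℂ) g = (χ : G → ℂ) 1 → g = 1 := by
  obtain ⟨χ, n, ρ, hirr, rfl⟩ := χ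
  simp only at hχ ⊢
  rw [Cfsg.Agent.Helper78.charDegree_character] at hχ
  have hK : (MonoidHom.ker (ρ : G →* _)).Normal := MonoidHom.normal_ker _
  rcases hK.eq_bot_or_eq_top with hb | ht
  · intro g hg
    have h1 := Cfsg.Agent.Helper78.rep_eq_one_of_character_eq ρ g hg
    have : g ∈ MonoidHom.ker (ρ : G →* _) := h1
    rw [hb] at this
    exact Subgroup.mem_bot.1 this
  · exfalso
    apply hχ
    have hall : ∀ g, ρ g = 1 := by
      intro g
      have : g ∈ MonoidHom.ker (ρ : G →* _) := by rw [ht]; trivial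
      exact this
    have := Cfsg.Agent.Helper78.finrank_eq_one_of_forall_eq_one ρ hall
    simpa using this

end Cfsg.Agent.Helper58.PrimeDegE
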