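import Mathlib
import Cfsg.Prelude.Def_CaseTheorems
import Cfsg.Prelude.Def_LieExceptional
import Cfsg.Agent.S0731
import Cfsg.Agent.Helper10.BSWDCJ4
import Cfsg.Agent.Helper10.BSWDTI
import Cfsg.Agent.Helper12.BSWDDIH
import Cfsg.Agent.Helper31.BSWDKA
import Cfsg.Agent.Helper31.BSWDKB
import Cfsg.Agent.Helper31.BSWDKC
import Cfsg.Agent.Helper32.BSWDZ6
import Cfsg.Agent.Helper47.BSWDZ4
import Cfsg.Agent.Helper47.BSWDZ5a
import Cfsg.Agent.Helper49.BSWDKD
import Cfsg.Agent.Helper49.BSWDKE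
import Cfsg.Agent.Helper67.BSWDZ0
import Cfsg.Agent.Helper67.BSWDZ1
import Cfsg.Agent.Helper67.BSWDZ2
import Cfsg.Agent.Helper67.BSWDZ5b
import Cfsg.Agent.Helper81.BSWDNC
import Cfsg.Agent.Helper81.BSWDZ3
import Cfsg.Agent.Helper89.BSWDCJ8

/-!
# S0508 (Brauer–Suzuki–Wall, dihedral form): the glue (helper58), over the farmed pieces
-/

set_option autoImplicit false

namespace Cfsg.Agent.Helper58.BSWD

open Subgroup
open Cfsg.Agent.Helper10.BSWD Cfsg.Agent.Helper12.BSWD Cfsg.Agent.Helper31.BSWD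
  Cfsg.Agent.Helper32.BSWD Cfsg.Agent.Helper47.BSWD Cfsg.Agent.Helper49.BSWD
  Cfsg.Agent.Helper67.BSWD Cfsg.Agent.Helper81.BSWD Cfsg.Agent.Helper89.BSWD

/-- The conclusion of S3282 for `G`, stripped to what S0508 needs. -/
def QD (G : Type*) [Group G] : Prop :=
  ∃ Q D : Subgroup G, 2 * Nat.card G = Nat.card ↥Q * (Nat.card ↥Q + 1) * (Nat.card ↥Q - 1) ∧
    (∀ x ∈ Q, x ≠ 1 → centralizer ({x} : Set G) = Q) ∧
    2 * Nat.card ↥D + 1 = Nat.card ↥Q ∧ Q ⊓ D = ⊥ ∧ normalizer (Q : Set G) = Q ⊔ D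

/-- Part B: from `Q`, `D` to `PSL₂`. -/
theorem psl_of_QD {G : Type*} [Group G] [Finite G] [IsSimpleGroup G] (h : QD G) :
    ∃ (F : Type) (_ : Field F) (_ : Fintype F), Odd (Fintype.card F) ∧
      Nonempty (G ≃* Matrix.ProjectiveSpecialLinearGroup (Fin 2) F) := by
  obtain ⟨Q, D, h1, h2, h4, h5, h6⟩ := h
  obtain ⟨hq3, hqodd, hcard, hidx⟩ := card_facts Q D h1 h4 h5 h6
  have hZ1 : ∀ g : G, g ∉ normalizer (Q : Set G) →
      Q ⊓ (normalizer (Q : Set G)).map (MulAut.conj g).toMonoidHom = ⊥ :=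
    fun g hg => inf_conj_normalizer_eq_bot Q D h2 hcard h4 g hg
  have hreg : ∀ y z : G ⧸ normalizer (Q : Set G),
      y ≠ ((1 : G) : G ⧸ normalizer (Q : Set G)) →
      z ≠ ((1 : G) : G ⧸ normalizer (Q : Set G)) → ∃! u : ↥Q, (u : G) • y = z :=
    fun y z hy hz => regular_on_rest Q h2 hidx hZ1 y z hy hz
  have h2t := two_transitive Q hreg
  have hq5 : 5 ≤ Nat.card ↥Q := by
    have hne := card_Q_ne_three Q D hcard h4 hidx
    obtain ⟨k, hk⟩ := hqodd
    omega
  obtain ⟨hfaith, hnoreg⟩ := faithful_and_no_regular_normal Q hidx hq3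
  have hZ : Cfsg.IsZassenhausGroup G (G ⧸ normalizer (Q : Set G)) :=
    ⟨hfaith, h2t,
      fun g a b c hab hbc hac ha hb hc =>
        eq_one_of_three_fixed Q h2 hZ1 hreg g a b c hab hbc hac ha hb hc,
      exists_two_fixed Q D hq5 hcard h4 hidx hreg, hnoreg⟩
  have hstab : MulAction.stabilizer G ((1 : G) : G ⧸ normalizer (Q : Set G)) =
      normalizer (Q : Set G) := MulAction.stabilizer_quotient _
  have hFle : Q ≤ MulAction.stabilizer G ((1 : G) : G ⧸ normalizer (Q : Set G)) := by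
    rw [hstab]; exact le_normalizer
  have hFn : (Q.subgroupOf
      (MulAction.stabilizer G ((1 : G) : G ⧸ normalizer (Q : Set G)))).Normal := by
    rw [hstab]; exact normal_in_normalizer
  have hFab : IsMulCommutative ↥Q := by
    refine ⟨⟨fun a b => ?_⟩⟩
    by_cases ha : (a : G) = 1
    · have : a = 1 := Subtype.ext ha
      rw [this, one_mul, mul_one]
    · have hb : (b : G) ∈ centralizer ({(a : G)} : Set G) := by
        rw [h2 a a.2 ha]; exact b.2
      rw [mem_centralizer_iff] at hb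
      have := hb (a : G) (Set.mem_singleton _)
      exact Subtype.ext this
  rcases Cfsg.Agent.S0731.result hZ ((1 : G) : G ⧸ normalizer (Q : Set G)) Q hFle hFn hFab hreg
    with h3 | ⟨K, iK, fK, hchar, hiso⟩
  · exact absurd h3.1 (not_three_transitive Q D hq3 hcard h4 hidx)
  · refine ⟨K, iK, fK, ?_, hiso⟩
    rw [Nat.odd_iff]
    by_contra hne
    have h0 : Fintype.card K % 2 = 0 := by omega
    exact hchar (FiniteField.even_card_iff_char_two.mpr h0)

/-- Part A: the hypotheses of S0508 give `Q`, `D`, assuming S3282 for `G`. -/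
theorem QD_of_hyps {G : Type*} [Group G] [Finite G] [IsSimpleGroup G] (S : Sylow 2 G) (n : ℕ)
    (hn : 2 ≤ n) (hS : Nonempty (↥(S : Subgroup G) ≃* DihedralGroup n)) (t : G)
    (ht : orderOf t = 2) (htS : t ∈ (S : Subgroup G))
    (htZ : ∀ s ∈ (S : Subgroup G), s * t = t * s) (O : Subgroup G)
    (hO : O = (Cfsg.oddCore ↥(centralizer ({t} : Set G))).map (centralizer ({t} : Set G)).subtype)
    (ha : O ≠ ⊥ → IsCyclic ↥((S : Subgroup G) ⊓ centralizer (O : Set G) : Subgroup G) ∧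
      ((S : Subgroup G) ⊓ centralizer (O : Set G)).relIndex (S : Subgroup G) = 2)
    (hb : ∀ s ∈ (S : Subgroup G), s ∉ centralizer (O : Set G) → ∀ y ∈ O, s * y * s⁻¹ = y⁻¹)
    (hc : ∀ Y : Subgroup G, Y ≤ O → Y ≠ ⊥ →
      normalizer (Y : Set G) ≤ centralizer ({t} : Set G))
    (h3282 : ∀ (t : G) (_ : orderOf t = 2) (K : Subgroup G) (_ : IsMulCommutative ↥K)
      (_ : K ≤ centralizer ({t} : Set G)) (_ : t ∈ K) (s : G) (_ : orderOf s = 2)
      (_ : s ∈ centralizer ({t} : Set G)) (_ : s ∉ K)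
      (_ : K ⊔ zpowers s = centralizer ({t} : Set G))
      (_ : K ⊓ centralizer ({s} : Set G) = zpowers t)
      (_ : ∀ x ∈ K, s * x * s⁻¹ = x⁻¹)
      (_ : ∀ g : G, g ∉ centralizer ({t} : Set G) →
        K ⊓ K.map (MulAut.conj g).toMonoidHom = ⊥)
      (_ : ∀ x y : G, orderOf x = 2 → orderOf y = 2 → IsConj x y),
      ∃ Q D : Subgroup G, 2 * Nat.card G = Nat.card ↥Q * (Nat.card ↥Q + 1) * (Nat.card ↥Q - 1) ∧
        (∀ x ∈ Q, x ≠ 1 → centralizer ({x} : Set G) = Q) ∧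
        IsMulCommutative ↥D ∧ 2 * Nat.card ↥D + 1 = Nat.card ↥Q ∧ Q ⊓ D = ⊥ ∧
        normalizer (Q : Set G) = Q ⊔ D ∧
        ∀ X : Subgroup G, X ≤ D → X ≠ ⊥ →
          normalizer (X : Set G) = normalizer (D : Set G) ∧
          ∃ u : G, orderOf u = 2 ∧ u ∉ D ∧ (∀ d ∈ D, u * d * u⁻¹ = d⁻¹) ∧
            normalizer (D : Set G) = D ⊔ zpowers u) :
    QD G := by
  obtain ⟨hOodd, hOS⟩ := cent_eq_oddCore_sup S n hn hS t ht htS htZ
  rw [← hO] at hOodd hOS
  have hOH : O ≤ centralizer ({t} : Set G) := by rw [← hOS]; exact le_sup_left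
  have hSH : (S : Subgroup G) ≤ centralizer ({t} : Set G) := by rw [← hOS]; exact le_sup_right
  -- the cyclic subgroup `C`
  obtain ⟨C, hCS, hCcyc, hCidx, htC, hcomm, hinvO⟩ : ∃ C : Subgroup G, C ≤ (S : Subgroup G) ∧
      IsCyclic ↥C ∧ C.relIndex (S : Subgroup G) = 2 ∧ t ∈ C ∧
      (∀ o ∈ O, ∀ c ∈ C, o * c = c * o) ∧
      (∀ s ∈ (S : Subgroup G), s ∉ C → ∀ o ∈ O, s * o * s⁻¹ = o⁻¹) := by
    by_cases hO1 : O = ⊥
    · obtain ⟨C, h1, h2, h3, h4⟩ := exists_cyclic_index_two (S : Subgroup G) n hn hS t ht htS htZ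
      refine ⟨C, h1, h2, h3, h4, ?_, ?_⟩
      · intro o ho c _
        rw [hO1, mem_bot] at ho
        rw [ho, one_mul, mul_one]
      · intro s _ _ o ho
        rw [hO1, mem_bot] at ho
        rw [ho, mul_one, mul_inv_cancel, inv_one]
    · obtain ⟨h2, h3⟩ := ha hO1
      refine ⟨(S : Subgroup G) ⊓ centralizer (O : Set G), inf_le_left, h2, h3, ?_, ?_, ?_⟩
      · refine ⟨htS, ?_⟩
        show t ∈ centralizer (O : Set G)
        rw [mem_centralizer_iff]
        intro o ho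
        have := hOH ho
        rw [mem_centralizer_iff] at this
        exact (this t (Set.mem_singleton _)).symm
      · intro o ho c hc'
        have : c ∈ centralizer (O : Set G) := hc'.2
        rw [mem_centralizer_iff] at this
        exact this o ho
      · intro s hs hsn o ho
        exact hb s hs (fun h => hsn ⟨hs, h⟩) o ho
  -- the involution `s`
  obtain ⟨s, hsS, hsC⟩ : ∃ s ∈ (S : Subgroup G), s ∉ C := by
    by_contra hcon
    push Not at hcon
    have : (S : Subgroup G) ≤ C := hcon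
    have h1 : C.relIndex (S : Subgroup G) = 1 := relIndex_eq_one.mpr this
    omega
  obtain ⟨hs2, hsinvC, hsCt, hCs⟩ :=
    outside_cyclic_index_two (S : Subgroup G) n hn hS t ht htS htZ C hCS hCcyc hCidx htC s hsS hsC
  have hC2 : IsPGroup 2 ↥C := IsPGroup.to_le S.isPGroup' hCS
  have hst : s * t = t * s := htZ s hsS
  have hsO : ∀ o ∈ O, s * o * s⁻¹ = o⁻¹ := hinvO s hsS hsC
  obtain ⟨huniq, hodd, _⟩ := sup_parts O C t hcomm hOodd hC2 hCcyc ht htC
  obtain ⟨hCK, hsK⟩ :=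
    sup_inf_centralizer O C t s hcomm hOodd hC2 hCcyc ht htC hst hs2 hsC hsO hsinvC
  have hKab := sup_abelian O C s hcomm hsO hCcyc
  have hinv := sup_inverted O C s hcomm hsO hsinvC
  have hH : (O ⊔ C) ⊔ zpowers s = centralizer ({t} : Set G) := by
    rw [sup_assoc, hCs, hOS]
  have htK : t ∈ O ⊔ C := (le_sup_right : C ≤ O ⊔ C) htC
  have hsH : s ∈ centralizer ({t} : Set G) := hSH hsS
  have hKH : O ⊔ C ≤ centralizer ({t} : Set G) := sup_le hOH (hCS.trans hSH)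
  have hTI := ti_of_struct t s (O ⊔ C) O ht htK hKab hs2 hsK hH hinv huniq le_sup_left hodd hc
  have hconj : ∀ x y : G, orderOf x = 2 → orderOf y = 2 → IsConj x y := by
    rcases Nat.lt_or_ge n 3 with h | h
    · have hn2 : n = 2 := by omega
      subst hn2
      exact involutions_conj_of_klein S hS
    · exact involutions_conj_of_dihedral S n h hS
  obtain ⟨Q, D, h1, h2, _, h4, h5, h6, _⟩ :=
    h3282 t ht (O ⊔ C) ⟨⟨fun a b => Subtype.ext (hKab a.1 a.2 b.1 b.2)⟩⟩ hKH htK s hs2 hsH hsK hH hCK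
      hinv hTI hconj
  exact ⟨Q, D, h1, h2, h4, h5, h6⟩

end Cfsg.Agent.Helper58.BSWD
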