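import Mathlib

set_option autoImplicit false

/-! Affine 3-closures (helper58; used by S3515, S3516) -/

namespace Cfsg.Agent.Helper58

/-- A permutation of `F_p^d` (`p` odd) that agrees on every triple of points with some affine
bijection is itself an affine bijection. -/
theorem affine_of_three_closed (p : ℕ) [Fact p.Prime] (hp : p ≠ 2) (d : ℕ)
    (σ : Equiv.Perm (Fin d → ZMod p))
    (h : ∀ t : Fin 3 → (Fin d → ZMod p), ∃ (A : (Fin d → ZMod p) ≃ₗ[ZMod p] (Fin d → ZMod p))
      (b : Fin d → ZMod p), ∀ i, σ (t i) = A (t i) + b) :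
    ∃ (A : (Fin d → ZMod p) ≃ₗ[ZMod p] (Fin d → ZMod p)) (b : Fin d → ZMod p),
      ∀ x, σ x = A x + b := by
  have hpp : p.Prime := Fact.out
  have h2 : (2 : ZMod p) ≠ 0 := by
    intro h0
    have : ((2 : ℕ) : ZMod p) = 0 := by exact_mod_cast h0
    rw [ZMod.natCast_eq_zero_iff] at this
    have := (Nat.prime_dvd_prime_iff_eq hpp Nat.prime_two).mp this
    exact hp this
  -- τ x = σ x - σ 0
  set τ : (Fin d → ZMod p) → (Fin d → ZMod p) := fun x => σ x - σ 0 with hτ
  -- pairs: τ agrees with a linear map on every pair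
  have hpair : ∀ x y : Fin d → ZMod p, ∃ A : (Fin d → ZMod p) ≃ₗ[ZMod p] (Fin d → ZMod p),
      τ x = A x ∧ τ y = A y := by
    intro x y
    obtain ⟨A, b, hA⟩ := h ![0, x, y]
    have h0 : σ 0 = A 0 + b := hA 0
    have hx : σ x = A x + b := hA 1
    have hy : σ y = A y + b := hA 2
    rw [map_zero A, zero_add] at h0
    refine ⟨A, ?_, ?_⟩
    · simp only [hτ, hx, h0, add_sub_cancel_right]
    · simp only [hτ, hy, h0, add_sub_cancel_right]
  have hsmul : ∀ (c : ZMod p) (x : Fin d → ZMod p), τ (c • x) = c • τ x := by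
    intro c x
    obtain ⟨A, h1, h2⟩ := hpair x (c • x)
    rw [h2, h1, map_smul]
  -- midpoints
  have hmid : ∀ x y : Fin d → ZMod p, (2 : ZMod p) • τ ((2 : ZMod p)⁻¹ • (x + y)) = τ x + τ y := by
    intro x y
    obtain ⟨A, b, hA⟩ := h ![x, y, (2 : ZMod p)⁻¹ • (x + y)]
    have hx : σ x = A x + b := hA 0
    have hy : σ y = A y + b := hA 1
    have hm : σ ((2 : ZMod p)⁻¹ • (x + y)) = A ((2 : ZMod p)⁻¹ • (x + y)) + b := hA 2
    have e1 : (2 : ZMod p) • A ((2 : ZMod p)⁻¹ • (x + y)) = A x + A y := by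
      rw [map_smul, smul_smul, mul_inv_cancel₀ h2, one_smul, map_add]
    show (2 : ZMod p) • (σ ((2 : ZMod p)⁻¹ • (x + y)) - σ 0) = (σ x - σ 0) + (σ y - σ 0)
    rw [hx, hy, hm, smul_sub, smul_add, e1, two_smul, two_smul]
    abel
  have hadd : ∀ x y : Fin d → ZMod p, τ (x + y) = τ x + τ y := by
    intro x y
    rw [← hmid x y, ← hsmul, smul_smul, mul_inv_cancel₀ h2, one_smul]
  let L : (Fin d → ZMod p) →ₗ[ZMod p] (Fin d → ZMod p) :=
    { toFun := τ
      map_add' := hadd
      map_smul' := fun c x => by simpa using hsmul c x }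
  have hbij : Function.Bijective L := by
    constructor
    · intro x y hxy
      have : σ x - σ 0 = σ y - σ 0 := hxy
      exact σ.injective (sub_left_inj.mp this)
    · intro z
      refine ⟨σ.symm (z + σ 0), ?_⟩
      show σ (σ.symm (z + σ 0)) - σ 0 = z
      rw [Equiv.apply_symm_apply, add_sub_cancel_right]
  refine ⟨LinearEquiv.ofBijective L hbij, σ 0, fun x => ?_⟩
  show σ x = (σ x - σ 0) + σ 0
  rw [sub_add_cancel]

end Cfsg.Agent.Helper58
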