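import Mathlib
import Cfsg.Agent.Helper2.CS2Defs

/-!
# (Aexp) norm argument, for helper2's S4284 (class sizes {1, m, mn})
-/

set_option autoImplicit false

namespace Cfsg.Agent.Helper58.CS2
open Cfsg.Agent.Helper2.CS2 Subgroup

/-- an automorphism of `t`-power order leaving invariant a nontrivial `t`-subgroup `B` fixes a
nontrivial element of `B` -/
theorem exists_fixed_of_invariant {A : Type*} [Group A] [Finite A] {t : ℕ} [Fact t.Prime]
    (α : MulAut A) {e : ℕ} (hα : α ^ (t ^ e) = 1) (B : Subgroup A) (hB : IsPGroup t B)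
    (hB1 : B ≠ ⊥) (hinv : ∀ v ∈ B, α v ∈ B) : ∃ d ∈ B, d ≠ 1 ∧ α d = d := by
  classical
  have htpos : 0 < t ^ e := pow_pos (Fact.out : t.Prime).pos e
  have hfin : IsOfFinOrder α := isOfFinOrder_iff_pow_eq_one.mpr ⟨t ^ e, htpos, hα⟩
  set Z : Subgroup (MulAut A) := Subgroup.zpowers α with hZdef
  have hZ : IsPGroup t Z := by
    rintro ⟨ζ, hζ⟩
    obtain ⟨k, rfl⟩ := Subgroup.mem_zpowers_iff.mp hζ
    refine ⟨e, ?_⟩
    apply Subtype.ext
    show (α ^ k) ^ (t ^ e) = 1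
    rw [← zpow_natCast, ← zpow_mul, mul_comm, zpow_mul, zpow_natCast, hα, one_zpow]
  have hinvN : ∀ n : ℕ, ∀ v ∈ B, (α ^ n) v ∈ B := by
    intro n
    induction n with
    | zero => intro v hv; simpa using hv
    | succ n ih =>
      intro v hv
      rw [pow_succ]
      exact ih _ (hinv v hv)
  have hinvZ : ∀ ζ ∈ Z, ∀ v ∈ B, ζ v ∈ B := by
    intro ζ hζ v hv
    rw [hZdef, ← hfin.mem_powers_iff_mem_zpowers] at hζ
    obtain ⟨n, rfl⟩ := hζ
    exact hinvN n v hv
  let S : SubMulAction Z A :=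
    { carrier := (B : Set A)
      smul_mem' := by
        rintro ⟨ζ, hζ⟩ v hv
        exact hinvZ ζ hζ v hv }
  have hcard : Nat.card S = Nat.card B :=
    Nat.card_congr (Equiv.subtypeEquivRight (fun x => Iff.rfl))
  have hBnt : Nat.card B ≠ 1 := by
    intro h
    apply hB1
    exact (Subgroup.card_eq_one).mp h
  have hdvd : t ∣ Nat.card S := by
    rw [hcard]
    rcases hB.card_eq_or_dvd with h | h
    · exact absurd h hBnt
    · exact h
  have hfix1 : (⟨1, B.one_mem⟩ : S) ∈ MulAction.fixedPoints Z S := by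
    intro ζ
    apply Subtype.ext
    show (ζ : MulAut A) (1 : A) = 1
    exact map_one _
  obtain ⟨b, hb, hne⟩ :=
    hZ.exists_fixed_point_of_prime_dvd_card_of_fixed_point (α := S) hdvd hfix1
  refine ⟨b.1, b.2, ?_, ?_⟩
  · intro h
    apply hne
    apply Subtype.ext
    exact h.symm
  · have := hb ⟨α, Subgroup.mem_zpowers α⟩
    exact congrArg Subtype.val this

/-- (Aexp) norm argument -/
theorem caseA_exponent {G : Type*} [Group G] [Finite G] {t : ℕ} [Fact t.Prime]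
    (M : Subgroup G) [M.Normal]
    (hMab : ∀ u ∈ M, ∀ v ∈ M, u * v = v * u)
    (hsr : ∀ g : G, g ∉ M → ∀ v ∈ M, g * v = v * g → v ∈ center G)
    (hMt : ∃ x ∈ M, IsPElt t x ∧ x ∉ center G) (hidx : ∃ a : ℕ, M.index = t ^ a) (g : G) :
    g ^ t ∈ M := by
  by_contra hgt
  have hgM : g ∉ M := fun h => hgt (M.pow_mem h t)
  obtain ⟨x, hxM, ⟨k, hxk⟩, hxZ⟩ := hMt
  obtain ⟨e, he⟩ := hidx
  have hc : ∀ u v : M, u * v = v * u := by
    intro u v
    apply Subtype.ext
    exact hMab u.1 u.2 v.1 v.2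
  set α : MulAut M := MulAut.conjNormal g with hαdef
  have hαpow : ∀ i : ℕ, ∀ v : M, (((α ^ i) v : M) : G) = g ^ i * v * (g ^ i)⁻¹ := by
    intro i v
    rw [hαdef, ← map_pow, MulAut.conjNormal_apply]
  have hα1 : ∀ v : M, ((α v : M) : G) = g * v * g⁻¹ := by
    intro v
    rw [hαdef, MulAut.conjNormal_apply]
  have hα : α ^ (t ^ e) = 1 := by
    ext v
    rw [hαpow]
    have hmem : g ^ (t ^ e) ∈ M := by
      rw [← he]; exact Subgroup.pow_index_mem M g
    have := hMab _ hmem v.1 v.2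
    rw [this]
    simp
  -- φ v = v⁻¹ * α v
  let φ : M →* M := MonoidHom.mk' (fun v => v⁻¹ * α v) (by
    intro u v
    simp only [map_mul, mul_inv_rev]
    calc v⁻¹ * u⁻¹ * (α u * α v) = v⁻¹ * ((u⁻¹ * α u) * α v) := by group
      _ = v⁻¹ * (α v * (u⁻¹ * α u)) := by rw [hc (u⁻¹ * α u) (α v)]
      _ = (v⁻¹ * α v) * (u⁻¹ * α u) := by group
      _ = (u⁻¹ * α u) * (v⁻¹ * α v) := hc _ _)
  have hφ : ∀ v : M, φ v = v⁻¹ * α v := fun v => rfl
  let pN : M →* M := MonoidHom.mk' (fun v => v ^ (t ^ k)) (by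
    intro u v
    exact (show Commute u v from hc u v).mul_pow _)
  have hpN : ∀ v : M, pN v = v ^ (t ^ k) := fun v => rfl
  have hαφ : ∀ v : M, α (φ v) = φ (α v) := by
    intro v
    rw [hφ, hφ, map_mul, map_inv]
  set B : Subgroup M := φ.range ⊓ pN.ker with hBdef
  have hBmem : ∀ v : M, v ∈ B ↔ (∃ a, φ a = v) ∧ v ^ (t ^ k) = 1 := by
    intro v
    rw [hBdef, Subgroup.mem_inf, MonoidHom.mem_range, MonoidHom.mem_ker, hpN]
  have hBp : IsPGroup t B := by
    rintro ⟨v, hv⟩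
    refine ⟨k, ?_⟩
    apply Subtype.ext
    exact ((hBmem v).mp hv).2
  set xM : M := ⟨x, hxM⟩ with hxMdef
  have hφx : φ xM ≠ 1 := by
    intro h
    rw [hφ, inv_mul_eq_one] at h
    have h2 := congrArg (Subtype.val) h
    rw [hα1] at h2
    apply hxZ
    apply hsr g hgM x hxM
    have h3 : (x : G) = g * x * g⁻¹ := h2
    calc g * x = (g * x * g⁻¹) * g := by group
      _ = x * g := by rw [← h3]
  have hxpow : xM ^ (t ^ k) = 1 := by
    apply Subtype.ext
    show x ^ (t ^ k) = 1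
    rw [← hxk]; exact pow_orderOf_eq_one x
  have hφxB : φ xM ∈ B := by
    rw [hBmem]
    refine ⟨⟨xM, rfl⟩, ?_⟩
    rw [← map_pow, hxpow, map_one]
  have hB1 : B ≠ ⊥ := by
    intro h
    rw [h, Subgroup.mem_bot] at hφxB
    exact hφx hφxB
  have hinv : ∀ v ∈ B, α v ∈ B := by
    intro v hv
    rw [hBmem] at hv ⊢
    obtain ⟨⟨a, rfl⟩, hv2⟩ := hv
    refine ⟨⟨α a, (hαφ a).symm⟩, ?_⟩
    rw [← map_pow, hv2, map_one]
  obtain ⟨d, hdB, hd1, hαd⟩ := exists_fixed_of_invariant α hα B hBp hB1 hinv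
  rw [hBmem] at hdB
  obtain ⟨⟨a, rfl⟩, hd2⟩ := hdB
  -- minimal j with (φ a)^(t^j) = 1
  classical
  have hex : ∃ j : ℕ, (φ a) ^ (t ^ j) = 1 := ⟨k, hd2⟩
  set j := Nat.find hex with hj
  have hjspec : (φ a) ^ (t ^ j) = 1 := Nat.find_spec hex
  have hjpos : j ≠ 0 := by
    intro h0
    rw [h0, pow_zero, pow_one] at hjspec
    exact hd1 hjspec
  obtain ⟨j', hj'⟩ := Nat.exists_eq_succ_of_ne_zero hjpos
  set a' : M := a ^ (t ^ j') with ha'
  have hd' : φ a' = (φ a) ^ (t ^ j') := by rw [ha', map_pow]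
  have hd'1 : φ a' ≠ 1 := by
    rw [hd']
    intro h
    have : j ≤ j' := Nat.find_min' hex h
    omega
  have hd't : (φ a') ^ t = 1 := by
    rw [hd', ← pow_mul, ← pow_succ, ← Nat.succ_eq_add_one, ← hj']
    exact hjspec
  have hαd' : α (φ a') = φ a' := by
    rw [hd', map_pow, hαd]
  have hαid' : ∀ i : ℕ, (α ^ i) (φ a') = φ a' := by
    intro i
    induction i with
    | zero => simp
    | succ i ih => rw [pow_succ, MulAut.mul_apply, hαd', ih]
  -- telescoping
  have htel : ∀ i : ℕ, (φ a') ^ i = a'⁻¹ * (α ^ i) a' := by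
    intro i
    induction i with
    | zero => simp
    | succ i ih =>
      have h1 : φ a' = ((α ^ i) a')⁻¹ * (α ^ (i + 1)) a' := by
        conv_lhs => rw [← hαid' i]
        rw [hφ, map_mul, map_inv, pow_succ, MulAut.mul_apply]
      rw [pow_succ, ih]
      conv_lhs => rw [h1]
      group
  have hfix : (α ^ t) a' = a' := by
    have := htel t
    rw [hd't] at this
    have h2 : a' * 1 = a' * (a'⁻¹ * (α ^ t) a') := by rw [← this]
    simpa using h2.symm
  have hfixG : g ^ t * (a' : G) = (a' : G) * g ^ t := by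
    have := congrArg Subtype.val hfix
    rw [hαpow] at this
    calc g ^ t * (a' : G) = (g ^ t * a' * (g ^ t)⁻¹) * g ^ t := by group
      _ = a' * g ^ t := by rw [this]
  have hcen : (a' : G) ∈ center G := hsr (g ^ t) hgt a' a'.2 hfixG
  apply hd'1
  rw [hφ, inv_mul_eq_one]
  apply Subtype.ext
  rw [hα1]
  have := Subgroup.mem_center_iff.mp hcen g
  calc (a' : G) = (a' * g) * g⁻¹ := by group
    _ = g * a' * g⁻¹ := by rw [← this]

end Cfsg.Agent.Helper58.CS2
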