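import Mathlib

/-!
# (NP) norm projection, for helper2's S4284 (class sizes {1, m, mn})
-/

set_option autoImplicit false

namespace Cfsg.Agent.Helper58.CS2
open Subgroup

/-- partial norm `∏_{i<k} a^i w a^{-i}` -/
def nrm {G : Type*} [Group G] (a w : G) : ℕ → G
  | 0 => 1
  | k + 1 => nrm a w k * (a ^ k * w * (a ^ k)⁻¹)

theorem nrm_mem {G : Type*} [Group G] (U₂ : Subgroup G) [U₂.Normal] (a : G) {b : G}
    (hb : b ∈ U₂) (k : ℕ) : nrm a b k ∈ U₂ := by
  induction k with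
  | zero => exact U₂.one_mem
  | succ k ih => exact U₂.mul_mem ih (Subgroup.Normal.conj_mem inferInstance b hb _)

theorem nrm_mul {G : Type*} [Group G] (U₂ : Subgroup G) [U₂.Normal] {x b a : G} (hb : b ∈ U₂)
    (hx2 : ∀ v ∈ U₂, x * v = v * x) (hax : a * x = x * a) (k : ℕ) :
    nrm a (x * b) k = x ^ k * nrm a b k := by
  induction k with
  | zero => simp [nrm]
  | succ k ih =>
    have hc : Commute (a ^ k) x := (show Commute a x from hax).pow_left k
    have h1 : a ^ k * (x * b) * (a ^ k)⁻¹ = x * (a ^ k * b * (a ^ k)⁻¹) := by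
      rw [← mul_assoc, hc.eq]; group
    have h2 : x * nrm a b k = nrm a b k * x := hx2 _ (nrm_mem U₂ a hb k)
    rw [nrm, ih, h1, nrm, pow_succ]
    calc x ^ k * nrm a b k * (x * (a ^ k * b * (a ^ k)⁻¹))
        = x ^ k * (nrm a b k * x) * (a ^ k * b * (a ^ k)⁻¹) := by group
      _ = x ^ k * (x * nrm a b k) * (a ^ k * b * (a ^ k)⁻¹) := by rw [h2]
      _ = x ^ k * x * (nrm a b k * (a ^ k * b * (a ^ k)⁻¹)) := by group

theorem nrm_shift {G : Type*} [Group G] (a b : G) (k : ℕ) :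
    b * (a * nrm a b k * a⁻¹) = nrm a b k * (a ^ k * b * (a ^ k)⁻¹) := by
  induction k with
  | zero => simp [nrm]
  | succ k ih =>
    have : a * nrm a b (k + 1) * a⁻¹ =
        (a * nrm a b k * a⁻¹) * (a ^ (k + 1) * b * (a ^ (k + 1))⁻¹) := by
      rw [nrm, pow_succ']; group
    rw [this, ← mul_assoc, ih]
    rfl

theorem commute_conj_step {G : Type*} [Group G] {a τ w : G}
    (hcomm : a * τ * a⁻¹ * τ⁻¹ ∈ center G) (hw : τ * w = w * τ) :
    τ * (a * w * a⁻¹) = (a * w * a⁻¹) * τ := by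
  set z := a * τ * a⁻¹ * τ⁻¹ with hz
  have hzc : ∀ g : G, g * z = z * g := fun g => (Subgroup.mem_center_iff.mp hcomm g)
  have hz' : z = τ * a⁻¹ * τ⁻¹ * a := by
    calc z = a⁻¹ * (a * z) := by group
      _ = a⁻¹ * (z * a) := by rw [hzc a]
      _ = τ * a⁻¹ * τ⁻¹ * a := by rw [hz]; group
  have hσ : a⁻¹ * τ * a = z⁻¹ * τ := by rw [hz']; group
  have hzi : ∀ g : G, g * z⁻¹ = z⁻¹ * g := by
    intro g
    have := hzc g
    calc g * z⁻¹ = z⁻¹ * (z * g) * z⁻¹ := by group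
      _ = z⁻¹ * (g * z) * z⁻¹ := by rw [this]
      _ = z⁻¹ * g := by group
  have hσw : (a⁻¹ * τ * a) * w = w * (a⁻¹ * τ * a) := by
    rw [hσ, mul_assoc, hw, ← mul_assoc, ← hzi w, mul_assoc]
  calc τ * (a * w * a⁻¹) = a * ((a⁻¹ * τ * a) * w) * a⁻¹ := by group
    _ = a * (w * (a⁻¹ * τ * a)) * a⁻¹ := by rw [hσw]
    _ = (a * w * a⁻¹) * τ := by group

theorem commute_conj_of_comm_central {G : Type*} [Group G] {a τ w : G}
    (hcomm : a * τ * a⁻¹ * τ⁻¹ ∈ center G) (hw : τ * w = w * τ) (k : ℕ) :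
    τ * (a ^ k * w * (a ^ k)⁻¹) = (a ^ k * w * (a ^ k)⁻¹) * τ := by
  induction k with
  | zero => simpa using hw
  | succ k ih =>
    have : a ^ (k + 1) * w * (a ^ (k + 1))⁻¹ = a * (a ^ k * w * (a ^ k)⁻¹) * a⁻¹ := by
      rw [pow_succ']; group
    rw [this]
    exact commute_conj_step hcomm ih

theorem commute_nrm {G : Type*} [Group G] {a τ w : G}
    (hcomm : a * τ * a⁻¹ * τ⁻¹ ∈ center G) (hw : τ * w = w * τ) (k : ℕ) :
    τ * nrm a w k = nrm a w k * τ := by
  induction k with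
  | zero => simp [nrm]
  | succ k ih =>
    rw [nrm, ← mul_assoc, ih, mul_assoc, commute_conj_of_comm_central hcomm hw k, ← mul_assoc]

/-- (NP) norm projection (abstract; no finiteness). -/
theorem norm_projection {G : Type*} [Group G] (t : ℕ) (U₂ : Subgroup G) [U₂.Normal]
    (h22 : ∀ u ∈ U₂, ∀ v ∈ U₂, u * v = v * u)
    {x b a a' τ : G} (hb : b ∈ U₂) (hx2 : ∀ v ∈ U₂, x * v = v * x)
    (hax : a * x = x * a) (ha' : ∀ v ∈ U₂, a' * v = v * a')
    (hat : a ^ t ∈ center G) (hcomm : a * τ * a⁻¹ * τ⁻¹ ∈ center G)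
    (hτ : τ ∈ closure ({a, a'} : Set G) ⊔ center G)
    (hw : τ * (x * b) = (x * b) * τ) : τ * x ^ t = x ^ t * τ := by
  set c := nrm a b t with hc
  have hcU : c ∈ U₂ := nrm_mem U₂ a hb t
  -- τ commutes with x^t * c
  have h1 : τ * (x ^ t * c) = (x ^ t * c) * τ := by
    rw [hc, ← nrm_mul U₂ hb hx2 hax t]
    exact commute_nrm hcomm hw t
  -- a commutes with c
  have hac : a * c = c * a := by
    have hsh := nrm_shift a b t
    have hatb : a ^ t * b * (a ^ t)⁻¹ = b := by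
      rw [(Subgroup.mem_center_iff.mp hat b).symm]; group
    rw [hatb, ← hc, h22 c hcU b hb] at hsh
    have : a * c * a⁻¹ = c := mul_left_cancel hsh
    calc a * c = (a * c * a⁻¹) * a := by group
      _ = c * a := by rw [this]
  -- τ commutes with c
  have hτc : τ ∈ centralizer ({c} : Set G) := by
    have hle : closure ({a, a'} : Set G) ⊔ center G ≤ centralizer ({c} : Set G) := by
      refine sup_le ?_ ?_
      · rw [closure_le]
        rintro g (rfl | rfl)
        · rw [SetLike.mem_coe, mem_centralizer_singleton_iff]; exact hac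
        · rw [SetLike.mem_coe, mem_centralizer_singleton_iff]; exact ha' c hcU
      · intro g hg
        rw [mem_centralizer_singleton_iff]
        exact (Subgroup.mem_center_iff.mp hg c).symm
    exact hle hτ
  have hτc' : τ * c = c * τ := by
    rwa [mem_centralizer_singleton_iff] at hτc
  have hτci : τ * c⁻¹ = c⁻¹ * τ := by
    calc τ * c⁻¹ = c⁻¹ * (c * τ) * c⁻¹ := by group
      _ = c⁻¹ * (τ * c) * c⁻¹ := by rw [hτc']
      _ = c⁻¹ * τ := by group
  calc τ * x ^ t = (τ * (x ^ t * c)) * c⁻¹ := by group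
    _ = (x ^ t * c) * τ * c⁻¹ := by rw [h1]
    _ = x ^ t * c * (τ * c⁻¹) := by group
    _ = x ^ t * c * (c⁻¹ * τ) := by rw [hτci]
    _ = x ^ t * τ := by group

end Cfsg.Agent.Helper58.CS2
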