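import Mathlib

/-!
# Normal subgroups of faithful primitive groups (helper58)

Abelian / nilpotent normal subgroups of a group acting faithfully and primitively:
they are regular, self-centralizing, and all coincide. Used for S3497.
-/

set_option autoImplicit false

namespace Cfsg.Agent.Helper58

section prim
variable {H X : Type*} [Group H] [MulAction H X]

/-- a normal subgroup of a primitive group acts trivially or transitively -/
lemma normal_trivial_or_trans' (hprim : MulAction.IsPreprimitive H X)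
    (N : Subgroup H) [N.Normal] : (∀ n ∈ N, ∀ x : X, n • x = x) ∨ MulAction.IsPretransitive N X := by
  by_cases h : MulAction.fixedPoints N X = Set.univ
  · left
    intro n hn x
    have hx : x ∈ MulAction.fixedPoints N X := h ▸ Set.mem_univ x
    exact hx ⟨n, hn⟩
  · right
    exact MulAction.IsQuasiPreprimitive.isPretransitive_of_normal h

/-- a nontrivial normal subgroup of a faithful primitive group is transitive -/
lemma normal_trans [FaithfulSMul H X] (hprim : MulAction.IsPreprimitive H X)
    (N : Subgroup H) [N.Normal] (hN : N ≠ ⊥) (x y : X) : ∃ n ∈ N, n • x = y := by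
  rcases normal_trivial_or_trans' hprim N with h | h
  · exfalso
    apply hN
    rw [Subgroup.eq_bot_iff_forall]
    intro n hn
    exact FaithfulSMul.eq_of_smul_eq_smul (α := X) (fun x => by rw [h n hn x, one_smul])
  · obtain ⟨⟨n, hn⟩, hnx⟩ := h.exists_smul_eq x y
    exact ⟨n, hn, hnx⟩

/-- a nontrivial abelian normal subgroup of a faithful primitive group acts freely -/
lemma abelian_normal_free [FaithfulSMul H X] (hprim : MulAction.IsPreprimitive H X)
    (B : Subgroup H) [B.Normal] (hB : B ≠ ⊥) (hc : ∀ a ∈ B, ∀ b ∈ B, a * b = b * a)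
    {b : H} (hb : b ∈ B) {x : X} (hx : b • x = x) : b = 1 := by
  apply FaithfulSMul.eq_of_smul_eq_smul (α := X)
  intro y
  obtain ⟨n, hn, rfl⟩ := normal_trans hprim B hB x y
  rw [one_smul, ← mul_smul, hc b hb n hn, mul_smul, hx]

/-- a nontrivial abelian normal subgroup of a faithful primitive group is self-centralizing -/
lemma centralizer_abelian_normal_le [FaithfulSMul H X] [Nonempty X]
    (hprim : MulAction.IsPreprimitive H X)
    (B : Subgroup H) [B.Normal] (hB : B ≠ ⊥) (hc : ∀ a ∈ B, ∀ b ∈ B, a * b = b * a) :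
    Subgroup.centralizer (B : Set H) ≤ B := by
  intro c hcc
  obtain ⟨x⟩ := ‹Nonempty X›
  obtain ⟨n, hn, hnx⟩ := normal_trans hprim B hB x (c • x)
  have hd : n⁻¹ * c = 1 := by
    apply FaithfulSMul.eq_of_smul_eq_smul (α := X)
    intro y
    obtain ⟨m, hm, rfl⟩ := normal_trans hprim B hB x y
    have hcm : m * c = c * m := hcc m hm
    have hnm : n⁻¹ * m = m * n⁻¹ := hc n⁻¹ (B.inv_mem hn) m hm
    have hdm : (n⁻¹ * c) * m = m * (n⁻¹ * c) := by
      rw [mul_assoc, ← hcm, ← mul_assoc, hnm, mul_assoc]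
    rw [one_smul, ← mul_smul, hdm, mul_smul, mul_smul, ← hnx, inv_smul_smul]
  have : c = n := by
    have := congrArg (fun z => n * z) hd
    simpa [mul_assoc] using this
  rw [this]; exact hn

/-- two subgroups acting freely and transitively, one inside the other, are equal -/
lemma eq_of_le_of_free_trans {M B : Subgroup H} (hMB : M ≤ B) [Nonempty X]
    (htrans : ∀ x y : X, ∃ m ∈ M, m • x = y)
    (hfree : ∀ b ∈ B, ∀ x : X, b • x = x → b = 1) : M = B := by
  apply le_antisymm hMB
  intro b hb
  obtain ⟨x⟩ := ‹Nonempty X›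
  obtain ⟨m, hm, hmx⟩ := htrans x (b • x)
  have h1 : m⁻¹ * b = 1 := by
    apply hfree _ (B.mul_mem (B.inv_mem (hMB hm)) hb) x
    rw [mul_smul, ← hmx, inv_smul_smul]
  have : b = m := by
    have := congrArg (fun z => m * z) h1
    simpa [mul_assoc] using this
  rw [this]; exact hm

/-- all nontrivial abelian normal subgroups of a faithful primitive group coincide -/
lemma abelian_normal_unique [FaithfulSMul H X] [Nonempty X] (hprim : MulAction.IsPreprimitive H X)
    (B₁ B₂ : Subgroup H) [B₁.Normal] [B₂.Normal] (h₁ : B₁ ≠ ⊥) (h₂ : B₂ ≠ ⊥)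
    (hc₁ : ∀ a ∈ B₁, ∀ b ∈ B₁, a * b = b * a) (hc₂ : ∀ a ∈ B₂, ∀ b ∈ B₂, a * b = b * a) :
    B₁ = B₂ := by
  by_cases hI : B₁ ⊓ B₂ = ⊥
  · -- then they commute, so B₂ ≤ C(B₁) ≤ B₁
    exfalso
    have hcomm : ∀ a ∈ B₁, ∀ b ∈ B₂, b * a = a * b := by
      intro a ha b hb
      have hmem : b * a * b⁻¹ * a⁻¹ ∈ B₁ ⊓ B₂ := by
        constructor
        · exact B₁.mul_mem (Subgroup.Normal.conj_mem inferInstance a ha b) (B₁.inv_mem ha)
        · have : b * a * b⁻¹ * a⁻¹ = b * (a * b⁻¹ * a⁻¹) := by group
          rw [this]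
          exact B₂.mul_mem hb (Subgroup.Normal.conj_mem inferInstance b⁻¹ (B₂.inv_mem hb) a)
      rw [hI, Subgroup.mem_bot] at hmem
      have := congrArg (fun z => z * a * b) hmem
      simpa [mul_assoc] using this
    have hle : B₂ ≤ Subgroup.centralizer (B₁ : Set H) := by
      intro b hb a ha
      exact (hcomm a ha b hb).symm
    have hle' : B₂ ≤ B₁ := hle.trans (centralizer_abelian_normal_le hprim B₁ h₁ hc₁)
    apply h₂
    exact le_bot_iff.mp (hI ▸ le_inf hle' (le_refl _))
  · have hIn : (B₁ ⊓ B₂).Normal := inferInstance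
    have e1 : B₁ ⊓ B₂ = B₁ := eq_of_le_of_free_trans (X := X) inf_le_left
      (fun x y => normal_trans hprim (B₁ ⊓ B₂) hI x y)
      (fun b hb x hx => abelian_normal_free hprim B₁ h₁ hc₁ hb hx)
    have e2 : B₁ ⊓ B₂ = B₂ := eq_of_le_of_free_trans (X := X) inf_le_right
      (fun x y => normal_trans hprim (B₁ ⊓ B₂) hI x y)
      (fun b hb x hx => abelian_normal_free hprim B₂ h₂ hc₂ hb hx)
    rw [← e1]; exact e2

/-- a nontrivial nilpotent normal subgroup of a faithful primitive group is abelian -/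
lemma nilpotent_normal_comm [FaithfulSMul H X] [Nonempty X] (hprim : MulAction.IsPreprimitive H X)
    (L : Subgroup H) [L.Normal] (hL : L ≠ ⊥) [Group.IsNilpotent L] :
    ∀ a ∈ L, ∀ b ∈ L, a * b = b * a := by
  have hnt : Nontrivial L := (Subgroup.nontrivial_iff_ne_bot L).mpr hL
  have hZ : Subgroup.center L ≠ ⊥ := Group.IsNilpotent.center_ne_bot L
  set Z : Subgroup H := (Subgroup.center L).map L.subtype with hZdef
  have hZn : Z.Normal := inferInstance
  have hZne : Z ≠ ⊥ := by
    intro h
    apply hZ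
    exact (Subgroup.map_eq_bot_iff_of_injective _ L.subtype_injective).mp h
  have hZc : ∀ a ∈ Z, ∀ b ∈ Z, a * b = b * a := by
    rintro _ ⟨a, ha, rfl⟩ _ ⟨b, _, rfl⟩
    have := (Subgroup.mem_center_iff.mp ha) b
    exact (congrArg Subtype.val this).symm
  have hLZ : L ≤ Subgroup.centralizer (Z : Set H) := by
    rintro l hl _ ⟨z, hz, rfl⟩
    have := (Subgroup.mem_center_iff.mp hz) ⟨l, hl⟩
    exact (congrArg Subtype.val this).symm
  have hLleZ : L ≤ Z := hLZ.trans (centralizer_abelian_normal_le hprim Z hZne hZc)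
  intro a ha b hb
  exact hZc a (hLleZ ha) b (hLleZ hb)

end prim

end Cfsg.Agent.Helper58
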