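import Mathlib
import Cfsg.Agent.Helper58.PrimNormal
import Cfsg.Agent.Helper67.Conj

/-!
# Groups whose derangements form a single conjugacy class (helper58)

Library for S3501: a finite primitive, not almost simple group has a unique class of
derangements iff it is sharply 2-transitive.
-/

set_option autoImplicit false

namespace Cfsg.Agent.Helper58.UDer

open MulAction

section basic
variable {G Ω : Type*} [Group G] [MulAction G Ω]

/-- `g` is a derangement on `Ω` -/
def IsDer (Ω : Type*) {G : Type*} [Group G] [MulAction G Ω] (g : G) : Prop := ∀ ω : Ω, g • ω ≠ ω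

theorem IsDer.conj {g : G} (hg : IsDer Ω g) (h : G) : IsDer Ω (h * g * h⁻¹) := by
  intro ω hω
  apply hg (h⁻¹ • ω)
  rw [mul_smul, mul_smul] at hω
  rw [eq_inv_smul_iff, hω]

theorem IsDer.ne_one [Nonempty Ω] {g : G} (hg : IsDer Ω g) : g ≠ 1 := by
  rintro rfl
  obtain ⟨ω⟩ := ‹Nonempty Ω›
  exact hg ω (one_smul _ _)

/-- Jordan: a finite transitive group on at least two points contains a derangement. -/
theorem exists_isDer_of_trans [Finite G] (N : Subgroup G)
    (htr : ∀ x y : Ω, ∃ n ∈ N, n • x = y) {a b : Ω} (hab : a ≠ b) : ∃ n ∈ N, IsDer Ω n := by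
  by_contra hcon
  push Not at hcon
  have hcov : ∀ x : N, ∃ g : N, g * x * g⁻¹ ∈ (stabilizer G a).subgroupOf N := by
    intro x
    have hx := hcon x.1 x.2
    unfold IsDer at hx
    push Not at hx
    obtain ⟨ω, hω⟩ := hx
    obtain ⟨g, hg, hga⟩ := htr ω a
    refine ⟨⟨g, hg⟩, ?_⟩
    rw [Subgroup.mem_subgroupOf, mem_stabilizer_iff]
    simp only [Subgroup.coe_mul, Subgroup.coe_inv]
    rw [mul_smul, mul_smul, ← hga, inv_smul_smul, hω]
  have htop := Cfsg.Agent.Helper67.eq_top_of_forall_exists_conj_mem _ hcov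
  obtain ⟨n, hn, hna⟩ := htr a b
  have : (⟨n, hn⟩ : N) ∈ (stabilizer G a).subgroupOf N := by rw [htop]; trivial
  rw [Subgroup.mem_subgroupOf, mem_stabilizer_iff] at this
  exact hab (this.symm.trans hna)

end basic

section sharp
variable {G Ω : Type*} [Group G] [MulAction G Ω] [Fintype G] [Fintype Ω] [DecidableEq Ω] [DecidableEq G]

/-- order of a sharply 2-transitive group -/
theorem sharp_card_group
    (h2 : ∀ a b c d : Ω, a ≠ b → c ≠ d → ∃ g : G, g • a = c ∧ g • b = d)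
    (hs : ∀ g : G, g ≠ 1 → ∀ a b : Ω, a ≠ b → g • a = a → g • b ≠ b)
    {α β : Ω} (hαβ : α ≠ β) :
    Fintype.card G = Fintype.card Ω * Fintype.card Ω - Fintype.card Ω := by
  rw [← Finset.card_univ (α := Ω), ← Finset.offDiag_card, ← Finset.card_univ (α := G)]
  apply Finset.card_bij (fun g _ => (g • α, g • β))
  · intro g _
    simp only [Finset.mem_offDiag, Finset.mem_univ, true_and]
    exact fun h => hαβ (smul_left_cancel g h)
  · intro g _ g' _ h
    simp only [Prod.mk.injEq] at h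
    by_contra hne
    have hne' : g'⁻¹ * g ≠ 1 := fun h' => hne (by
      have := congrArg (fun z => g' * z) h'
      simpa using this)
    apply hs (g'⁻¹ * g) hne' α β hαβ
    · rw [mul_smul, h.1, inv_smul_smul]
    · rw [mul_smul, h.2, inv_smul_smul]
  · rintro ⟨c, d⟩ hcd
    simp only [Finset.mem_offDiag, Finset.mem_univ, true_and] at hcd
    obtain ⟨g, hg1, hg2⟩ := h2 α β c d hαβ hcd
    exact ⟨g, Finset.mem_univ _, by rw [hg1, hg2]⟩

theorem sharp_card_stab
    (h2 : ∀ a b c d : Ω, a ≠ b → c ≠ d → ∃ g : G, g • a = c ∧ g • b = d)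
    (hs : ∀ g : G, g ≠ 1 → ∀ a b : Ω, a ≠ b → g • a = a → g • b ≠ b)
    {α β : Ω} (hαβ : α ≠ β) :
    (Finset.univ.filter (fun g : G => g • α = α)).card = Fintype.card Ω - 1 := by
  rw [← Finset.card_univ (α := Ω), ← Finset.card_erase_of_mem (Finset.mem_univ α)]
  apply Finset.card_bij (fun g _ => g • β)
  · intro g hg
    simp only [Finset.mem_filter, Finset.mem_univ, true_and] at hg
    simp only [Finset.mem_erase, Finset.mem_univ, and_true]
    intro h
    apply hαβ
    apply smul_left_cancel g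
    rw [hg, h]
  · intro g hg g' hg' h
    simp only [Finset.mem_filter, Finset.mem_univ, true_and] at hg hg'
    by_contra hne
    have hne' : g'⁻¹ * g ≠ 1 := fun h' => hne (by
      have := congrArg (fun z => g' * z) h'
      simpa using this)
    apply hs (g'⁻¹ * g) hne' α β hαβ
    · rw [mul_smul, hg, inv_smul_eq_iff, hg']
    · rw [mul_smul, h, inv_smul_smul]
  · intro c hc
    simp only [Finset.mem_erase, Finset.mem_univ, and_true] at hc
    obtain ⟨g, hg1, hg2⟩ := h2 α β α c hαβ hc.symm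
    exact ⟨g, by simp [hg1], hg2⟩

/-- number of derangements in a sharply 2-transitive group -/
theorem sharp_card_der
    (h2 : ∀ a b c d : Ω, a ≠ b → c ≠ d → ∃ g : G, g • a = c ∧ g • b = d)
    (hs : ∀ g : G, g ≠ 1 → ∀ a b : Ω, a ≠ b → g • a = a → g • b ≠ b)
    (hcardG : Fintype.card G = Fintype.card Ω * Fintype.card Ω - Fintype.card Ω)
    (hΩ : 2 ≤ Fintype.card Ω) :
    (Finset.univ.filter (fun g : G => ∀ ω : Ω, g • ω ≠ ω)).card = Fintype.card Ω - 1 := by
  classical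
  obtain ⟨n, hn⟩ : ∃ n, n = Fintype.card Ω := ⟨_, rfl⟩
  rw [← hn] at hcardG hΩ ⊢
  -- double counting
  have hdc : ∑ g : G, (Finset.univ.filter (fun ω : Ω => g • ω = ω)).card = n * (n - 1) := by
    have h := Finset.sum_card_bipartiteAbove_eq_sum_card_bipartiteBelow
      (s := (Finset.univ : Finset G)) (t := (Finset.univ : Finset Ω)) (fun (g : G) (ω : Ω) => g • ω = ω)
    have hl : ∑ g : G, (Finset.univ.filter (fun ω : Ω => g • ω = ω)).card =
        ∑ g ∈ (Finset.univ : Finset G), (Finset.bipartiteAbove (fun (g : G) (ω : Ω) => g • ω = ω) Finset.univ g).card := rfl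
    rw [hl, h]
    have hr : ∀ ω ∈ (Finset.univ : Finset Ω),
        (Finset.bipartiteBelow (fun (g : G) (ω : Ω) => g • ω = ω) Finset.univ ω).card = n - 1 := by
      intro ω _
      obtain ⟨β, hβ⟩ : ∃ β : Ω, ω ≠ β := by
        by_contra hcon
        push Not at hcon
        have : Fintype.card Ω ≤ 1 := Fintype.card_le_one_iff.2 (fun a b => by rw [← hcon a, ← hcon b])
        omega
      rw [hn]
      exact sharp_card_stab h2 hs hβ
    rw [Finset.sum_congr rfl hr, Finset.sum_const, Finset.card_univ, smul_eq_mul, ← hn]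
  -- pointwise description of the number of fixed points
  have hpt : ∀ g : G, (Finset.univ.filter (fun ω : Ω => g • ω = ω)).card =
      (if g = 1 then n else 0) + (if (g ≠ 1 ∧ ∃ ω : Ω, g • ω = ω) then 1 else 0) := by
    intro g
    by_cases hg1 : g = 1
    · subst hg1
      simp [hn]
    · rw [if_neg hg1, zero_add]
      by_cases hex : ∃ ω : Ω, g • ω = ω
      · rw [if_pos ⟨hg1, hex⟩]
        obtain ⟨ω, hω⟩ := hex
        rw [Finset.card_eq_one]
        refine ⟨ω, ?_⟩
        ext ω'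
        simp only [Finset.mem_filter, Finset.mem_univ, true_and, Finset.mem_singleton]
        constructor
        · intro h
          by_contra hne
          exact hs g hg1 ω ω' (Ne.symm hne) hω h
        · rintro rfl; exact hω
      · rw [if_neg (fun h => hex h.2)]
        rw [Finset.card_eq_zero, Finset.filter_eq_empty_iff]
        intro ω _ h
        exact hex ⟨ω, h⟩
  rw [Finset.sum_congr rfl (fun g _ => hpt g), Finset.sum_add_distrib, Finset.sum_ite_eq' ] at hdc
  simp only [Finset.mem_univ, if_true] at hdc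
  rw [← Finset.card_filter] at hdc
  -- partition of the group
  have hpart : Fintype.card G = 1 + (Finset.univ.filter (fun g : G => g ≠ 1 ∧ ∃ ω : Ω, g • ω = ω)).card +
      (Finset.univ.filter (fun g : G => ∀ ω : Ω, g • ω ≠ ω)).card := by
    rw [← Finset.card_univ (α := G)]
    have h1 : (Finset.univ : Finset G) = ({1} ∪ Finset.univ.filter (fun g : G => g ≠ 1 ∧ ∃ ω : Ω, g • ω = ω)) ∪
        (Finset.univ.filter (fun g : G => ∀ ω : Ω, g • ω ≠ ω)) := by
      ext g
      simp only [Finset.mem_univ, Finset.mem_union, Finset.mem_singleton, Finset.mem_filter, true_and, true_iff]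
      by_cases hg1 : g = 1
      · left; left; exact hg1
      · by_cases hex : ∃ ω : Ω, g • ω = ω
        · left; right; exact ⟨hg1, hex⟩
        · right
          push Not at hex
          exact hex
    conv_lhs => rw [h1]
    rw [Finset.card_union_of_disjoint, Finset.card_union_of_disjoint, Finset.card_singleton]
    · rw [Finset.disjoint_left]
      intro g hg hg'
      simp only [Finset.mem_singleton] at hg
      simp only [Finset.mem_filter, Finset.mem_univ, true_and] at hg'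
      exact hg'.1 hg
    · rw [Finset.disjoint_left]
      intro g hg hg'
      simp only [Finset.mem_union, Finset.mem_singleton, Finset.mem_filter, Finset.mem_univ, true_and] at hg hg'
      rcases hg with rfl | ⟨_, ω, hω⟩
      · obtain ⟨ω⟩ : Nonempty Ω := by
          rw [← Fintype.card_pos_iff]; omega
        exact hg' ω (one_smul _ _)
      · exact hg' ω hω
  have hn2 : 2 ≤ n := hΩ
  rw [hcardG] at hpart
  obtain ⟨m, rfl⟩ : ∃ m, n = m + 2 := ⟨n - 2, by omega⟩
  have e1 : (m + 2) * (m + 2) - (m + 2) = (m + 2) * (m + 1) := by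
    rw [Nat.sub_eq_iff_eq_add (by nlinarith)]; ring
  have e2 : (m + 2) * (m + 2 - 1) = (m + 2) * (m + 1) := by
    congr 1
  rw [e1] at hpart
  rw [e2] at hdc
  have : m + 2 - 1 = m + 1 := by omega
  rw [this]
  nlinarith


/-- in a sharply 2-transitive group all derangements are conjugate, and there is one -/
theorem sharp_der_conj
    (h2 : ∀ a b c d : Ω, a ≠ b → c ≠ d → ∃ g : G, g • a = c ∧ g • b = d)
    (hs : ∀ g : G, g ≠ 1 → ∀ a b : Ω, a ≠ b → g • a = a → g • b ≠ b)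
    (hΩ : 2 ≤ Fintype.card Ω) :
    (∃ x : G, IsDer Ω x) ∧ ∀ x y : G, IsDer Ω x → IsDer Ω y → ∃ g : G, g * x * g⁻¹ = y := by
  classical
  obtain ⟨α, β, hαβ⟩ : ∃ α β : Ω, α ≠ β := by
    have : 1 < Fintype.card Ω := by omega
    exact Fintype.exists_pair_of_one_lt_card this
  have hcG := sharp_card_group h2 hs hαβ
  have hcD := sharp_card_der h2 hs hcG hΩ
  set D := Finset.univ.filter (fun g : G => ∀ ω : Ω, g • ω ≠ ω) with hD
  constructor
  · have : 0 < D.card := by rw [hcD]; omega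
    obtain ⟨x, hx⟩ := Finset.card_pos.1 this
    exact ⟨x, (Finset.mem_filter.1 hx).2⟩
  · intro x y hx hy
    -- the class of x
    set I := (Finset.univ : Finset G).image (fun g => g * x * g⁻¹) with hI
    have hIsub : I ⊆ D := by
      intro z hz
      obtain ⟨g, -, rfl⟩ := Finset.mem_image.1 hz
      exact Finset.mem_filter.2 ⟨Finset.mem_univ _, hx.conj g⟩
    have hfib : ∀ z ∈ I, ((Finset.univ : Finset G).filter (fun g => g * x * g⁻¹ = z)).card ≤ Fintype.card Ω := by
      intro z _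
      rw [← Finset.card_univ (α := Ω)]
      apply Finset.card_le_card_of_injOn (fun g => g • α)
      · intro g _; exact Finset.mem_univ _
      · intro g hg g' hg' h
        simp only [Finset.coe_filter, Finset.mem_univ, true_and, Set.mem_ofPred_eq] at hg hg'
        by_contra hne
        have hne' : g'⁻¹ * g ≠ 1 := fun h' => hne (by
          have := congrArg (fun z => g' * z) h'
          simpa using this)
        -- c = g'⁻¹ g commutes with x
        have hcomm : (g'⁻¹ * g) * x = x * (g'⁻¹ * g) := by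
          have h1 : g * x * g⁻¹ = g' * x * g'⁻¹ := by rw [hg, hg']
          calc (g'⁻¹ * g) * x = g'⁻¹ * (g * x * g⁻¹) * g := by group
            _ = g'⁻¹ * (g' * x * g'⁻¹) * g := by rw [h1]
            _ = x * (g'⁻¹ * g) := by group
        have hfix : (g'⁻¹ * g) • α = α := by
          have h' : g • α = g' • α := h
          rw [mul_smul, h', inv_smul_smul]
        apply hs (g'⁻¹ * g) hne' α (x • α) (hx α).symm hfix
        rw [← mul_smul, hcomm, mul_smul, hfix]
    have hle := Finset.card_le_mul_card_image (f := fun g => g * x * g⁻¹) (Finset.univ : Finset G)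
      (Fintype.card Ω) hfib
    rw [Finset.card_univ, hcG] at hle
    -- so the class has at least n - 1 elements
    have hIcard : Fintype.card Ω - 1 ≤ I.card := by
      obtain ⟨n, hn⟩ : ∃ n, n = Fintype.card Ω := ⟨_, rfl⟩
      rw [← hn] at hle hΩ ⊢
      obtain ⟨m, rfl⟩ : ∃ m, n = m + 2 := ⟨n - 2, by omega⟩
      have e1 : (m + 2) * (m + 2) - (m + 2) = (m + 2) * (m + 1) := by
        rw [Nat.sub_eq_iff_eq_add (by nlinarith)]; ring
      rw [e1] at hle
      have h3 : m + 1 ≤ I.card := Nat.le_of_mul_le_mul_left hle (by omega)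
      omega
    have hID : I = D := Finset.eq_of_subset_of_card_le hIsub (by rw [hcD]; exact hIcard)
    have hyD : y ∈ D := Finset.mem_filter.2 ⟨Finset.mem_univ _, hy⟩
    rw [← hID] at hyD
    obtain ⟨g, -, hg⟩ := Finset.mem_image.1 hyD
    exact ⟨g, hg⟩

end sharp

section abelian
variable {G Ω : Type*} [Group G] [MulAction G Ω] [Finite G] [FaithfulSMul G Ω]

/-- the affine case: an abelian normal subgroup and a single class of derangements force
sharp 2-transitivity -/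
theorem abelian_case (hprim : IsPreprimitive G Ω) (N : Subgroup G) [N.Normal] (hN : N ≠ ⊥)
    (hc : ∀ a ∈ N, ∀ b ∈ N, a * b = b * a)
    (hconj : ∀ x y : G, IsDer Ω x → IsDer Ω y → ∃ g : G, g * x * g⁻¹ = y) :
    (∀ a b c d : Ω, a ≠ b → c ≠ d → ∃ g : G, g • a = c ∧ g • b = d) ∧
    (∀ g : G, g ≠ 1 → ∀ a b : Ω, a ≠ b → g • a = a → g • b ≠ b) := by
  have hfree : ∀ b ∈ N, ∀ x : Ω, b • x = x → b = 1 := fun b hb x hx =>
    abelian_normal_free hprim N hN hc hb hx
  have htr := normal_trans hprim N hN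
  have hderN : ∀ n ∈ N, n ≠ 1 → IsDer Ω n := fun n hn hn1 ω hω => hn1 (hfree n hn ω hω)
  obtain ⟨n₀, hn₀, hn₀1⟩ : ∃ n₀ ∈ N, n₀ ≠ 1 := by
    by_contra hcon
    push Not at hcon
    exact hN ((Subgroup.eq_bot_iff_forall N).2 hcon)
  have hDN : ∀ x : G, IsDer Ω x → x ∈ N := by
    intro x hx
    obtain ⟨g, hg⟩ := hconj n₀ x (hderN n₀ hn₀ hn₀1) hx
    rw [← hg]
    exact ‹N.Normal›.conj_mem n₀ hn₀ g
  -- point stabilizers act transitively on the other points
  have hstab : ∀ c b d : Ω, b ≠ c → d ≠ c → ∃ h : G, h • c = c ∧ h • b = d := by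
    intro c b d hb hd
    obtain ⟨x, hx, hxb⟩ := htr c b
    obtain ⟨y, hy, hyd⟩ := htr c d
    have hx1 : x ≠ 1 := by rintro rfl; exact hb (by rw [← hxb, one_smul])
    have hy1 : y ≠ 1 := by rintro rfl; exact hd (by rw [← hyd, one_smul])
    obtain ⟨g, hg⟩ := hconj x y (hderN x hx hx1) (hderN y hy hy1)
    obtain ⟨n, hn, hnc⟩ := htr c (g • c)
    refine ⟨n⁻¹ * g, by rw [mul_smul, ← hnc, inv_smul_smul], ?_⟩
    -- y = (n⁻¹ g) x (n⁻¹ g)⁻¹
    have hy' : (n⁻¹ * g) * x * (n⁻¹ * g)⁻¹ = y := by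
      have h1 : g * x * g⁻¹ ∈ N := ‹N.Normal›.conj_mem x hx g
      have h2 : n⁻¹ * (g * x * g⁻¹) = (g * x * g⁻¹) * n⁻¹ := hc _ (N.inv_mem hn) _ h1
      calc (n⁻¹ * g) * x * (n⁻¹ * g)⁻¹ = n⁻¹ * (g * x * g⁻¹) * n := by group
        _ = (g * x * g⁻¹) * n⁻¹ * n := by rw [h2]
        _ = y := by rw [hg]; group
    have hfixc : (n⁻¹ * g) • c = c := by rw [mul_smul, ← hnc, inv_smul_smul]
    calc (n⁻¹ * g) • b = (n⁻¹ * g) • x • c := by rw [hxb]
      _ = ((n⁻¹ * g) * x * (n⁻¹ * g)⁻¹) • (n⁻¹ * g) • c := by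
          rw [← mul_smul, ← mul_smul]; congr 1; group
      _ = d := by rw [hy', hfixc, hyd]
  constructor
  · intro a b c d hab hcd
    obtain ⟨n, -, hn⟩ := htr a c
    have hnb : n • b ≠ c := by
      rw [← hn]; exact fun h => hab (smul_left_cancel n h).symm
    obtain ⟨h, hh1, hh2⟩ := hstab c (n • b) d hnb (Ne.symm hcd)
    exact ⟨h * n, by rw [mul_smul, hn, hh1], by rw [mul_smul, hh2]⟩
  · intro g hg1 a b hab hga hgb
    obtain ⟨x, hx, hxb⟩ := htr a b
    have hx1 : x ≠ 1 := by rintro rfl; exact hab (by rw [← hxb, one_smul])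
    -- g commutes with x
    have hgx : g * x * g⁻¹ = x := by
      have h1 : g * x * g⁻¹ ∈ N := ‹N.Normal›.conj_mem x hx g
      have h2 : (x⁻¹ * (g * x * g⁻¹)) • a = a := by
        have hga' : g⁻¹ • a = a := by rw [inv_smul_eq_iff, hga]
        rw [mul_smul, mul_smul, mul_smul, hga', hxb, hgb, ← hxb, inv_smul_smul]
      have := hfree _ (N.mul_mem (N.inv_mem hx) h1) a h2
      calc g * x * g⁻¹ = x * (x⁻¹ * (g * x * g⁻¹)) := by group
        _ = x := by rw [this, mul_one]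
    have hgN : g ∉ N := fun h => hg1 (hfree g h a hga)
    -- the map ψ
    let ψ : N → N := fun w => ⟨(w : G) * (g * (w : G)⁻¹ * g⁻¹),
      N.mul_mem w.2 (‹N.Normal›.conj_mem _ (N.inv_mem w.2) g)⟩
    have hsurj : Function.Surjective ψ := by
      intro z
      -- g * (g⁻¹ z g) is not a derangement
      have hz' : g⁻¹ * (z : G) * g ∈ N := by
        have := ‹N.Normal›.conj_mem (z : G) z.2 g⁻¹
        simpa using this
      have hnd : ¬ IsDer Ω (g * (g⁻¹ * (z : G) * g)) := by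
        intro hd
        apply hgN
        have := N.mul_mem (hDN _ hd) (N.inv_mem hz')
        have e : g * (g⁻¹ * (z : G) * g) * (g⁻¹ * (z : G) * g)⁻¹ = g := by group
        rwa [e] at this
      unfold IsDer at hnd
      push Not at hnd
      obtain ⟨ω, hω⟩ := hnd
      obtain ⟨w, hw, hwa⟩ := htr a ω
      refine ⟨⟨w, hw⟩, ?_⟩
      apply Subtype.ext
      show w * (g * w⁻¹ * g⁻¹) = (z : G)
      -- g (g⁻¹ z g) w a = w a
      have h1 : ((z : G) * (g * w * g⁻¹)) • a = w • a := by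
        have hga' : g⁻¹ • a = a := by rw [inv_smul_eq_iff, hga]
        rw [← hwa] at hω
        calc ((z : G) * (g * w * g⁻¹)) • a = (g * (g⁻¹ * (z : G) * g)) • w • g⁻¹ • a := by
              rw [← mul_smul, ← mul_smul]; congr 1; group
          _ = w • a := by rw [hga', hω]
      have h2 : w⁻¹ * ((z : G) * (g * w * g⁻¹)) = 1 := by
        apply hfree _ (N.mul_mem (N.inv_mem hw) (N.mul_mem z.2 (‹N.Normal›.conj_mem w hw g))) a
        rw [mul_smul, h1, inv_smul_smul]
      have h3 : (z : G) * (g * w * g⁻¹) = w := by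
        calc (z : G) * (g * w * g⁻¹) = w * (w⁻¹ * ((z : G) * (g * w * g⁻¹))) := by group
          _ = w := by rw [h2, mul_one]
      calc w * (g * w⁻¹ * g⁻¹) = ((z : G) * (g * w * g⁻¹)) * (g * w⁻¹ * g⁻¹) := by rw [h3]
        _ = (z : G) := by group
    have hinj : Function.Injective ψ := Finite.injective_iff_surjective.2 hsurj
    have h1 : ψ ⟨x, hx⟩ = ψ 1 := by
      apply Subtype.ext
      show x * (g * x⁻¹ * g⁻¹) = (1 : G) * (g * (1 : G)⁻¹ * g⁻¹)
      have : g * x⁻¹ * g⁻¹ = x⁻¹ := by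
        calc g * x⁻¹ * g⁻¹ = (g * x * g⁻¹)⁻¹ := by group
          _ = x⁻¹ := by rw [hgx]
      rw [this]; group
    have := hinj h1
    exact hx1 (congrArg Subtype.val this)

end abelian

section ctx
variable {G : Type*} [Group G]

/-- the conjugate subgroup `g T g⁻¹` -/
def cj (g : G) (T : Subgroup G) : Subgroup G := T.map (MulAut.conj g).toMonoidHom

theorem mem_cj {g x : G} {T : Subgroup G} : x ∈ cj g T ↔ g⁻¹ * x * g ∈ T := by
  unfold cj
  rw [Subgroup.mem_map_equiv]
  simp [MulAut.conj_symm_apply]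

theorem conj_mem_cj {g t : G} {T : Subgroup G} (ht : t ∈ T) : g * t * g⁻¹ ∈ cj g T := by
  rw [mem_cj]
  have : g⁻¹ * (g * t * g⁻¹) * g = t := by group
  rw [this]; exact ht

theorem card_cj (g : G) (T : Subgroup G) : Nat.card (cj g T) = Nat.card T := by
  unfold cj
  exact Nat.card_congr (T.equivMapOfInjective _ (MulAut.conj g).injective).symm.toEquiv

/-- `T` is a nontrivial subgroup of `N`, normalized by `N`, of minimal order among those -/
structure Ctx (N T : Subgroup G) : Prop where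
  hTN : T ≤ N
  hT1 : T ≠ ⊥
  hnorm : ∀ n ∈ N, ∀ t ∈ T, n * t * n⁻¹ ∈ T
  hmin : ∀ S : Subgroup G, S ≤ N → S ≠ ⊥ → (∀ n ∈ N, ∀ s ∈ S, n * s * n⁻¹ ∈ S) →
    Nat.card T ≤ Nat.card S

variable {N T T' : Subgroup G}

theorem Ctx.conj [N.Normal] (h : Ctx N T) (g : G) : Ctx N (cj g T) where
  hTN := by
    intro x hx
    rw [mem_cj] at hx
    have := ‹N.Normal›.conj_mem _ (h.hTN hx) g
    have e : g * (g⁻¹ * x * g) * g⁻¹ = x := by group
    rwa [e] at this
  hT1 := by
    intro hbot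
    apply h.hT1
    rw [Subgroup.eq_bot_iff_forall]
    intro t ht
    have := conj_mem_cj (g := g) ht
    rw [hbot, Subgroup.mem_bot] at this
    have e : t = g⁻¹ * (g * t * g⁻¹) * g := by group
    rw [e, this]; group
  hnorm := by
    intro n hn t ht
    rw [mem_cj] at ht ⊢
    have hn' : g⁻¹ * n * g ∈ N := by
      have := ‹N.Normal›.conj_mem n hn g⁻¹
      simpa using this
    have := h.hnorm _ hn' _ ht
    have e : g⁻¹ * (n * t * n⁻¹) * g = g⁻¹ * n * g * (g⁻¹ * t * g) * (g⁻¹ * n * g)⁻¹ := by group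
    rw [e]; exact this
  hmin := by
    intro S hS hS1 hSn
    rw [card_cj]
    exact h.hmin S hS hS1 hSn

theorem Ctx.eq_or_disjoint [Finite G] (h : Ctx N T) (h' : Ctx N T') (hcard : Nat.card T = Nat.card T') :
    T = T' ∨ T ⊓ T' = ⊥ := by
  by_cases hb : T ⊓ T' = ⊥
  · exact Or.inr hb
  · left
    have hc := h.hmin (T ⊓ T') (inf_le_left.trans h.hTN) hb
      (fun n hn s hs => ⟨h.hnorm n hn s hs.1, h'.hnorm n hn s hs.2⟩)
    have h1 : T ⊓ T' = T := Subgroup.eq_of_le_of_card_ge inf_le_left hc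
    have h2 : T ≤ T' := h1 ▸ inf_le_right
    exact Subgroup.eq_of_le_of_card_ge h2 (by rw [hcard])

theorem Ctx.commute_of_disjoint (h : Ctx N T) (h' : Ctx N T') (hd : T ⊓ T' = ⊥)
    {t s : G} (ht : t ∈ T) (hs : s ∈ T') : t * s = s * t := by
  have h1 : t * s * t⁻¹ * s⁻¹ ∈ T ⊓ T' := by
    constructor
    · have := h.hnorm s (h'.hTN hs) t⁻¹ (T.inv_mem ht)
      have e : t * s * t⁻¹ * s⁻¹ = t * (s * t⁻¹ * s⁻¹) := by group
      rw [e]; exact T.mul_mem ht this
    · have := h'.hnorm t (h.hTN ht) s hs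
      exact T'.mul_mem this (T'.inv_mem hs)
  rw [hd, Subgroup.mem_bot] at h1
  calc t * s = (t * s * t⁻¹ * s⁻¹) * (s * t) := by group
    _ = s * t := by rw [h1, one_mul]

theorem Ctx.normalClosure_eq [N.Normal] (h : Ctx N T)
    (hminN : ∀ M : Subgroup G, M.Normal → M ≤ N → M = ⊥ ∨ M = N) :
    Subgroup.normalClosure (T : Set G) = N := by
  rcases hminN _ inferInstance (Subgroup.normalClosure_le_normal h.hTN) with h0 | h0
  · exfalso
    apply h.hT1
    rw [eq_bot_iff, ← h0]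
    exact Subgroup.le_normalClosure
  · exact h0

/-- every element of a `G`-conjugate of an element of `T` lies in `cj g T` for some `g` -/
theorem mem_conjugatesOfSet_cj {a : G} (ha : a ∈ Group.conjugatesOfSet (T : Set G)) :
    ∃ g : G, a ∈ cj g T := by
  rw [Group.mem_conjugatesOfSet_iff] at ha
  obtain ⟨t, ht, hta⟩ := ha
  obtain ⟨c, hc⟩ := isConj_iff.1 hta
  exact ⟨c, hc ▸ conj_mem_cj ht⟩

theorem Ctx.center_trivial [Finite G] [N.Normal] (h : Ctx N T)
    (hminN : ∀ M : Subgroup G, M.Normal → M ≤ N → M = ⊥ ∨ M = N)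
    (hna : ¬ ∀ a ∈ N, ∀ b ∈ N, a * b = b * a) {z : G} (hz : z ∈ T)
    (hzc : ∀ t ∈ T, z * t = t * z) : z = 1 := by
  by_contra hz1
  set Z : Subgroup G := T ⊓ Subgroup.centralizer (T : Set G) with hZ
  have hzZ : z ∈ Z := ⟨hz, by
    show z ∈ Subgroup.centralizer (T : Set G)
    rw [Subgroup.mem_centralizer_iff]
    intro t ht
    exact (hzc t ht).symm⟩
  have hZ1 : Z ≠ ⊥ := by
    intro hb
    rw [hb, Subgroup.mem_bot] at hzZ
    exact hz1 hzZ
  have hZn : ∀ n ∈ N, ∀ s ∈ Z, n * s * n⁻¹ ∈ Z := by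
    intro n hn s hs
    refine ⟨h.hnorm n hn s hs.1, ?_⟩
    show n * s * n⁻¹ ∈ Subgroup.centralizer (T : Set G)
    rw [Subgroup.mem_centralizer_iff]
    intro t ht
    have ht' : n⁻¹ * t * n ∈ T := by
      have := h.hnorm n⁻¹ (N.inv_mem hn) t ht
      simpa using this
    have hs2 : s ∈ Subgroup.centralizer (T : Set G) := hs.2
    have hcomm := (Subgroup.mem_centralizer_iff.1 hs2) _ ht'
    calc t * (n * s * n⁻¹) = n * ((n⁻¹ * t * n) * s) * n⁻¹ := by group
      _ = n * (s * (n⁻¹ * t * n)) * n⁻¹ := by rw [hcomm]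
      _ = n * s * n⁻¹ * t := by group
  have hc := h.hmin Z (inf_le_left.trans h.hTN) hZ1 hZn
  have hZT : Z = T := Subgroup.eq_of_le_of_card_ge inf_le_left hc
  have hTab : ∀ a ∈ T, ∀ b ∈ T, a * b = b * a := by
    intro a ha b hb
    have : a ∈ Z := hZT ▸ ha
    have h2 : a ∈ Subgroup.centralizer (T : Set G) := this.2
    exact ((Subgroup.mem_centralizer_iff.1 h2) b hb).symm
  -- all conjugates commute
  have hcomm : ∀ a ∈ Group.conjugatesOfSet (T : Set G), ∀ b ∈ Group.conjugatesOfSet (T : Set G),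
      a * b = b * a := by
    intro a ha b hb
    obtain ⟨g, hag⟩ := mem_conjugatesOfSet_cj ha
    obtain ⟨g', hbg⟩ := mem_conjugatesOfSet_cj hb
    rcases (h.conj g).eq_or_disjoint (h.conj g') (by rw [card_cj, card_cj]) with he | hd
    · rw [← he] at hbg
      rw [mem_cj] at hag hbg
      have := hTab _ hag _ hbg
      calc a * b = g * ((g⁻¹ * a * g) * (g⁻¹ * b * g)) * g⁻¹ := by group
        _ = g * ((g⁻¹ * b * g) * (g⁻¹ * a * g)) * g⁻¹ := by rw [this]
        _ = b * a := by group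
    · exact (h.conj g).commute_of_disjoint (h.conj g') hd hag hbg
  apply hna
  intro a ha b hb
  rw [← h.normalClosure_eq hminN] at ha hb
  have hI := Subgroup.isMulCommutative_closure hcomm
  have := hI.is_comm.comm (⟨a, ha⟩ : Subgroup.closure (Group.conjugatesOfSet (T : Set G))) ⟨b, hb⟩
  exact congrArg Subtype.val this


/-- the centralizer of `T` in `N` -/
def cen (N T : Subgroup G) : Subgroup G := N ⊓ Subgroup.centralizer (T : Set G)

theorem mem_cen {c : G} : c ∈ cen N T ↔ c ∈ N ∧ ∀ t ∈ T, t * c = c * t := by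
  unfold cen
  rw [Subgroup.mem_inf, Subgroup.mem_centralizer_iff]
  rfl

theorem Ctx.cj_le_cen [Finite G] [N.Normal] (h : Ctx N T) {g : G} (hg : cj g T ≠ T) :
    cj g T ≤ cen N T := by
  intro a ha
  rw [mem_cen]
  refine ⟨(h.conj g).hTN ha, fun t ht => ?_⟩
  rcases h.eq_or_disjoint (h.conj g) (card_cj g T).symm with he | hd
  · exact absurd he.symm hg
  · exact h.commute_of_disjoint (h.conj g) hd ht ha

theorem Ctx.inf_cen [Finite G] [N.Normal] (h : Ctx N T)
    (hminN : ∀ M : Subgroup G, M.Normal → M ≤ N → M = ⊥ ∨ M = N)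
    (hna : ¬ ∀ a ∈ N, ∀ b ∈ N, a * b = b * a) {z : G} (hz : z ∈ T) (hzc : z ∈ cen N T) : z = 1 :=
  h.center_trivial hminN hna hz (fun t ht => ((mem_cen.1 hzc).2 t ht).symm)

theorem Ctx.cen_norm (h : Ctx N T) {n c : G} (hn : n ∈ N) (hc : c ∈ cen N T) :
    n * c * n⁻¹ ∈ cen N T := by
  rw [mem_cen] at hc ⊢
  refine ⟨N.mul_mem (N.mul_mem hn hc.1) (N.inv_mem hn), fun t ht => ?_⟩
  have ht' : n⁻¹ * t * n ∈ T := by
    have := h.hnorm n⁻¹ (N.inv_mem hn) t ht
    simpa using this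
  have hcomm := hc.2 _ ht'
  calc t * (n * c * n⁻¹) = n * ((n⁻¹ * t * n) * c) * n⁻¹ := by group
    _ = n * (c * (n⁻¹ * t * n)) * n⁻¹ := by rw [hcomm]
    _ = n * c * n⁻¹ * t := by group

/-- if `h` normalizes `T` (and `N`), it normalizes `cen N T` -/
theorem cen_conj_of_cj_eq [N.Normal] {k c : G} (hk : cj k T = T) (hc : c ∈ cen N T) :
    k * c * k⁻¹ ∈ cen N T := by
  rw [mem_cen] at hc ⊢
  refine ⟨‹N.Normal›.conj_mem c hc.1 k, fun t ht => ?_⟩
  have ht' : k⁻¹ * t * k ∈ T := by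
    rw [← hk] at ht
    exact mem_cj.1 ht
  have hcomm := hc.2 _ ht'
  calc t * (k * c * k⁻¹) = k * ((k⁻¹ * t * k) * c) * k⁻¹ := by group
    _ = k * (c * (k⁻¹ * t * k)) * k⁻¹ := by rw [hcomm]
    _ = k * c * k⁻¹ * t := by group

theorem Ctx.decomp [Finite G] [N.Normal] (h : Ctx N T)
    (hminN : ∀ M : Subgroup G, M.Normal → M ≤ N → M = ⊥ ∨ M = N) {u : G} (hu : u ∈ N) :
    ∃ t ∈ T, ∃ c ∈ cen N T, u = t * c := by
  rw [← h.normalClosure_eq hminN] at hu
  unfold Subgroup.normalClosure at hu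
  induction hu using Subgroup.closure_induction with
  | mem a ha =>
    obtain ⟨g, hag⟩ := mem_conjugatesOfSet_cj ha
    by_cases hg : cj g T = T
    · exact ⟨a, hg ▸ hag, 1, (cen N T).one_mem, (mul_one a).symm⟩
    · exact ⟨1, T.one_mem, a, h.cj_le_cen hg hag, (one_mul a).symm⟩
  | one => exact ⟨1, T.one_mem, 1, (cen N T).one_mem, (mul_one 1).symm⟩
  | mul a b _ _ iha ihb =>
    obtain ⟨t, ht, c, hc, rfl⟩ := iha
    obtain ⟨t', ht', c', hc', rfl⟩ := ihb
    refine ⟨t * t', T.mul_mem ht ht', c * c', (cen N T).mul_mem hc hc', ?_⟩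
    have := (mem_cen.1 hc).2 t' ht'
    calc t * c * (t' * c') = t * (c * t') * c' := by group
      _ = t * (t' * c) * c' := by rw [this]
      _ = t * t' * (c * c') := by group
  | inv a _ iha =>
    obtain ⟨t, ht, c, hc, rfl⟩ := iha
    refine ⟨t⁻¹, T.inv_mem ht, c⁻¹, (cen N T).inv_mem hc, ?_⟩
    have := (mem_cen.1 hc).2 t ht
    calc (t * c)⁻¹ = (c * t)⁻¹ := by rw [this]
      _ = t⁻¹ * c⁻¹ := by group


/-- the projection to `T` of `N ⊓ S` -/
def proj (N T S : Subgroup G) : Subgroup G where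
  carrier := {t | t ∈ T ∧ ∃ c ∈ cen N T, t * c ∈ S}
  one_mem' := ⟨T.one_mem, 1, (cen N T).one_mem, by rw [mul_one]; exact S.one_mem⟩
  mul_mem' := by
    rintro a b ⟨ha, c, hc, hac⟩ ⟨hb, c', hc', hbc⟩
    refine ⟨T.mul_mem ha hb, c * c', (cen N T).mul_mem hc hc', ?_⟩
    have := (mem_cen.1 hc).2 b hb
    have e : a * b * (c * c') = (a * c) * (b * c') := by
      calc a * b * (c * c') = a * (b * c) * c' := by group
        _ = a * (c * b) * c' := by rw [this]
        _ = (a * c) * (b * c') := by group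
    rw [e]; exact S.mul_mem hac hbc
  inv_mem' := by
    rintro a ⟨ha, c, hc, hac⟩
    refine ⟨T.inv_mem ha, c⁻¹, (cen N T).inv_mem hc, ?_⟩
    have := (mem_cen.1 hc).2 a ha
    have e : a⁻¹ * c⁻¹ = (a * c)⁻¹ := by
      calc a⁻¹ * c⁻¹ = (c * a)⁻¹ := by group
        _ = (a * c)⁻¹ := by rw [this]
    rw [e]; exact S.inv_mem hac

theorem mem_proj {S : Subgroup G} {t : G} : t ∈ proj N T S ↔ t ∈ T ∧ ∃ c ∈ cen N T, t * c ∈ S := Iff.rfl


/-- a subgroup family has a member of minimal order -/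
theorem exists_min_card (P : Subgroup G → Prop) (h : ∃ S, P S) :
    ∃ S, P S ∧ ∀ S', P S' → Nat.card S ≤ Nat.card S' := by
  classical
  obtain ⟨S, hS⟩ := h
  have hex : ∃ k, ∃ S, P S ∧ Nat.card S = k := ⟨Nat.card S, S, hS, rfl⟩
  obtain ⟨S0, hS0, hk⟩ := Nat.find_spec hex
  refine ⟨S0, hS0, fun S' hS' => ?_⟩
  rw [hk]; exact Nat.find_min' hex ⟨S', hS', rfl⟩

/-- a minimal normal subgroup exists -/
theorem exists_minNormal [Finite G] [Nontrivial G] :
    ∃ N : Subgroup G, N.Normal ∧ N ≠ ⊥ ∧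
      ∀ M : Subgroup G, M.Normal → M ≤ N → M = ⊥ ∨ M = N := by
  obtain ⟨N, ⟨hN, hN1⟩, hmin⟩ := exists_min_card (fun S : Subgroup G => S.Normal ∧ S ≠ ⊥)
    ⟨⊤, inferInstance, top_ne_bot⟩
  refine ⟨N, hN, hN1, fun M hM hMN => ?_⟩
  by_cases hM1 : M = ⊥
  · exact Or.inl hM1
  · exact Or.inr (Subgroup.eq_of_le_of_card_ge hMN (hmin M ⟨hM, hM1⟩))

/-- a `Ctx` exists below any nontrivial normal subgroup -/
theorem exists_ctx (N : Subgroup G) [N.Normal] (hN : N ≠ ⊥) : ∃ T, Ctx N T := by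
  obtain ⟨T, ⟨h1, h2, h3⟩, hmin⟩ := exists_min_card
    (fun S : Subgroup G => S ≤ N ∧ S ≠ ⊥ ∧ ∀ n ∈ N, ∀ s ∈ S, n * s * n⁻¹ ∈ S)
    ⟨N, le_rfl, hN, fun n hn s hs => N.mul_mem (N.mul_mem hn hs) (N.inv_mem hn)⟩
  exact ⟨T, h1, h2, h3, fun S hS hS1 hSn => hmin S ⟨hS, hS1, hSn⟩⟩

/-- `Ctx N N` makes `N` a simple group -/
theorem Ctx.isSimpleGroup [Finite G] (h : Ctx N N) : IsSimpleGroup N := by
  haveI : Nontrivial N := (Subgroup.nontrivial_iff_ne_bot N).2 h.hT1
  refine ⟨fun H hH => ?_⟩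
  by_cases hH1 : H = ⊥
  · exact Or.inl hH1
  · right
    have hle : H.map N.subtype ≤ N := Subgroup.map_subtype_le H
    have hne : H.map N.subtype ≠ ⊥ := by
      intro hb
      apply hH1
      rw [Subgroup.map_eq_bot_iff_of_injective _ N.subtype_injective] at hb
      exact hb
    have hinv : ∀ n ∈ N, ∀ s ∈ H.map N.subtype, n * s * n⁻¹ ∈ H.map N.subtype := by
      rintro n hn s ⟨s', hs', rfl⟩
      exact ⟨⟨n, hn⟩ * s' * ⟨n, hn⟩⁻¹, hH.conj_mem s' hs' ⟨n, hn⟩, by simp⟩
    have hc := h.hmin _ hle hne hinv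
    have heq : H.map N.subtype = N := Subgroup.eq_of_le_of_card_ge hle hc
    rw [eq_top_iff]
    intro x _
    have hx : (x : G) ∈ H.map N.subtype := by rw [heq]; exact x.2
    obtain ⟨y, hy, hyx⟩ := hx
    have : y = x := Subtype.ext hyx
    exact this ▸ hy

end ctx

section caseA
variable {G Ω : Type*} [Group G] [MulAction G Ω] [Finite G]

/-- a nontrivial finite group with trivial centre has elements of two different prime orders -/
theorem exists_two_prime_orders (T : Subgroup G) (hT1 : T ≠ ⊥)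
    (hZ : ∀ z ∈ T, (∀ t ∈ T, z * t = t * z) → z = 1) :
    ∃ x ∈ T, ∃ y ∈ T, x ≠ 1 ∧ y ≠ 1 ∧ orderOf x ≠ orderOf y := by
  haveI : Nontrivial T := (Subgroup.nontrivial_iff_ne_bot T).2 hT1
  have hcard : 1 < Nat.card T := Finite.one_lt_card
  obtain ⟨p, hp, hpd⟩ := Nat.exists_prime_and_dvd (show Nat.card T ≠ 1 by omega)
  haveI : Fact p.Prime := ⟨hp⟩
  -- T is not a p-group
  have hnotp : ¬ IsPGroup p T := by
    intro hpg
    haveI := hpg.center_nontrivial
    obtain ⟨z, hz⟩ := exists_ne (1 : Subgroup.center T)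
    apply hz
    apply Subtype.ext
    apply Subtype.ext
    apply hZ _ (z : T).2
    intro t ht
    have := Subgroup.mem_center_iff.1 z.2 ⟨t, ht⟩
    exact (congrArg Subtype.val this).symm
  -- so another prime divides the order
  obtain ⟨q, hq, hqd, hqp⟩ : ∃ q : ℕ, q.Prime ∧ q ∣ Nat.card T ∧ q ≠ p := by
    by_contra hcon
    push Not at hcon
    apply hnotp
    have := Nat.eq_prime_pow_of_unique_prime_dvd (n := Nat.card T) (p := p) (by omega)
      (fun {d} hd hdd => hcon d hd hdd)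
    exact IsPGroup.of_card this
  haveI : Fact q.Prime := ⟨hq⟩
  obtain ⟨x, hx⟩ := exists_prime_orderOf_dvd_card' (G := T) p hpd
  obtain ⟨y, hy⟩ := exists_prime_orderOf_dvd_card' (G := T) q hqd
  refine ⟨x, x.2, y, y.2, ?_, ?_, ?_⟩
  · intro h
    have : x = 1 := Subtype.ext h
    rw [this, orderOf_one] at hx
    exact hp.one_lt.ne hx
  · intro h
    have : y = 1 := Subtype.ext h
    rw [this, orderOf_one] at hy
    exact hq.one_lt.ne hy
  · rw [Subgroup.orderOf_coe, Subgroup.orderOf_coe, hx, hy]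
    exact fun h => hqp h.symm

theorem not_conj_of_orderOf_ne {x y : G} (h : orderOf x ≠ orderOf y) : ¬ ∃ g : G, g * x * g⁻¹ = y := by
  rintro ⟨g, rfl⟩
  apply h
  have := (MulAut.conj g).orderOf_eq x
  rw [MulAut.conj_apply] at this
  exact this.symm

/-- case (A): `T` acts semiregularly -/
theorem case_A (T : Subgroup G) (hT1 : T ≠ ⊥)
    (hZ : ∀ z ∈ T, (∀ t ∈ T, z * t = t * z) → z = 1)
    (hsr : ∀ ω : Ω, T ⊓ stabilizer G ω = ⊥) :
    ∃ x y : G, IsDer Ω x ∧ IsDer Ω y ∧ ¬ ∃ g : G, g * x * g⁻¹ = y := by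
  obtain ⟨x, hx, y, hy, hx1, hy1, hxy⟩ := exists_two_prime_orders T hT1 hZ
  refine ⟨x, y, ?_, ?_, not_conj_of_orderOf_ne hxy⟩
  · intro ω hω
    apply hx1
    have : x ∈ T ⊓ stabilizer G ω := ⟨hx, hω⟩
    rwa [hsr ω, Subgroup.mem_bot] at this
  · intro ω hω
    apply hy1
    have : y ∈ T ⊓ stabilizer G ω := ⟨hy, hω⟩
    rwa [hsr ω, Subgroup.mem_bot] at this

end caseA

section caseB
variable {G Ω : Type*} [Group G] [MulAction G Ω] [Finite G] [FaithfulSMul G Ω]
variable {N T : Subgroup G}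

/-- `T` is not contained in a point stabilizer -/
theorem Ctx.not_le_stab [N.Normal] (h : Ctx N T)
    (htr : ∀ x y : Ω, ∃ n ∈ N, n • x = y) (α : Ω) : ¬ T ≤ stabilizer G α := by
  intro hle
  apply h.hT1
  rw [Subgroup.eq_bot_iff_forall]
  intro t ht
  apply FaithfulSMul.eq_of_smul_eq_smul (α := Ω)
  intro ω
  obtain ⟨n, hn, rfl⟩ := htr α ω
  rw [one_smul]
  have h1 : n⁻¹ * t * n ∈ T := by
    have := h.hnorm n⁻¹ (N.inv_mem hn) t ht
    simpa using this
  have h2 := hle h1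
  rw [mem_stabilizer_iff, mul_smul, mul_smul] at h2
  exact inv_smul_eq_iff.1 h2

/-- the projection of `N ⊓ stabilizer` to `T` is a proper subgroup of `T` when `T` meets the
stabilizer nontrivially -/
theorem Ctx.proj_ne [N.Normal] (h : Ctx N T)
    (hminN : ∀ M : Subgroup G, M.Normal → M ≤ N → M = ⊥ ∨ M = N)
    (htr : ∀ x y : Ω, ∃ n ∈ N, n • x = y) (α : Ω) (hα : T ⊓ stabilizer G α ≠ ⊥) :
    ¬ T ≤ proj N T (stabilizer G α) := by
  intro hle
  apply h.not_le_stab htr α
  set P : Subgroup G := T ⊓ stabilizer G α with hP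
  have hPn : ∀ n ∈ N, ∀ s ∈ P, n * s * n⁻¹ ∈ P := by
    intro n hn s hs
    obtain ⟨t, ht, c, hc, rfl⟩ := h.decomp hminN hn
    obtain ⟨_, c', hc', htc'⟩ := mem_proj.1 (hle ht)
    have e1 : t * c * s * (t * c)⁻¹ = t * s * t⁻¹ := by
      have := (mem_cen.1 hc).2 s hs.1
      calc t * c * s * (t * c)⁻¹ = t * (c * s) * c⁻¹ * t⁻¹ := by group
        _ = t * (s * c) * c⁻¹ * t⁻¹ := by rw [this]
        _ = t * s * t⁻¹ := by group
    have e2 : t * c' * s * (t * c')⁻¹ = t * s * t⁻¹ := by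
      have := (mem_cen.1 hc').2 s hs.1
      calc t * c' * s * (t * c')⁻¹ = t * (c' * s) * c'⁻¹ * t⁻¹ := by group
        _ = t * (s * c') * c'⁻¹ * t⁻¹ := by rw [this]
        _ = t * s * t⁻¹ := by group
    rw [e1]
    refine ⟨?_, ?_⟩
    · have := h.hnorm t (h.hTN ht) s hs.1
      exact this
    · rw [← e2]
      exact (stabilizer G α).mul_mem ((stabilizer G α).mul_mem htc' hs.2)
        ((stabilizer G α).inv_mem htc')
  have hc := h.hmin P (inf_le_left.trans h.hTN) hα hPn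
  have hPT : P = T := Subgroup.eq_of_le_of_card_ge inf_le_left hc
  rw [← hPT]
  exact inf_le_right

/-- case (B): `T` is not normal in `G` and meets a point stabilizer nontrivially -/
theorem case_B [N.Normal] (h : Ctx N T)
    (hminN : ∀ M : Subgroup G, M.Normal → M ≤ N → M = ⊥ ∨ M = N)
    (hna : ¬ ∀ a ∈ N, ∀ b ∈ N, a * b = b * a)
    (htr : ∀ x y : Ω, ∃ n ∈ N, n • x = y) (α : Ω) (hα : T ⊓ stabilizer G α ≠ ⊥)
    {g₀ : G} (hg₀ : cj g₀ T ≠ T) :
    ∃ x y : G, IsDer Ω x ∧ IsDer Ω y ∧ ¬ ∃ g : G, g * x * g⁻¹ = y := by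
  set Q := proj N T (stabilizer G α) with hQ
  have hQne := h.proj_ne hminN htr α hα
  -- pick x in T with no T-conjugate in Q
  obtain ⟨x, hxT, hxQ⟩ : ∃ x ∈ T, ∀ t ∈ T, t * x * t⁻¹ ∉ Q := by
    by_contra hcon
    push Not at hcon
    apply hQne
    have hcov : ∀ x : T, ∃ g : T, g * x * g⁻¹ ∈ Q.subgroupOf T := by
      intro x
      obtain ⟨t, ht, htQ⟩ := hcon x.1 x.2
      exact ⟨⟨t, ht⟩, by rw [Subgroup.mem_subgroupOf]; simpa using htQ⟩
    have htop := Cfsg.Agent.Helper67.eq_top_of_forall_exists_conj_mem _ hcov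
    intro t ht
    have : (⟨t, ht⟩ : T) ∈ Q.subgroupOf T := by rw [htop]; trivial
    rwa [Subgroup.mem_subgroupOf] at this
  -- any x * c with c ∈ cen is a derangement
  have hder : ∀ c' ∈ cen N T, IsDer Ω (x * c') := by
    intro c' hc' ω hω
    obtain ⟨n, hn, rfl⟩ := htr α ω
    have h1 : n⁻¹ * (x * c') * n ∈ stabilizer G α := by
      rw [mem_stabilizer_iff, mul_smul, mul_smul, hω, inv_smul_smul]
    obtain ⟨t, ht, c, hc, hntc⟩ := h.decomp hminN (N.inv_mem hn)
    have hn' : n = (t * c)⁻¹ := by rw [← hntc, inv_inv]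
    have e : n⁻¹ * (x * c') * n = (t * x * t⁻¹) * (c * c' * c⁻¹) := by
      rw [hntc, hn']
      have hcx := (mem_cen.1 hc).2 x hxT
      have hct : t⁻¹ * (c * c' * c⁻¹) = (c * c' * c⁻¹) * t⁻¹ :=
        (mem_cen.1 ((cen N T).mul_mem ((cen N T).mul_mem hc hc') ((cen N T).inv_mem hc))).2 _
          (T.inv_mem ht)
      calc t * c * (x * c') * (t * c)⁻¹ = t * (c * x) * (c' * c⁻¹ * t⁻¹) := by group
        _ = t * (x * c) * (c' * c⁻¹ * t⁻¹) := by rw [hcx]
        _ = t * x * ((c * c' * c⁻¹) * t⁻¹) := by group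
        _ = t * x * (t⁻¹ * (c * c' * c⁻¹)) := by rw [hct]
        _ = (t * x * t⁻¹) * (c * c' * c⁻¹) := by group
    rw [e] at h1
    apply hxQ t ht
    rw [hQ, mem_proj]
    refine ⟨?_, c * c' * c⁻¹, (cen N T).mul_mem ((cen N T).mul_mem hc hc') ((cen N T).inv_mem hc), h1⟩
    exact h.hnorm t (h.hTN ht) x hxT
  have hx1 : x ≠ 1 := by
    rintro rfl
    apply hxQ 1 T.one_mem
    simp only [mul_one, inv_one]
    exact Q.one_mem
  have hx'C : g₀ * x * g₀⁻¹ ∈ cen N T := h.cj_le_cen hg₀ (conj_mem_cj hxT)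
  refine ⟨x, x * (g₀ * x * g₀⁻¹), ?_, hder _ hx'C, ?_⟩
  · have := hder 1 (cen N T).one_mem
    rwa [mul_one] at this
  · rintro ⟨k, hk⟩
    by_cases hkT : cj k T = T
    · -- y ∈ T, so x' ∈ T ⊓ cen = 1
      have hyT : x * (g₀ * x * g₀⁻¹) ∈ T := by
        rw [← hk, ← hkT]
        exact conj_mem_cj hxT
      have hx'T : g₀ * x * g₀⁻¹ ∈ T := by
        have := T.mul_mem (T.inv_mem hxT) hyT
        rwa [inv_mul_cancel_left] at this
      have := h.inf_cen hminN hna hx'T hx'C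
      apply hx1
      have e : x = g₀⁻¹ * (g₀ * x * g₀⁻¹) * g₀ := by group
      rw [e, this]; group
    · -- y ∈ cen, so x ∈ T ⊓ cen = 1
      have hyC : x * (g₀ * x * g₀⁻¹) ∈ cen N T := by
        rw [← hk]
        exact h.cj_le_cen hkT (conj_mem_cj hxT)
      have hxC : x ∈ cen N T := by
        have := (cen N T).mul_mem hyC ((cen N T).inv_mem hx'C)
        rwa [mul_inv_cancel_right] at this
      exact hx1 (h.inf_cen hminN hna hxT hxC)

end caseB

section simple
variable {G Ω : Type*} [Group G] [MulAction G Ω] [Finite G] [FaithfulSMul G Ω]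
variable {N T : Subgroup G}

/-- the almost simple case is excluded by `hnas` -/
theorem simple_case (hprim : IsPreprimitive G Ω) [N.Normal] (h : Ctx N T)
    (hminN : ∀ M : Subgroup G, M.Normal → M ≤ N → M = ⊥ ∨ M = N)
    (hna : ¬ ∀ a ∈ N, ∀ b ∈ N, a * b = b * a)
    (hall : ∀ g : G, cj g T = T) {a b : Ω} (hab : a ≠ b)
    (hnas : ¬ ∃ T : Subgroup G, T.Normal ∧ IsSimpleGroup T ∧ ¬ IsMulCommutative T ∧
      Subgroup.centralizer (T : Set G) = ⊥)
    (hconj : ∀ x y : G, IsDer Ω x → IsDer Ω y → ∃ g : G, g * x * g⁻¹ = y) : False := by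
  haveI : Nonempty Ω := ⟨a⟩
  have hTnorm : T.Normal := ⟨fun t ht g => by
    have := conj_mem_cj (g := g) ht
    rwa [hall g] at this⟩
  have hTN : T = N := by
    rcases hminN T hTnorm h.hTN with h0 | h0
    · exact absurd h0 h.hT1
    · exact h0
  subst hTN
  have hsimple := h.isSimpleGroup
  have hnc : ¬ IsMulCommutative T := by
    intro hc
    apply hna
    intro a ha b hb
    have := hc.is_comm.comm (⟨a, ha⟩ : T) ⟨b, hb⟩
    exact congrArg Subtype.val this
  have hC1 : Subgroup.centralizer (T : Set G) ≠ ⊥ := fun hC => hnas ⟨T, inferInstance, hsimple, hnc, hC⟩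
  have htrC := Cfsg.Agent.Helper58.normal_trans hprim (Subgroup.centralizer (T : Set G)) hC1
  have htrN := Cfsg.Agent.Helper58.normal_trans hprim T h.hT1
  obtain ⟨c, hc, hcd⟩ := exists_isDer_of_trans _ htrC hab
  obtain ⟨d, hd, hdd⟩ := exists_isDer_of_trans _ htrN hab
  obtain ⟨g, hg⟩ := hconj d c hdd hcd
  have hcT : c ∈ T := hg ▸ ‹T.Normal›.conj_mem d hd g
  apply hcd.ne_one
  apply h.center_trivial hminN hna hcT
  intro t ht
  exact (Subgroup.mem_centralizer_iff.1 hc t ht).symm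

end simple

section convert
variable {G Ω : Type*} [Group G] [MulAction G Ω]

theorem card_classes_eq_one_iff :
    Nat.card {c : ConjClasses G // ∃ g : G, ConjClasses.mk g = c ∧ ∀ ω : Ω, g • ω ≠ ω} = 1 ↔
      (∃ x : G, IsDer Ω x) ∧ ∀ x y : G, IsDer Ω x → IsDer Ω y → ∃ g : G, g * x * g⁻¹ = y := by
  rw [Nat.card_eq_one_iff_unique]
  constructor
  · rintro ⟨hs, ⟨⟨c, g, hg, hgd⟩⟩⟩
    refine ⟨⟨g, hgd⟩, fun x y hx hy => ?_⟩
    have := hs.elim ⟨ConjClasses.mk x, x, rfl, hx⟩ ⟨ConjClasses.mk y, y, rfl, hy⟩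
    have h2 : ConjClasses.mk x = ConjClasses.mk y := congrArg Subtype.val this
    rw [ConjClasses.mk_eq_mk_iff_isConj] at h2
    exact isConj_iff.1 h2
  · rintro ⟨⟨x, hx⟩, hall⟩
    refine ⟨⟨?_⟩, ⟨⟨ConjClasses.mk x, x, rfl, hx⟩⟩⟩
    rintro ⟨c, g, rfl, hgd⟩ ⟨c', g', rfl, hgd'⟩
    apply Subtype.ext
    show ConjClasses.mk g = ConjClasses.mk g'
    rw [ConjClasses.mk_eq_mk_iff_isConj]
    exact isConj_iff.2 (hall g g' hgd hgd')

theorem two_trans_iff :
    IsMultiplyPretransitive G Ω 2 ↔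
      ∀ a b c d : Ω, a ≠ b → c ≠ d → ∃ g : G, g • a = c ∧ g • b = d := by
  rw [is_two_pretransitive_iff]

end convert

end Cfsg.Agent.Helper58.UDer
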