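import Mathlib
import Cfsg.Agent.Helper58.UniqueDer

/-!
# Extremely primitive groups: basic lemmas (helper58)
-/

set_option autoImplicit false

namespace Cfsg.Agent.Helper58.EP

open MulAction Cfsg.Agent.Helper58.UDer

section basic
variable {G Ω : Type*} [Group G] [MulAction G Ω]

/-- extreme primitivity makes two-point stabilizers maximal in point stabilizers -/
theorem ep_coatom
    (hep : ∀ (α : Ω) (ω : Ω), IsPreprimitive (stabilizer G α) (orbit (stabilizer G α) ω))
    (α β : Ω) {h : G} (hh : h ∈ stabilizer G α) (hβ : h • β ≠ β) :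
    IsCoatom (stabilizer (stabilizer G α) β) := by
  have hprim := hep α β
  let x₀ : orbit (stabilizer G α) β := ⟨β, mem_orbit_self β⟩
  let x₁ : orbit (stabilizer G α) β := ⟨h • β, ⟨⟨h, hh⟩, rfl⟩⟩
  have : Nontrivial (orbit (stabilizer G α) β) := ⟨⟨x₁, x₀, fun hx => hβ (congrArg Subtype.val hx)⟩⟩
  have h1 := (isCoatom_stabilizer_iff_preprimitive (G := stabilizer G α) x₀).2 hprim
  have h2 : stabilizer (stabilizer G α) x₀ = stabilizer (stabilizer G α) β := by
    ext k
    rw [mem_stabilizer_iff, mem_stabilizer_iff, Subtype.ext_iff, orbit.coe_smul]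
  rwa [h2] at h1

/-- the `G`-level form of the maximality of two-point stabilizers -/
theorem ep_max
    (hep : ∀ (α : Ω) (ω : Ω), IsPreprimitive (stabilizer G α) (orbit (stabilizer G α) ω))
    (α β : Ω) (K : Subgroup G) (h1 : stabilizer G α ⊓ stabilizer G β ≤ K)
    (h2 : K ≤ stabilizer G α) : K = stabilizer G α ⊓ stabilizer G β ∨ K = stabilizer G α := by
  by_cases hfix : ∀ h ∈ stabilizer G α, h • β = β
  · right
    apply le_antisymm h2
    intro h hh
    exact h1 ⟨hh, hfix h hh⟩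
  · push Not at hfix
    obtain ⟨h, hh, hβ⟩ := hfix
    have hco := ep_coatom hep α β hh hβ
    have hle : stabilizer (stabilizer G α) β ≤ K.subgroupOf (stabilizer G α) := by
      intro k hk
      rw [Subgroup.mem_subgroupOf]
      apply h1
      rw [mem_stabilizer_iff] at hk
      exact ⟨k.2, hk⟩
    rcases hco.le_iff.1 hle with h3 | h3
    · right
      apply le_antisymm h2
      rw [← Subgroup.subgroupOf_eq_top]
      exact h3
    · left
      apply le_antisymm
      · intro k hk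
        refine ⟨h2 hk, ?_⟩
        have : (⟨k, h2 hk⟩ : stabilizer G α) ∈ K.subgroupOf (stabilizer G α) := by
          rw [Subgroup.mem_subgroupOf]; exact hk
        rw [h3, mem_stabilizer_iff] at this
        exact this
      · exact h1

/-- a subgroup `U ≤ G_α` normalized by `G_α` either fixes `β` or is transitive on the
`G_α`-orbit of `β` -/
theorem ep_orbit
    (hep : ∀ (α : Ω) (ω : Ω), IsPreprimitive (stabilizer G α) (orbit (stabilizer G α) ω))
    (α β : Ω) (U : Subgroup G) (hU : U ≤ stabilizer G α)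
    (hUn : ∀ h ∈ stabilizer G α, ∀ u ∈ U, h * u * h⁻¹ ∈ U) :
    (∀ u ∈ U, u • β = β) ∨ (∀ h ∈ stabilizer G α, ∃ u ∈ U, h • β = u • β) := by
  let K : Subgroup G :=
    { carrier := {h | h ∈ stabilizer G α ∧ ∃ u ∈ U, h • β = u • β}
      one_mem' := ⟨one_mem _, 1, one_mem _, rfl⟩
      mul_mem' := by
        rintro a b ⟨ha, u, hu, hau⟩ ⟨hb, v, hv, hbv⟩
        refine ⟨mul_mem ha hb, a * v * a⁻¹ * u, mul_mem (hUn a ha v hv) hu, ?_⟩
        rw [mul_smul, hbv, mul_smul, ← hau, mul_smul, mul_smul, inv_smul_smul]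
      inv_mem' := by
        rintro a ⟨ha, u, hu, hau⟩
        refine ⟨inv_mem ha, a⁻¹ * u⁻¹ * a⁻¹⁻¹, hUn a⁻¹ (inv_mem ha) u⁻¹ (inv_mem hu), ?_⟩
        rw [inv_inv, mul_smul, mul_smul, hau, inv_smul_smul] }
  have h1 : stabilizer G α ⊓ stabilizer G β ≤ K := by
    rintro h ⟨hα, hβ⟩
    refine ⟨hα, 1, one_mem _, ?_⟩
    rw [one_smul]; exact hβ
  have h2 : K ≤ stabilizer G α := fun h hh => hh.1
  rcases ep_max hep α β K h1 h2 with h3 | h3
  · left
    intro u hu
    have : u ∈ K := ⟨hU hu, u, hu, rfl⟩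
    rw [h3] at this
    exact this.2
  · right
    intro h hh
    have : h ∈ K := h3 ▸ hh
    exact this.2

end basic

section prim
variable {G Ω : Type*} [Group G] [MulAction G Ω] [Finite G] [FaithfulSMul G Ω]

omit [Finite G] in
/-- a normal subgroup contained in a point stabilizer of a transitive faithful action is trivial -/
theorem normal_le_stab_eq_bot (N : Subgroup G) (htr : ∀ x y : Ω, ∃ n ∈ N, n • x = y)
    (U : Subgroup G) (hUn : ∀ g : G, ∀ u ∈ U, g * u * g⁻¹ ∈ U) (α : Ω) (hU : U ≤ stabilizer G α) :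
    U = ⊥ := by
  rw [Subgroup.eq_bot_iff_forall]
  intro u hu
  apply FaithfulSMul.eq_of_smul_eq_smul (α := Ω)
  intro ω
  obtain ⟨n, -, rfl⟩ := htr α ω
  rw [one_smul]
  have := hU (hUn n⁻¹ u hu)
  rw [mem_stabilizer_iff, inv_inv, mul_smul, mul_smul] at this
  exact inv_smul_eq_iff.1 this

/-- the only fixed point of a nontrivial `N_α` is `α` -/
theorem fix_unique (hprim : IsPreprimitive G Ω) (N : Subgroup G) [N.Normal]
    (htr : ∀ x y : Ω, ∃ n ∈ N, n • x = y) (α β : Ω) (hU : N ⊓ stabilizer G α ≠ ⊥)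
    (hfix : ∀ u ∈ N ⊓ stabilizer G α, u • β = β) : β = α := by
  have : Nontrivial Ω := by
    by_contra hnt
    rw [not_nontrivial_iff_subsingleton] at hnt
    apply hU
    rw [Subgroup.eq_bot_iff_forall]
    intro u _
    apply FaithfulSMul.eq_of_smul_eq_smul (α := Ω)
    intro ω
    exact Subsingleton.elim _ _
  obtain ⟨n, hn, rfl⟩ := htr α β
  set U := N ⊓ stabilizer G α with hUdef
  have hn1 : n⁻¹ ∈ Subgroup.normalizer (U : Set G) := by
    apply Subgroup.mem_normalizer_fintype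
    intro u hu
    rw [inv_inv]
    have hu' : u ∈ U := hu
    refine Subgroup.mem_inf.2 ⟨‹N.Normal›.conj_mem' u (Subgroup.mem_inf.1 hu').1 n, ?_⟩
    rw [mem_stabilizer_iff, mul_smul, mul_smul, hfix u hu', inv_smul_smul]
  have hn2 : n ∈ Subgroup.normalizer (U : Set G) := by
    have := inv_mem hn1
    rwa [inv_inv] at this
  have := hprim
  have hco : IsCoatom (stabilizer G α) :=
    IsPreprimitive.isCoatom_stabilizer_of_isPreprimitive (G := G) α
  have hle : stabilizer G α ≤ Subgroup.normalizer (U : Set G) := by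
    intro h hh
    rw [Subgroup.mem_normalizer_iff]
    intro u
    constructor
    · intro hu
      obtain ⟨hu1, hu2⟩ := Subgroup.mem_inf.1 hu
      exact Subgroup.mem_inf.2 ⟨‹N.Normal›.conj_mem u hu1 h,
        Subgroup.mul_mem _ (Subgroup.mul_mem _ hh hu2) (Subgroup.inv_mem _ hh)⟩
    · intro hu
      obtain ⟨hu1, hu2⟩ := Subgroup.mem_inf.1 hu
      have e : u = h⁻¹ * (h * u * h⁻¹) * h := by group
      rw [e]
      refine Subgroup.mem_inf.2 ⟨?_, Subgroup.mul_mem _ (Subgroup.mul_mem _ (Subgroup.inv_mem _ hh) hu2) hh⟩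
      exact ‹N.Normal›.conj_mem' _ hu1 h
  rcases hco.le_iff.1 hle with h1 | h1
  · exfalso
    apply hU
    apply normal_le_stab_eq_bot N htr U _ α inf_le_right
    intro g u hu
    have hg : g ∈ Subgroup.normalizer (U : Set G) := h1 ▸ Subgroup.mem_top g
    exact (Subgroup.mem_normalizer_iff.1 hg u).1 hu
  · rw [h1] at hn2
    exact hn2

/-- (i): the orbits of `N_α` and of `G_α` on `Ω ∖ {α}` coincide when `N_α ≠ 1` -/
theorem orbit_eq (hprim : IsPreprimitive G Ω)
    (hep : ∀ (α : Ω) (ω : Ω), IsPreprimitive (stabilizer G α) (orbit (stabilizer G α) ω))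
    (N : Subgroup G) [N.Normal]
    (htr : ∀ x y : Ω, ∃ n ∈ N, n • x = y) (α β : Ω) (hU : N ⊓ stabilizer G α ≠ ⊥) (hβ : β ≠ α)
    {h : G} (hh : h ∈ stabilizer G α) : ∃ u ∈ N ⊓ stabilizer G α, h • β = u • β := by
  have hUn : ∀ h ∈ stabilizer G α, ∀ u ∈ N ⊓ stabilizer G α, h * u * h⁻¹ ∈ N ⊓ stabilizer G α := by
    intro h hh u hu
    obtain ⟨hu1, hu2⟩ := Subgroup.mem_inf.1 hu
    exact Subgroup.mem_inf.2 ⟨‹N.Normal›.conj_mem u hu1 h,
      Subgroup.mul_mem _ (Subgroup.mul_mem _ hh hu2) (Subgroup.inv_mem _ hh)⟩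
  rcases ep_orbit hep α β (N ⊓ stabilizer G α) inf_le_right hUn with h1 | h1
  · exact absurd (fix_unique hprim N htr α β hU h1) hβ
  · exact h1 h hh

end prim

end Cfsg.Agent.Helper58.EP

namespace Cfsg.Agent.Helper58.UDer

open MulAction Cfsg.Agent.Helper58.EP

section ctx
variable {G Ω : Type*} [Group G] [MulAction G Ω] [Finite G] [FaithfulSMul G Ω]
variable {N T : Subgroup G}

omit [Finite G] in
theorem cj_mul (a b : G) (T : Subgroup G) : cj (a * b) T = cj a (cj b T) := by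
  ext x
  rw [mem_cj, mem_cj, mem_cj]
  have : (a * b)⁻¹ * x * (a * b) = b⁻¹ * (a⁻¹ * x * a) * b := by group
  rw [this]

omit [Finite G] in
theorem cj_one (T : Subgroup G) : cj 1 T = T := by
  ext x
  rw [mem_cj]
  simp

omit [Finite G] in
theorem cj_injective (a : G) {S T : Subgroup G} (h : cj a S = cj a T) : S = T := by
  have := congrArg (cj a⁻¹) h
  rwa [← cj_mul, ← cj_mul, inv_mul_cancel, cj_one, cj_one] at this

omit [Finite G] [MulAction G Ω] [FaithfulSMul G Ω] in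
theorem Ctx.cj_eq_of_mem (h : Ctx N T) {n : G} (hn : n ∈ N) : cj n T = T := by
  ext x
  rw [mem_cj]
  constructor
  · intro hx
    have := h.hnorm n hn _ hx
    have e : n * (n⁻¹ * x * n) * n⁻¹ = x := by group
    rwa [e] at this
  · intro hx
    have := h.hnorm n⁻¹ (N.inv_mem hn) x hx
    rwa [inv_inv] at this

omit [Finite G] [FaithfulSMul G Ω] in
theorem Ctx.exists_stab_move (h : Ctx N T)
    (htr : ∀ x y : Ω, ∃ n ∈ N, n • x = y) (α : Ω) {g₀ : G} (hg₀ : cj g₀ T ≠ T) :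
    ∃ k ∈ stabilizer G α, cj k T ≠ T := by
  obtain ⟨n, hn, hnα⟩ := htr α (g₀ • α)
  refine ⟨n⁻¹ * g₀, ?_, ?_⟩
  · rw [mem_stabilizer_iff, mul_smul, ← hnα, inv_smul_smul]
  · intro hk
    apply hg₀
    have e : g₀ = n * (n⁻¹ * g₀) := by group
    rw [e, cj_mul, hk, h.cj_eq_of_mem hn]

/-- the key computation: if `N_α ≠ 1` and `T` is not normal then `N_α` projects onto `T` -/
theorem Ctx.le_proj [N.Normal] (h : Ctx N T)
    (hminN : ∀ M : Subgroup G, M.Normal → M ≤ N → M = ⊥ ∨ M = N)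
    (hprim : IsPreprimitive G Ω)
    (hep : ∀ (α : Ω) (ω : Ω), IsPreprimitive (stabilizer G α) (orbit (stabilizer G α) ω))
    (htr : ∀ x y : Ω, ∃ n ∈ N, n • x = y) (α : Ω) (hU : N ⊓ stabilizer G α ≠ ⊥)
    {k : G} (hk : k ∈ stabilizer G α) (hkT : cj k T ≠ T) : T ≤ proj N T (stabilizer G α) := by
  intro t ht
  by_cases htα : t ∈ stabilizer G α
  · exact ⟨ht, 1, (cen N T).one_mem, by rw [mul_one]; exact htα⟩
  · have hβ : t • α ≠ α := htα
    obtain ⟨u, hu, hku⟩ := orbit_eq hprim hep N htr α (t • α) hU hβ hk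
    obtain ⟨huN, huα⟩ := Subgroup.mem_inf.1 hu
    have hc₀ : k * t * k⁻¹ ∈ cen N T := h.cj_le_cen hkT (conj_mem_cj ht)
    obtain ⟨q, hq, c, hc, rfl⟩ := h.decomp hminN huN
    have hqP : q ∈ proj N T (stabilizer G α) := ⟨hq, c, hc, huα⟩
    have hkα : k⁻¹ • α = α := by
      rw [inv_smul_eq_iff]; exact (mem_stabilizer_iff.1 hk).symm
    have h1 : (k * t * k⁻¹) • α = (q * c) • t • α := by
      rw [← hku, mul_smul, mul_smul, hkα]
    have hc₀' : (k * t * k⁻¹)⁻¹ ∈ cen N T := (cen N T).inv_mem hc₀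
    have hqt : q * t ∈ proj N T (stabilizer G α) := by
      refine ⟨T.mul_mem hq ht, (k * t * k⁻¹)⁻¹ * c, (cen N T).mul_mem hc₀' hc, ?_⟩
      rw [mem_stabilizer_iff]
      have e1 := (mem_cen.1 hc₀').2 q hq
      have e2 := (mem_cen.1 hc₀').2 t ht
      have e3 := (mem_cen.1 hc).2 t ht
      have e : q * t * ((k * t * k⁻¹)⁻¹ * c) = (k * t * k⁻¹)⁻¹ * (q * c * t) := by
        calc q * t * ((k * t * k⁻¹)⁻¹ * c) = q * (t * (k * t * k⁻¹)⁻¹) * c := by group
          _ = q * ((k * t * k⁻¹)⁻¹ * t) * c := by rw [e2]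
          _ = (q * (k * t * k⁻¹)⁻¹) * (t * c) := by group
          _ = ((k * t * k⁻¹)⁻¹ * q) * (c * t) := by rw [e1, e3]
          _ = (k * t * k⁻¹)⁻¹ * (q * c * t) := by group
      rw [e, mul_smul, mul_smul, ← h1, inv_smul_smul]
    have := (proj N T (stabilizer G α)).mul_mem ((proj N T (stabilizer G α)).inv_mem hqP) hqt
    rwa [inv_mul_cancel_left] at this

/-- case (B) is impossible -/
theorem Ctx.caseB_false [N.Normal] (h : Ctx N T)
    (hminN : ∀ M : Subgroup G, M.Normal → M ≤ N → M = ⊥ ∨ M = N)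
    (hprim : IsPreprimitive G Ω)
    (hep : ∀ (α : Ω) (ω : Ω), IsPreprimitive (stabilizer G α) (orbit (stabilizer G α) ω))
    (htr : ∀ x y : Ω, ∃ n ∈ N, n • x = y) (α : Ω) (hα : T ⊓ stabilizer G α ≠ ⊥)
    {g₀ : G} (hg₀ : cj g₀ T ≠ T) : False := by
  obtain ⟨k, hk, hkT⟩ := h.exists_stab_move htr α hg₀
  have hU : N ⊓ stabilizer G α ≠ ⊥ := by
    intro hb
    apply hα
    rw [eq_bot_iff, ← hb]
    exact inf_le_inf_right _ h.hTN
  exact h.proj_ne hminN htr α hα (h.le_proj hminN hprim hep htr α hU hk hkT)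

end ctx

end Cfsg.Agent.Helper58.UDer
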