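import Mathlib

set_option autoImplicit false

namespace Cfsg.Agent.Helper58.EP

open MulAction

section stab
variable {T H : Type*} [Group T] [Group H] [MulAction H T]

/-- each element of `H` acts on `T` as an automorphism or as an anti-automorphism -/
def ActsAutoAnti (T H : Type*) [Group T] [Group H] [MulAction H T] : Prop :=
  ∀ h : H, (∀ a b : T, h • (a * b) = h • a * h • b) ∨ (∀ a b : T, h • (a * b) = h • b * h • a)

theorem ActsAutoAnti.smul_one (hact : ActsAutoAnti T H) (h : H) : h • (1 : T) = 1 := by
  rcases hact h with h1 | h1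
  · have := h1 1 1
    rw [mul_one] at this
    exact (mul_eq_left.1 this.symm)
  · have := h1 1 1
    rw [mul_one] at this
    exact (mul_eq_left.1 this.symm)

theorem ActsAutoAnti.smul_inv (hact : ActsAutoAnti T H) (h : H) (a : T) :
    h • a⁻¹ = (h • a)⁻¹ := by
  rcases hact h with h1 | h1
  · have := h1 a a⁻¹
    rw [mul_inv_cancel, hact.smul_one] at this
    exact (eq_inv_of_mul_eq_one_right this.symm)
  · have := h1 a⁻¹ a
    rw [inv_mul_cancel, hact.smul_one] at this
    exact (eq_inv_of_mul_eq_one_right this.symm)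

theorem ActsAutoAnti.smul_pow (hact : ActsAutoAnti T H) (h : H) (a : T) (j : ℕ) :
    h • a ^ j = (h • a) ^ j := by
  induction j with
  | zero => rw [pow_zero, pow_zero, hact.smul_one]
  | succ j ih =>
    rcases hact h with h1 | h1
    · rw [pow_succ, h1, ih, pow_succ]
    · rw [pow_succ, h1, ih, pow_succ']

/-- the stabilizer of `t` stabilizes its powers -/
theorem stab_le_stab_pow (hact : ActsAutoAnti T H) (t : T) (j : ℕ) :
    stabilizer H t ≤ stabilizer H (t ^ j) := by
  intro h hh
  rw [mem_stabilizer_iff] at hh ⊢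
  rw [hact.smul_pow, hh]

theorem stab_eq_of_le {s t : T} (hs : IsCoatom (stabilizer H s)) (ht : IsCoatom (stabilizer H t))
    (hle : stabilizer H s ≤ stabilizer H t) : stabilizer H s = stabilizer H t := by
  rcases hs.le_iff.1 hle with h | h
  · exact absurd h ht.1
  · exact h.symm

/-- an element is a power of its product with a commuting element of coprime order -/
theorem exists_pow_mul_eq {s t : T} (hc : Commute s t) (hs : IsOfFinOrder s)
    (hcop : (orderOf s).Coprime (orderOf t)) : ∃ k : ℕ, (s * t) ^ k = s := by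
  by_cases h1 : orderOf s = 1
  · refine ⟨0, ?_⟩
    rw [pow_zero]
    exact (orderOf_eq_one_iff.1 h1).symm
  · have hpos : 0 < orderOf s := hs.orderOf_pos
    have h2 : 1 < orderOf s := by omega
    obtain ⟨m, -, hm⟩ := Nat.exists_mul_mod_eq_one_of_coprime hcop.symm h2
    refine ⟨orderOf t * m, ?_⟩
    rw [pow_mul, hc.mul_pow, pow_orderOf_eq_one, mul_one, ← pow_mul, ← pow_mod_orderOf, hm, pow_one]

theorem stab_eq_of_commute_coprime [Finite T] (hact : ActsAutoAnti T H)
    (hmax : ∀ t : T, t ≠ 1 → IsCoatom (stabilizer H t))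
    {s t : T} (hc : Commute s t) (hs : s ≠ 1) (ht : t ≠ 1)
    (hcop : (orderOf s).Coprime (orderOf t)) : stabilizer H s = stabilizer H t := by
  obtain ⟨k, hk⟩ := exists_pow_mul_eq hc (isOfFinOrder_of_finite s) hcop
  obtain ⟨l, hl⟩ := exists_pow_mul_eq hc.symm (isOfFinOrder_of_finite t) hcop.symm
  have hu : s * t ≠ 1 := by
    intro h
    rw [h, one_pow] at hk
    exact hs hk.symm
  have h1 : stabilizer H (s * t) ≤ stabilizer H s := by
    have := stab_le_stab_pow hact (s * t) k
    rwa [hk] at this
  have h2 : stabilizer H (s * t) ≤ stabilizer H t := by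
    have := stab_le_stab_pow hact (t * s) l
    rw [hl, hc.symm.eq] at this
    exact this
  rw [← stab_eq_of_le (hmax _ hu) (hmax _ hs) h1, stab_eq_of_le (hmax _ hu) (hmax _ ht) h2]


/-- the hypotheses of the holomorph-type configuration: a nonabelian simple group `T` acted on by `H`
through automorphisms including all inner ones, with all point stabilizers maximal -/
structure HolCtx (T H : Type*) [Group T] [Group H] [MulAction H T] : Prop where
  hact : ActsAutoAnti T H
  hsimple : ∀ K : Subgroup T, K.Normal → K = ⊥ ∨ K = ⊤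
  hna : ¬ ∀ a b : T, a * b = b * a
  hinn : ∀ n : T, ∃ d : H, ∀ m : T, d • m = n * m * n⁻¹
  hmax : ∀ t : T, t ≠ 1 → IsCoatom (stabilizer H t)

variable (hol : HolCtx T H)
include hol

theorem HolCtx.center_trivial {z : T} (hz : ∀ t : T, z * t = t * z) : z = 1 := by
  have hmem : z ∈ Subgroup.center T := Subgroup.mem_center_iff.2 (fun t => (hz t).symm)
  rcases hol.hsimple (Subgroup.center T) inferInstance with h | h
  · rw [h, Subgroup.mem_bot] at hmem; exact hmem
  · exfalso
    apply hol.hna
    intro a b
    have : a ∈ Subgroup.center T := h ▸ Subgroup.mem_top a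
    exact (Subgroup.mem_center_iff.1 this b).symm

omit hol in
theorem mem_stab_iff {n t : T} {d : H} (hd : ∀ m : T, d • m = n * m * n⁻¹) :
    d ∈ stabilizer H t ↔ n * t = t * n := by
  rw [mem_stabilizer_iff, hd]
  constructor
  · intro h
    calc n * t = n * t * n⁻¹ * n := by group
      _ = t * n := by rw [h]
  · intro h
    rw [h]; group

/-- stabilizers are self-normalizing -/
theorem HolCtx.normalizer_stab {t : T} (ht : t ≠ 1) :
    Subgroup.normalizer (stabilizer H t : Set H) = stabilizer H t := by
  rcases (hol.hmax t ht).le_iff.1 (Subgroup.le_normalizer (H := stabilizer H t)) with h | h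
  · exfalso
    -- the centralizer of t would be normal
    have hnorm : (stabilizer H t).Normal := Subgroup.normalizer_eq_top_iff.1 h
    let M : Subgroup T := Subgroup.centralizer {t}
    have hM : M.Normal := by
      refine ⟨fun n hn g => ?_⟩
      obtain ⟨dn, hdn⟩ := hol.hinn n
      obtain ⟨dg, hdg⟩ := hol.hinn g
      have h1 : dn ∈ stabilizer H t := by
        rw [mem_stab_iff hdn]
        exact Subgroup.mem_centralizer_singleton_iff.1 hn
      have h2 := hnorm.conj_mem dn h1 dg
      have h3 : ∀ m : T, (dg * dn * dg⁻¹) • m = (g * n * g⁻¹) * m * (g * n * g⁻¹)⁻¹ := by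
        intro m
        have hinv : dg⁻¹ • m = g⁻¹ * m * g := by
          rw [inv_smul_eq_iff, hdg]; group
        rw [mul_smul, mul_smul, hinv, hdn, hdg]; group
      rw [mem_stab_iff h3] at h2
      exact Subgroup.mem_centralizer_singleton_iff.2 h2
    rcases hol.hsimple M hM with h0 | h0
    · have : t ∈ M := Subgroup.mem_centralizer_singleton_iff.2 rfl
      rw [h0, Subgroup.mem_bot] at this
      exact ht this
    · apply ht
      apply hol.center_trivial
      intro m
      have : m ∈ M := h0 ▸ Subgroup.mem_top m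
      exact (Subgroup.mem_centralizer_singleton_iff.1 this).symm
  · exact h

theorem HolCtx.commute_of_stab_conj_eq {g t : T} (ht : t ≠ 1)
    (h : stabilizer H (g * t * g⁻¹) = stabilizer H t) : g * t = t * g := by
  obtain ⟨dg, hdg⟩ := hol.hinn g
  have h1 : stabilizer H (dg • t) = stabilizer H t := by rw [hdg]; exact h
  rw [stabilizer_smul_eq_stabilizer_map_conj] at h1
  have h2 : dg ∈ Subgroup.normalizer (stabilizer H t : Set H) := by
    rw [Subgroup.mem_normalizer_iff]
    intro x
    constructor
    · intro hx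
      rw [← h1]
      exact ⟨x, hx, rfl⟩
    · intro hx
      rw [← h1] at hx
      obtain ⟨y, hy, hyx⟩ := hx
      simp only [MulEquiv.coe_toMonoidHom, MulAut.conj_apply] at hyx
      have : y = x := by
        have := congrArg (fun z => dg⁻¹ * z * dg) hyx
        simpa [mul_assoc] using this
      exact this ▸ hy
  rw [hol.normalizer_stab ht] at h2
  exact (mem_stab_iff hdg).1 h2

/-- no element of `H` inverts an element of order greater than two -/
theorem HolCtx.not_inverted {x : T} (hx : x ^ 2 ≠ 1) (h : H) : h • x ≠ x⁻¹ := by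
  intro hinv
  have hx1 : x ≠ 1 := by rintro rfl; exact hx (one_pow 2)
  let K : Subgroup H :=
    { carrier := {k | k • x = x ∨ k • x = x⁻¹}
      one_mem' := Or.inl (one_smul _ _)
      mul_mem' := by
        rintro a b (ha | ha) (hb | hb)
        · left; rw [mul_smul, hb, ha]
        · right; rw [mul_smul, hb, hol.hact.smul_inv, ha]
        · right; rw [mul_smul, hb, ha]
        · left; rw [mul_smul, hb, hol.hact.smul_inv, ha, inv_inv]
      inv_mem' := by
        rintro a (ha | ha)
        · left; rw [inv_smul_eq_iff, ha]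
        · right; rw [inv_smul_eq_iff, hol.hact.smul_inv, ha, inv_inv] }
  have hle : stabilizer H x ≤ K := fun k hk => Or.inl hk
  have hne : x⁻¹ ≠ x := by
    intro h2
    apply hx
    rw [pow_two]
    nth_rewrite 1 [← h2]
    exact inv_mul_cancel x
  rcases (hol.hmax x hx1).le_iff.1 hle with hK | hK
  · -- every conjugate of x is x or x⁻¹, so ⟨x⟩ is normal
    have hall : ∀ n : T, n * x * n⁻¹ = x ∨ n * x * n⁻¹ = x⁻¹ := by
      intro n
      obtain ⟨d, hd⟩ := hol.hinn n
      have : d ∈ K := hK ▸ Subgroup.mem_top d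
      rw [← hd]
      exact this
    have hZ : (Subgroup.zpowers x).Normal := by
      refine ⟨fun y hy n => ?_⟩
      obtain ⟨k, rfl⟩ := Subgroup.mem_zpowers_iff.1 hy
      have e : n * x ^ k * n⁻¹ = (n * x * n⁻¹) ^ k := by
        rw [conj_zpow]
      rw [e]
      rcases hall n with h1 | h1
      · rw [h1]; exact Subgroup.zpow_mem_zpowers x k
      · rw [h1]; exact Subgroup.zpow_mem _ (Subgroup.inv_mem _ (Subgroup.mem_zpowers x)) k
    rcases hol.hsimple _ hZ with h0 | h0
    · have := Subgroup.mem_zpowers x
      rw [h0, Subgroup.mem_bot] at this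
      exact hx1 this
    · apply hol.hna
      intro a b
      have ha : a ∈ Subgroup.zpowers x := h0 ▸ Subgroup.mem_top a
      have hb : b ∈ Subgroup.zpowers x := h0 ▸ Subgroup.mem_top b
      obtain ⟨i, rfl⟩ := Subgroup.mem_zpowers_iff.1 ha
      obtain ⟨j, rfl⟩ := Subgroup.mem_zpowers_iff.1 hb
      rw [← zpow_add, ← zpow_add, add_comm]
  · have : h ∈ stabilizer H x := by
      rw [← hK]
      exact Or.inr hinv
    rw [mem_stabilizer_iff, hinv] at this
    exact hne this


/-- two non-commuting involutions exist in a nonabelian simple group of even order -/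
theorem HolCtx.exists_noncommuting_involutions [Finite T] (h2 : 2 ∣ Nat.card T) :
    ∃ i j : T, i ^ 2 = 1 ∧ j ^ 2 = 1 ∧ i * j ≠ j * i := by
  by_contra hcon
  push Not at hcon
  haveI : Fact (Nat.Prime 2) := ⟨Nat.prime_two⟩
  obtain ⟨i, hi⟩ := exists_prime_orderOf_dvd_card' (G := T) 2 h2
  let S : Set T := {i | i ^ 2 = 1}
  have hconj : Group.conjugatesOfSet S ⊆ S := by
    intro a ha
    rw [Group.mem_conjugatesOfSet_iff] at ha
    obtain ⟨s, hs, hsa⟩ := ha
    obtain ⟨c, rfl⟩ := isConj_iff.1 hsa
    show (c * s * c⁻¹) ^ 2 = 1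
    rw [conj_pow, (hs : s ^ 2 = 1)]; group
  have hi1 : i ≠ 1 := by
    rintro rfl
    rw [orderOf_one] at hi; omega
  have hiS : i ∈ S := by
    show i ^ 2 = 1
    rw [← hi]; exact pow_orderOf_eq_one i
  rcases hol.hsimple (Subgroup.normalClosure S) inferInstance with h0 | h0
  · have : i ∈ Subgroup.normalClosure S := Subgroup.subset_normalClosure hiS
    rw [h0, Subgroup.mem_bot] at this
    exact hi1 this
  · apply hol.hna
    have hcl : Subgroup.closure S = ⊤ := by
      rw [eq_top_iff, ← h0]
      unfold Subgroup.normalClosure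
      exact Subgroup.closure_mono hconj
    have hI := Subgroup.isMulCommutative_closure (k := S) (fun a ha b hb => hcon a b ha hb)
    intro a b
    have ha : a ∈ Subgroup.closure S := hcl ▸ Subgroup.mem_top a
    have hb : b ∈ Subgroup.closure S := hcl ▸ Subgroup.mem_top b
    have := hI.is_comm.comm (⟨a, ha⟩ : Subgroup.closure S) ⟨b, hb⟩
    exact congrArg Subtype.val this

theorem HolCtx.odd_card [Finite T] : Odd (Nat.card T) := by
  by_contra hodd
  rw [Nat.not_odd_iff_even, even_iff_two_dvd] at hodd
  obtain ⟨i, j, hi, hj, hij⟩ := hol.exists_noncommuting_involutions hodd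
  have hi' : i⁻¹ = i := by
    rw [inv_eq_iff_mul_eq_one, ← pow_two, hi]
  have hj' : j⁻¹ = j := by
    rw [inv_eq_iff_mul_eq_one, ← pow_two, hj]
  obtain ⟨d, hd⟩ := hol.hinn i
  have hx : (i * j) ^ 2 ≠ 1 := by
    intro h
    apply hij
    have h1 : (i * j)⁻¹ = i * j := by
      rw [inv_eq_iff_mul_eq_one, ← pow_two, h]
    rw [mul_inv_rev, hi', hj'] at h1
    exact h1.symm
  apply hol.not_inverted hx d
  rw [hd, mul_inv_rev, hi', hj']
  rw [← mul_assoc, ← pow_two, hi, one_mul]

end stab

end Cfsg.Agent.Helper58.EP
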