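import Mathlib
import Cfsg.Agent.Helper58.EPHol
import Cfsg.Agent.Helper58.EPBasic

set_option autoImplicit false

namespace Cfsg.Agent.Helper58.UDer

open MulAction Cfsg.Agent.Helper58.EP

theorem noncommProd_univ_comp_equiv {ι M : Type*} [Fintype ι] [Monoid M] (σ : ι ≃ ι) (f : ι → M)
    (comm : ((Finset.univ : Finset ι) : Set ι).Pairwise (Function.onFun Commute f))
    (comm' : ((Finset.univ : Finset ι) : Set ι).Pairwise
      (Function.onFun Commute (fun i => f (σ i)))) :
    Finset.univ.noncommProd (fun i => f (σ i)) comm' = Finset.univ.noncommProd f comm := by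
  unfold Finset.noncommProd
  congr 1
  have h1 : Multiset.map (fun i => f (σ i)) Finset.univ.val =
      Multiset.map f (Multiset.map σ Finset.univ.val) := by
    rw [Multiset.map_map]; rfl
  rw [h1]
  congr 1
  have := Finset.map_univ_equiv σ
  have h2 := congrArg Finset.val this
  rw [Finset.map_val] at h2
  exact h2

section tw
variable {G Ω : Type*} [Group G] [MulAction G Ω] [Finite G] [FaithfulSMul G Ω]
variable {N T : Subgroup G}

omit [MulAction G Ω] [FaithfulSMul G Ω] in
/-- a nontrivial finite group with trivial centre has elements of two different prime orders -/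
theorem exists_two_primes (T : Subgroup G) (hT1 : T ≠ ⊥)
    (hZ : ∀ z ∈ T, (∀ t ∈ T, z * t = t * z) → z = 1) :
    ∃ p q : ℕ, p.Prime ∧ q.Prime ∧ p ≠ q ∧ ∃ x ∈ T, ∃ y ∈ T, orderOf x = p ∧ orderOf y = q := by
  have : Nontrivial T := (Subgroup.nontrivial_iff_ne_bot T).2 hT1
  have hcard : 1 < Nat.card T := Finite.one_lt_card
  obtain ⟨p, hp, hpd⟩ := Nat.exists_prime_and_dvd (show Nat.card T ≠ 1 by omega)
  have : Fact p.Prime := ⟨hp⟩
  have hnotp : ¬ IsPGroup p T := by
    intro hpg
    have := hpg.center_nontrivial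
    obtain ⟨z, hz⟩ := exists_ne (1 : Subgroup.center T)
    apply hz
    apply Subtype.ext
    apply Subtype.ext
    apply hZ _ (z : T).2
    intro t ht
    have := Subgroup.mem_center_iff.1 z.2 ⟨t, ht⟩
    exact (congrArg Subtype.val this).symm
  obtain ⟨q, hq, hqd, hqp⟩ : ∃ q : ℕ, q.Prime ∧ q ∣ Nat.card T ∧ q ≠ p := by
    by_contra hcon
    push Not at hcon
    apply hnotp
    have := Nat.eq_prime_pow_of_unique_prime_dvd (n := Nat.card T) (p := p) (by omega)
      (fun {d} hd hdd => hcon d hd hdd)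
    exact IsPGroup.of_card this
  have : Fact q.Prime := ⟨hq⟩
  obtain ⟨x, hx⟩ := exists_prime_orderOf_dvd_card' (G := T) p hpd
  obtain ⟨y, hy⟩ := exists_prime_orderOf_dvd_card' (G := T) q hqd
  refine ⟨p, q, hp, hq, fun h => hqp h.symm, x, x.2, y, y.2, ?_, ?_⟩
  · rw [Subgroup.orderOf_coe, hx]
  · rw [Subgroup.orderOf_coe, hy]

omit [MulAction G Ω] [FaithfulSMul G Ω] in
/-- `T` is generated by its elements of order dividing `r`, if there is a nontrivial one -/
theorem Ctx.closure_pow_eq (h : Ctx N T) {r : ℕ} {y : G} (hy : y ∈ T) (hy1 : y ≠ 1)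
    (hyr : y ^ r = 1) : Subgroup.closure {z | z ∈ T ∧ z ^ r = 1} = T := by
  set E := Subgroup.closure {z | z ∈ T ∧ z ^ r = 1} with hE
  have hle : E ≤ T := (Subgroup.closure_le T).2 (fun z hz => hz.1)
  have hne : E ≠ ⊥ := by
    intro hb
    have : y ∈ E := Subgroup.subset_closure ⟨hy, hyr⟩
    rw [hb, Subgroup.mem_bot] at this
    exact hy1 this
  have hinv : ∀ n ∈ N, ∀ s ∈ E, n * s * n⁻¹ ∈ E := by
    intro n hn s hs
    induction hs using Subgroup.closure_induction with
    | mem z hz =>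
      apply Subgroup.subset_closure
      refine ⟨h.hnorm n hn z hz.1, ?_⟩
      rw [conj_pow, hz.2]; group
    | one => simp
    | mul a b _ _ iha ihb =>
      have e : n * (a * b) * n⁻¹ = (n * a * n⁻¹) * (n * b * n⁻¹) := by group
      rw [e]; exact E.mul_mem iha ihb
    | inv a _ iha =>
      have e : n * a⁻¹ * n⁻¹ = (n * a * n⁻¹)⁻¹ := by group
      rw [e]; exact E.inv_mem iha
  exact Subgroup.eq_of_le_of_card_ge hle (h.hmin E (hle.trans h.hTN) hne hinv)

/-- the only fixed point of a nontrivial point stabilizer of a primitive group is the point -/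
theorem stab_fix_unique (hprim : IsPreprimitive G Ω) (α β : Ω) (hH : stabilizer G α ≠ ⊥)
    (hfix : ∀ g ∈ stabilizer G α, g • β = β) : β = α := by
  have : Nontrivial Ω := by
    by_contra hnt
    rw [not_nontrivial_iff_subsingleton] at hnt
    apply hH
    rw [Subgroup.eq_bot_iff_forall]
    intro u _
    apply FaithfulSMul.eq_of_smul_eq_smul (α := Ω)
    intro ω
    exact Subsingleton.elim _ _
  have := hprim
  have hco : IsCoatom (stabilizer G α) :=
    IsPreprimitive.isCoatom_stabilizer_of_isPreprimitive (G := G) α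
  have htrG : ∀ x y : Ω, ∃ g ∈ (⊤ : Subgroup G), g • x = y := by
    intro x y
    obtain ⟨g, hg⟩ := hprim.toIsPretransitive.exists_smul_eq x y
    exact ⟨g, Subgroup.mem_top g, hg⟩
  obtain ⟨g, -, rfl⟩ := htrG α β
  have hg1 : g⁻¹ ∈ Subgroup.normalizer (stabilizer G α : Set G) := by
    apply Subgroup.mem_normalizer_fintype
    intro u hu
    rw [inv_inv]
    show g⁻¹ * u * g ∈ stabilizer G α
    rw [mem_stabilizer_iff, mul_smul, mul_smul, hfix u hu, inv_smul_smul]
  have hg2 : g ∈ Subgroup.normalizer (stabilizer G α : Set G) := by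
    have := inv_mem hg1
    rwa [inv_inv] at this
  rcases hco.le_iff.1 (Subgroup.le_normalizer (H := stabilizer G α)) with h1 | h1
  · exfalso
    apply hH
    apply normal_le_stab_eq_bot ⊤ htrG (stabilizer G α) _ α le_rfl
    intro g' u hu
    have hg : g' ∈ Subgroup.normalizer (stabilizer G α : Set G) := h1 ▸ Subgroup.mem_top g'
    exact (Subgroup.mem_normalizer_iff.1 hg u).1 hu
  · rw [h1] at hg2
    exact hg2

/-- the twisted wreath case (regular nonabelian socle, `T` not normal) is impossible -/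
theorem Ctx.tw_false [N.Normal] (h : Ctx N T)
    (hminN : ∀ M : Subgroup G, M.Normal → M ≤ N → M = ⊥ ∨ M = N)
    (hna : ¬ ∀ a ∈ N, ∀ b ∈ N, a * b = b * a)
    (hprim : IsPreprimitive G Ω)
    (hep : ∀ (α : Ω) (ω : Ω), IsPreprimitive (stabilizer G α) (orbit (stabilizer G α) ω))
    (htr : ∀ x y : Ω, ∃ n ∈ N, n • x = y) (α : Ω)
    (hreg : N ⊓ stabilizer G α = ⊥)
    {k : G} (hk : k ∈ stabilizer G α) (hkT : cj k T ≠ T) : False := by
  classical
  set H := stabilizer G α with hHdef
  have hH : H ≠ ⊥ := by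
    intro hb
    have : k ∈ H := hk
    rw [hb, Subgroup.mem_bot] at this
    apply hkT; rw [this, cj_one]
  -- centralizing = fixing the point
  have hcent : ∀ n ∈ N, ∀ g ∈ H, (g * n = n * g ↔ g • n • α = n • α) := by
    intro n hn g hg
    have hgα : g • α = α := hg
    constructor
    · intro hc
      rw [← mul_smul, hc, mul_smul, hgα]
    · intro hfix
      have hginv : g⁻¹ • α = α := by rw [inv_smul_eq_iff, hgα]
      have hmem : n⁻¹ * (g * n * g⁻¹) ∈ N ⊓ stabilizer G α := by
        refine Subgroup.mem_inf.2 ⟨N.mul_mem (N.inv_mem hn) (‹N.Normal›.conj_mem n hn g), ?_⟩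
        rw [mem_stabilizer_iff, mul_smul, mul_smul, mul_smul, hginv, hfix, inv_smul_smul]
      rw [hreg, Subgroup.mem_bot] at hmem
      have : g * n * g⁻¹ = n := by
        have e : g * n * g⁻¹ = n * (n⁻¹ * (g * n * g⁻¹)) := by group
        rw [e, hmem, mul_one]
      calc g * n = g * n * g⁻¹ * g := by group
        _ = n * g := by rw [this]
  have hSeq : ∀ n ∈ N, H ⊓ Subgroup.centralizer {n} = H ⊓ stabilizer G (n • α) := by
    intro n hn
    ext g
    rw [Subgroup.mem_inf, Subgroup.mem_inf, Subgroup.mem_centralizer_singleton_iff,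
      mem_stabilizer_iff]
    constructor
    · rintro ⟨hg, hc⟩; exact ⟨hg, (hcent n hn g hg).1 hc⟩
    · rintro ⟨hg, hf⟩; exact ⟨hg, (hcent n hn g hg).2 hf⟩
  have hmax : ∀ n ∈ N, n ≠ 1 → ∀ K : Subgroup G, H ⊓ Subgroup.centralizer {n} ≤ K → K ≤ H →
      K = H ⊓ Subgroup.centralizer {n} ∨ K = H := by
    intro n hn _ K h1 h2
    rw [hSeq n hn] at h1 ⊢
    exact ep_max hep α (n • α) K h1 h2
  have hne : ∀ n ∈ N, n ≠ 1 → H ⊓ Subgroup.centralizer {n} ≠ H := by
    intro n hn hn1 heq
    apply hn1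
    have hfix : ∀ g ∈ H, g • n • α = n • α := by
      intro g hg
      have : g ∈ H ⊓ Subgroup.centralizer {n} := by rw [heq]; exact hg
      rw [hSeq n hn] at this
      exact (Subgroup.mem_inf.1 this).2
    have := stab_fix_unique hprim α (n • α) hH hfix
    have hmem : n ∈ N ⊓ stabilizer G α := Subgroup.mem_inf.2 ⟨hn, this⟩
    rwa [hreg, Subgroup.mem_bot] at hmem
  -- commuting elements of coprime orders have the same centralizer in H
  have hcop : ∀ x ∈ N, ∀ c ∈ N, x ≠ 1 → c ≠ 1 → x * c = c * x →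
      (orderOf x).Coprime (orderOf c) →
      H ⊓ Subgroup.centralizer {x} = H ⊓ Subgroup.centralizer {c} := by
    intro x hx c hc hx1 hc1 hcomm hco
    obtain ⟨i, hi⟩ := exists_pow_mul_eq (show Commute x c from hcomm)
      (isOfFinOrder_of_finite x) hco
    obtain ⟨j, hj⟩ := exists_pow_mul_eq (show Commute c x from hcomm.symm)
      (isOfFinOrder_of_finite c) hco.symm
    have hxc1 : x * c ≠ 1 := by
      intro h1; rw [h1, one_pow] at hi; exact hx1 hi.symm
    have hle1 : H ⊓ Subgroup.centralizer {x * c} ≤ H ⊓ Subgroup.centralizer {x} := by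
      intro g hg
      obtain ⟨hg1, hg2⟩ := Subgroup.mem_inf.1 hg
      refine Subgroup.mem_inf.2 ⟨hg1, ?_⟩
      rw [Subgroup.mem_centralizer_singleton_iff] at hg2 ⊢
      rw [← hi]
      exact ((show Commute g (x * c) from hg2).pow_right i).eq
    have hle2 : H ⊓ Subgroup.centralizer {x * c} ≤ H ⊓ Subgroup.centralizer {c} := by
      intro g hg
      obtain ⟨hg1, hg2⟩ := Subgroup.mem_inf.1 hg
      refine Subgroup.mem_inf.2 ⟨hg1, ?_⟩
      rw [Subgroup.mem_centralizer_singleton_iff] at hg2 ⊢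
      rw [← hj, ← hcomm]
      exact ((show Commute g (x * c) from hg2).pow_right j).eq
    have hxcN : x * c ∈ N := N.mul_mem hx hc
    have e1 : H ⊓ Subgroup.centralizer {x} = H ⊓ Subgroup.centralizer {x * c} := by
      rcases hmax (x * c) hxcN hxc1 _ hle1 inf_le_left with h1 | h1
      · exact h1
      · exact absurd h1 (hne x hx hx1)
    have e2 : H ⊓ Subgroup.centralizer {c} = H ⊓ Subgroup.centralizer {x * c} := by
      rcases hmax (x * c) hxcN hxc1 _ hle2 inf_le_left with h1 | h1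
      · exact h1
      · exact absurd h1 (hne c hc hc1)
    rw [e1, e2]
  -- two primes
  obtain ⟨p, q, hp, hq, hpq, x₀, hx₀, y₀, hy₀, hx₀p, hy₀q⟩ := exists_two_primes T h.hT1
    (fun z hz hzc => h.center_trivial hminN hna hz hzc)
  have : Fact p.Prime := ⟨hp⟩
  have : Fact q.Prime := ⟨hq⟩
  have hx₀1 : x₀ ≠ 1 := by
    rintro rfl; rw [orderOf_one] at hx₀p; exact hp.one_lt.ne hx₀p
  have hy₀1 : y₀ ≠ 1 := by
    rintro rfl; rw [orderOf_one] at hy₀q; exact hq.one_lt.ne hy₀q
  have hx₀pp : x₀ ^ p = 1 := hx₀p ▸ pow_orderOf_eq_one x₀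
  have hy₀qq : y₀ ^ q = 1 := hy₀q ▸ pow_orderOf_eq_one y₀
  set S := H ⊓ Subgroup.centralizer {x₀} with hS
  have hq_el : ∀ c ∈ cen N T, c ≠ 1 → c ^ q = 1 → H ⊓ Subgroup.centralizer {c} = S := by
    intro c hc hc1 hcq
    have hco : orderOf c = q := orderOf_eq_prime hcq hc1
    symm
    apply hcop x₀ (h.hTN hx₀) c (mem_cen.1 hc).1 hx₀1 hc1 ((mem_cen.1 hc).2 x₀ hx₀)
    rw [hx₀p, hco]; exact (Nat.coprime_primes hp hq).2 hpq
  have hconj1 : ∀ g : G, g * y₀ * g⁻¹ ≠ 1 := by
    intro g h1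
    apply hy₀1
    have e : y₀ = g⁻¹ * (g * y₀ * g⁻¹) * g := by group
    rw [e, h1]; group
  have hconjq : ∀ g : G, (g * y₀ * g⁻¹) ^ q = 1 := by
    intro g
    rw [conj_pow, hy₀qq]; group
  have hc₀ : k * y₀ * k⁻¹ ∈ cen N T := h.cj_le_cen hkT (conj_mem_cj hy₀)
  have hSc₀ := hq_el _ hc₀ (hconj1 k) (hconjq k)
  have hST : T ≤ Subgroup.centralizer (S : Set G) := by
    rw [← h.closure_pow_eq hx₀ hx₀1 hx₀pp, Subgroup.closure_le]
    rintro x ⟨hx, hxp⟩
    by_cases hx1 : x = 1
    · rw [hx1]; exact Subgroup.one_mem _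
    · have hxo : orderOf x = p := orderOf_eq_prime hxp hx1
      have e : H ⊓ Subgroup.centralizer {x} = H ⊓ Subgroup.centralizer {k * y₀ * k⁻¹} := by
        apply hcop x (h.hTN hx) _ (mem_cen.1 hc₀).1 hx1 (hconj1 k) ((mem_cen.1 hc₀).2 x hx)
        rw [hxo, orderOf_eq_prime (hconjq k) (hconj1 k)]
        exact (Nat.coprime_primes hp hq).2 hpq
      have e2 : S = H ⊓ Subgroup.centralizer {x} := hSc₀.symm.trans e.symm
      rw [SetLike.mem_coe, Subgroup.mem_centralizer_iff]
      intro s hs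
      have hs' : s ∈ H ⊓ Subgroup.centralizer {x} := e2 ▸ hs
      exact Subgroup.mem_centralizer_singleton_iff.1 (Subgroup.mem_inf.1 hs').2
  have hSall : ∀ g : G, cj g T ≤ Subgroup.centralizer (S : Set G) := by
    intro g
    by_cases hg : cj g T = T
    · rw [hg]; exact hST
    · have hctx := h.conj g
      rw [← hctx.closure_pow_eq (conj_mem_cj hy₀) (hconj1 g) (hconjq g), Subgroup.closure_le]
      rintro c ⟨hc, hcq⟩
      by_cases hc1 : c = 1
      · rw [hc1]; exact Subgroup.one_mem _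
      · have e := hq_el c (h.cj_le_cen hg hc) hc1 hcq
        rw [SetLike.mem_coe, Subgroup.mem_centralizer_iff]
        intro s hs
        have hs' : s ∈ H ⊓ Subgroup.centralizer {c} := e ▸ hs
        exact Subgroup.mem_centralizer_singleton_iff.1 (Subgroup.mem_inf.1 hs').2
  have hNS : N ≤ Subgroup.centralizer (S : Set G) := by
    rw [← h.normalClosure_eq hminN]
    unfold Subgroup.normalClosure
    rw [Subgroup.closure_le]
    intro a ha
    obtain ⟨g, hag⟩ := mem_conjugatesOfSet_cj ha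
    exact hSall g hag
  have hSbot : S = ⊥ := by
    rw [Subgroup.eq_bot_iff_forall]
    intro s hs
    apply FaithfulSMul.eq_of_smul_eq_smul (α := Ω)
    intro ω
    obtain ⟨n, hn, rfl⟩ := htr α ω
    have hcomm := Subgroup.mem_centralizer_iff.1 (hNS hn) s hs
    have hsα : s • α = α := (Subgroup.mem_inf.1 hs).1
    rw [one_smul, ← mul_smul, hcomm, mul_smul, hsα]
  -- the normalizer of T in H is trivial
  have hfree : ∀ g ∈ H, g ≠ 1 → cj g T ≠ T := by
    intro g hg hg1 hgT
    let K₀ : Subgroup G :=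
      { carrier := {g | g ∈ H ∧ cj g T = T}
        one_mem' := ⟨H.one_mem, cj_one T⟩
        mul_mem' := by
          rintro a b ⟨ha, haT⟩ ⟨hb, hbT⟩
          exact ⟨H.mul_mem ha hb, by rw [cj_mul, hbT, haT]⟩
        inv_mem' := by
          rintro a ⟨ha, haT⟩
          refine ⟨H.inv_mem ha, ?_⟩
          apply cj_injective a
          rw [← cj_mul, mul_inv_cancel, cj_one, haT] }
    have h1 : H ⊓ Subgroup.centralizer {x₀} ≤ K₀ := by
      rw [← hS, hSbot]; exact bot_le
    rcases hmax x₀ (h.hTN hx₀) hx₀1 K₀ h1 (fun g hg => hg.1) with h2 | h2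
    · have : g ∈ K₀ := ⟨hg, hgT⟩
      rw [h2, ← hS, hSbot, Subgroup.mem_bot] at this
      exact hg1 this
    · have : k ∈ K₀ := h2 ▸ hk
      exact hkT this.2
  -- the product of all conjugates of x₀ under H
  have : Fintype H := Fintype.ofFinite H
  let f : H → G := fun g => (g : G) * x₀ * (g : G)⁻¹
  have hcomm : ((Finset.univ : Finset H) : Set H).Pairwise (Function.onFun Commute f) := by
    intro a _ b _ hab
    have hab1 : (a : G)⁻¹ * b ≠ 1 := by
      intro h1
      apply hab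
      apply Subtype.ext
      exact inv_mul_eq_one.1 h1
    have hmem : (a : G)⁻¹ * b ∈ H := H.mul_mem (H.inv_mem a.2) b.2
    have hc := h.cj_le_cen (hfree _ hmem hab1) (conj_mem_cj (g := (a : G)⁻¹ * b) hx₀)
    have e := (mem_cen.1 hc).2 x₀ hx₀
    show (a : G) * x₀ * (a : G)⁻¹ * ((b : G) * x₀ * (b : G)⁻¹) =
      (b : G) * x₀ * (b : G)⁻¹ * ((a : G) * x₀ * (a : G)⁻¹)
    calc (a : G) * x₀ * (a : G)⁻¹ * ((b : G) * x₀ * (b : G)⁻¹)
        = a * (x₀ * (((a : G)⁻¹ * b) * x₀ * ((a : G)⁻¹ * b)⁻¹)) * (a : G)⁻¹ := by group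
      _ = a * ((((a : G)⁻¹ * b) * x₀ * ((a : G)⁻¹ * b)⁻¹) * x₀) * (a : G)⁻¹ := by rw [e]
      _ = (b : G) * x₀ * (b : G)⁻¹ * ((a : G) * x₀ * (a : G)⁻¹) := by group
  set n := Finset.univ.noncommProd f hcomm with hn
  have hnN : n ∈ N := by
    apply Subgroup.noncommProd_mem
    intro c _
    exact ‹N.Normal›.conj_mem x₀ (h.hTN hx₀) c
  have hinv : ∀ g : H, (g : G) * n * (g : G)⁻¹ = n := by
    intro g
    have h1 := Finset.map_noncommProd Finset.univ f hcomm (MulAut.conj (g : G)).toMonoidHom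
    have h2 : ∀ i : H, (MulAut.conj (g : G)).toMonoidHom (f i) = f (g * i) := by
      intro i
      show (g : G) * ((i : G) * x₀ * (i : G)⁻¹) * (g : G)⁻¹ =
        ((g * i : H) : G) * x₀ * ((g * i : H) : G)⁻¹
      rw [Subgroup.coe_mul]; group
    have h3 : (MulAut.conj (g : G)).toMonoidHom n = (g : G) * n * (g : G)⁻¹ := rfl
    rw [← h3, hn, h1]
    refine Eq.trans (Finset.noncommProd_congr rfl (fun i _ => h2 i) _) ?_
    exact noncommProd_univ_comp_equiv (Equiv.mulLeft g) f hcomm _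
  have hn1 : n ≠ 1 := by
    intro hn1
    have hsplit := Finset.mul_noncommProd_erase Finset.univ (Finset.mem_univ (1 : H)) f hcomm
    have hf1 : f 1 = x₀ := by
      show ((1 : H) : G) * x₀ * ((1 : H) : G)⁻¹ = x₀
      rw [Subgroup.coe_one]; group
    have hR : (Finset.univ.erase (1 : H)).noncommProd f
        (fun _ hx _ hy hxy => hcomm (Finset.mem_of_mem_erase hx) (Finset.mem_of_mem_erase hy) hxy)
        ∈ cen N T := by
      apply Subgroup.noncommProd_mem
      intro c hc
      have hc1 : c ≠ 1 := Finset.ne_of_mem_erase hc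
      have hc1' : (c : G) ≠ 1 := fun h1 => hc1 (Subtype.ext h1)
      exact h.cj_le_cen (hfree _ c.2 hc1') (conj_mem_cj hx₀)
    rw [← hn, hn1, hf1] at hsplit
    have hx₀C : x₀ ∈ cen N T := by
      have e : x₀ = ((Finset.univ.erase (1 : H)).noncommProd f
        (fun _ hx _ hy hxy => hcomm (Finset.mem_of_mem_erase hx) (Finset.mem_of_mem_erase hy) hxy))⁻¹ :=
        eq_inv_of_mul_eq_one_left hsplit
      rw [e]
      exact (cen N T).inv_mem hR
    exact hx₀1 (h.inf_cen hminN hna hx₀ hx₀C)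
  apply hne n hnN hn1
  apply le_antisymm inf_le_left
  intro g hg
  refine Subgroup.mem_inf.2 ⟨hg, ?_⟩
  rw [Subgroup.mem_centralizer_singleton_iff]
  have := hinv ⟨g, hg⟩
  calc g * n = g * n * g⁻¹ * g := by group
    _ = n * g := by rw [this]

end tw

end Cfsg.Agent.Helper58.UDer
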