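import Mathlib
import Cfsg.Agent.Helper58.UniqueDer
import Cfsg.Agent.Helper58.EPTw

set_option autoImplicit false

namespace Cfsg.Agent.Helper58.UDer

open MulAction

section der
variable {G Ω : Type*} [Group G] [MulAction G Ω] [Finite G] [FaithfulSMul G Ω]
variable {N T : Subgroup G}

/-- in case (B) there is `x ∈ T` all of whose translates `x * c`, `c ∈ C_N(T)`, are derangements -/
theorem Ctx.exists_der_coset [N.Normal] (h : Ctx N T)
    (hminN : ∀ M : Subgroup G, M.Normal → M ≤ N → M = ⊥ ∨ M = N)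
    (htr : ∀ x y : Ω, ∃ n ∈ N, n • x = y) (α : Ω) (hα : T ⊓ stabilizer G α ≠ ⊥) :
    ∃ x ∈ T, ∀ c' ∈ cen N T, IsDer Ω (x * c') := by
  set Q := proj N T (stabilizer G α) with hQ
  have hQne := h.proj_ne hminN htr α hα
  obtain ⟨x, hxT, hxQ⟩ : ∃ x ∈ T, ∀ t ∈ T, t * x * t⁻¹ ∉ Q := by
    by_contra hcon
    push Not at hcon
    apply hQne
    have hcov : ∀ x : T, ∃ g : T, g * x * g⁻¹ ∈ Q.subgroupOf T := by
      intro x
      obtain ⟨t, ht, htQ⟩ := hcon x.1 x.2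
      exact ⟨⟨t, ht⟩, by rw [Subgroup.mem_subgroupOf]; simpa using htQ⟩
    have htop := Cfsg.Agent.Helper67.eq_top_of_forall_exists_conj_mem _ hcov
    intro t ht
    have : (⟨t, ht⟩ : T) ∈ Q.subgroupOf T := by rw [htop]; trivial
    rwa [Subgroup.mem_subgroupOf] at this
  refine ⟨x, hxT, ?_⟩
  intro c' hc' ω hω
  obtain ⟨n, hn, rfl⟩ := htr α ω
  have h1 : n⁻¹ * (x * c') * n ∈ stabilizer G α := by
    rw [mem_stabilizer_iff, mul_smul, mul_smul, hω, inv_smul_smul]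
  obtain ⟨t, ht, c, hc, hntc⟩ := h.decomp hminN (N.inv_mem hn)
  have hn' : n = (t * c)⁻¹ := by rw [← hntc, inv_inv]
  have e : n⁻¹ * (x * c') * n = (t * x * t⁻¹) * (c * c' * c⁻¹) := by
    rw [hntc, hn']
    have hcx := (mem_cen.1 hc).2 x hxT
    have hct : t⁻¹ * (c * c' * c⁻¹) = (c * c' * c⁻¹) * t⁻¹ :=
      (mem_cen.1 ((cen N T).mul_mem ((cen N T).mul_mem hc hc') ((cen N T).inv_mem hc))).2 _
        (T.inv_mem ht)
    calc t * c * (x * c') * (t * c)⁻¹ = t * (c * x) * (c' * c⁻¹ * t⁻¹) := by group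
      _ = t * (x * c) * (c' * c⁻¹ * t⁻¹) := by rw [hcx]
      _ = t * x * ((c * c' * c⁻¹) * t⁻¹) := by group
      _ = t * x * (t⁻¹ * (c * c' * c⁻¹)) := by rw [hct]
      _ = (t * x * t⁻¹) * (c * c' * c⁻¹) := by group
  rw [e] at h1
  apply hxQ t ht
  rw [hQ, mem_proj]
  refine ⟨?_, c * c' * c⁻¹, (cen N T).mul_mem ((cen N T).mul_mem hc hc') ((cen N T).inv_mem hc), h1⟩
  exact h.hnorm t (h.hTN ht) x hxT

omit [MulAction G Ω] [FaithfulSMul G Ω] in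
/-- `T` is not a `p`-group -/
theorem Ctx.not_pgroup [N.Normal] (h : Ctx N T)
    (hminN : ∀ M : Subgroup G, M.Normal → M ≤ N → M = ⊥ ∨ M = N)
    (hna : ¬ ∀ a ∈ N, ∀ b ∈ N, a * b = b * a) (p : ℕ) :
    ∃ y ∈ T, ∃ q : ℕ, q.Prime ∧ q ≠ p ∧ orderOf y = q := by
  obtain ⟨p₁, q₁, hp₁, hq₁, hpq, x, hx, y, hy, hxo, hyo⟩ := exists_two_primes T h.hT1
    (fun z hz hzc => h.center_trivial hminN hna hz hzc)
  by_cases h1 : p₁ = p
  · exact ⟨y, hy, q₁, hq₁, fun h2 => hpq (h1.trans h2.symm), hyo⟩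
  · exact ⟨x, hx, p₁, hp₁, h1, hxo⟩

end der

end Cfsg.Agent.Helper58.UDer
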