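import Mathlib
import Cfsg.Agent.Helper58.EPHol
import Cfsg.Agent.S0108
import Cfsg.Agent.S0035
import Cfsg.Agent.S0602
import Cfsg.Agent.Helper11.ThompsonIso

set_option autoImplicit false

namespace Cfsg.Agent.Helper58.EP

open MulAction
open scoped Pointwise

/-- a `p`-group has a normal `p`-complement -/
theorem hasNormalPComplement_of_isPGroup {K : Type*} [Group K] {p : ℕ} [Fact p.Prime]
    (hK : IsPGroup p K) : Cfsg.HasNormalPComplement p K := by
  let Q : Sylow p K := default
  have hQ : (Q : Subgroup K) = ⊤ := by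
    have h1 : IsPGroup p (⊤ : Subgroup K) := fun g => by
      obtain ⟨k, hk⟩ := hK g.1
      exact ⟨k, Subtype.ext hk⟩
    exact (Q.is_maximal' h1 le_top).symm
  refine ⟨Q, ⊥, inferInstance, ?_⟩
  rw [hQ]
  exact Subgroup.isComplement'_bot_top

section odd
variable {T H : Type*} [Group T] [Group H] [MulAction H T]
variable (hol : HolCtx T H)
include hol

theorem HolCtx.cent_eq_of_stab_eq {x y : T} (h : stabilizer H x = stabilizer H y) :
    Subgroup.centralizer {x} = Subgroup.centralizer {y} := by
  ext n
  obtain ⟨d, hd⟩ := hol.hinn n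
  rw [Subgroup.mem_centralizer_singleton_iff, Subgroup.mem_centralizer_singleton_iff,
    ← mem_stab_iff hd, ← mem_stab_iff hd, h]

omit hol in
theorem stab_eq_of_pow (hact : ActsAutoAnti T H)
    (hmax : ∀ t : T, t ≠ 1 → IsCoatom (stabilizer H t)) {x : T} {k : ℕ}
    (hk : x ^ k ≠ 1) : stabilizer H x = stabilizer H (x ^ k) := by
  have hx : x ≠ 1 := by rintro rfl; exact hk (one_pow k)
  exact stab_eq_of_le (hmax x hx) (hmax _ hk) (stab_le_stab_pow hact x k)

/-- all nonidentity elements of `C(t)` have the same stabilizer when `C(t)` is not a `p`-group -/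
theorem HolCtx.stab_eq_of_mem_cent [Finite T] {p q : ℕ} (hp : p.Prime) (hq : q.Prime) (hpq : p ≠ q)
    {t a : T} (ht : orderOf t = p) (ha : orderOf a = q) (hat : a * t = t * a)
    {x : T} (hx : x * t = t * x) (hx1 : x ≠ 1) : stabilizer H x = stabilizer H t := by
  have ht1 : t ≠ 1 := by
    rintro rfl; rw [orderOf_one] at ht; exact hp.one_lt.ne ht
  have ha1 : a ≠ 1 := by
    rintro rfl; rw [orderOf_one] at ha; exact hq.one_lt.ne ha
  have hsa : stabilizer H a = stabilizer H t := by
    apply stab_eq_of_commute_coprime hol.hact hol.hmax hat ha1 ht1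
    rw [ht, ha]
    exact (Nat.coprime_primes hq hp).2 hpq.symm
  have hca := hol.cent_eq_of_stab_eq hsa
  have hox : orderOf x ≠ 1 := by
    rw [Ne, orderOf_eq_one_iff]; exact hx1
  obtain ⟨r, hr, hrx⟩ := Nat.exists_prime_and_dvd hox
  have hox0 : orderOf x ≠ 0 := (isOfFinOrder_of_finite x).orderOf_pos.ne'
  set y := x ^ (orderOf x / r) with hy
  have hyo : orderOf y = r := orderOf_pow_orderOf_div hox0 hrx
  have hy1 : y ≠ 1 := by
    intro h; rw [h, orderOf_one] at hyo; exact hr.one_lt.ne hyo
  have hyt : y * t = t * y := by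
    have : Commute x t := hx
    exact (this.pow_left _).eq
  have hsy : stabilizer H y = stabilizer H t := by
    by_cases hrp : r = p
    · have hya : y * a = a * y := by
        have : y ∈ Subgroup.centralizer {a} := by
          rw [hca]; exact Subgroup.mem_centralizer_singleton_iff.2 hyt
        exact Subgroup.mem_centralizer_singleton_iff.1 this
      rw [← hsa]
      apply stab_eq_of_commute_coprime hol.hact hol.hmax hya hy1 ha1
      rw [hyo, ha, hrp]
      exact (Nat.coprime_primes hp hq).2 hpq
    · apply stab_eq_of_commute_coprime hol.hact hol.hmax hyt hy1 ht1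
      rw [hyo, ht]
      exact (Nat.coprime_primes hr hp).2 hrp
  rw [stab_eq_of_pow hol.hact hol.hmax hy1, hsy]

/-- the Frobenius case -/
theorem HolCtx.frobenius_case [Finite T] {p q : ℕ} (hp : p.Prime) (hq : q.Prime) (hpq : p ≠ q)
    {t a : T} (ht : orderOf t = p) (ha : orderOf a = q) (hat : a * t = t * a) : False := by
  have ht1 : t ≠ 1 := by
    rintro rfl; rw [orderOf_one] at ht; exact hp.one_lt.ne ht
  let M : Subgroup T := Subgroup.centralizer {t}
  have hall : ∀ x ∈ M, x ≠ 1 → stabilizer H x = stabilizer H t := fun x hx hx1 =>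
    hol.stab_eq_of_mem_cent hp hq hpq ht ha hat (Subgroup.mem_centralizer_singleton_iff.1 hx) hx1
  have hMbot : M ≠ ⊥ := by
    intro h
    have : t ∈ M := Subgroup.mem_centralizer_singleton_iff.2 rfl
    rw [h, Subgroup.mem_bot] at this
    exact ht1 this
  have hMtop : M ≠ ⊤ := by
    intro h
    apply ht1
    apply hol.center_trivial
    intro m
    have : m ∈ M := h ▸ Subgroup.mem_top m
    exact (Subgroup.mem_centralizer_singleton_iff.1 this).symm
  have hF : Cfsg.IsFrobeniusComplement M := by
    refine ⟨hMbot, hMtop, fun g hg => ?_⟩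
    rw [eq_bot_iff]
    intro y hy
    rw [Subgroup.mem_inf] at hy
    obtain ⟨hyM, hyg⟩ := hy
    rw [Subgroup.mem_bot]
    by_contra hy1
    rw [Subgroup.mem_pointwise_smul_iff_inv_smul_mem] at hyg
    rw [MulAut.smul_def, ← map_inv, MulAut.conj_apply, inv_inv] at hyg
    -- x := g⁻¹ y g ∈ M
    set x := g⁻¹ * y * g with hxdef
    have hx1 : x ≠ 1 := by
      intro h
      apply hy1
      have : y = g * x * g⁻¹ := by rw [hxdef]; group
      rw [this, h]; group
    have hyx : y = g * x * g⁻¹ := by rw [hxdef]; group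
    have h1 := hall x hyg hx1
    have h2 := hall y hyM hy1
    rw [hyx] at h2
    have h3 := hol.commute_of_stab_conj_eq hx1 (h2.trans h1.symm)
    apply hg
    have h4 := hol.cent_eq_of_stab_eq h1
    show g ∈ Subgroup.centralizer {t}
    rw [← h4]
    exact Subgroup.mem_centralizer_singleton_iff.2 h3
  obtain ⟨N, -, hN, hc⟩ := Cfsg.Agent.S0035.result M hF
  rcases hol.hsimple N hN with h | h
  · rw [h, Subgroup.isComplement'_bot_left] at hc
    exact hMtop hc
  · rw [h, Subgroup.isComplement'_top_left] at hc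
    exact hMbot hc



/-- a proper nontrivial subgroup invariant under `stab t` has its normalizer inside `C(t)` -/
theorem HolCtx.normalizer_le_cent {t : T} (ht : t ≠ 1) {J : Subgroup T} (hJ0 : J ≠ ⊥) (hJ1 : J ≠ ⊤)
    (hinv : ∀ h ∈ stabilizer H t, h • (J : Set T) = J) :
    Subgroup.normalizer (J : Set T) ≤ Subgroup.centralizer {t} := by
  have hle : stabilizer H t ≤ stabilizer H (J : Set T) := fun h hh => hinv h hh
  have key : ∀ (n : T) (d : H), (∀ m : T, d • m = n * m * n⁻¹) →
      (d • (J : Set T) = J ↔ n ∈ Subgroup.normalizer (J : Set T)) := by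
    intro n d hd
    rw [Subgroup.mem_normalizer_iff]
    constructor
    · intro h x
      rw [← hd, ← SetLike.mem_coe, ← SetLike.mem_coe]
      nth_rewrite 2 [← h]
      rw [Set.smul_mem_smul_set_iff]
    · intro h
      ext y
      rw [Set.mem_smul_set_iff_inv_smul_mem]
      have : y = d • (d⁻¹ • y) := by rw [smul_inv_smul]
      nth_rewrite 2 [this]
      rw [hd, SetLike.mem_coe, SetLike.mem_coe]
      exact h _
  rcases (hol.hmax t ht).le_iff.1 hle with h | h
  · exfalso
    have hnorm : J.Normal := by
      rw [← Subgroup.normalizer_eq_top_iff, eq_top_iff]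
      intro n _
      obtain ⟨d, hd⟩ := hol.hinn n
      rw [← key n d hd]
      have : d ∈ stabilizer H (J : Set T) := h ▸ Subgroup.mem_top d
      exact this
    rcases hol.hsimple J hnorm with h0 | h0
    · exact hJ0 h0
    · exact hJ1 h0
  · intro n hn
    obtain ⟨d, hd⟩ := hol.hinn n
    rw [← key n d hd] at hn
    have : d ∈ stabilizer H (J : Set T) := hn
    rw [h] at this
    exact Subgroup.mem_centralizer_singleton_iff.2 ((mem_stab_iff hd).1 this)

omit hol in
theorem smul_cent_eq (hact : ActsAutoAnti T H) {t : T} {h : H} (hh : h ∈ stabilizer H t) :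
    h • ((Subgroup.centralizer {t} : Subgroup T) : Set T) = (Subgroup.centralizer {t} : Subgroup T) := by
  have key : ∀ k : H, k • t = t → ∀ y : T, y * t = t * y → (k • y) * t = t * (k • y) := by
    intro k hk y hy
    have h1 : k • (y * t) = k • (t * y) := by rw [hy]
    rcases hact k with h2 | h2
    · rw [h2, h2, hk] at h1
      exact h1
    · rw [h2, h2, hk] at h1
      exact h1.symm
  rw [mem_stabilizer_iff] at hh
  have hh' : h⁻¹ • t = t := by rw [inv_smul_eq_iff, hh]
  ext y
  rw [Set.mem_smul_set_iff_inv_smul_mem, SetLike.mem_coe, SetLike.mem_coe,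
    Subgroup.mem_centralizer_singleton_iff, Subgroup.mem_centralizer_singleton_iff]
  constructor
  · intro h1
    have := key h hh _ h1
    rwa [smul_inv_smul] at this
  · intro h1
    exact key h⁻¹ hh' _ h1

omit hol in
/-- every element acts on subgroups as some automorphism does -/
theorem exists_equiv (hact : ActsAutoAnti T H) (h : H) :
    ∃ ψ : T ≃* T, ∀ J : Subgroup T, ((J.map ψ.toMonoidHom : Subgroup T) : Set T) = h • (J : Set T) := by
  rcases hact h with h1 | h1
  · refine ⟨{ (MulAction.toPerm h : Equiv.Perm T) with map_mul' := h1 }, fun J => ?_⟩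
    ext y
    simp only [Subgroup.coe_map, Set.mem_image, SetLike.mem_coe, Set.mem_smul_set]
    rfl
  · have hinv : ∀ a : T, h • a⁻¹ = (h • a)⁻¹ := hact.smul_inv h
    refine ⟨{ toFun := fun x => (h • x)⁻¹
              invFun := fun y => h⁻¹ • y⁻¹
              left_inv := fun x => by simp
              right_inv := fun y => by simp
              map_mul' := fun a b => by rw [h1, mul_inv_rev] }, fun J => ?_⟩
    ext y
    simp only [Subgroup.coe_map, Set.mem_image, SetLike.mem_coe, Set.mem_smul_set]
    constructor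
    · rintro ⟨x, hx, rfl⟩
      refine ⟨x⁻¹, J.inv_mem hx, ?_⟩
      rw [hinv]; rfl
    · rintro ⟨x, hx, rfl⟩
      refine ⟨x⁻¹, J.inv_mem hx, ?_⟩
      show (h • x⁻¹)⁻¹ = h • x
      rw [hinv, inv_inv]

theorem HolCtx.pgroup_case [Finite T] {p : ℕ} [Fact p.Prime] (hp2 : p ≠ 2) (P : Sylow p T)
    {t : T} (ht : t ≠ 1) (hP : (P : Subgroup T) = Subgroup.centralizer {t}) : False := by
  have htP : t ∈ (P : Subgroup T) := by
    rw [hP]; exact Subgroup.mem_centralizer_singleton_iff.2 rfl
  have hPtop : (P : Subgroup T) ≠ ⊤ := by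
    intro h
    apply ht
    apply hol.center_trivial
    intro m
    have : m ∈ (P : Subgroup T) := h ▸ Subgroup.mem_top m
    rw [hP] at this
    exact (Subgroup.mem_centralizer_singleton_iff.1 this).symm
  have hPbot : (P : Subgroup T) ≠ ⊥ := by
    intro h
    rw [h, Subgroup.mem_bot] at htP
    exact ht htP
  set J := Cfsg.thompsonSubgroupOf p (P : Subgroup T) with hJ
  have hJP : J ≤ P := Cfsg.Agent.Helper11.thompsonSubgroupOf_le p _
  have hJtop : J ≠ ⊤ := by
    intro h
    apply hPtop
    rw [eq_top_iff, ← h]; exact hJP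
  have hJbot : J ≠ ⊥ := by
    have hdvd : p ∣ Nat.card (P : Subgroup T) := by
      rcases P.2.card_eq_or_dvd with h | h
      · exfalso
        apply hPbot
        exact (Subgroup.card_eq_one).1 h
      · exact h
    have h1 := (Cfsg.Agent.S0602.result (G := (P : Subgroup T)) (p := p)).2 hdvd
    intro h
    apply h1
    rw [hJ] at h
    unfold Cfsg.thompsonSubgroupOf at h
    exact (Subgroup.map_eq_bot_iff_of_injective _ (Subgroup.subtype_injective _)).1 h
  have hinv : ∀ h ∈ stabilizer H t, h • (J : Set T) = J := by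
    intro h hh
    obtain ⟨ψ, hψ⟩ := exists_equiv hol.hact h
    have h1 : (P : Subgroup T).map ψ.toMonoidHom = P := by
      apply SetLike.coe_injective
      rw [hψ, hP, smul_cent_eq hol.hact hh]
    have h2 := Cfsg.Agent.Helper11.thompsonSubgroupOf_map p ψ.toMonoidHom (P : Subgroup T)
      (fun x _ hx => by
        have : ψ x = 1 := hx
        rwa [map_eq_one_iff ψ ψ.injective] at this)
    rw [h1] at h2
    rw [← hψ]
    exact congrArg _ h2.symm
  have hN := hol.normalizer_le_cent ht hJbot hJtop hinv
  rw [← hP] at hN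
  have hC : Subgroup.centralizer (((P : Subgroup T) ⊓ Subgroup.centralizer (P : Set T) : Subgroup T) : Set T)
      ≤ (P : Subgroup T) := by
    refine le_trans ?_ hP.ge
    apply Subgroup.centralizer_le
    intro x hx
    rw [Set.mem_singleton_iff] at hx
    rw [hx, SetLike.mem_coe, Subgroup.mem_inf]
    refine ⟨htP, ?_⟩
    rw [Subgroup.mem_centralizer_iff]
    intro y hy
    have hy' : y ∈ (P : Subgroup T) := hy
    rw [hP] at hy'
    exact (Subgroup.mem_centralizer_singleton_iff.1 hy')
  have h1 : Cfsg.HasNormalPComplement p (Subgroup.normalizer (J : Set T)) :=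
    hasNormalPComplement_of_isPGroup (P.2.to_le hN)
  have h2 : Cfsg.HasNormalPComplement p (Subgroup.centralizer
      (((P : Subgroup T) ⊓ Subgroup.centralizer (P : Set T) : Subgroup T) : Set T)) :=
    hasNormalPComplement_of_isPGroup (P.2.to_le hC)
  obtain ⟨Q, N, hNn, hc⟩ := (Cfsg.Agent.S0108.result hp2 P).2 ⟨h1, h2⟩
  rcases hol.hsimple N hNn with h | h
  · rw [h, Subgroup.isComplement'_bot_left] at hc
    -- T is a p-group
    have hT : IsPGroup p T := by
      intro g
      obtain ⟨k, hk⟩ := Q.2 ⟨g, hc ▸ Subgroup.mem_top g⟩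
      exact ⟨k, congrArg Subtype.val hk⟩
    have : Nontrivial T := ⟨⟨t, 1, ht⟩⟩
    have := hT.center_nontrivial
    obtain ⟨⟨z, hz⟩, hz1⟩ := exists_ne (1 : Subgroup.center T)
    apply hz1
    apply Subtype.ext
    apply hol.center_trivial
    intro m
    exact (Subgroup.mem_center_iff.1 hz m).symm
  · rw [h, Subgroup.isComplement'_top_left] at hc
    apply hPbot
    rw [← hc]
    exact (Q.is_maximal' P.2 (by rw [hc]; exact bot_le))

theorem HolCtx.false [Finite T] : False := by
  have hodd := hol.odd_card
  have : Nontrivial T := by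
    by_contra h
    rw [not_nontrivial_iff_subsingleton] at h
    exact hol.hna (fun a b => Subsingleton.elim _ _)
  have hc1 : Nat.card T ≠ 1 := by
    intro h
    rw [Nat.card_eq_one_iff_unique] at h
    exact not_subsingleton T h.1
  set p := (Nat.card T).minFac with hp
  have hpp : p.Prime := Nat.minFac_prime hc1
  have : Fact p.Prime := ⟨hpp⟩
  have hpd : p ∣ Nat.card T := Nat.minFac_dvd _
  have hp2 : p ≠ 2 := by
    intro h
    rw [h] at hpd
    exact (Nat.not_even_iff_odd.2 hodd) (even_iff_two_dvd.2 hpd)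
  let P : Sylow p T := default
  have hPbot : (P : Subgroup T) ≠ ⊥ := P.ne_bot_of_dvd_card hpd
  have : Nontrivial (P : Subgroup T) := (Subgroup.nontrivial_iff_ne_bot _).2 hPbot
  have hZ : Nontrivial (Subgroup.center (P : Subgroup T)) := P.2.center_nontrivial
  have hZp : IsPGroup p (Subgroup.center (P : Subgroup T)) := P.2.to_subgroup _
  have hZd : p ∣ Nat.card (Subgroup.center (P : Subgroup T)) := by
    rcases hZp.card_eq_or_dvd with h | h
    · exfalso
      rw [Nat.card_eq_one_iff_unique] at h
      exact not_subsingleton _ h.1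
    · exact h
  obtain ⟨z, hz⟩ := exists_prime_orderOf_dvd_card' p hZd
  set t : T := ((z : (P : Subgroup T)) : T) with ht
  have hto : orderOf t = p := by
    rw [ht, Subgroup.orderOf_coe, Subgroup.orderOf_coe, hz]
  have ht1 : t ≠ 1 := by
    intro h; rw [h, orderOf_one] at hto; exact hpp.one_lt.ne hto
  have hPle : (P : Subgroup T) ≤ Subgroup.centralizer {t} := by
    intro x hx
    rw [Subgroup.mem_centralizer_singleton_iff]
    have := Subgroup.mem_center_iff.1 z.2 ⟨x, hx⟩
    exact congrArg Subtype.val this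
  by_cases hM : IsPGroup p (Subgroup.centralizer {t} : Subgroup T)
  · exact hol.pgroup_case hp2 P ht1 (P.is_maximal' hM hPle).symm
  · rw [IsPGroup.iff_card] at hM
    push Not at hM
    have hM0 : Nat.card (Subgroup.centralizer {t} : Subgroup T) ≠ 0 := Nat.card_pos.ne'
    have : ∃ q : ℕ, q.Prime ∧ q ∣ Nat.card (Subgroup.centralizer {t} : Subgroup T) ∧ q ≠ p := by
      by_contra hcon
      push Not at hcon
      exact hM _ (Nat.eq_prime_pow_of_unique_prime_dvd hM0 (fun {d} hd hdd => hcon d hd hdd))
    obtain ⟨q, hq, hqd, hqp⟩ := this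
    have : Fact q.Prime := ⟨hq⟩
    obtain ⟨a, ha⟩ := exists_prime_orderOf_dvd_card' q hqd
    have hao : orderOf (a : T) = q := by rw [Subgroup.orderOf_coe, ha]
    exact hol.frobenius_case hpp hq hqp.symm hto hao
      (Subgroup.mem_centralizer_singleton_iff.1 a.2)

end odd

end Cfsg.Agent.Helper58.EP
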