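import Mathlib
import Cfsg.Agent.Helper58.EPHol2
import Cfsg.Agent.Helper58.EPBasic

set_option autoImplicit false

namespace Cfsg.Agent.Helper58.EP

open MulAction

section reg
variable {G Ω : Type*} [Group G] [MulAction G Ω] [Finite G]

/-- a nonabelian simple regular subgroup `T` whose conjugates under `G_α` are `T` or centralize
`T`, all of whose inner automorphisms are induced by `G_α`, cannot exist in an extremely primitive
group -/
theorem regular_case
    (hep : ∀ (α : Ω) (ω : Ω), IsPreprimitive (stabilizer G α) (orbit (stabilizer G α) ω))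
    (T : Subgroup G) (α : Ω)
    (hreg : Function.Bijective (fun t : T => (t : G) • α))
    (hsimple : ∀ K : Subgroup G, K ≤ T → (∀ t ∈ T, ∀ k ∈ K, t * k * t⁻¹ ∈ K) → K = ⊥ ∨ K = T)
    (hna : ¬ ∀ a ∈ T, ∀ b ∈ T, a * b = b * a)
    (h1 : ∀ h ∈ stabilizer G α, (∀ t ∈ T, h * t * h⁻¹ ∈ T) ∨
        (∀ t ∈ T, ∀ s ∈ T, (h * t * h⁻¹) * s = s * (h * t * h⁻¹)))
    (h2 : ∀ t ∈ T, ∃ c : G, (∀ m ∈ T, c * m = m * c) ∧ t * c ∈ stabilizer G α) : False := by
  let e : T ≃ Ω := Equiv.ofBijective _ hreg
  have he : ∀ t : T, e t = (t : G) • α := fun t => rfl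
  let act : MulAction (stabilizer G α) T :=
    { smul := fun h t => e.symm ((h : G) • e t)
      one_smul := fun t => by
        show e.symm (((1 : stabilizer G α) : G) • e t) = t
        rw [Subgroup.coe_one, one_smul, Equiv.symm_apply_apply]
      mul_smul := fun a b t => by
        show e.symm (((a * b : stabilizer G α) : G) • e t) =
          e.symm ((a : G) • e (e.symm ((b : G) • e t)))
        rw [Equiv.apply_symm_apply, Subgroup.coe_mul, mul_smul] }
  have hsm : ∀ (h : stabilizer G α) (t : T), e (h • t) = (h : G) • e t := by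
    intro h t
    show e (e.symm ((h : G) • e t)) = _
    rw [Equiv.apply_symm_apply]
  have hstab : ∀ h : stabilizer G α, (h : G)⁻¹ • α = α := by
    intro h
    rw [inv_smul_eq_iff]
    exact (mem_stabilizer_iff.1 h.2).symm
  -- trivial centre
  have hZ : ∀ t ∈ T, t ≠ 1 → ∃ n ∈ T, n * t * n⁻¹ ≠ t := by
    intro t ht ht1
    by_contra hcon
    push Not at hcon
    let Z : Subgroup G := T ⊓ Subgroup.centralizer (T : Set G)
    have hZinv : ∀ t ∈ T, ∀ k ∈ Z, t * k * t⁻¹ ∈ Z := by
      intro s hs k hk
      obtain ⟨hk1, hk2⟩ := Subgroup.mem_inf.1 hk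
      have := Subgroup.mem_centralizer_iff.1 hk2 s hs
      have e1 : s * k * s⁻¹ = k := by rw [this]; group
      rw [e1]; exact hk
    rcases hsimple Z inf_le_left hZinv with h0 | h0
    · have : t ∈ Z := by
        refine Subgroup.mem_inf.2 ⟨ht, ?_⟩
        rw [Subgroup.mem_centralizer_iff]
        intro n hn
        have := hcon n hn
        calc n * t = n * t * n⁻¹ * n := by group
          _ = t * n := by rw [this]
      rw [h0, Subgroup.mem_bot] at this
      exact ht1 this
    · apply hna
      intro a ha b hb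
      have : a ∈ Z := h0 ▸ ha
      exact (Subgroup.mem_centralizer_iff.1 (Subgroup.mem_inf.1 this).2 b hb).symm
  -- inner automorphisms
  have hinn : ∀ n : T, ∃ d : stabilizer G α, ∀ m : T, d • m = n * m * n⁻¹ := by
    intro n
    obtain ⟨c, hc, hnc⟩ := h2 n n.2
    refine ⟨⟨n * c, hnc⟩, fun m => ?_⟩
    apply e.injective
    rw [hsm, he, he]
    have hcα : c • α = (n : G)⁻¹ • α := by
      rw [eq_inv_smul_iff, ← mul_smul]
      exact hnc
    show ((n : G) * c) • (m : G) • α = ((n : G) * m * (n : G)⁻¹) • α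
    rw [mul_smul, ← mul_smul c, hc m m.2, mul_smul, hcα, ← mul_smul, ← mul_smul]
  have hact : ActsAutoAnti T (stabilizer G α) := by
    intro h
    rcases h1 h h.2 with hn | hc
    · left
      have key : ∀ t : T, h • t = ⟨h * t * (h : G)⁻¹, hn t t.2⟩ := by
        intro t
        apply e.injective
        rw [hsm, he, he]
        show (h : G) • (t : G) • α = ((h : G) * t * (h : G)⁻¹) • α
        rw [mul_smul, mul_smul, hstab]
      intro a b
      rw [key, key, key]
      apply Subtype.ext
      show (h : G) * (a * b : G) * (h : G)⁻¹ = ((h : G) * a * (h : G)⁻¹) * ((h : G) * b * (h : G)⁻¹)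
      group
    · right
      have key : ∀ t : T, ((h • t : T) : G) • α = ((h : G) * t * (h : G)⁻¹) • α := by
        intro t
        rw [← he, hsm, he, mul_smul, mul_smul, hstab]
      intro a b
      apply e.injective
      rw [he, key, he]
      show ((h : G) * (a * b : G) * (h : G)⁻¹) • α = (((h • b : T) : G) * ((h • a : T) : G)) • α
      have e1 : (h : G) * (a * b : G) * (h : G)⁻¹ =
          ((h : G) * a * (h : G)⁻¹) * ((h : G) * b * (h : G)⁻¹) := by group
      rw [e1, mul_smul, ← key b, ← mul_smul, hc a a.2 _ (h • b : T).2, mul_smul, ← key a, ← mul_smul]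
  have hmax : ∀ t : T, t ≠ 1 → IsCoatom (stabilizer (stabilizer G α) t) := by
    intro t ht
    have hst : stabilizer (stabilizer G α) t = stabilizer (stabilizer G α) (e t) := by
      ext h
      rw [mem_stabilizer_iff, mem_stabilizer_iff, ← e.injective.eq_iff, hsm]
      rfl
    rw [hst]
    obtain ⟨n, hn, hnt⟩ := hZ t t.2 (fun h => ht (Subtype.ext h))
    obtain ⟨d, hd⟩ := hinn ⟨n, hn⟩
    refine ep_coatom hep α (e t) d.2 ?_
    have := hsm d t
    rw [hd] at this
    show (d : G) • e t ≠ e t
    rw [← this]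
    intro h
    apply hnt
    have := e.injective h
    exact congrArg Subtype.val this
  have hsimple' : ∀ K : Subgroup T, K.Normal → K = ⊥ ∨ K = ⊤ := by
    intro K hK
    have hle : K.map T.subtype ≤ T := Subgroup.map_subtype_le K
    have hinv : ∀ t ∈ T, ∀ k ∈ K.map T.subtype, t * k * t⁻¹ ∈ K.map T.subtype := by
      rintro t ht k ⟨k', hk', rfl⟩
      exact ⟨⟨t, ht⟩ * k' * ⟨t, ht⟩⁻¹, hK.conj_mem k' hk' ⟨t, ht⟩, by simp⟩
    rcases hsimple _ hle hinv with h0 | h0
    · left
      rwa [Subgroup.map_eq_bot_iff_of_injective _ T.subtype_injective] at h0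
    · right
      rw [eq_top_iff]
      intro x _
      have hx : (x : G) ∈ K.map T.subtype := by rw [h0]; exact x.2
      obtain ⟨y, hy, hyx⟩ := hx
      have : y = x := Subtype.ext hyx
      exact this ▸ hy
  have hna' : ¬ ∀ a b : T, a * b = b * a := by
    intro h
    apply hna
    intro a ha b hb
    exact congrArg Subtype.val (h ⟨a, ha⟩ ⟨b, hb⟩)
  exact HolCtx.false (T := T) (H := stabilizer G α) ⟨hact, hsimple', hna', hinn, hmax⟩

end reg

end Cfsg.Agent.Helper58.EP
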