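import Mathlib
import Cfsg.Agent.Helper58.EPReg
import Cfsg.Agent.Helper58.PrimNormal

set_option autoImplicit false

namespace Cfsg.Agent.Helper58.UDer

open MulAction Cfsg.Agent.Helper58.EP

section red
variable {G Ω : Type*} [Group G] [MulAction G Ω] [Finite G] [FaithfulSMul G Ω]
variable {N T : Subgroup G}

/-- the holomorph-of-simple case is impossible -/
theorem Ctx.hs_false [N.Normal] (h : Ctx N N)
    (hna : ¬ ∀ a ∈ N, ∀ b ∈ N, a * b = b * a)
    (hprim : IsPreprimitive G Ω)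
    (hep : ∀ (α : Ω) (ω : Ω), IsPreprimitive (stabilizer G α) (orbit (stabilizer G α) ω))
    (α : Ω) (hC : Subgroup.centralizer (N : Set G) ≠ ⊥) : False := by
  have htrN := Cfsg.Agent.Helper58.normal_trans hprim N h.hT1
  have htrC := Cfsg.Agent.Helper58.normal_trans hprim (Subgroup.centralizer (N : Set G)) hC
  refine regular_case hep N α ⟨?_, ?_⟩ ?_ hna ?_ ?_
  · -- injective
    intro s t hst
    have hst' : (s : G) • α = (t : G) • α := hst
    have h1 : ((t : G)⁻¹ * s) • α = α := by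
      rw [mul_smul, hst', inv_smul_smul]
    have h2 : (t : G)⁻¹ * s = 1 := by
      apply FaithfulSMul.eq_of_smul_eq_smul (α := Ω)
      intro ω
      obtain ⟨c, hc, rfl⟩ := htrC α ω
      have hcomm := Subgroup.mem_centralizer_iff.1 hc _ (N.mul_mem (N.inv_mem t.2) s.2)
      rw [one_smul, ← mul_smul, hcomm, mul_smul, h1]
    apply Subtype.ext
    have : (s : G) = t * ((t : G)⁻¹ * s) := by group
    rw [this, h2, mul_one]
  · intro ω
    obtain ⟨n, hn, hnω⟩ := htrN α ω
    exact ⟨⟨n, hn⟩, hnω⟩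
  · intro K hK hKinv
    by_cases hK1 : K = ⊥
    · exact Or.inl hK1
    · right
      exact Subgroup.eq_of_le_of_card_ge hK (h.hmin K hK hK1 hKinv)
  · intro k _
    left
    intro t ht
    exact ‹N.Normal›.conj_mem t ht k
  · intro t ht
    obtain ⟨c, hc, hcα⟩ := htrC α (t⁻¹ • α)
    refine ⟨c, fun m hm => (Subgroup.mem_centralizer_iff.1 hc m hm).symm, ?_⟩
    rw [mem_stabilizer_iff, mul_smul, hcα, smul_inv_smul]

/-- the diagonal case is impossible -/
theorem Ctx.diag_false [N.Normal] (h : Ctx N T)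
    (hminN : ∀ M : Subgroup G, M.Normal → M ≤ N → M = ⊥ ∨ M = N)
    (hna : ¬ ∀ a ∈ N, ∀ b ∈ N, a * b = b * a)
    (hprim : IsPreprimitive G Ω)
    (hep : ∀ (α : Ω) (ω : Ω), IsPreprimitive (stabilizer G α) (orbit (stabilizer G α) ω))
    (htr : ∀ x y : Ω, ∃ n ∈ N, n • x = y) (α : Ω)
    (hsr : ∀ ω : Ω, T ⊓ stabilizer G ω = ⊥)
    (hU : N ⊓ stabilizer G α ≠ ⊥)
    {k : G} (hk : k ∈ stabilizer G α) (hkT : cj k T ≠ T) : False := by
  have hproj := h.le_proj hminN hprim hep htr α hU hk hkT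
  -- `T • α` is invariant under the stabilizer
  have hΓ : ∀ g ∈ stabilizer G α, ∀ t ∈ T, ∃ s ∈ T, g • t • α = s • α := by
    intro g hg t ht
    by_cases htα : t • α = α
    · refine ⟨1, T.one_mem, ?_⟩
      rw [htα, one_smul]; exact hg
    · obtain ⟨u, hu, hgu⟩ := orbit_eq hprim hep N htr α (t • α) hU htα hg
      obtain ⟨huN, huα⟩ := Subgroup.mem_inf.1 hu
      obtain ⟨q, hq, c, hc, rfl⟩ := h.decomp hminN huN
      refine ⟨q * t * q⁻¹, T.mul_mem (T.mul_mem hq ht) (T.inv_mem hq), ?_⟩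
      have hcα : c • α = q⁻¹ • α := by
        rw [eq_inv_smul_iff, ← mul_smul]; exact huα
      have e3 := (mem_cen.1 hc).2 t ht
      rw [hgu, ← mul_smul, mul_assoc, ← e3, ← mul_assoc, mul_smul, hcα, ← mul_smul]
  -- the setwise stabilizer of `T • α`
  have hco : IsCoatom (stabilizer G α) := by
    have : Nontrivial Ω := by
      by_contra hnt
      rw [not_nontrivial_iff_subsingleton] at hnt
      apply hU
      rw [Subgroup.eq_bot_iff_forall]
      intro u _
      apply FaithfulSMul.eq_of_smul_eq_smul (α := Ω)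
      intro ω
      exact Subsingleton.elim _ _
    have := hprim
    exact IsPreprimitive.isCoatom_stabilizer_of_isPreprimitive (G := G) α
  let K : Subgroup G :=
    { carrier := {g | ∀ t ∈ T, (∃ s ∈ T, g • t • α = s • α) ∧ (∃ s ∈ T, g⁻¹ • t • α = s • α)}
      one_mem' := fun t ht => ⟨⟨t, ht, one_smul _ _⟩, ⟨t, ht, by rw [inv_one, one_smul]⟩⟩
      mul_mem' := by
        intro a b ha hb t ht
        constructor
        · obtain ⟨s, hs, hbs⟩ := (hb t ht).1
          obtain ⟨r, hr, har⟩ := (ha s hs).1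
          exact ⟨r, hr, by rw [mul_smul, hbs, har]⟩
        · obtain ⟨s, hs, has⟩ := (ha t ht).2
          obtain ⟨r, hr, hbr⟩ := (hb s hs).2
          exact ⟨r, hr, by rw [mul_inv_rev, mul_smul, has, hbr]⟩
      inv_mem' := by
        intro a ha t ht
        refine ⟨(ha t ht).2, ?_⟩
        rw [inv_inv]
        exact (ha t ht).1 }
  have hHK : stabilizer G α ≤ K := by
    intro g hg t ht
    exact ⟨hΓ g hg t ht, hΓ g⁻¹ (Subgroup.inv_mem _ hg) t ht⟩
  have hTK : T ≤ K := by
    intro s hs t ht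
    refine ⟨⟨s * t, T.mul_mem hs ht, by rw [mul_smul]⟩, ⟨s⁻¹ * t, T.mul_mem (T.inv_mem hs) ht, by rw [mul_smul]⟩⟩
  have hKtop : K = ⊤ := by
    rcases hco.le_iff.1 hHK with h1 | h1
    · exact h1
    · exfalso
      apply h.not_le_stab htr α
      rw [← h1]; exact hTK
  have hsurj : ∀ ω : Ω, ∃ t ∈ T, t • α = ω := by
    intro ω
    obtain ⟨n, -, rfl⟩ := htr α ω
    have : n ∈ K := hKtop ▸ Subgroup.mem_top n
    obtain ⟨s, hs, hns⟩ := (this 1 T.one_mem).1
    rw [one_smul] at hns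
    exact ⟨s, hs, hns.symm⟩
  refine regular_case hep T α ⟨?_, ?_⟩ ?_ ?_ ?_ ?_
  · intro s t hst
    have hst' : (s : G) • α = (t : G) • α := hst
    have h1 : (t : G)⁻¹ * s ∈ T ⊓ stabilizer G α := by
      refine Subgroup.mem_inf.2 ⟨T.mul_mem (T.inv_mem t.2) s.2, ?_⟩
      rw [mem_stabilizer_iff, mul_smul, hst', inv_smul_smul]
    rw [hsr α, Subgroup.mem_bot] at h1
    apply Subtype.ext
    have : (s : G) = t * ((t : G)⁻¹ * s) := by group
    rw [this, h1, mul_one]
  · intro ω
    obtain ⟨t, ht, htω⟩ := hsurj ω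
    exact ⟨⟨t, ht⟩, htω⟩
  · intro K' hK' hKinv
    by_cases hK1 : K' = ⊥
    · exact Or.inl hK1
    · right
      apply Subgroup.eq_of_le_of_card_ge hK'
      apply h.hmin K' (hK'.trans h.hTN) hK1
      intro n hn s hs
      obtain ⟨t, ht, c, hc, rfl⟩ := h.decomp hminN hn
      have e3 := (mem_cen.1 hc).2 s (hK' hs)
      have e : t * c * s * (t * c)⁻¹ = t * s * t⁻¹ := by
        calc t * c * s * (t * c)⁻¹ = t * (c * s) * c⁻¹ * t⁻¹ := by group
          _ = t * (s * c) * c⁻¹ * t⁻¹ := by rw [e3]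
          _ = t * s * t⁻¹ := by group
      rw [e]
      exact hKinv t ht s hs
  · intro hab
    apply h.hT1
    rw [Subgroup.eq_bot_iff_forall]
    intro z hz
    exact h.center_trivial hminN hna hz (fun t ht => hab z hz t ht)
  · intro g hg
    by_cases hgT : cj g T = T
    · left
      intro t ht
      have := conj_mem_cj (g := g) ht
      rwa [hgT] at this
    · right
      intro t ht s hs
      have := h.cj_le_cen hgT (conj_mem_cj (g := g) ht)
      exact ((mem_cen.1 this).2 s hs).symm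
  · intro t ht
    obtain ⟨-, c, hc, htc⟩ := mem_proj.1 (hproj ht)
    exact ⟨c, fun m hm => ((mem_cen.1 hc).2 m hm).symm, htc⟩

end red

end Cfsg.Agent.Helper58.UDer
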