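import Mathlib
import Cfsg.Agent.Helper45.EllDefs
import Cfsg.Agent.Helper94.TpD

/-!
# Piece (EE2) of helper45's S5988 engine (#6806): the number of elliptic `2e`-subspaces of a
nondegenerate quadratic space of dimension `2 d` and type `εV` divides
`#frames(e - 1) * (2 (q + 1) * #elliptic planes of a 2 (d - e + 1)-space)`.

Double count of the pairs `(s, W)`, `s` a frame of `e - 1` hyperbolic pairs inside the elliptic
`2e`-space `W`.  (helper58, clone of helper4's `QSpQE3`.)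
-/

set_option autoImplicit false
set_option linter.unusedSectionVars false
set_option linter.style.haveILetI false

namespace Cfsg.Agent.Helper58.Ell

open Module Polynomial
open Cfsg.Agent.Helper59.InvChain Cfsg.Agent.Helper59.Elusive
open Cfsg.Agent.Helper99.SpStruct Cfsg.Agent.Helper99.RDecomp
open Cfsg.Agent.Helper44 Cfsg.Agent.Helper44.QType
open Cfsg.Agent.Helper99.QSp
open Cfsg.Agent.Helper45.Ell
open Cfsg.Agent.Helper94
open Cfsg.Agent.Helper4.QSp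

universe u v

variable {F : Type u} [Field F] [Fintype F]
variable {V : Type v} [AddCommGroup V] [Module F V] [FiniteDimensional F V]

/-- the span of a frame has type `+` -/
theorem qType_hSpan (Q : QuadraticForm F V) {m : ℕ} {s : Fin m → V × V} (hs : IsQFrame Q s) :
    QType Q (Tn.hSpan (F := F) s) m 1 :=
  (Cfsg.Agent.Helper99.QSpGlue.hyp_iff_qType Q (Tn.nd_hSpan (pB_symm Q) hs.1)
    (Tn.finrank_hSpan (pB_symm Q) hs.1)).mp (hyp_hSpan Q hs)

/-- frame span plus an orthogonal elliptic plane: an elliptic space -/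
theorem ell_sup (Q : QuadraticForm F V) {m : ℕ} {s : Fin m → V × V} (hs : IsQFrame Q s)
    {A : Submodule F V} (hAX : A ≤ (pB Q).orthogonal (Tn.hSpan (F := F) s))
    (hA2 : finrank F ↥A = 2) (hAnd : Nd (pB Q) A) (hAh : ¬ Hyp Q A) :
    finrank F ↥(Tn.hSpan (F := F) s ⊔ A) = 2 * (m + 1) ∧ Nd (pB Q) (Tn.hSpan (F := F) s ⊔ A) ∧
      ¬ Hyp Q (Tn.hSpan (F := F) s ⊔ A) := by
  have hB := pB_symm Q
  have hSnd : Nd (pB Q) (Tn.hSpan (F := F) s) := Tn.nd_hSpan hB hs.1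
  have hSdim : finrank F ↥(Tn.hSpan (F := F) s) = 2 * m := Tn.finrank_hSpan hB hs.1
  have horth : Orth (pB Q) (Tn.hSpan (F := F) s) A := orth_iff_le.mpr hAX
  have hdis : Disjoint (Tn.hSpan (F := F) s) A := horth.disjoint hSnd
  have hdim : finrank F ↥(Tn.hSpan (F := F) s ⊔ A) = 2 * (m + 1) := by
    rw [finrank_sup_of_disjoint hdis, hSdim, hA2]; ring
  have hnd : Nd (pB Q) (Tn.hSpan (F := F) s ⊔ A) := hSnd.sup hB.isRefl hAnd horth
  refine ⟨hdim, hnd, ?_⟩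
  rw [not_hyp_iff_qType Q hnd hdim]
  have hA2' : finrank F ↥A = 2 * 1 := by rw [hA2]
  have hAty : QType Q A 1 (-1) := (not_hyp_iff_qType Q hAnd hA2').mp hAh
  have := qType_sup Q hSnd hAnd horth hSdim hA2' (qType_hSpan Q hs) hAty
  rwa [one_mul] at this

/-- the orthogonal complement of a frame span inside an elliptic space: an elliptic plane -/
theorem ell_inf (Q : QuadraticForm F V) {m : ℕ} {s : Fin m → V × V} (hs : IsQFrame Q s)
    {W : Submodule F V} (hSW : Tn.hSpan (F := F) s ≤ W) (hWdim : finrank F ↥W = 2 * (m + 1))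
    (hWnd : Nd (pB Q) W) (hWh : ¬ Hyp Q W) :
    finrank F ↥(W ⊓ (pB Q).orthogonal (Tn.hSpan (F := F) s)) = 2 ∧
      Nd (pB Q) (W ⊓ (pB Q).orthogonal (Tn.hSpan (F := F) s)) ∧
      ¬ Hyp Q (W ⊓ (pB Q).orthogonal (Tn.hSpan (F := F) s)) := by
  have hB := pB_symm Q
  have hSnd : Nd (pB Q) (Tn.hSpan (F := F) s) := Tn.nd_hSpan hB hs.1
  have hSdim : finrank F ↥(Tn.hSpan (F := F) s) = 2 * m := Tn.finrank_hSpan hB hs.1
  have hdim : finrank F ↥(W ⊓ (pB Q).orthogonal (Tn.hSpan (F := F) s)) = 2 := by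
    have := hSnd.finrank_inf_orth hB.isRefl hSW
    rw [hSdim, hWdim] at this
    omega
  have hdim' : finrank F ↥(W ⊓ (pB Q).orthogonal (Tn.hSpan (F := F) s)) = 2 * 1 := by rw [hdim]
  have hnd : Nd (pB Q) (W ⊓ (pB Q).orthogonal (Tn.hSpan (F := F) s)) :=
    hSnd.inf_orth hB.isRefl hSW hWnd
  refine ⟨hdim, hnd, ?_⟩
  rw [not_hyp_iff_qType Q hnd hdim']
  obtain ⟨ε, -, hε⟩ := exists_qType Q hnd hdim'
  have hsup := qType_sup Q hSnd hnd orth_inf_orth hSdim hdim' (qType_hSpan Q hs) hε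
  rw [(hSnd.sup_inf_orth hB.isRefl hSW).1, one_mul] at hsup
  have hWty : QType Q W (m + 1) (-1) := (not_hyp_iff_qType Q hWnd hWdim).mp hWh
  rw [QType.unique hWty hsup]
  exact hε

omit [Fintype F] in
/-- `(S ⊔ A) ⊓ S^⊥ = A` for `A ≤ S^⊥`, `S` nondegenerate -/
theorem sup_inf_orth_eq {B : LinearMap.BilinForm F V} (hB : B.IsRefl) {S A : Submodule F V}
    (hS : Nd B S) (hA : A ≤ B.orthogonal S) : (S ⊔ A) ⊓ B.orthogonal S = A := by
  rw [sup_comm, sup_inf_assoc_of_le _ hA, (hS.isCompl hB).inf_eq_bot, sup_bot_eq]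

variable (Q : QuadraticForm F V)

/-- the pairs (frame of `m` hyperbolic pairs, elliptic `2(m+1)`-space containing it) -/
def EllFlag (m : ℕ) : Type v :=
  {p : (Fin m → V × V) × Submodule F V // IsQFrame Q p.1 ∧
    (finrank F ↥p.2 = 2 * (m + 1) ∧ Nd (pB Q) p.2 ∧ ¬ Hyp Q p.2) ∧
    ∀ a, (p.1 a).1 ∈ p.2 ∧ (p.1 a).2 ∈ p.2}

/-- the space of a flag -/
def ellFlagSp (m : ℕ) : EllFlag Q m →
    {W : Submodule F V // finrank F ↥W = 2 * (m + 1) ∧ Nd (pB Q) W ∧ ¬ Hyp Q W} :=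
  fun t => ⟨t.1.2, t.2.2.1⟩

/-- the frame of a flag -/
def ellFlagFr (m : ℕ) : EllFlag Q m → {s : Fin m → V × V // IsQFrame Q s} :=
  fun t => ⟨t.1.1, t.2.1⟩

/-- the fibre of `ellFlagSp` -/
def ellFlagSpFiber (m : ℕ)
    (W : {W : Submodule F V // finrank F ↥W = 2 * (m + 1) ∧ Nd (pB Q) W ∧ ¬ Hyp Q W}) :
    {t : EllFlag Q m // ellFlagSp Q m t = W} ≃ InQFrames Q W.1 m where
  toFun t := ⟨t.1.1.1, t.1.2.1, by
    have h3 : t.1.1.2 = W.1 := congrArg Subtype.val t.2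
    rw [← h3]
    exact t.1.2.2.2⟩
  invFun s := ⟨⟨(s.1, W.1), s.2.1, W.2, s.2.2⟩, Subtype.ext rfl⟩
  left_inv t := by
    have h3 : t.1.1.2 = W.1 := congrArg Subtype.val t.2
    apply Subtype.ext; apply Subtype.ext
    exact Prod.ext rfl h3.symm
  right_inv s := rfl

/-- the fibre of `ellFlagFr` -/
noncomputable def ellFlagFrFiber (m : ℕ) (s : {s : Fin m → V × V // IsQFrame Q s}) :
    {t : EllFlag Q m // ellFlagFr Q m t = s} ≃
      {A : Submodule F V // A ≤ (pB Q).orthogonal (Tn.hSpan (F := F) s.1) ∧ finrank F ↥A = 2 ∧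
        Nd (pB Q) A ∧ ¬ Hyp Q A} where
  toFun t := ⟨t.1.1.2 ⊓ (pB Q).orthogonal (Tn.hSpan (F := F) s.1), inf_le_right, by
    have h3 : t.1.1.1 = s.1 := congrArg Subtype.val t.2
    have hSW : Tn.hSpan (F := F) s.1 ≤ t.1.1.2 := by
      rw [← h3]; exact Tn.hSpan_le _ t.1.2.2.2
    exact ell_inf Q s.2 hSW t.1.2.2.1.1 t.1.2.2.1.2.1 t.1.2.2.1.2.2⟩
  invFun A := ⟨⟨(s.1, Tn.hSpan (F := F) s.1 ⊔ A.1), s.2, ell_sup Q s.2 A.2.1 A.2.2.1 A.2.2.2.1 A.2.2.2.2,
    fun a => ⟨Submodule.mem_sup_left (Tn.fst_mem_hSpan _ a),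
      Submodule.mem_sup_left (Tn.snd_mem_hSpan _ a)⟩⟩, Subtype.ext rfl⟩
  left_inv t := by
    have h3 : t.1.1.1 = s.1 := congrArg Subtype.val t.2
    have hSW : Tn.hSpan (F := F) s.1 ≤ t.1.1.2 := by
      rw [← h3]; exact Tn.hSpan_le _ t.1.2.2.2
    have hSnd : Nd (pB Q) (Tn.hSpan (F := F) s.1) := Tn.nd_hSpan (pB_symm Q) s.2.1
    apply Subtype.ext; apply Subtype.ext
    exact Prod.ext h3.symm (hSnd.sup_inf_orth (pB_symm Q).isRefl hSW).1
  right_inv A := by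
    have hSnd : Nd (pB Q) (Tn.hSpan (F := F) s.1) := Tn.nd_hSpan (pB_symm Q) s.2.1
    apply Subtype.ext
    exact sup_inf_orth_eq (pB_symm Q).isRefl hSnd A.2.1

/-- all fibres of `ellFlagSp` have the same size -/
theorem exists_card_ellfiber_const (m : ℕ) :
    ∃ N : ℕ, ∀ W : {W : Submodule F V // finrank F ↥W = 2 * (m + 1) ∧ Nd (pB Q) W ∧ ¬ Hyp Q W},
      Nat.card {t : EllFlag Q m // ellFlagSp Q m t = W} = N := by
  by_cases hne : Nonempty
      {W : Submodule F V // finrank F ↥W = 2 * (m + 1) ∧ Nd (pB Q) W ∧ ¬ Hyp Q W}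
  · obtain ⟨W₀⟩ := hne
    refine ⟨Nat.card (InQFrames Q W₀.1 m), fun W => ?_⟩
    rw [Nat.card_congr (ellFlagSpFiber Q m W)]
    have hty : QType Q W.1 (m + 1) (-1) := (not_hyp_iff_qType Q W.2.2.1 W.2.1).mp W.2.2.2
    have hty₀ : QType Q W₀.1 (m + 1) (-1) := (not_hyp_iff_qType Q W₀.2.2.1 W₀.2.1).mp W₀.2.2.2
    obtain ⟨g, hg⟩ := exists_isometry_of_hasType (qSub Q W.1) (qSub Q W₀.1) W.2.1 W₀.2.1
      (qSub_nd Q W.2.2.1) (qSub_nd Q W₀.2.2.1) hty hty₀
    apply le_antisymm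
    · exact card_inQ_le Q g hg m
    · refine card_inQ_le Q g.symm (fun w => ?_) m
      have := hg (g.symm w)
      rw [LinearEquiv.apply_symm_apply] at this
      exact this.symm
  · refine ⟨0, fun W => ?_⟩
    exact absurd ⟨W⟩ hne

/-- (EE2) with `e = m + 1` -/
theorem card_ell_dvd_succ (hnd : (pB Q).Nondegenerate) {d : ℕ}
    (hV : finrank F V = 2 * d) {εV : ℤ} (hT : QType Q ⊤ d εV) (m : ℕ) (hmd : m + 1 < d)
    (R : ℤ)
    (hA : ∀ X : Submodule F V, Nd (pB Q) X → finrank F ↥X = 2 * (d - m) →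
      QType Q X (d - m) εV →
      (Nat.card {A : Submodule F V // A ≤ X ∧ finrank F ↥A = 2 ∧ Nd (pB Q) A ∧ ¬ Hyp Q A} : ℤ) *
          (2 * ((Fintype.card F : ℤ) + 1)) = R) :
    (Nat.card {W : Submodule F V // finrank F ↥W = 2 * (m + 1) ∧ Nd (pB Q) W ∧ ¬ Hyp Q W} : ℤ) ∣
      (∏ k : Fin m, (((Fintype.card F : ℤ) ^ (d - k.val) - εV) *
          ((Fintype.card F : ℤ) ^ (d - k.val - 1) + εV) *
          (Fintype.card F : ℤ) ^ (2 * (d - k.val) - 2))) * R := by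
  classical
  haveI : Finite V := Module.finite_of_finite F
  haveI : Fintype {W : Submodule F V // finrank F ↥W = 2 * (m + 1) ∧ Nd (pB Q) W ∧ ¬ Hyp Q W} :=
    Fintype.ofFinite _
  haveI : Fintype {s : Fin m → V × V // IsQFrame Q s} := Fintype.ofFinite _
  haveI : Finite (EllFlag Q m) := by unfold EllFlag; infer_instance
  obtain ⟨N, hN⟩ := exists_card_ellfiber_const Q m
  have hA1 : QA1Stmt Q := fun W hW e hdim h =>
    (Cfsg.Agent.Helper99.QSpGlue.hyp_iff_qType Q hW hdim).mp h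
  -- count by spaces
  have h1 : Nat.card (EllFlag Q m) =
      Nat.card {W : Submodule F V // finrank F ↥W = 2 * (m + 1) ∧ Nd (pB Q) W ∧ ¬ Hyp Q W} * N := by
    rw [Nat.card_congr (Equiv.sigmaFiberEquiv (ellFlagSp Q m)).symm, Nat.card_sigma,
      Finset.sum_congr rfl (fun W _ => hN W), Finset.sum_const, Finset.card_univ,
      ← Nat.card_eq_fintype_card, smul_eq_mul]
  -- count by frames
  have hfib : ∀ s : {s : Fin m → V × V // IsQFrame Q s},
      (Nat.card {t : EllFlag Q m // ellFlagFr Q m t = s} : ℤ) *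
        (2 * ((Fintype.card F : ℤ) + 1)) = R := by
    intro s
    rw [Nat.card_congr (ellFlagFrFiber Q m s)]
    obtain ⟨hXnd, hXdim, hXty⟩ := orth_hSpan_props Q hnd hA1 hV hT (by omega : m ≤ d) s.2
    exact hA _ hXnd hXdim hXty
  have h2 : (Nat.card (EllFlag Q m) : ℤ) * (2 * ((Fintype.card F : ℤ) + 1)) =
      (Nat.card {s : Fin m → V × V // IsQFrame Q s} : ℤ) * R := by
    rw [Nat.card_congr (Equiv.sigmaFiberEquiv (ellFlagFr Q m)).symm, Nat.card_sigma]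
    push_cast
    rw [Finset.sum_mul, Finset.sum_congr rfl (fun s _ => hfib s), Finset.sum_const,
      Finset.card_univ, ← Nat.card_eq_fintype_card, nsmul_eq_mul]
  rw [← Cfsg.Agent.Helper99.QSpGlue.card_qFrame Q hnd hV hT m (by omega), ← h2, h1]
  push_cast
  exact ⟨(N : ℤ) * (2 * ((Fintype.card F : ℤ) + 1)), by ring⟩

/-- **(EE2)** elliptic `2e`-spaces and frames of `e - 1` hyperbolic pairs: the double count
(only the divisibility is needed) -/
theorem card_ell_dvd (Q : QuadraticForm F V) (hnd : (pB Q).Nondegenerate) {d : ℕ}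
    (hV : finrank F V = 2 * d) {εV : ℤ} (hεV : εV = 1 ∨ εV = -1) (hT : QType Q ⊤ d εV) (e : ℕ)
    (he1 : 1 ≤ e) (hed : e < d)
    (hA : ∀ X : Submodule F V, Nd (pB Q) X → finrank F ↥X = 2 * (d - e + 1) →
      QType Q X (d - e + 1) εV →
      (Nat.card {A : Submodule F V // A ≤ X ∧ finrank F ↥A = 2 ∧ Nd (pB Q) A ∧ ¬ Hyp Q A} : ℤ) *
          (2 * ((Fintype.card F : ℤ) + 1)) =
        (Fintype.card F : ℤ) ^ (2 * (d - e + 1) - 2) * ((Fintype.card F : ℤ) ^ (d - e + 1) - εV) *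
          ((Fintype.card F : ℤ) ^ (d - e) - εV)) :
    (Nat.card {W : Submodule F V // finrank F ↥W = 2 * e ∧ Nd (pB Q) W ∧ ¬ Hyp Q W} : ℤ) ∣
      (∏ k : Fin (e - 1), (((Fintype.card F : ℤ) ^ (d - k.val) - εV) *
          ((Fintype.card F : ℤ) ^ (d - k.val - 1) + εV) *
          (Fintype.card F : ℤ) ^ (2 * (d - k.val) - 2))) *
        ((Fintype.card F : ℤ) ^ (2 * (d - e + 1) - 2) * ((Fintype.card F : ℤ) ^ (d - e + 1) - εV) *
          ((Fintype.card F : ℤ) ^ (d - e) - εV)) := by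
  obtain ⟨m, rfl⟩ : ∃ m, e = m + 1 := ⟨e - 1, by omega⟩
  have hde : d - (m + 1) + 1 = d - m := by omega
  rw [hde] at hA ⊢
  rw [Nat.add_sub_cancel]
  exact card_ell_dvd_succ Q hnd hV hT m hed _ hA

end Cfsg.Agent.Helper58.Ell
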