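import Mathlib

set_option autoImplicit false

namespace Cfsg.Agent.Helper58

open Subgroup

section Fix
variable {q : ℕ} {V : Type*} [AddCommGroup V] [Module (ZMod q) V]
  {G : Type*} [Group G] (ρ : G →* (V ≃ₗ[ZMod q] V))

/-- fixed space of `g` -/
def fixSub (g : G) : Submodule (ZMod q) V where
  carrier := {v | ρ g v = v}
  add_mem' := by
    intro a b ha hb
    show ρ g (a + b) = a + b
    rw [map_add, ha.out, hb.out]
  zero_mem' := map_zero _
  smul_mem' := by
    intro c a ha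
    show ρ g (c • a) = c • a
    rw [map_smul, ha.out]

theorem mem_fixSub {g : G} {v : V} : v ∈ fixSub ρ g ↔ ρ g v = v := Iff.rfl

/-- stabilizer of a vector -/
def vecStab (v : V) : Subgroup G where
  carrier := {g | ρ g v = v}
  mul_mem' := by
    intro a b ha hb
    show ρ (a * b) v = v
    rw [map_mul, LinearEquiv.mul_apply, hb.out, ha.out]
  one_mem' := by
    show ρ 1 v = v
    rw [map_one]; rfl
  inv_mem' := by
    intro a ha
    show ρ a⁻¹ v = v
    have h : ρ a v = v := ha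
    calc ρ a⁻¹ v = ρ a⁻¹ (ρ a v) := by rw [h]
      _ = (ρ a⁻¹ * ρ a) v := rfl
      _ = v := by rw [← map_mul, inv_mul_cancel, map_one]; rfl

theorem mem_vecStab {g : G} {v : V} : g ∈ vecStab ρ v ↔ ρ g v = v := Iff.rfl

theorem rho_mul_apply (g h : G) (v : V) : ρ (g * h) v = ρ g (ρ h v) := by
  rw [map_mul]; rfl

theorem map_fixSub (g h : G) :
    (fixSub ρ h).map ((ρ g : V ≃ₗ[ZMod q] V) : V →ₗ[ZMod q] V) = fixSub ρ (g * h * g⁻¹) := by
  ext w
  rw [Submodule.mem_map]
  constructor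
  · rintro ⟨v, hv, rfl⟩
    rw [mem_fixSub] at hv ⊢
    show ρ (g * h * g⁻¹) (ρ g v) = ρ g v
    rw [← rho_mul_apply, inv_mul_cancel_right, rho_mul_apply, hv]
  · intro hw
    rw [mem_fixSub] at hw
    refine ⟨ρ g⁻¹ w, ?_, ?_⟩
    · rw [mem_fixSub, ← rho_mul_apply]
      have : h * g⁻¹ = g⁻¹ * (g * h * g⁻¹) := by group
      rw [this, rho_mul_apply, hw]
    · show ρ g (ρ g⁻¹ w) = w
      rw [← rho_mul_apply, mul_inv_cancel, map_one]; rfl

/-- the averaging operator over the powers of `h` -/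
def avg (p : ℕ) (h : G) : V →ₗ[ZMod q] V :=
  ∑ n ∈ Finset.range p, ((ρ (h ^ n) : V ≃ₗ[ZMod q] V) : V →ₗ[ZMod q] V)

theorem avg_apply (p : ℕ) (h : G) (v : V) :
    avg ρ p h v = ∑ n ∈ Finset.range p, ρ (h ^ n) v := by
  rw [avg, LinearMap.sum_apply]; rfl

theorem avg_mem_fixSub (p : ℕ) (h : G) (hp : h ^ p = 1) (v : V) : avg ρ p h v ∈ fixSub ρ h := by
  rw [mem_fixSub, avg_apply, map_sum]
  have e1 : ∀ n, ρ h (ρ (h ^ n) v) = ρ (h ^ (n + 1)) v := by
    intro n
    rw [← rho_mul_apply, pow_succ']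
  simp_rw [e1]
  have h1 := Finset.sum_range_succ (fun n => ρ (h ^ n) v) p
  have h2 := Finset.sum_range_succ' (fun n => ρ (h ^ n) v) p
  rw [h1] at h2
  simp only [hp, pow_zero] at h2
  exact (add_right_cancel h2).symm

theorem avg_of_mem (p : ℕ) (h : G) (v : V) (hv : v ∈ fixSub ρ h) : avg ρ p h v = p • v := by
  rw [avg_apply]
  have : ∀ n, ρ (h ^ n) v = v := by
    intro n
    have : h ^ n ∈ vecStab ρ v := (vecStab ρ v).pow_mem hv n
    exact this
  simp_rw [this]
  rw [Finset.sum_const, Finset.card_range]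

end Fix

end Cfsg.Agent.Helper58
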