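import Mathlib
import Cfsg.Agent.Helper61.Frobenius

/-!
# Piece (N9) of helper9's S3452 (#7247): a finite group with a nontrivial solvable normal subgroup
whose set of element orders is `{n | n ∣ 8 ∨ n ∣ 10 ∨ n = 3}` (the spectrum of `PGL₂(9)`):
the Frobenius group `3^4 : (5 : 8)`, as `Multiplicative (Fin 4 → ZMod 3) ⋊ C` with
`C = ⟨A, B⟩ ≤ GL₄(3)`, `A` = multiplication by a 5th root of unity `ω` on `F₈₁ = F₃[ω]`,
`B = x ↦ g x³` with `g` a non-square.  The 40 elements `A^i B^j` are tabulated.  (helper58)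
-/

set_option autoImplicit false

namespace Cfsg.Agent.Helper58

namespace GroupNine

open SemidirectProduct

/-- `4 × 4` matrices over `F₃` -/
abbrev Mat := Matrix (Fin 4) (Fin 4) (ZMod 3)

/-- multiplication by `ω` -/
def A : Mat := !![0, 0, 0, 2; 1, 0, 0, 2; 0, 1, 0, 2; 0, 0, 1, 2]

/-- `x ↦ g x³` -/
def B : Mat := !![0, 1, 1, 0; 0, 2, 1, 1; 1, 0, 1, 2; 2, 0, 2, 0]

/-- `A⁻¹ = A⁴` -/
def A4 : Mat := !![2, 1, 0, 0; 2, 0, 1, 0; 2, 0, 0, 1; 2, 0, 0, 0]

/-- `B⁻¹ = B⁷` -/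
def B7 : Mat := !![1, 1, 1, 0; 2, 1, 1, 1; 2, 2, 2, 2; 0, 0, 2, 2]

/-- the table `A^i B^j` -/
def tab : Fin 5 → Fin 8 → Mat :=
  ![
    ![!![1, 0, 0, 0; 0, 1, 0, 0; 0, 0, 1, 0; 0, 0, 0, 1],
      !![0, 1, 1, 0; 0, 2, 1, 1; 1, 0, 1, 2; 2, 0, 2, 0],
      !![1, 2, 2, 0; 0, 1, 2, 1; 2, 1, 0, 2; 2, 2, 1, 1],
      !![2, 2, 2, 0; 1, 2, 2, 2; 1, 1, 1, 1; 0, 0, 1, 1],
      !![2, 0, 0, 0; 0, 2, 0, 0; 0, 0, 2, 0; 0, 0, 0, 2],
      !![0, 2, 2, 0; 0, 1, 2, 2; 2, 0, 2, 1; 1, 0, 1, 0],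
      !![2, 1, 1, 0; 0, 2, 1, 2; 1, 2, 0, 1; 1, 1, 2, 2],
      !![1, 1, 1, 0; 2, 1, 1, 1; 2, 2, 2, 2; 0, 0, 2, 2]],
    ![!![0, 0, 0, 2; 1, 0, 0, 2; 0, 1, 0, 2; 0, 0, 1, 2],
      !![1, 0, 1, 0; 1, 1, 2, 0; 1, 2, 2, 1; 2, 0, 2, 2],
      !![1, 1, 2, 2; 2, 0, 1, 2; 1, 2, 1, 0; 0, 2, 2, 1],
      !![0, 0, 2, 2; 2, 2, 1, 2; 1, 2, 1, 1; 1, 1, 0, 0],
      !![0, 0, 0, 1; 2, 0, 0, 1; 0, 2, 0, 1; 0, 0, 2, 1],
      !![2, 0, 2, 0; 2, 2, 1, 0; 2, 1, 1, 2; 1, 0, 1, 1],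
      !![2, 2, 1, 1; 1, 0, 2, 1; 2, 1, 2, 0; 0, 1, 1, 2],
      !![0, 0, 1, 1; 1, 1, 2, 1; 2, 1, 2, 2; 2, 2, 0, 0]],
    ![!![0, 0, 2, 1; 0, 0, 2, 0; 1, 0, 2, 0; 0, 1, 2, 0],
      !![1, 0, 1, 1; 2, 0, 2, 1; 2, 1, 0, 1; 2, 2, 0, 2],
      !![0, 1, 1, 2; 1, 2, 0, 1; 2, 1, 2, 1; 1, 0, 2, 2],
      !![2, 2, 0, 0; 2, 2, 2, 2; 1, 1, 1, 2; 0, 1, 1, 1],
      !![0, 0, 1, 2; 0, 0, 1, 0; 2, 0, 1, 0; 0, 2, 1, 0],
      !![2, 0, 2, 2; 1, 0, 1, 2; 1, 2, 0, 2; 1, 1, 0, 1],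
      !![0, 2, 2, 1; 2, 1, 0, 2; 1, 2, 1, 2; 2, 0, 1, 1],
      !![1, 1, 0, 0; 1, 1, 1, 1; 2, 2, 2, 1; 0, 2, 2, 2]],
    ![!![0, 2, 1, 0; 0, 2, 0, 1; 0, 2, 0, 0; 1, 2, 0, 0],
      !![1, 1, 0, 1; 2, 1, 1, 2; 0, 1, 2, 2; 0, 2, 0, 2],
      !![2, 0, 1, 1; 2, 1, 2, 0; 0, 2, 1, 2; 1, 1, 0, 2],
      !![0, 2, 2, 2; 2, 1, 2, 2; 2, 1, 1, 1; 1, 0, 0, 1],
      !![0, 1, 2, 0; 0, 1, 0, 2; 0, 1, 0, 0; 2, 1, 0, 0],
      !![2, 2, 0, 2; 1, 2, 2, 1; 0, 2, 1, 1; 0, 1, 0, 1],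
      !![1, 0, 2, 2; 1, 2, 1, 0; 0, 1, 2, 1; 2, 2, 0, 1],
      !![0, 1, 1, 1; 1, 2, 1, 1; 1, 2, 2, 2; 2, 0, 0, 2]],
    ![!![2, 1, 0, 0; 2, 0, 1, 0; 2, 0, 0, 1; 2, 0, 0, 0],
      !![0, 1, 0, 1; 1, 2, 0, 2; 2, 2, 1, 0; 0, 2, 2, 0],
      !![2, 2, 0, 1; 1, 2, 1, 2; 1, 0, 2, 1; 2, 1, 1, 0],
      !![2, 0, 0, 2; 2, 2, 2, 1; 1, 1, 2, 1; 1, 1, 1, 0],
      !![1, 2, 0, 0; 1, 0, 2, 0; 1, 0, 0, 2; 1, 0, 0, 0],
      !![0, 2, 0, 2; 2, 1, 0, 1; 1, 1, 2, 0; 0, 1, 1, 0],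
      !![1, 1, 0, 2; 2, 1, 2, 1; 2, 0, 1, 2; 1, 2, 2, 0],
      !![1, 0, 0, 1; 1, 1, 1, 2; 2, 2, 1, 2; 2, 2, 2, 0]]]

/-! ## the computations -/

theorem A_mul_A4 : A * A4 = 1 := by decide +kernel
theorem A4_mul_A : A4 * A = 1 := by decide +kernel
theorem B_mul_B7 : B * B7 = 1 := by decide +kernel
theorem B7_mul_B : B7 * B = 1 := by decide +kernel

theorem tab_zero : tab 0 0 = 1 := by decide +kernel
theorem tab_A : ∀ i j, A * tab i j = tab (i + 1) j := by decide +kernel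
theorem tab_B : ∀ i j, B * tab i j = tab (3 * i) (j + 1) := by decide +kernel
theorem tab_A4 : ∀ i j, A4 * tab i j = tab (i + 4) j := by decide +kernel
theorem tab_B7 : ∀ i j, B7 * tab i j = tab (2 * i) (j + 7) := by decide +kernel

/-- `M ^ 8`, by squaring -/
def pow8 (M : Mat) : Mat := ((M * M) * (M * M)) * ((M * M) * (M * M))

/-- `M ^ 10`, by squaring -/
def pow10 (M : Mat) : Mat := pow8 M * (M * M)

theorem pow8_eq (M : Mat) : pow8 M = M ^ 8 := by
  unfold pow8; noncomm_ring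

theorem pow10_eq (M : Mat) : pow10 M = M ^ 10 := by
  unfold pow10 pow8; noncomm_ring

theorem tab_pow' : ∀ i j, pow8 (tab i j) = 1 ∨ pow10 (tab i j) = 1 := by decide +kernel

theorem tab_pow (i : Fin 5) (j : Fin 8) : tab i j ^ 8 = 1 ∨ tab i j ^ 10 = 1 := by
  rw [← pow8_eq, ← pow10_eq]; exact tab_pow' i j

/-- `∑_{k < 40} M ^ k`, as a product -/
def T (M : Mat) : Mat :=
  (1 + M) * ((1 + M * M) * ((1 + (M * M) * (M * M)) *
    (1 + pow8 M + pow8 M * pow8 M + pow8 M * pow8 M * pow8 M +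
      pow8 M * pow8 M * (pow8 M * pow8 M))))

theorem tab_T : ∀ i j, tab i j = 1 ∨ T (tab i j) = 0 := by decide +kernel

theorem mulVec_fix_mul {M N : Mat} {v : Fin 4 → ZMod 3} (hM : M.mulVec v = v)
    (hN : N.mulVec v = v) : (M * N).mulVec v = v := by
  rw [← Matrix.mulVec_mulVec, hN, hM]

theorem two_smul_of_fix {M : Mat} {v : Fin 4 → ZMod 3} (hM : M.mulVec v = v) (c : ZMod 3) :
    (1 + M).mulVec (c • v) = (2 * c) • v := by
  rw [Matrix.mulVec_smul, Matrix.add_mulVec, Matrix.one_mulVec, hM, ← two_smul (ZMod 3) v,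
    smul_smul, mul_comm]

/-- a vector fixed by `M` is fixed by `T M` -/
theorem T_fix {M : Mat} {v : Fin 4 → ZMod 3} (hM : M.mulVec v = v) : (T M).mulVec v = v := by
  have h2 := mulVec_fix_mul hM hM
  have h4 := mulVec_fix_mul h2 h2
  have h8 : (pow8 M).mulVec v = v := mulVec_fix_mul h4 h4
  have h16 := mulVec_fix_mul h8 h8
  have h24 := mulVec_fix_mul h16 h8
  have h32 := mulVec_fix_mul h16 h16
  have hlast : (1 + pow8 M + pow8 M * pow8 M + pow8 M * pow8 M * pow8 M +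
      pow8 M * pow8 M * (pow8 M * pow8 M)).mulVec v = (2 : ZMod 3) • v := by
    rw [Matrix.add_mulVec, Matrix.add_mulVec, Matrix.add_mulVec, Matrix.add_mulVec,
      Matrix.one_mulVec, h8, h16, h24, h32]
    have : (2 : ZMod 3) = 1 + 1 + 1 + 1 + 1 := by decide
    rw [this, add_smul, add_smul, add_smul, add_smul, one_smul]
  unfold T
  rw [← Matrix.mulVec_mulVec, ← Matrix.mulVec_mulVec, ← Matrix.mulVec_mulVec, hlast,
    two_smul_of_fix h4, two_smul_of_fix h2, two_smul_of_fix hM]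
  have : (2 * (2 * (2 * 2)) : ZMod 3) = 1 := by decide
  rw [this, one_smul]

/-! ## the complement `C = ⟨A, B⟩` -/

/-- `A` as a unit -/
def Au : Matˣ := ⟨A, A4, A_mul_A4, A4_mul_A⟩

/-- `B` as a unit -/
def Bu : Matˣ := ⟨B, B7, B_mul_B7, B7_mul_B⟩

/-- the Frobenius complement `5 : 8` -/
def C : Subgroup Matˣ := Subgroup.closure {Au, Bu}

theorem Au_mem : Au ∈ C := Subgroup.subset_closure (by simp)
theorem Bu_mem : Bu ∈ C := Subgroup.subset_closure (by simp)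

/-- every element of `C` is in the table -/
theorem mem_C {c : Matˣ} (hc : c ∈ C) : ∃ i j, (c : Mat) = tab i j := by
  unfold C at hc
  induction hc using Subgroup.closure_induction_left with
  | one => exact ⟨0, 0, tab_zero.symm⟩
  | mul_left x hx y hy ih =>
    obtain ⟨i, j, hij⟩ := ih
    rcases hx with rfl | rfl
    · exact ⟨i + 1, j, by rw [Units.val_mul, hij]; exact tab_A i j⟩
    · exact ⟨3 * i, j + 1, by rw [Units.val_mul, hij]; exact tab_B i j⟩
  | inv_mul_cancel x hx y hy ih =>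
    obtain ⟨i, j, hij⟩ := ih
    rcases hx with rfl | rfl
    · exact ⟨i + 4, j, by rw [Units.val_mul, hij]; exact tab_A4 i j⟩
    · exact ⟨2 * i, j + 7, by rw [Units.val_mul, hij]; exact tab_B7 i j⟩

theorem orderOf_C (c : C) : orderOf c ∣ 8 ∨ orderOf c ∣ 10 := by
  obtain ⟨i, j, hij⟩ := mem_C c.2
  rw [← Subgroup.orderOf_coe, ← orderOf_units]
  rcases tab_pow i j with h | h
  · left; apply orderOf_dvd_of_pow_eq_one; rw [hij]; exact h
  · right; apply orderOf_dvd_of_pow_eq_one; rw [hij]; exact h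

theorem B_pow_four : B ^ 4 ≠ 1 := by decide +kernel
theorem B_pow_eight : B ^ 8 = 1 := by decide +kernel
theorem A_pow_five : A ^ 5 = 1 := by decide +kernel
theorem A_ne_one : A ≠ 1 := by decide +kernel
theorem A_comm_B4 : A * B ^ 4 = B ^ 4 * A := by decide +kernel

theorem orderOf_Bu : orderOf Bu = 8 := by
  have h := orderOf_eq_prime_pow (x := Bu) (p := 2) (n := 2)
    (by
      intro h
      apply B_pow_four
      have := congrArg Units.val h
      rwa [Units.val_pow_eq_pow_val, Units.val_one] at this)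
    (by
      apply Units.ext
      rw [Units.val_pow_eq_pow_val, Units.val_one]
      exact B_pow_eight)
  simpa using h

theorem orderOf_Au : orderOf Au = 5 := by
  haveI : Fact (Nat.Prime 5) := ⟨by norm_num⟩
  apply orderOf_eq_prime
  · apply Units.ext
    rw [Units.val_pow_eq_pow_val, Units.val_one]
    exact A_pow_five
  · intro h
    exact A_ne_one (congrArg Units.val h)

theorem range_orderOf_C : Set.range (orderOf : C → ℕ) = {n | n ∣ 8 ∨ n ∣ 10} := by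
  ext n
  simp only [Set.mem_range, Set.mem_ofPred_eq]
  constructor
  · rintro ⟨c, rfl⟩
    exact orderOf_C c
  · intro hn
    have hB2 : orderOf (Bu ^ 2) = 4 := by
      rw [orderOf_pow_of_dvd (by norm_num) (by rw [orderOf_Bu]; norm_num), orderOf_Bu]
    have hB4 : orderOf (Bu ^ 4) = 2 := by
      rw [orderOf_pow_of_dvd (by norm_num) (by rw [orderOf_Bu]; norm_num), orderOf_Bu]
    have hAB : orderOf (Au * Bu ^ 4) = 10 := by
      have hcomm : Commute Au (Bu ^ 4) := by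
        apply Units.ext
        rw [Units.val_mul, Units.val_mul, Units.val_pow_eq_pow_val]
        exact A_comm_B4
      rw [hcomm.orderOf_mul_eq_mul_orderOf_of_coprime (by rw [orderOf_Au, hB4]; norm_num),
        orderOf_Au, hB4]
    have hn' : n = 1 ∨ n = 2 ∨ n = 4 ∨ n = 8 ∨ n = 5 ∨ n = 10 := by
      rcases hn with h | h
      · have := Nat.le_of_dvd (by norm_num) h
        interval_cases n <;> simp_all
      · have := Nat.le_of_dvd (by norm_num) h
        interval_cases n <;> simp_all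
    rcases hn' with rfl | rfl | rfl | rfl | rfl | rfl
    · exact ⟨1, orderOf_one⟩
    · exact ⟨⟨Bu ^ 4, C.pow_mem Bu_mem 4⟩, by rw [← Subgroup.orderOf_coe]; exact hB4⟩
    · exact ⟨⟨Bu ^ 2, C.pow_mem Bu_mem 2⟩, by rw [← Subgroup.orderOf_coe]; exact hB2⟩
    · exact ⟨⟨Bu, Bu_mem⟩, by rw [← Subgroup.orderOf_coe]; exact orderOf_Bu⟩
    · exact ⟨⟨Au, Au_mem⟩, by rw [← Subgroup.orderOf_coe]; exact orderOf_Au⟩
    · exact ⟨⟨Au * Bu ^ 4, C.mul_mem Au_mem (C.pow_mem Bu_mem 4)⟩,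
        by rw [← Subgroup.orderOf_coe]; exact hAB⟩

/-! ## the action on `3^4` -/

/-- the kernel `3^4` -/
abbrev N := Multiplicative (Fin 4 → ZMod 3)

/-- `GL₄(3)` acting on `3^4` -/
def act : Matˣ →* MulAut N where
  toFun g :=
    { toFun := fun v => Multiplicative.ofAdd ((g : Mat).mulVec (Multiplicative.toAdd v))
      invFun := fun v =>
        Multiplicative.ofAdd (((g⁻¹ : Matˣ) : Mat).mulVec (Multiplicative.toAdd v))
      left_inv := fun v => by
        show Multiplicative.ofAdd (((g⁻¹ : Matˣ) : Mat).mulVec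
          ((g : Mat).mulVec (Multiplicative.toAdd v))) = v
        rw [Matrix.mulVec_mulVec, Units.inv_mul, Matrix.one_mulVec]; rfl
      right_inv := fun v => by
        show Multiplicative.ofAdd ((g : Mat).mulVec
          (((g⁻¹ : Matˣ) : Mat).mulVec (Multiplicative.toAdd v))) = v
        rw [Matrix.mulVec_mulVec, Units.mul_inv, Matrix.one_mulVec]; rfl
      map_mul' := fun v w => by
        show Multiplicative.ofAdd ((g : Mat).mulVec
            (Multiplicative.toAdd v + Multiplicative.toAdd w)) =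
          Multiplicative.ofAdd ((g : Mat).mulVec (Multiplicative.toAdd v)) *
            Multiplicative.ofAdd ((g : Mat).mulVec (Multiplicative.toAdd w))
        rw [Matrix.mulVec_add]; rfl }
  map_one' := by
    apply MulEquiv.ext
    intro v
    show Multiplicative.ofAdd (((1 : Matˣ) : Mat).mulVec (Multiplicative.toAdd v)) = v
    rw [Units.val_one, Matrix.one_mulVec]; rfl
  map_mul' g h := by
    apply MulEquiv.ext
    intro v
    show Multiplicative.ofAdd (((g * h : Matˣ) : Mat).mulVec (Multiplicative.toAdd v)) =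
      Multiplicative.ofAdd ((g : Mat).mulVec ((h : Mat).mulVec (Multiplicative.toAdd v)))
    rw [Units.val_mul, Matrix.mulVec_mulVec]

theorem act_apply (g : Matˣ) (v : N) :
    act g v = Multiplicative.ofAdd ((g : Mat).mulVec (Multiplicative.toAdd v)) := rfl

/-- the action of `C` -/
def φ : C →* MulAut N := act.comp C.subtype

theorem fpf (c : C) (hc : c ≠ 1) (n : N) (h : φ c n = n) : n = 1 := by
  obtain ⟨i, j, hij⟩ := mem_C c.2
  have hfix : (tab i j).mulVec (Multiplicative.toAdd n) = Multiplicative.toAdd n := by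
    rw [← hij]
    exact congrArg Multiplicative.toAdd h
  rcases tab_T i j with h1 | hT
  · exfalso
    apply hc
    apply Subtype.ext
    apply Units.ext
    rw [hij, h1]; rfl
  · have := T_fix hfix
    rw [hT, Matrix.zero_mulVec] at this
    show n = Multiplicative.ofAdd 0
    rw [this]; rfl

theorem N_pow_three (n : N) : n ^ 3 = 1 := by
  show Multiplicative.ofAdd ((3 : ℕ) • Multiplicative.toAdd n) = Multiplicative.ofAdd 0
  congr 1
  funext k
  simp only [Pi.smul_apply, Pi.zero_apply, nsmul_eq_mul]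
  have : ((3 : ℕ) : ZMod 3) = 0 := by decide
  rw [this, zero_mul]

/-- the group `3^4 : (5 : 8)` -/
abbrev G9 := N ⋊[φ] C

theorem range_orderOf_G9 :
    Set.range (orderOf : G9 → ℕ) = {n | n ∣ 8 ∨ n ∣ 10 ∨ n = 3} := by
  rw [Cfsg.Agent.Helper61.range_orderOf_frobenius φ 3 (by norm_num) N_pow_three
    ⟨Multiplicative.ofAdd (fun _ => 1), by
      intro h
      have := congrFun (congrArg Multiplicative.toAdd h) 0
      exact absurd this (by decide)⟩ fpf, range_orderOf_C]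
  ext n
  simp only [Set.mem_union, Set.mem_ofPred_eq]
  constructor
  · rintro (h | h | h)
    · rcases (Nat.dvd_prime (by norm_num : Nat.Prime 3)).1 h with rfl | rfl
      · left; exact one_dvd _
      · right; right; rfl
    · left; exact h
    · right; left; exact h
  · rintro (h | h | rfl)
    · right; left; exact h
    · right; right; exact h
    · left; exact dvd_rfl

end GroupNine

open GroupNine in
/-- **(N9)** a finite group with a nontrivial solvable normal subgroup and the spectrum of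
`PGL₂(9)` -/
theorem exists_group_nine : ∃ (G : Type) (_ : Group G) (_ : Finite G) (K : Subgroup G),
    K.Normal ∧ K ≠ ⊥ ∧ Group.IsSolvable K ∧
      Set.range (orderOf : G → ℕ) = {n | n ∣ 8 ∨ n ∣ 10 ∨ n = 3} := by
  refine ⟨G9, inferInstance, Finite.of_equiv _ (SemidirectProduct.equivProd (φ := φ)).symm,
    (SemidirectProduct.inl : N →* G9).range, ?_, ?_, ?_, range_orderOf_G9⟩
  · rw [SemidirectProduct.range_inl_eq_ker_rightHom]
    infer_instance
  · intro h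
    have hmem : (SemidirectProduct.inl (Multiplicative.ofAdd (fun _ => (1 : ZMod 3))) : G9) ∈
        (SemidirectProduct.inl : N →* G9).range := ⟨_, rfl⟩
    rw [h, Subgroup.mem_bot] at hmem
    have h1 := SemidirectProduct.inl_injective (hmem.trans (map_one _).symm)
    have := congrFun (congrArg Multiplicative.toAdd h1) 0
    exact absurd this (by decide)
  · apply Group.isSolvable_of_comm
    rintro ⟨_, a, rfl⟩ ⟨_, b, rfl⟩
    apply Subtype.ext
    show SemidirectProduct.inl a * SemidirectProduct.inl b =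
      SemidirectProduct.inl b * SemidirectProduct.inl a
    rw [← map_mul, ← map_mul, mul_comm]

end Cfsg.Agent.Helper58
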