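import Mathlib

/-!
# Half-transitive automorphism groups (Isaacs–Passman)

If a finite group `K` acts faithfully by automorphisms on a finite group `N`, all orbits on
`N \ {1}` have the same size, and some non-identity element has a non-trivial stabilizer,
then `N` is elementary abelian and `K` acts irreducibly.
-/

set_option linter.unusedSectionVars false
set_option linter.style.haveILetI false

namespace Cfsg.Agent.Helper58

open MulAction
open scoped Pointwise



/-- If every stabilizer has order `s`, then `|T|` divides `s * |F|`. -/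
theorem card_dvd_mul_card_of_stabilizer {T F : Type*} [Group T] [Finite T] [MulAction T F]
    [Finite F] (s : ℕ) (hs : ∀ z : F, Nat.card (stabilizer T z) = s) :
    Nat.card T ∣ s * Nat.card F := by
  classical
  have e := MulAction.selfEquivSigmaOrbits T F
  letI : Fintype (MulAction.orbitRel.Quotient T F) := Fintype.ofFinite _
  rw [Nat.card_congr e, Nat.card_sigma, Finset.mul_sum]
  apply Finset.dvd_sum
  intro ω _
  have h1 := MulAction.index_stabilizer T (Quotient.out ω)
  have h2 := Subgroup.card_mul_index (stabilizer T (Quotient.out ω))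
  rw [hs, h1, ← Nat.card_coe_set_eq] at h2
  rw [h2]

/-- Coprime blocks lemma. -/
theorem stabilizer_eq_of_coprime_fiber {K X Y : Type*} [Group K] [Finite K] [MulAction K X]
    [MulAction K Y] (π : X → Y) (hπ : ∀ (g : K) (x : X), π (g • x) = g • π x) (x : X)
    [Finite {z : X // π z = π x}] (s k : ℕ)
    (hs : ∀ z : X, π z = π x → Nat.card (stabilizer K z) = s)
    (hK : Nat.card K = k * s)
    (hcop : (Nat.card {z : X // π z = π x}).Coprime k) :
    stabilizer K (π x) = stabilizer K x := by
  classical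
  have hle : stabilizer K x ≤ stabilizer K (π x) := by
    intro g hg
    rw [mem_stabilizer_iff] at hg ⊢
    rw [← hπ, hg]
  set T := stabilizer K (π x) with hT
  -- the fibre as a sub-action of T
  let F : SubMulAction T X :=
    { carrier := {z | π z = π x}
      smul_mem' := by
        intro t z hz
        show π ((t : K) • z) = π x
        rw [hπ, hz]
        exact t.2 }
  have : Finite F := ‹Finite {z : X // π z = π x}›
  have hstab : ∀ z : F, Nat.card (stabilizer T z) = s := by
    intro z
    rw [SubMulAction.stabilizer_of_subMul]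
    have hz : π (z : X) = π x := z.2
    have hzle : stabilizer K (z : X) ≤ T := by
      intro g hg
      rw [mem_stabilizer_iff] at hg
      rw [hT, mem_stabilizer_iff, ← hz, ← hπ, hg]
    have : stabilizer T (z : X) = (stabilizer K (z : X)).subgroupOf T := by
      ext t
      rw [mem_stabilizer_iff, Subgroup.mem_subgroupOf, mem_stabilizer_iff]
      rfl
    rw [this, Nat.card_congr (Subgroup.subgroupOfEquivOfLe hzle).toEquiv]
    exact hs _ hz
  have h1 := card_dvd_mul_card_of_stabilizer (T := T) (F := F) s hstab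
  have hs0 : 0 < s := by
    rw [← hs x rfl]; exact Nat.card_pos
  have h2 : s ∣ Nat.card T := by
    rw [← hs x rfl]; exact Subgroup.card_dvd_of_le hle
  obtain ⟨m, hm⟩ := h2
  have h3 : Nat.card T ∣ Nat.card K := Subgroup.card_subgroup_dvd_card T
  have hFc : Nat.card F = Nat.card {z : X // π z = π x} := rfl
  rw [hm, hFc] at h1
  rw [hm, hK, mul_comm k s] at h3
  have h1' : m ∣ Nat.card {z : X // π z = π x} := Nat.dvd_of_mul_dvd_mul_left hs0 h1
  have h3' : m ∣ k := Nat.dvd_of_mul_dvd_mul_left hs0 h3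
  have hm1 : m = 1 := Nat.eq_one_of_dvd_coprimes hcop h1' h3'
  rw [hm1, mul_one] at hm
  symm
  apply Subgroup.eq_of_le_of_card_ge hle
  rw [hm, hs x rfl]


section IP
variable {K N : Type*} [Group K] [Group N] [MulDistribMulAction K N] [Finite K] [Finite N]


theorem ht_smul_ne_one {g : K} {x : N} (hx : x ≠ 1) : g • x ≠ 1 := by
  intro h
  apply hx
  have : g⁻¹ • (g • x) = g⁻¹ • (1 : N) := by rw [h]
  rwa [inv_smul_smul, smul_one] at this

theorem ht_dvd_card_sub_one (s k : ℕ) (hK : Nat.card K = k * s)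
    (hs : ∀ x : N, x ≠ 1 → Nat.card (stabilizer K x) = s) (hs0 : 0 < s) :
    k ∣ Nat.card N - 1 := by
  classical
  let X : SubMulAction K N :=
    { carrier := {x | x ≠ 1}
      smul_mem' := fun g x hx => ht_smul_ne_one hx }
  have hX : ∀ z : X, Nat.card (stabilizer K z) = s := by
    intro z
    rw [SubMulAction.stabilizer_of_subMul]
    exact hs _ z.2
  have h1 := card_dvd_mul_card_of_stabilizer (T := K) (F := X) s hX
  have hXc : Nat.card X = Nat.card N - 1 := by
    have : Nat.card X = Nat.card {x : N // x ≠ 1} := rfl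
    rw [this]
    haveI := Fintype.ofFinite N
    rw [Nat.card_eq_fintype_card, Nat.card_eq_fintype_card, Fintype.card_subtype_compl,
      Fintype.card_subtype_eq]
  rw [hK, hXc, mul_comm k s] at h1
  exact Nat.dvd_of_mul_dvd_mul_left hs0 h1

theorem ht_coprime {k d : ℕ} (hkN : k ∣ Nat.card N - 1) (hd : d ∣ Nat.card N) : d.Coprime k := by
  have hpos : 1 ≤ Nat.card N := Nat.card_pos
  have h : (Nat.card N).Coprime (Nat.card N - 1) := by
    rw [Nat.coprime_self_sub_right hpos]
    exact Nat.coprime_one_right _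
  exact Nat.Coprime.coprime_dvd_left hd (Nat.Coprime.coprime_dvd_right hkN h)



/-- the conjugacy class map -/
def conjSet (x : N) : Set N := {z | IsConj x z}

theorem conjSet_smul (g : K) (x : N) : conjSet (g • x) = g • conjSet x := by
  ext z
  rw [Set.mem_smul_set]
  constructor
  · intro hz
    obtain ⟨c, hc⟩ := isConj_iff.mp hz
    refine ⟨g⁻¹ • z, ?_, smul_inv_smul g z⟩
    show IsConj x (g⁻¹ • z)
    rw [isConj_iff]
    refine ⟨g⁻¹ • c, ?_⟩
    rw [← hc, smul_mul', smul_mul', inv_smul_smul, smul_inv']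
  · rintro ⟨w, hw, rfl⟩
    obtain ⟨c, hc⟩ := isConj_iff.mp hw
    show IsConj (g • x) (g • w)
    rw [isConj_iff]
    refine ⟨g • c, ?_⟩
    rw [← hc, smul_mul', smul_mul', smul_inv']

theorem conjSet_eq_iff (x z : N) : conjSet z = conjSet x ↔ IsConj x z := by
  constructor
  · intro h
    have : z ∈ conjSet z := IsConj.refl z
    rw [h] at this
    exact this
  · intro h
    ext w
    exact ⟨fun hw => h.trans hw, fun hw => h.symm.trans hw⟩

theorem card_conjSet_dvd (x : N) : Nat.card {z : N // conjSet z = conjSet x} ∣ Nat.card N := by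
  have h1 : Nat.card {z : N // conjSet z = conjSet x} = Nat.card (orbit (ConjAct N) x) := by
    apply Nat.card_congr
    refine Equiv.subtypeEquivRight ?_
    intro z
    rw [conjSet_eq_iff, ConjAct.mem_orbit_conjAct]
    exact ⟨IsConj.symm, IsConj.symm⟩
  rw [h1, Nat.card_coe_set_eq, ← MulAction.index_stabilizer]
  exact Subgroup.index_dvd_card _

theorem ht_class (s k : ℕ) (hK : Nat.card K = k * s)
    (hs : ∀ x : N, x ≠ 1 → Nat.card (stabilizer K x) = s) (hkN : k ∣ Nat.card N - 1)
    {x : N} (hx : x ≠ 1) (g : K) (h : N) (hg : g • x = h * x * h⁻¹) : g • x = x := by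
  have key := stabilizer_eq_of_coprime_fiber (K := K) (X := N) (Y := Set N) conjSet
    conjSet_smul x s k ?_ hK (ht_coprime hkN (card_conjSet_dvd x))
  · have : g ∈ stabilizer K (conjSet x) := by
      rw [mem_stabilizer_iff, ← conjSet_smul, conjSet_eq_iff, isConj_iff]
      exact ⟨h, hg.symm⟩
    rw [key] at this
    exact this
  · intro z hz
    apply hs
    rw [conjSet_eq_iff] at hz
    rintro rfl
    exact hx (isConj_one_left.mp hz)

theorem ht_fix_conj (s k : ℕ) (hK : Nat.card K = k * s)
    (hs : ∀ x : N, x ≠ 1 → Nat.card (stabilizer K x) = s) (hkN : k ∣ Nat.card N - 1)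
    (g : K) (x h : N) (hgx : g • x = x) : g • (h * x * h⁻¹) = h * x * h⁻¹ := by
  by_cases hx : x = 1
  · subst hx; simp
  have hy : h * x * h⁻¹ ≠ 1 := by
    intro h1
    apply hx
    have : x = h⁻¹ * (h * x * h⁻¹) * h := by group
    rw [this, h1]; group
  apply ht_class s k hK hs hkN hy g (g • h * h⁻¹)
  rw [smul_mul', smul_mul', smul_inv', hgx]
  group



theorem ht_commute_of_ne (s k : ℕ) (hK : Nat.card K = k * s)
    (hs : ∀ x : N, x ≠ 1 → Nat.card (stabilizer K x) = s) (hkN : k ∣ Nat.card N - 1)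
    (x y : N) (hx : x ≠ 1) (hy : y ≠ 1) (hne : stabilizer K x ≠ stabilizer K y) :
    x * y = y * x := by
  by_contra hxy
  set c := x * y * x⁻¹ * y⁻¹ with hc
  have hc1 : c ≠ 1 := by
    intro h
    apply hxy
    have : x * y = c * (y * x) := by rw [hc]; group
    rw [this, h, one_mul]
  have h1 : stabilizer K x ≤ stabilizer K c := by
    intro g hg
    rw [mem_stabilizer_iff] at hg ⊢
    have hxi : g • x⁻¹ = x⁻¹ := by rw [smul_inv', hg]
    have h2 := ht_fix_conj s k hK hs hkN g x⁻¹ y hxi
    have : c = x * (y * x⁻¹ * y⁻¹) := by rw [hc]; group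
    rw [this, smul_mul', hg, h2]
  have h2 : stabilizer K y ≤ stabilizer K c := by
    intro g hg
    rw [mem_stabilizer_iff] at hg ⊢
    have hyi : g • y⁻¹ = y⁻¹ := by rw [smul_inv', hg]
    have h2 := ht_fix_conj s k hK hs hkN g y x hg
    rw [hc, smul_mul', hyi, h2]
  have e1 : stabilizer K x = stabilizer K c :=
    Subgroup.eq_of_le_of_card_ge h1 (by rw [hs x hx, hs c hc1])
  have e2 : stabilizer K y = stabilizer K c :=
    Subgroup.eq_of_le_of_card_ge h2 (by rw [hs y hy, hs c hc1])
  exact hne (e1.trans e2.symm)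

theorem ht_comm [FaithfulSMul K N] (s k : ℕ) (hK : Nat.card K = k * s)
    (hs : ∀ x : N, x ≠ 1 → Nat.card (stabilizer K x) = s) (hkN : k ∣ Nat.card N - 1)
    (hs1 : 1 < s) (x w : N) : x * w = w * x := by
  by_cases hx : x = 1
  · subst hx; simp
  by_cases hw : w = 1
  · subst hw; simp
  by_cases hne : stabilizer K x = stabilizer K w
  swap
  · exact ht_commute_of_ne s k hK hs hkN x w hx hw hne
  -- same stabilizer S
  have hSne : stabilizer K x ≠ ⊥ := by
    rw [← Subgroup.one_lt_card_iff_ne_bot, hs x hx]; exact hs1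
  obtain ⟨g, hgS, hg1⟩ : ∃ g : K, g ∈ stabilizer K x ∧ g ≠ 1 := by
    obtain ⟨g, hg⟩ := (Subgroup.ne_bot_iff_exists_ne_one).mp hSne
    exact ⟨(g : K), g.2, fun h => hg (Subtype.ext h)⟩
  -- some y moved by g
  have : ∃ y : N, g • y ≠ y := by
    by_contra hcon
    push Not at hcon
    apply hg1
    apply eq_of_smul_eq_smul (α := N)
    intro a
    rw [hcon a, one_smul]
  obtain ⟨y, hy⟩ := this
  have hy1 : y ≠ 1 := by
    rintro rfl
    exact hy (smul_one g)
  have hgx : g • x = x := hgS
  have hgw : g • w = w := by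
    rw [hne] at hgS; exact hgS
  have hxy : x * y = y * x := by
    apply ht_commute_of_ne s k hK hs hkN x y hx hy1
    intro h
    rw [h] at hgS
    exact hy hgS
  have hwy1 : w * y ≠ 1 := by
    intro h
    have : y = w⁻¹ := by
      rw [eq_inv_iff_mul_eq_one, ← h]
      have : g • (w * y) = w * y := by rw [h, smul_one]
      rw [smul_mul', hgw] at this
      exact absurd (mul_left_cancel this) hy
    rw [this] at hy
    apply hy
    rw [smul_inv', hgw]
  have hxwy : x * (w * y) = (w * y) * x := by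
    apply ht_commute_of_ne s k hK hs hkN x (w * y) hx hwy1
    intro h
    rw [h] at hgS
    rw [mem_stabilizer_iff, smul_mul', hgw] at hgS
    exact hy (mul_left_cancel hgS)
  -- x commutes with w = (w*y) * y⁻¹
  have : x * w * y = w * x * y := by
    calc x * w * y = x * (w * y) := by group
      _ = w * y * x := hxwy
      _ = w * (y * x) := by group
      _ = w * (x * y) := by rw [hxy]
      _ = w * x * y := by group
  exact mul_right_cancel this



/-- the coset map -/
def cosetSet (L : Subgroup N) (y : N) : Set N := {z | y⁻¹ * z ∈ L}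

theorem cosetSet_smul (L : Subgroup N) (hL : ∀ g : K, ∀ x ∈ L, g • x ∈ L) (g : K) (y : N) :
    cosetSet L (g • y) = g • cosetSet L y := by
  ext z
  rw [Set.mem_smul_set]
  constructor
  · intro hz
    refine ⟨g⁻¹ • z, ?_, smul_inv_smul g z⟩
    show y⁻¹ * g⁻¹ • z ∈ L
    have h1 : (g • y)⁻¹ * z ∈ L := hz
    have h2 := hL g⁻¹ _ h1
    rwa [smul_mul', smul_inv', inv_smul_smul] at h2
  · rintro ⟨w, hw, rfl⟩
    show (g • y)⁻¹ * g • w ∈ L
    have h1 : y⁻¹ * w ∈ L := hw
    have h2 := hL g _ h1
    rwa [smul_mul', smul_inv'] at h2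

theorem cosetSet_eq_iff (L : Subgroup N) (y z : N) : cosetSet L z = cosetSet L y ↔ y⁻¹ * z ∈ L := by
  constructor
  · intro h
    have : z ∈ cosetSet L z := by
      show z⁻¹ * z ∈ L
      rw [inv_mul_cancel]; exact L.one_mem
    rw [h] at this
    exact this
  · intro h
    ext w
    show z⁻¹ * w ∈ L ↔ y⁻¹ * w ∈ L
    constructor
    · intro hw
      have := L.mul_mem h hw
      rwa [mul_assoc, mul_inv_cancel_left] at this
    · intro hw
      have := L.mul_mem (L.inv_mem h) hw
      rwa [mul_inv_rev, inv_inv, mul_assoc, mul_inv_cancel_left] at this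

theorem card_cosetSet_dvd (L : Subgroup N) (y : N) :
    Nat.card {z : N // cosetSet L z = cosetSet L y} ∣ Nat.card N := by
  have h1 : Nat.card {z : N // cosetSet L z = cosetSet L y} = Nat.card L := by
    apply Nat.card_congr
    refine ⟨fun z => ⟨y⁻¹ * z.1, (cosetSet_eq_iff L y z.1).mp z.2⟩,
      fun l => ⟨y * l.1, (cosetSet_eq_iff L y _).mpr (by rw [inv_mul_cancel_left]; exact l.2)⟩,
      ?_, ?_⟩
    · intro z; apply Subtype.ext; simp
    · intro l; apply Subtype.ext; simp
  rw [h1]
  exact Subgroup.card_subgroup_dvd_card L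

theorem ht_coset (s k : ℕ) (hK : Nat.card K = k * s)
    (hs : ∀ x : N, x ≠ 1 → Nat.card (stabilizer K x) = s) (hkN : k ∣ Nat.card N - 1)
    (L : Subgroup N) (hL : ∀ g : K, ∀ x ∈ L, g • x ∈ L) {y : N} (hy : y ∉ L) :
    stabilizer K (cosetSet L y) = stabilizer K y := by
  apply stabilizer_eq_of_coprime_fiber (K := K) (X := N) (Y := Set N) (cosetSet L)
    (cosetSet_smul L hL) y s k ?_ hK (ht_coprime hkN (card_cosetSet_dvd L y))
  intro z hz
  apply hs
  rw [cosetSet_eq_iff] at hz
  rintro rfl
  apply hy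
  have := L.inv_mem hz
  rwa [mul_one, inv_inv] at this

theorem ht_irred [FaithfulSMul K N] (s k : ℕ) (hK : Nat.card K = k * s)
    (hs : ∀ x : N, x ≠ 1 → Nat.card (stabilizer K x) = s) (hkN : k ∣ Nat.card N - 1)
    (hs1 : 1 < s) (L : Subgroup N) (hL : ∀ g : K, ∀ x ∈ L, g • x ∈ L) : L = ⊥ ∨ L = ⊤ := by
  by_contra hcon
  push Not at hcon
  obtain ⟨hbot, htop⟩ := hcon
  obtain ⟨l₀, hl₀, hl₀1⟩ := (Subgroup.ne_bot_iff_exists_ne_one).mp hbot |> fun ⟨l, h⟩ =>
    (⟨(l : N), l.2, fun h' => h (Subtype.ext h')⟩ : ∃ l : N, l ∈ L ∧ l ≠ 1)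
  obtain ⟨y₀, hy₀⟩ : ∃ y : N, y ∉ L := by
    by_contra h
    push Not at h
    exact htop (by rw [eq_top_iff]; intro x _; exact h x)
  -- key: for y ∉ L and l ∈ L, stab y ≤ stab l
  have key : ∀ y : N, y ∉ L → ∀ l : N, l ∈ L → stabilizer K y ≤ stabilizer K l := by
    intro y hy l hl
    have hyl : y * l ∉ L := by
      intro h
      apply hy
      have := L.mul_mem h (L.inv_mem hl)
      rwa [mul_inv_cancel_right] at this
    have e1 := ht_coset s k hK hs hkN L hL hy
    have e2 := ht_coset s k hK hs hkN L hL hyl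
    have e3 : cosetSet L (y * l) = cosetSet L y := by
      rw [cosetSet_eq_iff, inv_mul_cancel_left]; exact hl
    rw [e3, e1] at e2
    intro g hg
    have hg2 : g ∈ stabilizer K (y * l) := by rw [← e2]; exact hg
    rw [mem_stabilizer_iff] at hg hg2 ⊢
    rw [smul_mul', hg] at hg2
    exact mul_left_cancel hg2
  have key2 : ∀ y : N, y ∉ L → stabilizer K y = stabilizer K l₀ := by
    intro y hy
    apply Subgroup.eq_of_le_of_card_ge (key y hy l₀ hl₀)
    have hy1 : y ≠ 1 := by
      rintro rfl; exact hy L.one_mem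
    rw [hs y hy1, hs l₀ hl₀1]
  -- S₀ fixes everything
  have hS : stabilizer K l₀ = ⊥ := by
    rw [eq_bot_iff]
    intro g hg
    rw [Subgroup.mem_bot]
    apply eq_of_smul_eq_smul (α := N)
    intro a
    rw [one_smul]
    by_cases ha : a ∈ L
    · have := key y₀ hy₀ a ha
      rw [key2 y₀ hy₀] at this
      exact this hg
    · rw [← key2 a ha] at hg
      exact hg
  have : Nat.card (stabilizer K l₀) = 1 := by
    rw [hS]; exact Subgroup.card_bot
  rw [hs l₀ hl₀1] at this
  omega



/-- Isaacs–Passman: a half-transitive group of automorphisms which is not fixed-point-free acts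
irreducibly on an elementary abelian group. -/
theorem half_transitive_main [FaithfulSMul K N]
    (hk : ∀ x y : N, x ≠ 1 → y ≠ 1 → Nat.card (orbit K x) = Nat.card (orbit K y))
    (hnF : ∃ x : N, x ≠ 1 ∧ stabilizer K x ≠ ⊥) :
    (∀ x y : N, x * y = y * x) ∧ (∃ p : ℕ, p.Prime ∧ ∀ x : N, x ^ p = 1) ∧
    (∀ L : Subgroup N, (∀ g : K, ∀ x ∈ L, g • x ∈ L) → L = ⊥ ∨ L = ⊤) := by
  classical
  obtain ⟨x₀, hx₀, hS₀⟩ := hnF
  set s := Nat.card (stabilizer K x₀) with hsdef
  set k := Nat.card (orbit K x₀) with hkdef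
  have hk0 : 0 < k := by
    haveI : Nonempty (orbit K x₀) := ⟨⟨x₀, mem_orbit_self x₀⟩⟩
    exact Nat.card_pos
  have hK : Nat.card K = k * s := by
    have h1 := MulAction.index_stabilizer K x₀
    have h2 := Subgroup.card_mul_index (stabilizer K x₀)
    rw [h1, ← Nat.card_coe_set_eq] at h2
    rw [← h2, mul_comm]
  have hs : ∀ x : N, x ≠ 1 → Nat.card (stabilizer K x) = s := by
    intro x hx
    have h1 := MulAction.index_stabilizer K x
    have h2 := Subgroup.card_mul_index (stabilizer K x)
    rw [h1, ← Nat.card_coe_set_eq, hk x x₀ hx hx₀, hK, mul_comm] at h2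
    exact Nat.eq_of_mul_eq_mul_left hk0 h2
  have hs1 : 1 < s := by
    rw [hsdef, Subgroup.one_lt_card_iff_ne_bot]; exact hS₀
  have hkN : k ∣ Nat.card N - 1 := ht_dvd_card_sub_one s k hK hs (by omega)
  have hcomm := ht_comm s k hK hs hkN hs1
  have hirr := ht_irred s k hK hs hkN hs1
  refine ⟨hcomm, ?_, hirr⟩
  -- prime exponent
  haveI : Nontrivial N := ⟨⟨x₀, 1, hx₀⟩⟩
  have hN1 : Nat.card N ≠ 1 := by
    intro h
    have := (Nat.card_eq_one_iff_unique.mp h).1
    exact hx₀ (Subsingleton.elim _ _)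
  obtain ⟨p, hp, hpd⟩ := Nat.exists_prime_and_dvd hN1
  haveI : Fact p.Prime := ⟨hp⟩
  obtain ⟨z, hz⟩ := exists_prime_orderOf_dvd_card' p hpd
  refine ⟨p, hp, ?_⟩
  let L : Subgroup N :=
    { carrier := {x | x ^ p = 1}
      one_mem' := one_pow p
      mul_mem' := by
        intro a b ha hb
        show (a * b) ^ p = 1
        rw [(show Commute a b from hcomm a b).mul_pow, ha, hb, one_mul]
      inv_mem' := by
        intro a ha
        show a⁻¹ ^ p = 1
        rw [inv_pow, ha, inv_one] }
  have hL : ∀ g : K, ∀ x ∈ L, g • x ∈ L := by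
    intro g x hx
    show (g • x) ^ p = 1
    rw [← smul_pow', hx, smul_one]
  have hzL : z ∈ L := by
    show z ^ p = 1
    rw [← hz]; exact pow_orderOf_eq_one z
  have hz1 : z ≠ 1 := by
    rintro rfl
    rw [orderOf_one] at hz
    exact hp.ne_one hz.symm
  rcases hirr L hL with h | h
  · exfalso
    rw [h, Subgroup.mem_bot] at hzL
    exact hz1 hzL
  · intro x
    have : x ∈ L := by rw [h]; exact Subgroup.mem_top x
    exact this


end IP

end Cfsg.Agent.Helper58

namespace Cfsg.Agent.Helper58

/-- The conjugation action of a subgroup `K` on a normal subgroup `N`. -/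
@[reducible] def conjMDMA {G : Type*} [Group G] (K N : Subgroup G) [N.Normal] :
    MulDistribMulAction K N :=
  MulDistribMulAction.compHom N ((MulAut.conjNormal (H := N)).comp K.subtype)

theorem conjMDMA_smul_coe {G : Type*} [Group G] (K N : Subgroup G) [N.Normal] (g : K) (n : N) :
    ((@HSMul.hSMul K N N (@instHSMul K N (conjMDMA K N).toSMul) g n : N) : G) =
      (g : G) * n * (g : G)⁻¹ := rfl

end Cfsg.Agent.Helper58
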