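import Mathlib

/-!
# Linear representations `ρ : G →* (V ≃ₗ[k] V)` over an arbitrary field: basics

fixed spaces, stabilizers, averaging over a cyclic subgroup, subrepresentations and quotient
representations.
-/

set_option autoImplicit false
set_option linter.unusedSectionVars false

namespace Cfsg.Agent.Helper58.LinP

open Subgroup

section Fix
variable {k : Type*} [Field k] {V : Type*} [AddCommGroup V] [Module k V]
  {G : Type*} [Group G] (ρ : G →* (V ≃ₗ[k] V))

/-- fixed space of `g` -/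
def fixSub (g : G) : Submodule k V where
  carrier := {v | ρ g v = v}
  add_mem' := by
    intro a b ha hb
    show ρ g (a + b) = a + b
    rw [map_add, ha.out, hb.out]
  zero_mem' := map_zero _
  smul_mem' := by
    intro c a ha
    show ρ g (c • a) = c • a
    rw [map_smul, ha.out]

theorem mem_fixSub {g : G} {v : V} : v ∈ fixSub ρ g ↔ ρ g v = v := Iff.rfl

/-- stabilizer of a vector -/
def vecStab (v : V) : Subgroup G where
  carrier := {g | ρ g v = v}
  mul_mem' := by
    intro a b ha hb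
    show ρ (a * b) v = v
    rw [map_mul, LinearEquiv.mul_apply, hb.out, ha.out]
  one_mem' := by
    show ρ 1 v = v
    rw [map_one]; rfl
  inv_mem' := by
    intro a ha
    show ρ a⁻¹ v = v
    have h : ρ a v = v := ha
    calc ρ a⁻¹ v = ρ a⁻¹ (ρ a v) := by rw [h]
      _ = (ρ a⁻¹ * ρ a) v := rfl
      _ = v := by rw [← map_mul, inv_mul_cancel, map_one]; rfl

theorem mem_vecStab {g : G} {v : V} : g ∈ vecStab ρ v ↔ ρ g v = v := Iff.rfl

theorem rho_mul_apply (g h : G) (v : V) : ρ (g * h) v = ρ g (ρ h v) := by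
  rw [map_mul]; rfl

theorem rho_one_apply (v : V) : ρ 1 v = v := by
  rw [map_one]; rfl

theorem rho_inv_apply_apply (g : G) (v : V) : ρ g⁻¹ (ρ g v) = v := by
  rw [← rho_mul_apply, inv_mul_cancel, rho_one_apply]

theorem rho_apply_inv_apply (g : G) (v : V) : ρ g (ρ g⁻¹ v) = v := by
  rw [← rho_mul_apply, mul_inv_cancel, rho_one_apply]

theorem map_fixSub (g h : G) :
    (fixSub ρ h).map ((ρ g : V ≃ₗ[k] V) : V →ₗ[k] V) = fixSub ρ (g * h * g⁻¹) := by
  ext w
  rw [Submodule.mem_map]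
  constructor
  · rintro ⟨v, hv, rfl⟩
    rw [mem_fixSub] at hv ⊢
    show ρ (g * h * g⁻¹) (ρ g v) = ρ g v
    rw [← rho_mul_apply, inv_mul_cancel_right, rho_mul_apply, hv]
  · intro hw
    rw [mem_fixSub] at hw
    refine ⟨ρ g⁻¹ w, ?_, ?_⟩
    · rw [mem_fixSub, ← rho_mul_apply]
      have : h * g⁻¹ = g⁻¹ * (g * h * g⁻¹) := by group
      rw [this, rho_mul_apply, hw]
    · show ρ g (ρ g⁻¹ w) = w
      rw [← rho_mul_apply, mul_inv_cancel, map_one]; rfl

/-- the averaging operator over the powers of `h` -/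
def avg (p : ℕ) (h : G) : V →ₗ[k] V :=
  ∑ n ∈ Finset.range p, ((ρ (h ^ n) : V ≃ₗ[k] V) : V →ₗ[k] V)

theorem avg_apply (p : ℕ) (h : G) (v : V) :
    avg ρ p h v = ∑ n ∈ Finset.range p, ρ (h ^ n) v := by
  rw [avg, LinearMap.sum_apply]; rfl

theorem avg_mem_fixSub (p : ℕ) (h : G) (hp : h ^ p = 1) (v : V) : avg ρ p h v ∈ fixSub ρ h := by
  rw [mem_fixSub, avg_apply, map_sum]
  have e1 : ∀ n, ρ h (ρ (h ^ n) v) = ρ (h ^ (n + 1)) v := by
    intro n
    rw [← rho_mul_apply, pow_succ']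
  simp_rw [e1]
  have h1 := Finset.sum_range_succ (fun n => ρ (h ^ n) v) p
  have h2 := Finset.sum_range_succ' (fun n => ρ (h ^ n) v) p
  rw [h1] at h2
  simp only [hp, pow_zero] at h2
  exact (add_right_cancel h2).symm

theorem avg_of_mem (p : ℕ) (h : G) (v : V) (hv : v ∈ fixSub ρ h) : avg ρ p h v = p • v := by
  rw [avg_apply]
  have : ∀ n, ρ (h ^ n) v = v := by
    intro n
    have : h ^ n ∈ vecStab ρ v := (vecStab ρ v).pow_mem hv n
    exact this
  simp_rw [this]
  rw [Finset.sum_const, Finset.card_range]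

/-- restriction of a representation to an invariant subspace -/
def subRep (W : Submodule k V) (hW : ∀ g : G, ∀ w ∈ W, ρ g w ∈ W) : G →* (W ≃ₗ[k] W) where
  toFun g := LinearEquiv.ofLinear (((ρ g : V ≃ₗ[k] V) : V →ₗ[k] V).restrict (hW g))
    (((ρ g⁻¹ : V ≃ₗ[k] V) : V →ₗ[k] V).restrict (hW g⁻¹))
    (by
      ext w
      show ρ g (ρ g⁻¹ (w : V)) = w
      exact rho_apply_inv_apply ρ g w)
    (by
      ext w
      show ρ g⁻¹ (ρ g (w : V)) = w
      exact rho_inv_apply_apply ρ g w)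
  map_one' := by
    ext w
    show ρ 1 (w : V) = w
    exact rho_one_apply ρ w
  map_mul' := by
    intro g h
    ext w
    show ρ (g * h) (w : V) = ρ g (ρ h (w : V))
    exact rho_mul_apply ρ g h w

theorem subRep_apply (W : Submodule k V) (hW : ∀ g : G, ∀ w ∈ W, ρ g w ∈ W) (g : G) (w : W) :
    ((subRep ρ W hW g w : W) : V) = ρ g (w : V) := rfl

theorem map_eq_of_invariant (W : Submodule k V) (hW : ∀ g : G, ∀ w ∈ W, ρ g w ∈ W) (g : G) :
    W.map ((ρ g : V ≃ₗ[k] V) : V →ₗ[k] V) = W := by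
  apply le_antisymm
  · rintro _ ⟨w, hw, rfl⟩
    exact hW g w hw
  · intro w hw
    exact ⟨ρ g⁻¹ w, hW g⁻¹ w hw, rho_apply_inv_apply ρ g w⟩

/-- the quotient representation on `V ⧸ W` -/
def quotRep (W : Submodule k V) (hW : ∀ g : G, ∀ w ∈ W, ρ g w ∈ W) : G →* ((V ⧸ W) ≃ₗ[k] (V ⧸ W)) where
  toFun g := Submodule.Quotient.equiv W W (ρ g) (map_eq_of_invariant ρ W hW g)
  map_one' := by
    ext v
    induction v using Submodule.Quotient.induction_on with
    | _ v =>
      show Submodule.Quotient.mk (ρ 1 v) = Submodule.Quotient.mk v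
      rw [rho_one_apply]
  map_mul' := by
    intro g h
    ext v
    induction v using Submodule.Quotient.induction_on with
    | _ v =>
      show Submodule.Quotient.mk (ρ (g * h) v) = Submodule.Quotient.mk (ρ g (ρ h v))
      rw [rho_mul_apply]

theorem quotRep_mk (W : Submodule k V) (hW : ∀ g : G, ∀ w ∈ W, ρ g w ∈ W) (g : G) (v : V) :
    quotRep ρ W hW g (Submodule.Quotient.mk v) = Submodule.Quotient.mk (ρ g v) := rfl

end Fix

end Cfsg.Agent.Helper58.LinP
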