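import Mathlib
import Cfsg.Agent.Helper58.LinRep

/-!
# Finite `p`-groups acting linearly in characteristic `p`

A finite `p`-group acting on a nonzero space over a field of characteristic `p` has a nonzero fixed vector;
it stabilizes a full flag, and its derived length is at most `⌈log₂ dim⌉`.
-/

set_option autoImplicit false
set_option linter.unusedSectionVars false
set_option linter.style.haveILetI false

namespace Cfsg.Agent.Helper58.LinP

open Subgroup Module
open scoped commutatorElement

section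
variable {k : Type*} [Field k] {V : Type*} [AddCommGroup V] [Module k V]
  {G : Type*} [Group G] [Finite G] (ρ : G →* (V ≃ₗ[k] V))

/-- fixed vector lemma -/
theorem exists_fixed_ne_zero (p : ℕ) [hp : Fact p.Prime] (hpk : ((p : ℕ) : k) = 0) (hG : IsPGroup p G)
    [Nontrivial V] : ∃ v : V, v ≠ 0 ∧ ∀ g : G, ρ g v = v := by
  classical
  obtain ⟨v0, hv0⟩ := exists_ne (0 : V)
  let S : Set V := Set.range (fun g : G => ρ g v0)
  let A : AddSubgroup V := AddSubgroup.closure S
  have hpV : ∀ x : V, p • x = 0 := by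
    intro x
    rw [← Nat.cast_smul_eq_nsmul k, hpk, zero_smul]
  haveI : AddGroup.FG A := by
    rw [AddGroup.fg_iff_addSubgroup_fg]
    refine ⟨(Set.finite_range (fun g : G => ρ g v0)).toFinset, ?_⟩
    rw [Set.Finite.coe_toFinset]
  have htor : IsAddTorsion A := by
    intro a
    rw [isOfFinAddOrder_iff_nsmul_eq_zero]
    refine ⟨p, hp.out.pos, ?_⟩
    apply Subtype.ext
    rw [AddSubgroup.coe_nsmul, AddSubgroup.coe_zero]
    exact hpV _
  haveI : Finite A := AddCommGroup.finite_of_fg_isAddTorsion A htor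
  have hinv : ∀ g : G, ∀ a ∈ A, ρ g a ∈ A := by
    intro g a ha
    induction ha using AddSubgroup.closure_induction with
    | mem x hx =>
      obtain ⟨h, rfl⟩ := hx
      apply AddSubgroup.subset_closure
      exact ⟨g * h, rho_mul_apply ρ g h v0⟩
    | zero => rw [map_zero]; exact A.zero_mem
    | add x y _ _ hx hy => rw [map_add]; exact A.add_mem hx hy
    | neg x _ hx => rw [map_neg]; exact A.neg_mem hx
  letI : MulAction G A :=
    { smul := fun g a => ⟨ρ g a, hinv g a a.2⟩
      one_smul := by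
        intro a
        apply Subtype.ext
        exact rho_one_apply ρ a
      mul_smul := by
        intro g h a
        apply Subtype.ext
        exact rho_mul_apply ρ g h a }
  have hsmul : ∀ (g : G) (a : A), ((g • a : A) : V) = ρ g a := fun g a => rfl
  have hv0A : v0 ∈ A := AddSubgroup.subset_closure ⟨1, rho_one_apply ρ v0⟩
  have hdvd : p ∣ Nat.card A := by
    have h1 : addOrderOf (⟨v0, hv0A⟩ : A) = p := by
      apply addOrderOf_eq_prime
      · apply Subtype.ext
        rw [AddSubgroup.coe_nsmul, AddSubgroup.coe_zero]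
        exact hpV _
      · intro h
        apply hv0
        exact congrArg Subtype.val h
    rw [← h1]
    exact addOrderOf_dvd_natCard _
  have h0fix : (0 : A) ∈ MulAction.fixedPoints G A := by
    intro g
    apply Subtype.ext
    rw [hsmul, AddSubgroup.coe_zero, map_zero]
  obtain ⟨b, hb, hb0⟩ := hG.exists_fixed_point_of_prime_dvd_card_of_fixed_point A hdvd h0fix
  refine ⟨(b : V), ?_, ?_⟩
  · intro h
    apply hb0
    apply Subtype.ext
    rw [h, AddSubgroup.coe_zero]
  · intro g
    have := hb g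
    rw [← hsmul, this]

/-- the "upper central" flag of a representation -/
def upFlag : ℕ → Submodule k V
  | 0 => ⊥
  | (i + 1) =>
    { carrier := {v | ∀ g : G, ρ g v - v ∈ upFlag i}
      add_mem' := by
        intro a b ha hb g
        have : ρ g (a + b) - (a + b) = (ρ g a - a) + (ρ g b - b) := by rw [map_add]; abel
        rw [this]
        exact (upFlag i).add_mem (ha g) (hb g)
      zero_mem' := by
        intro g
        rw [map_zero, sub_zero]
        exact (upFlag i).zero_mem
      smul_mem' := by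
        intro c a ha g
        have : ρ g (c • a) - c • a = c • (ρ g a - a) := by rw [map_smul, smul_sub]
        rw [this]
        exact (upFlag i).smul_mem c (ha g) }

theorem mem_upFlag_succ (i : ℕ) (v : V) : v ∈ upFlag ρ (i + 1) ↔ ∀ g : G, ρ g v - v ∈ upFlag ρ i :=
  Iff.rfl

theorem upFlag_zero : upFlag ρ 0 = ⊥ := rfl

theorem upFlag_le_succ (i : ℕ) : upFlag ρ i ≤ upFlag ρ (i + 1) := by
  induction i with
  | zero => rw [upFlag_zero]; exact bot_le
  | succ i ih =>
    intro v hv
    rw [mem_upFlag_succ] at hv ⊢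
    intro g
    exact ih (hv g)

theorem upFlag_mono {i j : ℕ} (h : i ≤ j) : upFlag ρ i ≤ upFlag ρ j := by
  induction h with
  | refl => exact le_rfl
  | step _ ih => exact le_trans ih (upFlag_le_succ ρ _)

theorem upFlag_inv (i : ℕ) (g : G) (v : V) (hv : v ∈ upFlag ρ i) : ρ g v ∈ upFlag ρ i := by
  cases i with
  | zero =>
    rw [upFlag_zero, Submodule.mem_bot] at hv ⊢
    rw [hv, map_zero]
  | succ i =>
    have h1 : ρ g v - v ∈ upFlag ρ (i + 1) := upFlag_le_succ ρ i ((mem_upFlag_succ ρ i v).mp hv g)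
    have : ρ g v = (ρ g v - v) + v := by abel
    rw [this]
    exact (upFlag ρ (i + 1)).add_mem h1 hv

theorem upFlag_lt (p : ℕ) [hp : Fact p.Prime] (hpk : ((p : ℕ) : k) = 0) (hG : IsPGroup p G) (i : ℕ)
    (hi : upFlag ρ i ≠ ⊤) : upFlag ρ i < upFlag ρ (i + 1) := by
  apply lt_of_le_of_ne (upFlag_le_succ ρ i)
  intro heq
  haveI : Nontrivial (V ⧸ upFlag ρ i) := Submodule.Quotient.nontrivial_iff.mpr hi
  obtain ⟨w', hw'0, hw'fix⟩ := exists_fixed_ne_zero (quotRep ρ (upFlag ρ i) (fun g v hv => upFlag_inv ρ i g v hv))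
    p hpk hG
  obtain ⟨w, rfl⟩ := Submodule.Quotient.mk_surjective _ w'
  have hw1 : w ∈ upFlag ρ (i + 1) := by
    rw [mem_upFlag_succ]
    intro g
    have := hw'fix g
    rw [quotRep_mk] at this
    exact (Submodule.Quotient.eq _).mp this
  apply hw'0
  rw [Submodule.Quotient.mk_eq_zero, heq]
  exact hw1

theorem upFlag_finrank [FiniteDimensional k V] (p : ℕ) [hp : Fact p.Prime] (hpk : ((p : ℕ) : k) = 0)
    (hG : IsPGroup p G) (i : ℕ) : upFlag ρ i = ⊤ ∨ i ≤ finrank k (upFlag ρ i) := by
  induction i with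
  | zero => right; exact Nat.zero_le _
  | succ i ih =>
    rcases ih with h | h
    · left
      rw [eq_top_iff, ← h]
      exact upFlag_le_succ ρ i
    · by_cases htop : upFlag ρ i = ⊤
      · left
        rw [eq_top_iff, ← htop]
        exact upFlag_le_succ ρ i
      · right
        have := Submodule.finrank_lt_finrank_of_lt (upFlag_lt ρ p hpk hG i htop)
        omega

theorem upFlag_eq_top [FiniteDimensional k V] (p : ℕ) [hp : Fact p.Prime] (hpk : ((p : ℕ) : k) = 0)
    (hG : IsPGroup p G) {j : ℕ} (hj : finrank k V ≤ j) : upFlag ρ j = ⊤ := by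
  rcases upFlag_finrank ρ p hpk hG j with h | h
  · exact h
  · by_contra hne
    have := Submodule.finrank_lt hne
    omega

/-- the filtration of `G` by the degree of unipotence -/
def filtSub (j : ℕ) : Subgroup G where
  carrier := {g | ∀ i : ℕ, ∀ v ∈ upFlag ρ (i + j), ρ g v - v ∈ upFlag ρ i}
  one_mem' := by
    intro i v _
    rw [rho_one_apply, sub_self]
    exact (upFlag ρ i).zero_mem
  mul_mem' := by
    intro a b ha hb i v hv
    have : ρ (a * b) v - v = ρ a (ρ b v - v) + (ρ a v - v) := by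
      rw [rho_mul_apply, map_sub]; abel
    rw [this]
    exact (upFlag ρ i).add_mem (upFlag_inv ρ i a _ (hb i v hv)) (ha i v hv)
  inv_mem' := by
    intro a ha i v hv
    have : ρ a⁻¹ v - v = - ρ a⁻¹ (ρ a v - v) := by
      rw [map_sub, rho_inv_apply_apply]; abel
    rw [this]
    exact (upFlag ρ i).neg_mem (upFlag_inv ρ i a⁻¹ _ (ha i v hv))

theorem mem_filtSub (j : ℕ) (g : G) :
    g ∈ filtSub ρ j ↔ ∀ i : ℕ, ∀ v ∈ upFlag ρ (i + j), ρ g v - v ∈ upFlag ρ i := Iff.rfl

theorem filtSub_one : filtSub ρ 1 = ⊤ := by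
  rw [eq_top_iff]
  intro g _ i v hv
  exact (mem_upFlag_succ ρ i v).mp hv g

theorem commutator_filtSub_le (j l : ℕ) : ⁅filtSub ρ j, filtSub ρ l⁆ ≤ filtSub ρ (j + l) := by
  rw [Subgroup.commutator_le]
  intro g hg h hh i v hv
  rw [mem_filtSub] at hg hh
  obtain ⟨u, hu⟩ : ∃ u : V, u = ρ g⁻¹ (ρ h⁻¹ v) := ⟨_, rfl⟩
  have huF : u ∈ upFlag ρ (i + (j + l)) := by
    rw [hu]
    exact upFlag_inv ρ _ _ _ (upFlag_inv ρ _ _ _ hv)
  have ha : ρ g u - u ∈ upFlag ρ (i + l) :=
    hg (i + l) u (by rwa [show i + l + j = i + (j + l) by omega])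
  have hb : ρ h u - u ∈ upFlag ρ (i + j) :=
    hh (i + j) u (by rwa [show i + j + l = i + (j + l) by omega])
  have h1 := hg i _ hb
  have h2 := hh i _ ha
  have e1 : ρ ⁅g, h⁆ v = ρ g (ρ h u) := by
    rw [commutatorElement_def, rho_mul_apply, rho_mul_apply, rho_mul_apply, hu]
  have e2 : ρ h (ρ g u) = v := by
    rw [hu, rho_apply_inv_apply, rho_apply_inv_apply]
  have key : ρ ⁅g, h⁆ v - v =
      (ρ g (ρ h u - u) - (ρ h u - u)) - (ρ h (ρ g u - u) - (ρ g u - u)) := by
    rw [e1, map_sub, map_sub, e2]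
    abel
  rw [key]
  exact (upFlag ρ i).sub_mem h1 h2

theorem derivedSeries_le_filtSub (i : ℕ) : derivedSeries G i ≤ filtSub ρ (2 ^ i) := by
  induction i with
  | zero => rw [pow_zero, filtSub_one]; exact le_top
  | succ i ih =>
    rw [derivedSeries_succ]
    have : 2 ^ (i + 1) = 2 ^ i + 2 ^ i := by ring
    rw [this]
    exact le_trans (Subgroup.commutator_mono ih ih) (commutator_filtSub_le ρ _ _)

theorem filtSub_le_ker (j : ℕ) (hj : upFlag ρ j = ⊤) : filtSub ρ j ≤ ρ.ker := by
  intro g hg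
  rw [MonoidHom.mem_ker]
  ext v
  have := hg 0 v (by rw [zero_add, hj]; exact Submodule.mem_top)
  rw [upFlag_zero, Submodule.mem_bot] at this
  exact sub_eq_zero.mp this

theorem derivedSeries_le_ker_charP [FiniteDimensional k V] (p : ℕ) [hp : Fact p.Prime]
    (hpk : ((p : ℕ) : k) = 0) (hG : IsPGroup p G) (i : ℕ) (hi : finrank k V ≤ 2 ^ i) :
    derivedSeries G i ≤ ρ.ker :=
  le_trans (derivedSeries_le_filtSub ρ i) (filtSub_le_ker ρ _ (upFlag_eq_top ρ p hpk hG hi))

end

end Cfsg.Agent.Helper58.LinP
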