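import Mathlib
import Cfsg.Agent.Helper58.FixSub

/-!
# Imprimitivity of irreducible `p`-groups (Passman/Roquette)

`pimprim_module`: a faithful irreducible representation over `ZMod q` of a finite group containing
a central element `z` of prime order `p ≠ q` and an element `y ∉ ⟨z⟩` with `y ^ p = 1` and
`[G, y] ≤ ⟨z⟩` is induced from the subgroup `C_G(y)` of index `p`: the space is the direct sum of
the fixed spaces of `y b`, `b ∈ ⟨z⟩`.
-/

set_option autoImplicit false
set_option linter.unusedSectionVars false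
set_option linter.style.haveILetI false

namespace Cfsg.Agent.Helper58

open Subgroup

section Mod
variable {q : ℕ} [Fact q.Prime] {V : Type*} [AddCommGroup V] [Module (ZMod q) V]
  {G : Type*} [Group G] [Finite G] (ρ : G →* (V ≃ₗ[ZMod q] V))


theorem fixSub_central_eq_bot (hρ : Function.Injective ρ)
    (hirr : ∀ W : Submodule (ZMod q) V, (∀ g : G, ∀ w ∈ W, ρ g w ∈ W) → W = ⊥ ∨ W = ⊤)
    (z : G) (hzc : z ∈ center G) (hz1 : z ≠ 1) : fixSub ρ z = ⊥ := by
  have hinv : ∀ g : G, ∀ w ∈ fixSub ρ z, ρ g w ∈ fixSub ρ z := by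
    intro g w hw
    rw [mem_fixSub] at hw ⊢
    rw [← rho_mul_apply, ← (Subgroup.mem_center_iff.mp hzc g), rho_mul_apply, hw]
  rcases hirr _ hinv with h | h
  · exact h
  · exfalso
    apply hz1
    apply hρ
    rw [map_one]
    ext v
    have : v ∈ fixSub ρ z := by rw [h]; exact Submodule.mem_top
    exact this

/-- sum over the central subgroup `⟨z⟩` vanishes -/
theorem sum_zpowers_eq_zero (z : G) [Fintype (zpowers z)] (hFz : fixSub ρ z = ⊥) (v : V) :
    ∑ b : zpowers z, ρ (b : G) v = 0 := by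
  have hmem : ∑ b : zpowers z, ρ (b : G) v ∈ fixSub ρ z := by
    rw [mem_fixSub, map_sum]
    let zz : zpowers z := ⟨z, mem_zpowers z⟩
    have := Fintype.sum_equiv (Equiv.mulLeft zz) (fun b : zpowers z => ρ ((zz * b : zpowers z) : G) v)
      (fun b : zpowers z => ρ (b : G) v) (fun b => rfl)
    rw [← this]
    apply Finset.sum_congr rfl
    intro b _
    rw [← rho_mul_apply]
    rfl
  rw [hFz, Submodule.mem_bot] at hmem
  exact hmem

/-- key averaging identity -/
theorem sum_avg_eq (p : ℕ) [hp : Fact p.Prime] (z y : G) [Fintype (zpowers z)]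
    (hzc : z ∈ center G) (hzo : orderOf z = p)
    (hFz : fixSub ρ z = ⊥) (v : V) :
    ∑ b : zpowers z, avg ρ p (y * (b : G)) v = p • v := by
  have hcard : Nat.card (zpowers z) = p := by rw [Nat.card_zpowers, hzo]
  have hcen : ∀ b : zpowers z, (b : G) ∈ center G := fun b => (zpowers_le.mpr hzc) b.2
  simp_rw [avg_apply]
  rw [Finset.sum_comm]
  rw [Finset.sum_eq_single 0]
  · simp only [pow_zero, map_one]
    rw [Finset.sum_const, Finset.card_univ, ← Nat.card_eq_fintype_card, hcard]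
    rfl
  · intro n hn hn0
    rw [Finset.mem_range] at hn
    have hcop : (Nat.card (zpowers z)).Coprime n := by
      rw [hcard, hp.out.coprime_iff_not_dvd]
      exact Nat.not_dvd_of_pos_of_lt (Nat.pos_of_ne_zero hn0) hn
    have e1 : ∀ b : zpowers z, ρ ((y * (b : G)) ^ n) v = ρ (y ^ n) (ρ (((powCoprime hcop) b : zpowers z) : G) v) := by
      intro b
      have hc : Commute y (b : G) := (Subgroup.mem_center_iff.mp (hcen b) y)
      rw [hc.mul_pow, rho_mul_apply]
      rfl
    simp_rw [e1]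
    rw [← map_sum]
    have := Fintype.sum_equiv (powCoprime hcop)
      (fun b : zpowers z => ρ (((powCoprime hcop) b : zpowers z) : G) v)
      (fun b : zpowers z => ρ (b : G) v) (fun b => rfl)
    rw [this, sum_zpowers_eq_zero ρ z hFz v, map_zero]
  · intro h
    exfalso
    apply h
    rw [Finset.mem_range]
    exact hp.out.pos



theorem natCast_smul_cancel (p : ℕ) [hp : Fact p.Prime] (hqp : q ≠ p) (v : V) (h : p • v = 0) : v = 0 := by
  have hq : (Fact.out : q.Prime) = (Fact.out : q.Prime) := rfl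
  have hne : ((p : ℕ) : ZMod q) ≠ 0 := by
    intro h0
    rw [ZMod.natCast_eq_zero_iff] at h0
    exact hqp ((Nat.prime_dvd_prime_iff_eq Fact.out hp.out).mp h0)
  rw [← Nat.cast_smul_eq_nsmul (ZMod q)] at h
  exact (smul_eq_zero.mp h).resolve_left hne

theorem iSup_fixSub_eq_top (p : ℕ) [hp : Fact p.Prime] (hqp : q ≠ p) (z y : G)
    (hzc : z ∈ center G) (hzo : orderOf z = p) (hy : y ^ p = 1)
    (hFz : fixSub ρ z = ⊥) : ⨆ b : zpowers z, fixSub ρ (y * (b : G)) = ⊤ := by
  classical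
  letI : Fintype (zpowers z) := Fintype.ofFinite _
  rw [eq_top_iff]
  intro v _
  have hne : ((p : ℕ) : ZMod q) ≠ 0 := by
    intro h0
    rw [ZMod.natCast_eq_zero_iff] at h0
    exact hqp ((Nat.prime_dvd_prime_iff_eq Fact.out hp.out).mp h0)
  have hsum := sum_avg_eq ρ p z y hzc hzo hFz v
  have hmem : p • v ∈ ⨆ b : zpowers z, fixSub ρ (y * (b : G)) := by
    rw [← hsum]
    apply Submodule.sum_mem
    intro b _
    apply Submodule.mem_iSup_of_mem b
    apply avg_mem_fixSub
    have hc : Commute y (b : G) :=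
      (Subgroup.mem_center_iff.mp ((zpowers_le.mpr hzc) b.2) y)
    rw [hc.mul_pow, hy, one_mul]
    have hbp : (b : G) ^ p = 1 := by
      obtain ⟨k, hk⟩ := mem_zpowers_iff.mp b.2
      rw [← hk, ← zpow_natCast, ← zpow_mul, mul_comm, zpow_mul, zpow_natCast, ← hzo,
        pow_orderOf_eq_one, one_zpow]
    exact hbp
  have : v = ((p : ℕ) : ZMod q)⁻¹ • (p • v) := by
    rw [← Nat.cast_smul_eq_nsmul (ZMod q), smul_smul, inv_mul_cancel₀ hne, one_smul]
  rw [this]
  exact Submodule.smul_mem _ _ hmem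



theorem pow_eq_one_of_mem_zpowers {p : ℕ} {z : G} (hzo : orderOf z = p) {b : G} (hb : b ∈ zpowers z) :
    b ^ p = 1 := by
  obtain ⟨k, hk⟩ := mem_zpowers_iff.mp hb
  rw [← hk, ← zpow_natCast, ← zpow_mul, mul_comm, zpow_mul, zpow_natCast, ← hzo,
    pow_orderOf_eq_one, one_zpow]

theorem mul_pow_eq_one {p : ℕ} {z y : G} (hzc : z ∈ center G) (hzo : orderOf z = p) (hy : y ^ p = 1)
    {b : G} (hb : b ∈ zpowers z) : (y * b) ^ p = 1 := by
  have hc : Commute y b := (Subgroup.mem_center_iff.mp ((zpowers_le.mpr hzc) hb) y)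
  rw [hc.mul_pow, hy, one_mul, pow_eq_one_of_mem_zpowers hzo hb]

theorem avg_eq_zero_of_ne (p : ℕ) [hp : Fact p.Prime] (z y : G)
    (hzc : z ∈ center G) (hzo : orderOf z = p) (hy : y ^ p = 1)
    (hFz : fixSub ρ z = ⊥) (b b' : zpowers z) (hbb : b' ≠ b) (w : V)
    (hw : w ∈ fixSub ρ (y * (b' : G))) : avg ρ p (y * (b : G)) w = 0 := by
  have hcard : Nat.card (zpowers z) = p := by rw [Nat.card_zpowers, hzo]
  have hcen : ∀ b : zpowers z, (b : G) ∈ center G := fun b => (zpowers_le.mpr hzc) b.2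
  set u := avg ρ p (y * (b : G)) w with hu
  have h1 : y * (b : G) ∈ vecStab ρ u :=
    avg_mem_fixSub ρ p _ (mul_pow_eq_one hzc hzo hy b.2) w
  have h2 : y * (b' : G) ∈ vecStab ρ u := by
    rw [mem_vecStab, hu, avg_apply, map_sum]
    apply Finset.sum_congr rfl
    intro n _
    rw [← rho_mul_apply]
    have hc : Commute (y * (b' : G)) (y * (b : G)) := by
      have c1 : Commute y (b : G) := (Subgroup.mem_center_iff.mp (hcen b) y)
      have c2 : Commute y (b' : G) := (Subgroup.mem_center_iff.mp (hcen b') y)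
      have c3 : Commute (b' : G) (b : G) := (Subgroup.mem_center_iff.mp (hcen b) (b' : G))
      exact ((Commute.refl y).mul_left c2.symm).mul_right (c1.mul_left c3)
    rw [(hc.pow_right n).eq, rho_mul_apply, (mem_fixSub ρ).mp hw]
  have h3 : ((b'⁻¹ * b : zpowers z) : G) ∈ vecStab ρ u := by
    have := (vecStab ρ u).mul_mem ((vecStab ρ u).inv_mem h2) h1
    have e : (y * (b' : G))⁻¹ * (y * (b : G)) = ((b'⁻¹ * b : zpowers z) : G) := by
      push_cast; group
    rwa [e] at this
  have hc1 : b'⁻¹ * b ≠ 1 := by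
    intro h
    apply hbb
    rw [inv_mul_eq_one] at h
    exact h
  have htop := zpowers_eq_top_of_prime_card hcard hc1
  have hz : (⟨z, mem_zpowers z⟩ : zpowers z) ∈ zpowers (b'⁻¹ * b) := by rw [htop]; exact mem_top _
  obtain ⟨k, hk⟩ := mem_zpowers_iff.mp hz
  have hzS : z ∈ vecStab ρ u := by
    have := (vecStab ρ u).zpow_mem h3 k
    have e : (((b'⁻¹ * b : zpowers z) : G)) ^ k = z := by
      have := congrArg Subtype.val hk
      simpa using this
    rwa [e] at this
  have : u ∈ fixSub ρ z := hzS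
  rw [hFz, Submodule.mem_bot] at this
  exact this

theorem iSupIndep_fixSub (p : ℕ) [hp : Fact p.Prime] (hqp : q ≠ p) (z y : G)
    (hzc : z ∈ center G) (hzo : orderOf z = p) (hy : y ^ p = 1)
    (hFz : fixSub ρ z = ⊥) : iSupIndep (fun b : zpowers z => fixSub ρ (y * (b : G))) := by
  intro b
  rw [Submodule.disjoint_def]
  intro w hw hw'
  have hker : (⨆ (b' : zpowers z) (_ : b' ≠ b), fixSub ρ (y * (b' : G))) ≤
      LinearMap.ker (avg ρ p (y * (b : G))) := by
    apply iSup₂_le
    intro b' hb' x hx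
    rw [LinearMap.mem_ker]
    exact avg_eq_zero_of_ne ρ p z y hzc hzo hy hFz b b' hb' x hx
  have h0 : avg ρ p (y * (b : G)) w = 0 := LinearMap.mem_ker.mp (hker hw')
  rw [avg_of_mem ρ p _ w hw] at h0
  exact natCast_smul_cancel p hqp w h0



/-- the commutator homomorphism `g ↦ [g, y]` into the central subgroup `⟨z⟩` -/
def commHom (z y : G) (hzc : z ∈ center G) (hcomm : ∀ g : G, g * y * g⁻¹ * y⁻¹ ∈ zpowers z) :
    G →* zpowers z where
  toFun g := ⟨g * y * g⁻¹ * y⁻¹, hcomm g⟩
  map_one' := by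
    apply Subtype.ext
    show 1 * y * 1⁻¹ * y⁻¹ = 1
    group
  map_mul' := by
    intro g h
    apply Subtype.ext
    show (g * h) * y * (g * h)⁻¹ * y⁻¹ = (g * y * g⁻¹ * y⁻¹) * (h * y * h⁻¹ * y⁻¹)
    have hc : h * y * h⁻¹ * y⁻¹ ∈ center G := (zpowers_le.mpr hzc) (hcomm h)
    have h1 := Subgroup.mem_center_iff.mp hc (g * y * g⁻¹ * y⁻¹)
    have h2 := Subgroup.mem_center_iff.mp hc g
    calc (g * h) * y * (g * h)⁻¹ * y⁻¹ = g * ((h * y * h⁻¹ * y⁻¹) * y) * g⁻¹ * y⁻¹ := by group
      _ = (g * (h * y * h⁻¹ * y⁻¹)) * y * g⁻¹ * y⁻¹ := by group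
      _ = ((h * y * h⁻¹ * y⁻¹) * g) * y * g⁻¹ * y⁻¹ := by rw [h2]
      _ = (h * y * h⁻¹ * y⁻¹) * (g * y * g⁻¹ * y⁻¹) := by group
      _ = (g * y * g⁻¹ * y⁻¹) * (h * y * h⁻¹ * y⁻¹) := by rw [h1]

theorem commHom_coe (z y : G) (hzc : z ∈ center G) (hcomm : ∀ g : G, g * y * g⁻¹ * y⁻¹ ∈ zpowers z)
    (g : G) : ((commHom z y hzc hcomm g : zpowers z) : G) = g * y * g⁻¹ * y⁻¹ := rfl

theorem mem_ker_commHom (z y : G) (hzc : z ∈ center G)
    (hcomm : ∀ g : G, g * y * g⁻¹ * y⁻¹ ∈ zpowers z) (g : G) :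
    g ∈ (commHom z y hzc hcomm).ker ↔ g * y = y * g := by
  rw [MonoidHom.mem_ker, Subtype.ext_iff, commHom_coe, Subgroup.coe_one]
  constructor
  · intro h
    have : g * y = (g * y * g⁻¹ * y⁻¹) * (y * g) := by group
    rw [this, h, one_mul]
  · intro h
    calc g * y * g⁻¹ * y⁻¹ = (y * g) * g⁻¹ * y⁻¹ := by rw [h]
      _ = 1 := by group

theorem pimprim_module (p : ℕ) [hp : Fact p.Prime] [Nontrivial V] (hqp : q ≠ p)
    (hρ : Function.Injective ρ)
    (hirr : ∀ W : Submodule (ZMod q) V, (∀ g : G, ∀ w ∈ W, ρ g w ∈ W) → W = ⊥ ∨ W = ⊤)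
    (z y : G) (hzc : z ∈ center G) (hzo : orderOf z = p) (hy : y ^ p = 1) (hyz : y ∉ zpowers z)
    (hcomm : ∀ g : G, g * y * g⁻¹ * y⁻¹ ∈ zpowers z) :
    ∃ (H : Subgroup G) (W : Fin p → Submodule (ZMod q) V), H.index = p ∧
      iSup W = ⊤ ∧ iSupIndep W ∧
      (∀ h ∈ H, ∀ i, ∀ w ∈ W i, ρ h w ∈ W i) ∧
      (∀ i, ∃ h ∈ H, h ≠ 1 ∧ ∀ w ∈ W i, ρ h w = w) ∧
      ∀ g : G, g ∉ H → ∃ σ : Equiv.Perm (Fin p), orderOf σ = p ∧
        ∀ i, (W i).map (ρ g : V →ₗ[ZMod q] V) = W (σ i) := by
  classical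
  have hz1 : z ≠ 1 := by
    rintro rfl
    rw [orderOf_one] at hzo
    exact hp.out.ne_one hzo.symm
  have hFz := fixSub_central_eq_bot ρ hρ hirr z hzc hz1
  have hcard : Nat.card (zpowers z) = p := by rw [Nat.card_zpowers, hzo]
  have hcen : ∀ b : zpowers z, (b : G) ∈ center G := fun b => (zpowers_le.mpr hzc) b.2
  set κ := commHom z y hzc hcomm with hκ
  let e : Fin p ≃ zpowers z := (Finite.equivFinOfCardEq hcard).symm
  let W : Fin p → Submodule (ZMod q) V := fun i => fixSub ρ (y * ((e i : zpowers z) : G))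
  have hyb1 : ∀ b : zpowers z, y * (b : G) ≠ 1 := by
    intro b h
    apply hyz
    have : y = ((b⁻¹ : zpowers z) : G) := by
      rw [Subgroup.coe_inv]; exact eq_inv_of_mul_eq_one_left h
    rw [this]; exact (b⁻¹).2
  have hsup : iSup W = ⊤ := by
    have := iSup_fixSub_eq_top ρ p hqp z y hzc hzo hy hFz
    rw [← this]
    exact e.iSup_comp (g := fun b : zpowers z => fixSub ρ (y * (b : G)))
  have hind : iSupIndep W :=
    (iSupIndep_fixSub ρ p hqp z y hzc hzo hy hFz).comp e.injective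
  -- κ is nontrivial
  have hκne : ∃ g₀ : G, κ g₀ ≠ 1 := by
    by_contra hcon
    push Not at hcon
    have hyc : y ∈ center G := by
      rw [Subgroup.mem_center_iff]
      intro g
      have := (mem_ker_commHom z y hzc hcomm g).mp (hcon g)
      exact this
    have hWbot : ∀ i, W i = ⊥ := by
      intro i
      apply fixSub_central_eq_bot ρ hρ hirr _ _ (hyb1 _)
      exact (center G).mul_mem hyc (hcen _)
    have : iSup W = ⊥ := by
      rw [iSup_eq_bot]; exact hWbot
    rw [this] at hsup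
    exact bot_ne_top hsup
  obtain ⟨g₀, hg₀⟩ := hκne
  have hrange : κ.range = ⊤ := by
    rw [eq_top_iff, ← zpowers_eq_top_of_prime_card hcard hg₀, zpowers_le]
    exact ⟨g₀, rfl⟩
  have hindex : κ.ker.index = p := by
    rw [Subgroup.index_ker, hrange, Subgroup.card_top, hcard]
  refine ⟨κ.ker, W, hindex, hsup, hind, ?_, ?_, ?_⟩
  · intro h hh i w hw
    rw [mem_ker_commHom] at hh
    show ρ (y * ((e i : zpowers z) : G)) (ρ h w) = ρ h w
    have hw' : ρ (y * ((e i : zpowers z) : G)) w = w := hw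
    have hc : (y * ((e i : zpowers z) : G)) * h = h * (y * ((e i : zpowers z) : G)) := by
      have := Subgroup.mem_center_iff.mp (hcen (e i)) h
      rw [mul_assoc, ← this, ← mul_assoc, ← hh, mul_assoc]
    rw [← rho_mul_apply, hc, rho_mul_apply, hw']
  · intro i
    refine ⟨y * ((e i : zpowers z) : G), ?_, hyb1 _, fun w hw => hw⟩
    rw [mem_ker_commHom]
    have := Subgroup.mem_center_iff.mp (hcen (e i)) y
    rw [mul_assoc, ← this]
  · intro g hg
    have hκg : κ g ≠ 1 := fun h => hg (MonoidHom.mem_ker.mpr h)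
    let σ : Equiv.Perm (Fin p) := e.trans ((Equiv.mulLeft (κ g)).trans e.symm)
    have hσpow : ∀ (n : ℕ) (i : Fin p), (σ ^ n) i = e.symm ((κ g) ^ n * e i) := by
      intro n
      induction n with
      | zero => intro i; simp
      | succ n ih =>
        intro i
        rw [pow_succ', Equiv.Perm.mul_apply, ih]
        show e.symm (κ g * e (e.symm (κ g ^ n * e i))) = _
        rw [Equiv.apply_symm_apply, ← mul_assoc, ← pow_succ']
    refine ⟨σ, ?_, ?_⟩
    · apply orderOf_eq_prime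
      · ext i
        rw [hσpow]
        have : κ g ^ p = 1 := by
          rw [← hcard]; exact pow_card_eq_one'
        rw [this, one_mul, Equiv.symm_apply_apply]
        rfl
      · intro h
        apply hκg
        have h0 := hσpow 1 ⟨0, hp.out.pos⟩
        rw [pow_one, h, Equiv.Perm.one_apply, pow_one] at h0
        have := congrArg e h0
        rw [Equiv.apply_symm_apply] at this
        exact (mul_eq_right.mp this.symm)
    · intro i
      show (fixSub ρ (y * ((e i : zpowers z) : G))).map ((ρ g : V ≃ₗ[ZMod q] V) : V →ₗ[ZMod q] V) =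
        fixSub ρ (y * ((e (σ i) : zpowers z) : G))
      rw [map_fixSub]
      congr 1
      have hσi : e (σ i) = κ g * e i := by
        show e (e.symm (κ g * e i)) = _
        rw [Equiv.apply_symm_apply]
      rw [hσi, Subgroup.coe_mul, commHom_coe]
      have hc1 := Subgroup.mem_center_iff.mp (hcen (e i)) g⁻¹
      have hc2 := Subgroup.mem_center_iff.mp ((zpowers_le.mpr hzc) (hcomm g)) y
      calc g * (y * ((e i : zpowers z) : G)) * g⁻¹
          = g * y * (((e i : zpowers z) : G) * g⁻¹) := by group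
        _ = g * y * (g⁻¹ * ((e i : zpowers z) : G)) := by rw [hc1]
        _ = (g * y * g⁻¹ * y⁻¹ * y) * ((e i : zpowers z) : G) := by group
        _ = (y * (g * y * g⁻¹ * y⁻¹)) * ((e i : zpowers z) : G) := by rw [hc2]
        _ = y * (g * y * g⁻¹ * y⁻¹ * ((e i : zpowers z) : G)) := by group


end Mod

end Cfsg.Agent.Helper58
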