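import Mathlib
import Cfsg.Agent.Helper58.FixSub
import Cfsg.Agent.Helper58.HalfTrans
import Cfsg.Agent.Helper58.PImprim
import Cfsg.Agent.Helper58.LinUnip
import Cfsg.Agent.Helper73.PGroupCyclic

/-!
# Half-transitive linear groups: basic facts (helper58)
-/

set_option autoImplicit false

namespace Cfsg.Agent.Helper58.HT

open Cfsg.Agent.Helper58

section basic
variable {q : ℕ} {V : Type*} [AddCommGroup V] [Module (ZMod q) V]
  {G : Type*} [Group G] (ρ : G →* (V ≃ₗ[ZMod q] V))

/-- the action of `G` on `Multiplicative V` through `ρ` -/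
@[reducible] def mdma : MulDistribMulAction G (Multiplicative V) where
  smul g x := Multiplicative.ofAdd (ρ g (Multiplicative.toAdd x))
  one_smul x := by
    show Multiplicative.ofAdd (ρ 1 (Multiplicative.toAdd x)) = x
    rw [map_one]; rfl
  mul_smul g h x := by
    show Multiplicative.ofAdd (ρ (g * h) (Multiplicative.toAdd x)) =
      Multiplicative.ofAdd (ρ g (ρ h (Multiplicative.toAdd x)))
    rw [map_mul]; rfl
  smul_mul g x y := by
    show Multiplicative.ofAdd (ρ g (Multiplicative.toAdd x + Multiplicative.toAdd y)) =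
      Multiplicative.ofAdd (ρ g (Multiplicative.toAdd x) + ρ g (Multiplicative.toAdd y))
    rw [map_add]
  smul_one g := by
    show Multiplicative.ofAdd (ρ g 0) = Multiplicative.ofAdd 0
    rw [map_zero]

theorem mdma_smul (g : G) (x : Multiplicative V) :
    @HSMul.hSMul G (Multiplicative V) (Multiplicative V) (@instHSMul _ _ (mdma ρ).toSMul) g x =
      Multiplicative.ofAdd (ρ g (Multiplicative.toAdd x)) := rfl

/-- the orbit of `v` -/
def orb (v : V) : Set V := {u | ∃ g : G, ρ g v = u}

theorem card_orb_mul_card_vecStab [Finite G] (v : V) :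
    Nat.card (orb ρ v) * Nat.card (vecStab ρ v) = Nat.card G := by
  let _ := mdma ρ
  have h1 := MulAction.index_stabilizer G (Multiplicative.ofAdd v)
  have h := Subgroup.card_mul_index (MulAction.stabilizer G (Multiplicative.ofAdd v))
  rw [h1, ← Nat.card_coe_set_eq, mul_comm] at h
  have e1 : Nat.card (MulAction.orbit G (Multiplicative.ofAdd v)) = Nat.card (orb ρ v) := by
    apply Nat.card_congr
    refine ⟨fun x => ⟨Multiplicative.toAdd x.1, ?_⟩, fun u => ⟨Multiplicative.ofAdd u.1, ?_⟩,
      fun x => rfl, fun u => rfl⟩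
    · obtain ⟨g, hg⟩ := x.2
      exact ⟨g, by rw [← hg]; rfl⟩
    · obtain ⟨g, hg⟩ := u.2
      exact ⟨g, by rw [← hg]; rfl⟩
  have e2 : Nat.card (MulAction.stabilizer G (Multiplicative.ofAdd v)) = Nat.card (vecStab ρ v) := by
    apply Nat.card_congr
    refine ⟨fun x => ⟨x.1, ?_⟩, fun u => ⟨u.1, ?_⟩, fun x => rfl, fun u => rfl⟩
    · have := x.2
      rw [MulAction.mem_stabilizer_iff] at this
      exact Multiplicative.ofAdd.injective this
    · rw [MulAction.mem_stabilizer_iff]
      exact congrArg Multiplicative.ofAdd u.2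
  rw [e1, e2] at h
  exact h


theorem orb_nonempty (v : V) : (orb ρ v).Nonempty := ⟨v, 1, by rw [map_one]; rfl⟩

/-- half-transitivity makes all stabilizers of non-zero vectors equally large -/
theorem stab_const [Finite G] [Finite V]
    (hhalf : ∀ v w : V, v ≠ 0 → w ≠ 0 → Nat.card (orb ρ v) = Nat.card (orb ρ w))
    {v w : V} (hv : v ≠ 0) (hw : w ≠ 0) : Nat.card (vecStab ρ v) = Nat.card (vecStab ρ w) := by
  have h1 := card_orb_mul_card_vecStab ρ v
  have h2 := card_orb_mul_card_vecStab ρ w
  rw [hhalf v w hv hw, ← h2] at h1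
  have hpos : 0 < Nat.card (orb ρ w) := by
    have : Nonempty (orb ρ w) := (orb_nonempty ρ w).to_subtype
    exact Nat.card_pos
  exact Nat.eq_of_mul_eq_mul_left hpos h1

/-- Isaacs–Passman for linear groups: half-transitive and not semiregular implies irreducible -/
theorem irred_of_not_semiregular [Finite G] [Finite V] (hρ : Function.Injective ρ)
    (hhalf : ∀ v w : V, v ≠ 0 → w ≠ 0 → Nat.card (orb ρ v) = Nat.card (orb ρ w))
    (hns : ∃ v : V, v ≠ 0 ∧ ∃ g : G, g ≠ 1 ∧ ρ g v = v)
    (W : Submodule (ZMod q) V) (hW : ∀ g : G, ∀ w ∈ W, ρ g w ∈ W) : W = ⊥ ∨ W = ⊤ := by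
  let _ := mdma ρ
  have hfaith : FaithfulSMul G (Multiplicative V) := by
    refine ⟨fun {g h} hgh => hρ (LinearEquiv.ext fun v => ?_)⟩
    exact Multiplicative.ofAdd.injective (hgh (Multiplicative.ofAdd v))
  have hk : ∀ x y : Multiplicative V, x ≠ 1 → y ≠ 1 →
      Nat.card (MulAction.orbit G x) = Nat.card (MulAction.orbit G y) := by
    intro x y hx hy
    have e : ∀ z : Multiplicative V,
        Nat.card (MulAction.orbit G z) = Nat.card (orb ρ (Multiplicative.toAdd z)) := by
      intro z
      apply Nat.card_congr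
      refine ⟨fun x => ⟨Multiplicative.toAdd x.1, ?_⟩, fun u => ⟨Multiplicative.ofAdd u.1, ?_⟩,
        fun x => rfl, fun u => rfl⟩
      · obtain ⟨g, hg⟩ := x.2
        exact ⟨g, by rw [← hg]; rfl⟩
      · obtain ⟨g, hg⟩ := u.2
        exact ⟨g, by rw [← hg]; rfl⟩
    rw [e x, e y]
    exact hhalf _ _ (fun h => hx (Multiplicative.toAdd.injective h))
      (fun h => hy (Multiplicative.toAdd.injective h))
  have hnF : ∃ x : Multiplicative V, x ≠ 1 ∧ MulAction.stabilizer G x ≠ ⊥ := by
    obtain ⟨v, hv, g, hg, hgv⟩ := hns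
    refine ⟨Multiplicative.ofAdd v, fun h => hv (Multiplicative.ofAdd.injective h), fun hb => ?_⟩
    have : g ∈ MulAction.stabilizer G (Multiplicative.ofAdd v) := by
      rw [MulAction.mem_stabilizer_iff]
      exact congrArg Multiplicative.ofAdd hgv
    rw [hb, Subgroup.mem_bot] at this
    exact hg this
  obtain ⟨-, -, hirr⟩ := half_transitive_main (K := G) (N := Multiplicative V) hk hnF
  rcases hirr (AddSubgroup.toSubgroup W.toAddSubgroup) (fun g x hx => hW g _ hx) with h | h
  · left
    rw [eq_bot_iff]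
    intro w hw
    have : Multiplicative.ofAdd w ∈ AddSubgroup.toSubgroup W.toAddSubgroup := hw
    rw [h, Subgroup.mem_bot] at this
    exact Multiplicative.ofAdd.injective this
  · right
    rw [eq_top_iff]
    intro w _
    have : Multiplicative.ofAdd w ∈ AddSubgroup.toSubgroup W.toAddSubgroup := by rw [h]; trivial
    exact this


end basic

section semireg
variable {q : ℕ} [Fact q.Prime] {V : Type*} [AddCommGroup V] [Module (ZMod q) V]
  {G : Type*} [Group G] [Finite G] (ρ : G →* (V ≃ₗ[ZMod q] V))

/-- a `q`-group acting on a `ZMod q`-space half-transitively and faithfully is trivial -/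
theorem trivial_of_char [Finite V] [Nontrivial V] (hG : IsPGroup q G) (hρ : Function.Injective ρ)
    (hhalf : ∀ v w : V, v ≠ 0 → w ≠ 0 → Nat.card (orb ρ v) = Nat.card (orb ρ w)) (g : G) : g = 1 := by
  have hpk : ((q : ℕ) : ZMod q) = 0 := ZMod.natCast_self q
  obtain ⟨v, hv, hfix⟩ := LinP.exists_fixed_ne_zero ρ q hpk hG
  have h1 : Nat.card (orb ρ v) = 1 := by
    have : orb ρ v = {v} := by
      ext u
      constructor
      · rintro ⟨g, rfl⟩
        exact hfix g
      · rintro rfl
        exact ⟨1, hfix 1⟩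
    rw [this]
    simp
  apply hρ
  rw [map_one]
  ext w
  by_cases hw : w = 0
  · rw [hw, map_zero, map_zero]
  · have h2 : Nat.card (orb ρ w) = 1 := by rw [hhalf w v hw hv, h1]
    have hsub : Subsingleton (orb ρ w) := (Nat.card_eq_one_iff_unique.1 h2).1
    have := Subsingleton.elim (⟨ρ g w, g, rfl⟩ : orb ρ w) ⟨w, 1, by rw [map_one]; rfl⟩
    exact congrArg Subtype.val this

/-- a semiregular `p`-group of linear maps has a unique subgroup of order `p` -/
theorem uniqueOrderP_of_semiregular [Nontrivial V] (p : ℕ) [hp : Fact p.Prime] (hqp : q ≠ p)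
    (hG : IsPGroup p G) (hsr : ∀ v : V, v ≠ 0 → ∀ g : G, ρ g v = v → g = 1) :
    Cfsg.Agent.Helper73.UniqueOrderP p G := by
  by_cases htriv : Subsingleton G
  · intro x y hx _
    exfalso
    have : x = 1 := Subsingleton.elim _ _
    rw [this, orderOf_one] at hx
    exact hp.out.ne_one hx.symm
  rw [not_subsingleton_iff_nontrivial] at htriv
  -- a central element of order `p`
  have hcen : Nontrivial (Subgroup.center G) := hG.center_nontrivial
  have hdvd : p ∣ Nat.card (Subgroup.center G) := by
    obtain ⟨n, hn⟩ := (hG.to_subgroup (Subgroup.center G)).exists_card_eq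
    rw [hn]
    rcases n with _ | n
    · exfalso
      rw [pow_zero] at hn
      have : Subsingleton (Subgroup.center G) := (Nat.card_eq_one_iff_unique.1 hn).1
      exact not_nontrivial _ hcen
    · exact dvd_pow_self p (Nat.succ_ne_zero n)
  obtain ⟨⟨z, hzc⟩, hzo⟩ := exists_prime_orderOf_dvd_card' p hdvd
  have hzo' : orderOf z = p := by
    rw [← hzo]; exact (Subgroup.orderOf_mk z hzc).symm
  have hz1 : z ≠ 1 := by
    rintro rfl
    rw [orderOf_one] at hzo'
    exact hp.out.ne_one hzo'.symm
  have hFix : ∀ g : G, g ≠ 1 → fixSub ρ g = ⊥ := by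
    intro g hg
    rw [eq_bot_iff]
    intro v hv
    rw [Submodule.mem_bot]
    by_contra hv0
    exact hg (hsr v hv0 g hv)
  have hmem : ∀ y : G, orderOf y = p → y ∈ Subgroup.zpowers z := by
    intro y hy
    have hyp : y ^ p = 1 := by rw [← hy]; exact pow_orderOf_eq_one y
    have hsup := iSup_fixSub_eq_top ρ p hqp z y hzc hzo' hyp (hFix z hz1)
    by_contra hyz
    have hall : ∀ b : Subgroup.zpowers z, fixSub ρ (y * (b : G)) = ⊥ := by
      intro b
      apply hFix
      intro h
      apply hyz
      have : y = (b : G)⁻¹ := eq_inv_of_mul_eq_one_left h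
      rw [this]
      exact (Subgroup.zpowers z).inv_mem b.2
    simp only [hall, iSup_bot] at hsup
    exact bot_ne_top hsup
  intro x y hx hy
  have hxz := hmem x hx
  have hle : Subgroup.zpowers x ≤ Subgroup.zpowers z := Subgroup.zpowers_le.2 hxz
  have heq : Subgroup.zpowers x = Subgroup.zpowers z := by
    apply Subgroup.eq_of_le_of_card_ge hle
    rw [Nat.card_zpowers, Nat.card_zpowers, hx, hzo']
  rw [heq]
  exact hmem y hy

end semireg

end Cfsg.Agent.Helper58.HT
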