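import Mathlib
import Cfsg.Agent.Helper58.HTBasic
import Cfsg.Agent.Helper73.NormalAbelianCyclic

/-!
# Half-transitive linear 2-groups with a fixed-point-free subgroup of index 2 (helper58)
-/

set_option autoImplicit false

namespace Cfsg.Agent.Helper58.HT

open Cfsg.Agent.Helper58

section lin
variable {q : ℕ} [Fact q.Prime] {V : Type*} [AddCommGroup V] [Module (ZMod q) V]
  {G : Type*} [Group G] (ρ : G →* (V ≃ₗ[ZMod q] V))

theorem two_ne_zero_zmod (hq2 : q ≠ 2) : (2 : ZMod q) ≠ 0 := by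
  intro h
  have h2 : ((2 : ℕ) : ZMod q) = 0 := by exact_mod_cast h
  rw [ZMod.natCast_eq_zero_iff] at h2
  exact hq2 ((Nat.prime_dvd_prime_iff_eq Fact.out Nat.prime_two).1 h2)

theorem eq_zero_of_eq_neg (hq2 : q ≠ 2) {v : V} (h : v = -v) : v = 0 := by
  have h2 : (2 : ZMod q) • v = 0 := by
    rw [two_smul]
    nth_rewrite 2 [h]
    exact add_neg_cancel v
  exact (smul_eq_zero.1 h2).resolve_left (two_ne_zero_zmod hq2)

/-- a fixed-point-free involution acts as `-1` -/
theorem neg_of_fixSub_eq_bot {t : G} (ht : t * t = 1) (hF : fixSub ρ t = ⊥) (v : V) :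
    ρ t v = -v := by
  have hmem : v + ρ t v ∈ fixSub ρ t := by
    rw [mem_fixSub, map_add, ← rho_mul_apply, ht, map_one]
    exact add_comm _ _
  rw [hF, Submodule.mem_bot] at hmem
  exact (neg_eq_of_add_eq_zero_right hmem).symm

/-- the eigenspace decomposition of an involution `t`, when `z` acts as `-1` -/
theorem isCompl_fixSub (hq2 : q ≠ 2) {t z : G} (ht : t * t = 1) (hz : ∀ v : V, ρ z v = -v) :
    IsCompl (fixSub ρ t) (fixSub ρ (t * z)) := by
  have hmem : ∀ v : V, v ∈ fixSub ρ (t * z) ↔ ρ t v = -v := by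
    intro v
    rw [mem_fixSub, rho_mul_apply, hz, map_neg, neg_eq_iff_eq_neg]
  constructor
  · rw [Submodule.disjoint_def]
    intro v h1 h2
    rw [mem_fixSub] at h1
    rw [hmem, h1] at h2
    exact eq_zero_of_eq_neg hq2 h2
  · rw [codisjoint_iff, eq_top_iff]
    intro v _
    have h2 := two_ne_zero_zmod (q := q) hq2
    have e : v = (2 : ZMod q)⁻¹ • (v + ρ t v) + (2 : ZMod q)⁻¹ • (v - ρ t v) := by
      rw [← smul_add]
      have : v + ρ t v + (v - ρ t v) = (2 : ZMod q) • v := by rw [two_smul]; abel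
      rw [this, smul_smul, inv_mul_cancel₀ h2, one_smul]
    rw [e]
    apply Submodule.add_mem_sup
    · apply Submodule.smul_mem
      rw [mem_fixSub, map_add, ← rho_mul_apply, ht, map_one]
      exact add_comm _ _
    · apply Submodule.smul_mem
      rw [hmem, map_sub, ← rho_mul_apply, ht, map_one]
      show ρ t v - v = -(v - ρ t v)
      abel

theorem card_eq_mul_of_isCompl [Finite V] {A B : Submodule (ZMod q) V} (h : IsCompl A B) :
    Nat.card V = Nat.card A * Nat.card B := by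
  rw [← Nat.card_prod]
  exact Nat.card_congr (Submodule.prodEquivOfIsCompl A B h).symm.toEquiv

theorem card_fixSub_conj (g h : G) :
    Nat.card (fixSub ρ (g * h * g⁻¹)) = Nat.card (fixSub ρ h) := by
  rw [← map_fixSub]
  exact Nat.card_congr
    (Submodule.equivMapOfInjective ((ρ g : V ≃ₗ[ZMod q] V) : V →ₗ[ZMod q] V)
      (ρ g).injective (fixSub ρ h)).symm.toEquiv

theorem card_ne_subtype {α : Type*} [Finite α] (a : α) : Nat.card {x : α // x ≠ a} = Nat.card α - 1 := by
  classical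
  have := Fintype.ofFinite α
  rw [Nat.card_eq_fintype_card, Nat.card_eq_fintype_card, Fintype.card_subtype_compl,
    Fintype.card_subtype_eq]


/-- the counting argument for a half-transitive group with stabilizers of order 2 and a
fixed-point-free subgroup `C` -/
theorem core_count [Finite G] [Finite V] [Nontrivial V] (hq2 : q ≠ 2) (C : Subgroup G)
    (hCfix : ∀ c ∈ C, c ≠ 1 → fixSub ρ c = ⊥) (z : G) (hzC : z ∈ C) (hz1 : z ≠ 1) (hzz : z * z = 1)
    (c : G) (hcc : c * c = z) (hinv : ∀ t : G, t ∉ C → t * t = 1 → t * c * t⁻¹ = c⁻¹)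
    (hs2 : ∀ v : V, v ≠ 0 → Nat.card (vecStab ρ v) = 2) :
    ∃ r : ℕ, 2 ≤ r ∧ Nat.card V = r ^ 2 ∧ r + 1 = Nat.card {t : G // t ∉ C ∧ t * t = 1} ∧
      ∀ t : G, t ∉ C → t * t = 1 → Nat.card (fixSub ρ t) = r := by
  classical
  have hzneg : ∀ v : V, ρ z v = -v := neg_of_fixSub_eq_bot ρ hzz (hCfix z hzC hz1)
  -- `|V| = |Fix t|²`
  have hsq : ∀ t : G, t ∉ C → t * t = 1 → Nat.card V = Nat.card (fixSub ρ t) ^ 2 := by
    intro t htC htt
    have h1 := card_eq_mul_of_isCompl (isCompl_fixSub ρ hq2 htt hzneg)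
    have h2 : fixSub ρ (t * z) = fixSub ρ (c * t * c⁻¹) := by
      have e : c * t * c⁻¹ = z * t := by
        have := hinv t htC htt
        calc c * t * c⁻¹ = c * (t * c * t⁻¹)⁻¹ * t := by group
          _ = c * c * t := by rw [this, inv_inv]
          _ = z * t := by rw [hcc]
      rw [e]
      ext v
      rw [mem_fixSub, mem_fixSub, rho_mul_apply, rho_mul_apply, hzneg, hzneg, map_neg]
    rw [h2, card_fixSub_conj] at h1
    rw [h1, sq]
  let R := {t : G // t ∉ C ∧ t * t = 1}
  have key : ∀ v : {v : V // v ≠ 0}, ∃ t : R, ρ t.1 v.1 = v.1 ∧ ∀ t' : R, ρ t'.1 v.1 = v.1 → t' = t := by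
    rintro ⟨v, hv⟩
    obtain ⟨y, hy1, hyu⟩ := (Nat.card_eq_two_iff' (1 : vecStab ρ v)).1 (hs2 v hv)
    have hyC : (y : G) ∉ C := by
      intro hC
      have h1 : (y : G) ≠ 1 := fun h => hy1 (Subtype.ext h)
      have := hCfix _ hC h1
      have hv' : v ∈ fixSub ρ (y : G) := y.2
      rw [this, Submodule.mem_bot] at hv'
      exact hv hv'
    have hyy : (y : G) * y = 1 := by
      have h2 : y ^ 2 = 1 := by
        have := pow_card_eq_one' (G := vecStab ρ v) (x := y)
        rwa [hs2 v hv] at this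
      have := congrArg Subtype.val h2
      rw [sq] at this
      exact this
    refine ⟨⟨y, hyC, hyy⟩, y.2, ?_⟩
    rintro ⟨t', ht'C, ht't'⟩ hfix
    have hne : (⟨t', hfix⟩ : vecStab ρ v) ≠ 1 := by
      intro h
      apply ht'C
      have : t' = 1 := congrArg Subtype.val h
      rw [this]; exact C.one_mem
    have h3 : t' = (y : G) := congrArg Subtype.val (hyu ⟨t', hfix⟩ hne)
    apply Subtype.ext
    exact h3
  choose f hf hfu using key
  obtain ⟨v₀, hv₀⟩ := exists_ne (0 : V)
  let t₀ : R := f ⟨v₀, hv₀⟩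
  let r := Nat.card (fixSub ρ t₀.1)
  have hr : ∀ t : G, t ∉ C → t * t = 1 → Nat.card (fixSub ρ t) = r := by
    intro t htC htt
    have h1 := hsq t htC htt
    rw [hsq t₀.1 t₀.2.1 t₀.2.2] at h1
    exact (Nat.pow_left_injective (n := 2) (by norm_num) h1).symm
  have hr2 : 2 ≤ r := by
    have h1 : (1 : ℕ) < Nat.card (fixSub ρ t₀.1) := by
      rw [Finite.one_lt_card_iff_nontrivial]
      exact ⟨⟨⟨v₀, hf ⟨v₀, hv₀⟩⟩, 0, fun h => hv₀ (congrArg Subtype.val h)⟩⟩
    exact h1
  have hfiber : ∀ t : R, Nat.card {v : {v : V // v ≠ 0} // f v = t} = r - 1 := by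
    intro t
    rw [← hr t.1 t.2.1 t.2.2, ← card_ne_subtype (0 : fixSub ρ t.1)]
    apply Nat.card_congr
    refine ⟨fun v => ⟨⟨v.1.1, by have := hf v.1; rw [v.2] at this; exact this⟩,
        fun h => v.1.2 (congrArg Subtype.val h)⟩,
      fun w => ⟨⟨w.1.1, fun h => w.2 (Subtype.ext h)⟩,
        (hfu ⟨w.1.1, fun h => w.2 (Subtype.ext h)⟩ t w.1.2).symm⟩,
      fun v => rfl, fun w => rfl⟩
  have hcount : Nat.card V - 1 = Nat.card R * (r - 1) := by
    rw [← card_ne_subtype (0 : V), Nat.card_congr (Equiv.sigmaFiberEquiv f).symm]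
    have := Fintype.ofFinite R
    rw [Nat.card_sigma]
    simp only [hfiber]
    rw [Finset.sum_const, Finset.card_univ, smul_eq_mul, Nat.card_eq_fintype_card]
  refine ⟨r, hr2, hsq t₀.1 t₀.2.1 t₀.2.2, ?_, hr⟩
  have hV : Nat.card V = r ^ 2 := hsq t₀.1 t₀.2.1 t₀.2.2
  rw [hV] at hcount
  have h3 : ∀ n : ℕ, 2 ≤ n → n ^ 2 - 1 = (n + 1) * (n - 1) := by
    intro n hn
    obtain ⟨k, rfl⟩ : ∃ k, n = k + 2 := ⟨n - 2, by omega⟩
    have h4 : k + 2 - 1 = k + 1 := by omega
    have : (k + 2) ^ 2 = (k + 2 + 1) * (k + 1) + 1 := by ring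
    rw [h4]
    omega
  rw [h3 r hr2] at hcount
  exact Nat.eq_of_mul_eq_mul_right (by omega) hcount


end lin

section DS
variable {q : ℕ} [Fact q.Prime] {V : Type*} [AddCommGroup V] [Module (ZMod q) V]
  {G : Type*} [Group G] [Finite G] (ρ : G →* (V ≃ₗ[ZMod q] V))

omit [Finite G] in
theorem comm_of_mem_zpowers {x a b : G} (ha : a ∈ Subgroup.zpowers x)
    (hb : b ∈ Subgroup.zpowers x) : a * b = b * a := by
  obtain ⟨k, rfl⟩ := Subgroup.mem_zpowers_iff.1 ha
  obtain ⟨l, rfl⟩ := Subgroup.mem_zpowers_iff.1 hb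
  rw [← zpow_add, ← zpow_add, add_comm]

/-- setup shared by the dihedral and the semidihedral case: the elements outside `C = ⟨x⟩` -/
theorem ds_setup (x y : G) (n : ℕ) (hx : orderOf x = 2 ^ n)
    (hyC : y ∉ Subgroup.zpowers x) (hcard : Nat.card G = 2 * 2 ^ n) :
    (Subgroup.zpowers x).index = 2 ∧ (∀ t : G, t ∉ Subgroup.zpowers x →
      ∃ c' ∈ Subgroup.zpowers x, t = y * c') ∧ Nat.card {t : G // t ∉ Subgroup.zpowers x} = 2 ^ n := by
  have hCcard : Nat.card (Subgroup.zpowers x) = 2 ^ n := by rw [Nat.card_zpowers, hx]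
  have hidx : (Subgroup.zpowers x).index = 2 := by
    have := (Subgroup.zpowers x).card_mul_index
    rw [hCcard, hcard, mul_comm] at this
    exact Nat.eq_of_mul_eq_mul_right (by positivity) this
  refine ⟨hidx, fun t ht => ⟨y⁻¹ * t, ?_, by group⟩, ?_⟩
  · rw [Subgroup.mul_mem_iff_of_index_two hidx]
    constructor
    · intro h
      exact absurd ((Subgroup.inv_mem_iff _).1 h) hyC
    · intro h
      exact absurd h ht
  · have h1 := Nat.card_congr (Equiv.sumCompl (fun t : G => t ∈ Subgroup.zpowers x))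
    rw [Nat.card_sum] at h1
    have h2 : Nat.card {t : G // t ∈ Subgroup.zpowers x} = 2 ^ n := hCcard
    rw [h2, hcard] at h1
    omega


/-- the dihedral / semidihedral case: `|V| = r²` with `r + 1` the number of involutions
outside `⟨x⟩` -/
theorem ds_main [Finite V] [Nontrivial V] (hq2 : q ≠ 2) (hρ : Function.Injective ρ)
    (hirr : ∀ W : Submodule (ZMod q) V, (∀ g : G, ∀ w ∈ W, ρ g w ∈ W) → W = ⊥ ∨ W = ⊤)
    (hs : ∀ v w : V, v ≠ 0 → w ≠ 0 → Nat.card (vecStab ρ v) = Nat.card (vecStab ρ w))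
    (hns : ∃ v : V, v ≠ 0 ∧ ∃ g : G, g ≠ 1 ∧ ρ g v = v)
    (x y : G) (n : ℕ) (hn : 2 ≤ n) (hx : orderOf x = 2 ^ n) (hyy : y * y = 1)
    (hyC : y ∉ Subgroup.zpowers x) (hcard : Nat.card G = 2 * 2 ^ n) (E : ℕ)
    (hE : ∀ c ∈ Subgroup.zpowers x, y * c * y⁻¹ * c = c ^ E)
    (hE' : E = 2 ^ n ∨ (3 ≤ n ∧ E = 2 ^ (n - 1))) :
    ∃ r : ℕ, 2 ≤ r ∧ Nat.card V = r ^ 2 ∧ r + 1 = E ∧ ∃ t : G, Nat.card (fixSub ρ t) = r := by
  classical
  obtain ⟨hidx, hout, hcompl⟩ := ds_setup x y n hx hyC hcard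
  set C := Subgroup.zpowers x with hC
  have hyinv : y⁻¹ = y := inv_eq_of_mul_eq_one_right hyy
  have hpowC : ∀ c' ∈ C, c' ^ (2 ^ n) = 1 := by
    intro c' hc'
    rw [← orderOf_dvd_iff_pow_eq_one, ← hx]
    exact orderOf_dvd_of_mem_zpowers hc'
  set z := x ^ (2 ^ (n - 1)) with hz
  set c := x ^ (2 ^ (n - 2)) with hc
  have hzC : z ∈ C := Subgroup.pow_mem _ (Subgroup.mem_zpowers x) _
  have hcC : c ∈ C := Subgroup.pow_mem _ (Subgroup.mem_zpowers x) _
  have e1 : 2 ^ (n - 2) + 2 ^ (n - 2) = 2 ^ (n - 1) := by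
    rw [← two_mul, ← pow_succ']; congr 1; omega
  have e2 : 2 ^ (n - 1) + 2 ^ (n - 1) = 2 ^ n := by
    rw [← two_mul, ← pow_succ']; congr 1; omega
  have hcc : c * c = z := by rw [hc, hz, ← pow_add, e1]
  have hzz : z * z = 1 := by rw [hz, ← pow_add, e2, ← hx, pow_orderOf_eq_one]
  have hz1 : z ≠ 1 := by
    apply pow_ne_one_of_lt_orderOf (by positivity)
    rw [hx]
    exact Nat.pow_lt_pow_right (by norm_num) (by omega)
  have hzo : orderOf z = 2 := orderOf_eq_prime (by rw [sq]; exact hzz) hz1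
  have hEeven : ∃ k, E = 2 * k := by
    rcases hE' with h | ⟨h3, h⟩
    · exact ⟨2 ^ (n - 1), by rw [h, ← pow_succ']; congr 1; omega⟩
    · exact ⟨2 ^ (n - 2), by rw [h, ← pow_succ']; congr 1; omega⟩
  have hzE : z ^ E = 1 := by
    obtain ⟨k, rfl⟩ := hEeven
    rw [pow_mul, sq, hzz, one_pow]
  have hcE : c ^ E = 1 := by
    rcases hE' with h | ⟨h3, h⟩
    · rw [h]; exact hpowC c hcC
    · rw [h, hc, ← pow_mul]
      have : 2 ^ (n - 2) * 2 ^ (n - 1) = 2 ^ n * 2 ^ (n - 3) := by
        rw [← pow_add, ← pow_add]; congr 1; omega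
      rw [this, pow_mul, ← hx, pow_orderOf_eq_one, one_pow]
  have hyc : y * c * y⁻¹ = c⁻¹ := by
    have := hE c hcC
    rw [hcE] at this
    exact eq_inv_of_mul_eq_one_left this
  have hyz : y * z * y⁻¹ = z := by
    have := hE z hzC
    rw [hzE] at this
    rw [eq_inv_of_mul_eq_one_left this]
    exact inv_eq_of_mul_eq_one_right hzz
  have hinv : ∀ t : G, t ∉ C → t * t = 1 → t * c * t⁻¹ = c⁻¹ := by
    intro t ht _
    obtain ⟨c', hc', rfl⟩ := hout t ht
    have hcomm := comm_of_mem_zpowers hc' hcC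
    calc y * c' * c * (y * c')⁻¹ = y * (c' * c) * c'⁻¹ * y⁻¹ := by group
      _ = y * (c * c') * c'⁻¹ * y⁻¹ := by rw [hcomm]
      _ = y * c * y⁻¹ := by group
      _ = c⁻¹ := hyc
  have hzcen : z ∈ Subgroup.center G := by
    rw [Subgroup.mem_center_iff]
    intro g
    by_cases hg : g ∈ C
    · exact comm_of_mem_zpowers hg hzC
    · obtain ⟨c', hc', rfl⟩ := hout g hg
      have hcomm := comm_of_mem_zpowers hc' hzC
      have hyz' : y * z = z * y := by
        calc y * z = (y * z * y⁻¹) * y := by group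
          _ = z * y := by rw [hyz]
      calc y * c' * z = y * (c' * z) := by group
        _ = y * (z * c') := by rw [hcomm]
        _ = (y * z) * c' := by group
        _ = z * y * c' := by rw [hyz']
        _ = z * (y * c') := by group
  have hFz : fixSub ρ z = ⊥ := fixSub_central_eq_bot ρ hρ hirr z hzcen hz1
  have hCfix : ∀ c' ∈ C, c' ≠ 1 → fixSub ρ c' = ⊥ := by
    intro c' hc' hc'1
    have hdvd : orderOf c' ∣ 2 ^ n := by rw [← hx]; exact orderOf_dvd_of_mem_zpowers hc'
    obtain ⟨k, hk, hko⟩ := (Nat.dvd_prime_pow Nat.prime_two).1 hdvd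
    have hk1 : 1 ≤ k := by
      rcases k with _ | k
      · rw [pow_zero, orderOf_eq_one_iff] at hko
        exact absurd hko hc'1
      · omega
    have : Fact (Nat.Prime 2) := ⟨Nat.prime_two⟩
    have hwo := Cfsg.Agent.Helper73.orderOf_pow_pred (p := 2) hko hk1
    have hwC : c' ^ (2 ^ (k - 1)) ∈ C := Subgroup.pow_mem _ hc' _
    have hwz := Cfsg.Agent.Helper73.eq_of_orderOf_two_of_mem_zpowers hzo hwo hzC hwC
    rw [eq_bot_iff, ← hFz, ← hwz]
    intro v hv
    exact (vecStab ρ v).pow_mem hv _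
  have hs2 : ∀ v : V, v ≠ 0 → Nat.card (vecStab ρ v) = 2 := by
    have hle : ∀ v : V, v ≠ 0 → Nat.card (vecStab ρ v) ≤ 2 := by
      intro v hv
      by_contra hlt
      push Not at hlt
      have := Fintype.ofFinite (vecStab ρ v)
      rw [Nat.card_eq_fintype_card, Fintype.two_lt_card_iff] at hlt
      obtain ⟨a, b, d, hab, had, hbd⟩ := hlt
      -- two of `a, b, d` are nonidentity; they coincide
      have hout' : ∀ g : vecStab ρ v, g ≠ 1 → (g : G) ∉ C := by
        intro g hg hgC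
        have h1 : (g : G) ≠ 1 := fun h => hg (Subtype.ext h)
        have := hCfix _ hgC h1
        have hv' : v ∈ fixSub ρ (g : G) := g.2
        rw [this, Submodule.mem_bot] at hv'
        exact hv hv'
      have huniq : ∀ g h : vecStab ρ v, g ≠ 1 → h ≠ 1 → g = h := by
        intro g h hg hh
        have h1 : (g : G)⁻¹ * h ∈ C := by
          rw [Subgroup.mul_mem_iff_of_index_two hidx]
          constructor
          · intro h'
            exact absurd ((Subgroup.inv_mem_iff _).1 h') (hout' g hg)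
          · intro h'
            exact absurd h' (hout' h hh)
        by_contra hne
        have h2 : g⁻¹ * h ≠ 1 := by
          intro h'
          exact hne (inv_mul_eq_one.1 h')
        exact hout' (g⁻¹ * h) h2 h1
      by_cases ha : a = 1
      · have hb : b ≠ 1 := fun h => hab (ha.trans h.symm)
        have hd : d ≠ 1 := fun h => had (ha.trans h.symm)
        exact hbd (huniq b d hb hd)
      · by_cases hb : b = 1
        · have hd : d ≠ 1 := fun h => hbd (hb.trans h.symm)
          exact had (huniq a d ha hd)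
        · exact hab (huniq a b ha hb)
    obtain ⟨v₁, hv₁, g₁, hg₁, hgv₁⟩ := hns
    have hge : 2 ≤ Nat.card (vecStab ρ v₁) := by
      have : (1 : ℕ) < Nat.card (vecStab ρ v₁) := by
        rw [Finite.one_lt_card_iff_nontrivial]
        exact ⟨⟨⟨g₁, hgv₁⟩, 1, fun h => hg₁ (congrArg Subtype.val h)⟩⟩
      exact this
    intro v hv
    have := hle v hv
    rw [hs v v₁ hv hv₁] at this ⊢
    omega
  obtain ⟨r, hr2, hV, hR, hfix⟩ := core_count ρ hq2 C hCfix z hzC hz1 hzz c hcc hinv hs2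
  have tsq : ∀ c' ∈ C, (y * c') * (y * c') = c' ^ E := by
    intro c' hc'
    rw [← hE c' hc', hyinv]
    group
  have hR' : Nat.card {t : G // t ∉ C ∧ t * t = 1} = E := by
    rcases hE' with h | ⟨h3, h⟩
    · rw [h, ← hcompl]
      apply Nat.card_congr
      refine Equiv.subtypeEquivRight fun t => ⟨fun ht => ht.1, fun ht => ⟨ht, ?_⟩⟩
      obtain ⟨c', hc', rfl⟩ := hout t ht
      rw [tsq c' hc', h]
      exact hpowC c' hc'
    · have hxE : x ^ E = z := by rw [h]
      have hdich : ∀ t : G, t ∉ C → t * t = 1 ∨ t * t = z := by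
        intro t ht
        obtain ⟨c', hc', rfl⟩ := hout t ht
        rw [tsq c' hc']
        by_cases hu : c' ^ E = 1
        · exact Or.inl hu
        · right
          have huu : (c' ^ E) ^ 2 = 1 := by
            rw [← pow_mul, h, ← pow_succ]
            have : n - 1 + 1 = n := by omega
            rw [this]
            exact hpowC c' hc'
          have huo : orderOf (c' ^ E) = 2 := orderOf_eq_prime huu hu
          exact Cfsg.Agent.Helper73.eq_of_orderOf_two_of_mem_zpowers hzo huo hzC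
            (Subgroup.pow_mem _ hc' _)
      have hsqx : ∀ t : G, t ∉ C → (t * x) * (t * x) = t * t * z := by
        intro t ht
        obtain ⟨c', hc', rfl⟩ := hout t ht
        have hcx : c' * x ∈ C := C.mul_mem hc' (Subgroup.mem_zpowers x)
        have hcomm : Commute c' x := comm_of_mem_zpowers hc' (Subgroup.mem_zpowers x)
        have := tsq (c' * x) hcx
        rw [hcomm.mul_pow, hxE, ← tsq c' hc'] at this
        rw [← this]; group
      have hsqx' : ∀ t : G, t ∉ C → (t * x⁻¹) * (t * x⁻¹) = t * t * z := by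
        intro t ht
        obtain ⟨c', hc', rfl⟩ := hout t ht
        have hxi : x⁻¹ ∈ C := C.inv_mem (Subgroup.mem_zpowers x)
        have hcx : c' * x⁻¹ ∈ C := C.mul_mem hc' hxi
        have hcomm : Commute c' x⁻¹ := comm_of_mem_zpowers hc' hxi
        have hzi : z⁻¹ = z := inv_eq_of_mul_eq_one_right hzz
        have := tsq (c' * x⁻¹) hcx
        rw [hcomm.mul_pow, inv_pow, hxE, hzi, ← tsq c' hc'] at this
        rw [← this]; group
      have txC : ∀ t : G, t ∉ C → t * x ∉ C := by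
        intro t ht h'
        apply ht
        have := C.mul_mem h' (C.inv_mem (Subgroup.mem_zpowers x))
        rwa [mul_inv_cancel_right] at this
      have txC' : ∀ t : G, t ∉ C → t * x⁻¹ ∉ C := by
        intro t ht h'
        apply ht
        have := C.mul_mem h' (Subgroup.mem_zpowers x)
        rwa [inv_mul_cancel_right] at this
      have eAB : {t : G // t ∉ C ∧ t * t = 1} ≃ {t : G // t ∉ C ∧ ¬ t * t = 1} :=
        { toFun := fun t => ⟨t.1 * x, txC t.1 t.2.1, by
            rw [hsqx t.1 t.2.1, t.2.2, one_mul]; exact hz1⟩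
          invFun := fun t => ⟨t.1 * x⁻¹, txC' t.1 t.2.1, by
            rw [hsqx' t.1 t.2.1, (hdich t.1 t.2.1).resolve_left t.2.2, hzz]⟩
          left_inv := fun t => Subtype.ext (mul_inv_cancel_right _ _)
          right_inv := fun t => Subtype.ext (inv_mul_cancel_right _ _) }
      have hsplit : Nat.card {t : G // t ∉ C} =
          Nat.card {t : G // t ∉ C ∧ t * t = 1} + Nat.card {t : G // t ∉ C ∧ ¬ t * t = 1} := by
        rw [← Nat.card_congr (Equiv.sumCompl (fun t : {t : G // t ∉ C} => t.1 * t.1 = 1)),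
          Nat.card_sum,
          Nat.card_congr (Equiv.subtypeSubtypeEquivSubtypeInter (fun t : G => t ∉ C)
            (fun t => t * t = 1)),
          Nat.card_congr (Equiv.subtypeSubtypeEquivSubtypeInter (fun t : G => t ∉ C)
            (fun t => ¬ t * t = 1))]
      rw [hcompl, ← Nat.card_congr eAB] at hsplit
      rw [h]
      have : 2 ^ n = 2 * 2 ^ (n - 1) := by rw [← pow_succ']; congr 1; omega
      omega
  have hpos : 0 < Nat.card {t : G // t ∉ C ∧ t * t = 1} := by omega
  obtain ⟨⟨t, htC, htt⟩⟩ := (Nat.card_pos_iff.1 hpos).1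
  exact ⟨r, hr2, hV, by rw [hR, hR'], t, hfix t htC htt⟩

end DS

end Cfsg.Agent.Helper58.HT
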