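import Mathlib

/-!
# Two Catalan-type facts: `q^a + 1 = 2^m` and `q^d - 1 = 2^a` (helper58)
-/

set_option autoImplicit false

namespace Cfsg.Agent.Helper58.HT

/-- if `q ≡ ±1` exactly to the power `2^j`, then `q^a ≡ q` modulo `2^(j+1)` for odd `a` -/
theorem pow_odd_modEq {q j : ℕ} (hj : 1 ≤ j) (h : q + 1 = 2 ^ j ∨ q = 2 ^ j + 1) (b : ℕ) :
    q ^ (2 * b + 1) ≡ q [MOD 2 ^ (j + 1)] := by
  have hsq : q ^ 2 ≡ 1 [MOD 2 ^ (j + 1)] := by
    have hdvd : 2 ^ (j + 1) ∣ (2 ^ j) ^ 2 := by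
      rw [← pow_mul]
      exact pow_dvd_pow 2 (by nlinarith)
    rcases h with h | h
    · -- q² + 2·2^j = (2^j)² + 1
      have e : q ^ 2 + 2 ^ (j + 1) = (2 ^ j) ^ 2 + 1 := by
        have e1 : 2 ^ (j + 1) = 2 * (q + 1) := by rw [pow_succ', h]
        have e2 : (2 ^ j) ^ 2 = (q + 1) ^ 2 := by rw [h]
        rw [e1, e2]; ring
      have h1 : q ^ 2 + 2 ^ (j + 1) ≡ q ^ 2 [MOD 2 ^ (j + 1)] := by
        conv_rhs => rw [← add_zero (q ^ 2)]
        exact Nat.ModEq.add_left _ ((Nat.modEq_zero_iff_dvd).2 dvd_rfl)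
      have h2 : (2 ^ j) ^ 2 + 1 ≡ 1 [MOD 2 ^ (j + 1)] := by
        conv_rhs => rw [← zero_add 1]
        exact Nat.ModEq.add_right _ ((Nat.modEq_zero_iff_dvd).2 hdvd)
      exact h1.symm.trans (e ▸ h2)
    · have e : q ^ 2 = (2 ^ j) ^ 2 + 2 ^ (j + 1) + 1 := by
        rw [h, pow_succ]; ring
      rw [e]
      have h2 : (2 ^ j) ^ 2 + 2 ^ (j + 1) ≡ 0 [MOD 2 ^ (j + 1)] :=
        (Nat.modEq_zero_iff_dvd).2 (dvd_add hdvd dvd_rfl)
      conv_rhs => rw [← zero_add 1]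
      exact Nat.ModEq.add_right _ h2
  have := (hsq.pow b).mul_right q
  rw [one_pow, one_mul, ← pow_mul, ← pow_succ] at this
  exact this

/-- `q^a + 1 = 2^m` with `q` odd forces `a = 1` -/
theorem eq_one_of_pow_add_one_eq_two_pow {q a m : ℕ} (hq : 3 ≤ q) (hodd : Odd q) (ha : 1 ≤ a)
    (h : q ^ a + 1 = 2 ^ m) : a = 1 := by
  rcases Nat.even_or_odd' a with ⟨b, rfl | rfl⟩
  · -- even exponent: `q^(2b) + 1 ≡ 2 mod 4`
    exfalso
    have hb : 1 ≤ b := by omega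
    have hoddb : Odd (q ^ b) := hodd.pow
    have h4 : (q ^ b) ^ 2 % 4 = 1 := by
      obtain ⟨k, hk⟩ := hoddb
      rw [hk]
      have : (2 * k + 1) ^ 2 = 4 * (k * k + k) + 1 := by ring
      rw [this]; omega
    rw [pow_mul', ] at h
    have hm : m ≤ 1 := by
      by_contra hm
      push Not at hm
      have : 4 ∣ 2 ^ m := by
        have : (4 : ℕ) = 2 ^ 2 := by norm_num
        rw [this]; exact pow_dvd_pow 2 hm
      omega
    have : 2 ^ m ≤ 2 := by
      calc 2 ^ m ≤ 2 ^ 1 := Nat.pow_le_pow_right (by norm_num) hm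
        _ = 2 := by norm_num
    have hq2 : 9 ≤ (q ^ b) ^ 2 := by
      have : 3 ≤ q ^ b := le_trans hq (Nat.le_self_pow (by omega) q)
      nlinarith
    omega
  · -- odd exponent
    have hdvd : q + 1 ∣ q ^ (2 * b + 1) + 1 := by
      have := Odd.nat_add_dvd_pow_add_pow q 1 (⟨b, rfl⟩ : Odd (2 * b + 1))
      rwa [one_pow] at this
    rw [h] at hdvd
    obtain ⟨j, hjm, hj⟩ := (Nat.dvd_prime_pow Nat.prime_two).1 hdvd
    have hj1 : 1 ≤ j := by
      rcases j with _ | j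
      · rw [pow_zero] at hj; omega
      · omega
    have hmod := pow_odd_modEq hj1 (Or.inl hj) b
    have hmj : m ≤ j := by
      by_contra hmj
      push Not at hmj
      have h0 : 2 ^ (j + 1) ∣ q ^ (2 * b + 1) + 1 := by
        rw [h]; exact pow_dvd_pow 2 hmj
      have h1 : q ^ (2 * b + 1) + 1 ≡ q + 1 [MOD 2 ^ (j + 1)] := hmod.add_right 1
      have h2 : q + 1 ≡ 0 [MOD 2 ^ (j + 1)] := h1.symm.trans ((Nat.modEq_zero_iff_dvd).2 h0)
      rw [hj, Nat.modEq_zero_iff_dvd] at h2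
      have := Nat.le_of_dvd (by positivity) h2
      have : 2 ^ j < 2 ^ (j + 1) := Nat.pow_lt_pow_right (by norm_num) (by omega)
      omega
    have h3 : 2 ^ m ≤ 2 ^ j := Nat.pow_le_pow_right (by norm_num) hmj
    rw [← h, ← hj] at h3
    have h4 : q ^ (2 * b + 1) ≤ q ^ 1 := by rw [pow_one]; omega
    have := (Nat.pow_le_pow_iff_right (by omega : 1 < q)).1 h4
    omega

/-- `q^d - 1 = 2^a` with `q` an odd prime forces `d = 1` or `q^d = 9` -/
theorem of_pow_sub_one_eq_two_pow {q d a : ℕ} (hq : q.Prime) (hodd : Odd q) (hd : 1 ≤ d)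
    (h : q ^ d = 2 ^ a + 1) : d = 1 ∨ (q = 3 ∧ d = 2) := by
  have hq3 : 3 ≤ q := by
    have := hq.two_le
    rcases hodd with ⟨k, hk⟩
    omega
  rcases Nat.even_or_odd' d with ⟨e, rfl | rfl⟩
  · right
    have he : 1 ≤ e := by omega
    -- (q^e - 1)(q^e + 1) = 2^a
    have hge : 3 ≤ q ^ e := le_trans hq3 (Nat.le_self_pow (by omega) q)
    have hfac : (q ^ e - 1) * (q ^ e + 1) = 2 ^ a := by
      have : (q ^ e - 1) * (q ^ e + 1) + 1 = q ^ (2 * e) := by
        obtain ⟨k, hk⟩ : ∃ k, q ^ e = k + 1 := ⟨q ^ e - 1, by omega⟩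
        rw [pow_mul', hk]
        simp only [Nat.add_sub_cancel]
        ring
      omega
    have hd1 : q ^ e - 1 ∣ 2 ^ a := Dvd.intro _ hfac
    have hd2 : q ^ e + 1 ∣ 2 ^ a := Dvd.intro_left _ hfac
    obtain ⟨i, -, hi⟩ := (Nat.dvd_prime_pow Nat.prime_two).1 hd1
    obtain ⟨k, -, hk⟩ := (Nat.dvd_prime_pow Nat.prime_two).1 hd2
    have hik : 2 ^ i + 2 = 2 ^ k := by omega
    -- i = 1, k = 2
    have hi1 : i = 1 := by
      rcases i with _ | _ | i
      · exfalso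
        rw [pow_zero] at hi; omega
      · rfl
      · exfalso
        -- 4 ∣ 2^i, so 2^k ≡ 2 mod 4, impossible for k ≥ 2; k ≤ 1 gives 2^k ≤ 2 < 2^i + 2
        have h4 : 4 ∣ 2 ^ (i + 1 + 1) := by
          have : (4 : ℕ) = 2 ^ 2 := by norm_num
          rw [this]; exact pow_dvd_pow 2 (by omega)
        rcases k with _ | _ | k
        · rw [pow_zero] at hik; omega
        · rw [pow_one] at hik
          have : 0 < 2 ^ (i + 1 + 1) := by positivity
          omega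
        · have h4' : 4 ∣ 2 ^ (k + 1 + 1) := by
            have : (4 : ℕ) = 2 ^ 2 := by norm_num
            rw [this]; exact pow_dvd_pow 2 (by omega)
          omega
    rw [hi1, pow_one] at hi
    have hqe : q ^ e = 3 := by omega
    have hqdvd : q ∣ 3 := by
      rw [← hqe]; exact dvd_pow_self q (by omega)
    have hq3' : q = 3 := (Nat.prime_dvd_prime_iff_eq hq Nat.prime_three).1 hqdvd
    refine ⟨hq3', ?_⟩
    rw [hq3'] at hqe
    have : e = 1 := by
      have h31 : 3 ^ e = 3 ^ 1 := by rw [hqe, pow_one]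
      exact Nat.pow_right_injective (by norm_num : 2 ≤ 3) h31
    omega
  · left
    -- q - 1 ∣ q^d - 1
    have hdvd : q - 1 ∣ q ^ (2 * e + 1) - 1 := Nat.sub_one_dvd_pow_sub_one q (2 * e + 1)
    have h' : q ^ (2 * e + 1) - 1 = 2 ^ a := by rw [h]; simp
    rw [h'] at hdvd
    obtain ⟨j, hja, hj⟩ := (Nat.dvd_prime_pow Nat.prime_two).1 hdvd
    have hj1 : 1 ≤ j := by
      rcases j with _ | j
      · rw [pow_zero] at hj; omega
      · omega
    have hqj : q = 2 ^ j + 1 := by omega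
    have hmod := pow_odd_modEq hj1 (Or.inr hqj) e
    have haj : a ≤ j := by
      by_contra haj
      push Not at haj
      have h0 : 2 ^ (j + 1) ∣ 2 ^ a := pow_dvd_pow 2 haj
      -- q^(2e+1) = 2^a + 1 ≡ 1, but ≡ q = 2^j + 1
      have h1 : 2 ^ a + 1 ≡ 2 ^ j + 1 [MOD 2 ^ (j + 1)] := by
        rw [← h, ← hqj]; exact hmod
      have h2 : 2 ^ a + 1 ≡ 0 + 1 [MOD 2 ^ (j + 1)] :=
        Nat.ModEq.add_right 1 ((Nat.modEq_zero_iff_dvd).2 h0)
      have h3 : 2 ^ j + 1 ≡ 0 + 1 [MOD 2 ^ (j + 1)] := h1.symm.trans h2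
      have h4 := Nat.ModEq.add_right_cancel' 1 h3
      rw [Nat.modEq_zero_iff_dvd] at h4
      have := Nat.le_of_dvd (by positivity) h4
      have : 2 ^ j < 2 ^ (j + 1) := Nat.pow_lt_pow_right (by norm_num) (by omega)
      omega
    have h3 : 2 ^ a ≤ 2 ^ j := Nat.pow_le_pow_right (by norm_num) haj
    have h4 : q ^ (2 * e + 1) ≤ q ^ 1 := by rw [pow_one]; omega
    have := (Nat.pow_le_pow_iff_right (by omega : 1 < q)).1 h4
    omega

end Cfsg.Agent.Helper58.HT
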