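import Mathlib
import Cfsg.Prelude.Def_CaseTheorems
import Cfsg.Agent.Helper58.HTDS
import Cfsg.Agent.Helper58.HTNum

/-!
# Half-transitive dihedral and semidihedral linear groups (helper58)
-/

set_option autoImplicit false

namespace Cfsg.Agent.Helper58.HT

open Cfsg.Agent.Helper58

section DS2
variable {q : ℕ} [Fact q.Prime] {V : Type*} [AddCommGroup V] [Module (ZMod q) V]
  {G : Type*} [Group G] [Finite G] (ρ : G →* (V ≃ₗ[ZMod q] V))

omit [Finite G] in
theorem natCard_eq_pow_finrank {W : Type*} [AddCommGroup W] [Module (ZMod q) W] [Finite W] :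
    Nat.card W = q ^ Module.finrank (ZMod q) W := by
  have := Fintype.ofFinite W
  rw [Nat.card_eq_fintype_card, Module.card_eq_pow_finrank (K := ZMod q), ZMod.card]

/-- a commutative irreducible faithful linear group is semiregular -/
theorem semireg_of_comm (hρ : Function.Injective ρ)
    (hirr : ∀ W : Submodule (ZMod q) V, (∀ g : G, ∀ w ∈ W, ρ g w ∈ W) → W = ⊥ ∨ W = ⊤)
    (hcomm : ∀ a b : G, a * b = b * a) {v : V} (hv : v ≠ 0) {g : G} (hg : ρ g v = v) : g = 1 := by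
  by_contra hg1
  have hc : g ∈ Subgroup.center G := by
    rw [Subgroup.mem_center_iff]
    intro a
    exact hcomm a g
  have := fixSub_central_eq_bot ρ hρ hirr g hc hg1
  have hv' : v ∈ fixSub ρ g := hg
  rw [this, Submodule.mem_bot] at hv'
  exact hv hv'

omit [Finite G] in
/-- from the numerical output of `ds_main` to `|V| = q²`, `q + 1 = E` -/
theorem ds_num [Finite V] (hq2 : q ≠ 2) {r E k : ℕ} (hr2 : 2 ≤ r) (hV : Nat.card V = r ^ 2)
    (hrE : r + 1 = E) (hE : E = 2 ^ k) (t : G) (ht : Nat.card (fixSub ρ t) = r) :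
    Nat.card V = q ^ 2 ∧ q + 1 = 2 ^ k := by
  have hqp : q.Prime := Fact.out
  rw [natCard_eq_pow_finrank (q := q)] at ht
  set a := Module.finrank (ZMod q) (fixSub ρ t) with ha
  have ha1 : 1 ≤ a := by
    rcases Nat.eq_zero_or_pos a with h | h
    · rw [h, pow_zero] at ht; omega
    · exact h
  have hodd : Odd q := hqp.odd_of_ne_two hq2
  have hq3 : 3 ≤ q := by
    have := hqp.two_le
    rcases hodd with ⟨j, hj⟩
    omega
  have h1 : q ^ a + 1 = 2 ^ k := by rw [ht, hrE, hE]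
  have := eq_one_of_pow_add_one_eq_two_pow hq3 hodd ha1 h1
  rw [this, pow_one] at ht h1
  exact ⟨by rw [hV, ← ht], h1⟩

/-- the dihedral case -/
theorem dihedral_case [Finite V] [Nontrivial V] (hq2 : q ≠ 2) (hG : IsPGroup 2 G)
    (hρ : Function.Injective ρ)
    (hirr : ∀ W : Submodule (ZMod q) V, (∀ g : G, ∀ w ∈ W, ρ g w ∈ W) → W = ⊥ ∨ W = ⊤)
    (hs : ∀ v w : V, v ≠ 0 → w ≠ 0 → Nat.card (vecStab ρ v) = Nat.card (vecStab ρ w))
    (hns : ∃ v : V, v ≠ 0 ∧ ∃ g : G, g ≠ 1 ∧ ρ g v = v)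
    (N : ℕ) (φ : G ≃* DihedralGroup N) :
    Nat.card V = q ^ 2 ∧ ∃ m : ℕ, q = 2 ^ m - 1 ∧ Nonempty (G ≃* DihedralGroup (2 ^ m)) := by
  have hcard : Nat.card G = 2 * N := by
    rw [Nat.card_congr φ.toEquiv, DihedralGroup.nat_card]
  obtain ⟨k, hk⟩ := hG.exists_card_eq
  have hNdvd : N ∣ 2 ^ k := by rw [← hk, hcard]; exact Dvd.intro_left 2 rfl
  obtain ⟨n, -, rfl⟩ := (Nat.dvd_prime_pow Nat.prime_two).1 hNdvd
  -- `G` is not commutative
  have hnc : ¬ ∀ a b : G, a * b = b * a := by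
    intro hcomm
    obtain ⟨v, hv, g, hg, hgv⟩ := hns
    exact hg (semireg_of_comm ρ hρ hirr hcomm hv hgv)
  have hn : 2 ≤ n := by
    by_contra hn
    push Not at hn
    apply hnc
    have hD : IsMulCommutative (DihedralGroup (2 ^ n)) := by
      rw [DihedralGroup.commutative_iff]
      interval_cases n
      · left; norm_num
      · right; norm_num
    intro a b
    apply φ.injective
    rw [map_mul, map_mul]
    exact hD.is_comm.comm _ _
  set x : G := φ.symm (DihedralGroup.r 1) with hx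
  set y : G := φ.symm (DihedralGroup.sr 0) with hy
  have hxo : orderOf x = 2 ^ n := by
    rw [hx, MulEquiv.orderOf_eq, DihedralGroup.orderOf_r_one]
  have hyy : y * y = 1 := by
    rw [hy, ← map_mul, DihedralGroup.sr_mul_self, map_one]
  have hyC : y ∉ Subgroup.zpowers x := by
    intro h
    obtain ⟨j, hj⟩ := Subgroup.mem_zpowers_iff.1 h
    have := congrArg φ hj
    rw [map_zpow, hx, hy, MulEquiv.apply_symm_apply, MulEquiv.apply_symm_apply,
      DihedralGroup.r_one_zpow] at this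
    cases this
  have hconj : y * x * y⁻¹ = x⁻¹ := by
    apply φ.injective
    rw [map_mul, map_mul, map_inv, map_inv, hx, hy, MulEquiv.apply_symm_apply,
      MulEquiv.apply_symm_apply]
    simp
  have hE : ∀ c ∈ Subgroup.zpowers x, y * c * y⁻¹ * c = c ^ (2 ^ n) := by
    intro c hc
    have hpow : c ^ (2 ^ n) = 1 := by
      rw [← orderOf_dvd_iff_pow_eq_one, ← hxo]
      exact orderOf_dvd_of_mem_zpowers hc
    obtain ⟨j, rfl⟩ := Subgroup.mem_zpowers_iff.1 hc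
    rw [hpow, ← conj_zpow, hconj, inv_zpow, inv_mul_cancel]
  obtain ⟨r, hr2, hV, hrE, t, ht⟩ := ds_main ρ hq2 hρ hirr hs hns x y n hn hxo hyy hyC
    (by rw [hcard]) (2 ^ n) hE (Or.inl rfl)
  obtain ⟨hV', hq1⟩ := ds_num ρ hq2 hr2 hV hrE rfl t ht
  exact ⟨hV', n, by omega, ⟨φ⟩⟩

/-- the semidihedral case -/
theorem quasidihedral_case [Finite V] [Nontrivial V] (hq2 : q ≠ 2)
    (hρ : Function.Injective ρ)
    (hirr : ∀ W : Submodule (ZMod q) V, (∀ g : G, ∀ w ∈ W, ρ g w ∈ W) → W = ⊥ ∨ W = ⊤)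
    (hs : ∀ v w : V, v ≠ 0 → w ≠ 0 → Nat.card (vecStab ρ v) = Nat.card (vecStab ρ w))
    (hns : ∃ v : V, v ≠ 0 ∧ ∃ g : G, g ≠ 1 ∧ ρ g v = v)
    (hQD : Cfsg.IsQuasiDihedral G) :
    Nat.card V = q ^ 2 ∧ ∃ m : ℕ, q = 2 ^ m - 1 ∧ Nat.card G = 2 ^ (m + 2) := by
  obtain ⟨n, hn, hcard, x, y, hxo, hyo, hconj⟩ := hQD
  have hyy : y * y = 1 := by
    rw [← sq, ← hyo, pow_orderOf_eq_one]
  have hpos : 1 ≤ 2 ^ (n - 1) := Nat.one_le_two_pow
  have hyC : y ∉ Subgroup.zpowers x := by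
    intro h
    have hcomm := comm_of_mem_zpowers h (Subgroup.mem_zpowers x)
    have h1 : x = x ^ (2 ^ (n - 1) - 1) := by
      rw [← hconj, hcomm]; group
    have h2 : x ^ (2 ^ (n - 1) - 2) = 1 := by
      have e : 2 ^ (n - 1) - 1 = (2 ^ (n - 1) - 2) + 1 := by
        have : 4 ≤ 2 ^ (n - 1) := by
          calc 4 = 2 ^ 2 := by norm_num
            _ ≤ 2 ^ (n - 1) := Nat.pow_le_pow_right (by norm_num) (by omega)
        omega
      rw [e, pow_succ] at h1
      exact (mul_eq_right.1 h1.symm)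
    have h3 : orderOf x ∣ 2 ^ (n - 1) - 2 := orderOf_dvd_iff_pow_eq_one.2 h2
    rw [hxo] at h3
    have h4 : 4 ≤ 2 ^ (n - 1) := by
      calc 4 = 2 ^ 2 := by norm_num
        _ ≤ 2 ^ (n - 1) := Nat.pow_le_pow_right (by norm_num) (by omega)
    have h5 : 2 ^ n = 2 * 2 ^ (n - 1) := by rw [← pow_succ']; congr 1; omega
    have := Nat.le_of_dvd (by omega) h3
    omega
  have hE : ∀ c ∈ Subgroup.zpowers x, y * c * y⁻¹ * c = c ^ (2 ^ (n - 1)) := by
    intro c hc
    obtain ⟨j, rfl⟩ := Subgroup.mem_zpowers_iff.1 hc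
    rw [← conj_zpow, hconj]
    have e : 2 ^ (n - 1) = (2 ^ (n - 1) - 1) + 1 := by omega
    conv_rhs => rw [e, pow_succ]
    rw [← zpow_natCast, ← zpow_natCast, ← zpow_mul, ← zpow_mul, mul_comm]
  obtain ⟨r, hr2, hV, hrE, t, ht⟩ := ds_main ρ hq2 hρ hirr hs hns x y n (by omega) hxo hyy hyC
    (by rw [hcard, pow_succ']) (2 ^ (n - 1)) hE (Or.inr ⟨hn, rfl⟩)
  obtain ⟨hV', hq1⟩ := ds_num ρ hq2 hr2 hV hrE rfl t ht
  refine ⟨hV', n - 1, by omega, ?_⟩
  rw [hcard]; congr 1; omega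

end DS2

end Cfsg.Agent.Helper58.HT
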