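import Mathlib
import Cfsg.Agent.Helper58.HTBasic

/-!
# Half-transitive imprimitive linear `p`-groups: the number of blocks is 2 (helper58)
-/

set_option autoImplicit false

namespace Cfsg.Agent.Helper58.HT

open Cfsg.Agent.Helper58

section imp
variable {q : ℕ} [Fact q.Prime] {V : Type*} [AddCommGroup V] [Module (ZMod q) V]
  {G : Type*} [Group G] [Finite G] (ρ : G →* (V ≃ₗ[ZMod q] V))

/-- a permutation of `Fin p` of prime order `p` has no fixed points -/
theorem perm_no_fix {p : ℕ} [hp : Fact p.Prime] (σ : Equiv.Perm (Fin p)) (hσ : orderOf σ = p)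
    (i : Fin p) : σ i ≠ i := by
  have h0 : (Fintype.card (Fin p)).Prime := by rw [Fintype.card_fin]; exact hp.out
  have hσ1 : orderOf σ = Fintype.card (Fin p) := by rw [Fintype.card_fin]; exact hσ
  have hσ2 := Equiv.Perm.isCycle_of_prime_order'' h0 hσ1
  have hσ3 : σ.support = Finset.univ :=
    Finset.eq_univ_of_card σ.support (hσ2.orderOf.symm.trans hσ1)
  have : i ∈ σ.support := by rw [hσ3]; exact Finset.mem_univ i
  exact Equiv.Perm.mem_support.1 this


/-- a half-transitive faithful imprimitive linear `p`-group with non-faithful blocks has `p = 2` -/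
theorem imp_p_eq_two [Finite V] [Nontrivial V] {p : ℕ} [hp : Fact p.Prime]
    (hρ : Function.Injective ρ)
    (hs : ∀ v w : V, v ≠ 0 → w ≠ 0 → Nat.card (vecStab ρ v) = Nat.card (vecStab ρ w))
    (H : Subgroup G) (hidx : H.index = p) (W : Fin p → Submodule (ZMod q) V)
    (hsup : iSup W = ⊤) (hind : iSupIndep W)
    (hinv : ∀ h ∈ H, ∀ i, ∀ w ∈ W i, ρ h w ∈ W i)
    (hnf : ∀ i, ∃ h ∈ H, h ≠ 1 ∧ ∀ w ∈ W i, ρ h w = w)
    (hperm : ∀ g : G, g ∉ H → ∃ σ : Equiv.Perm (Fin p), orderOf σ = p ∧
      ∀ i, (W i).map ((ρ g : V ≃ₗ[ZMod q] V) : V →ₗ[ZMod q] V) = W (σ i)) : p = 2 := by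
  by_contra hp2
  have hodd : Odd p := hp.out.odd_of_ne_two hp2
  have hp3 : 3 ≤ p := by
    have := hp.out.two_le
    rcases hodd with ⟨k, hk⟩
    omega
  have hmapmem : ∀ g : G, g ∉ H → ∀ σ : Equiv.Perm (Fin p),
      (∀ i, (W i).map ((ρ g : V ≃ₗ[ZMod q] V) : V →ₗ[ZMod q] V) = W (σ i)) →
      ∀ i, ∀ w ∈ W i, ρ g w ∈ W (σ i) := by
    intro g _ σ hσ i w hw
    rw [← hσ i]
    exact Submodule.mem_map_of_mem hw
  have hdisj : ∀ i j : Fin p, i ≠ j → ∀ x : V, x ∈ W i → x ∈ W j → x = 0 := by
    intro i j hij x hxi hxj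
    have := hind.pairwiseDisjoint hij
    exact (Submodule.disjoint_def.1 this) x hxi hxj
  -- every block is non-zero
  have hWne : ∀ i, W i ≠ ⊥ := by
    by_contra hcon
    push Not at hcon
    obtain ⟨i₀, hi₀⟩ := hcon
    have hHtop : H ≠ ⊤ := by
      intro h
      rw [h, Subgroup.index_top] at hidx
      exact hp.out.ne_one hidx.symm
    obtain ⟨g, hg⟩ : ∃ g : G, g ∉ H := by
      by_contra hcon
      push Not at hcon
      exact hHtop (eq_top_iff.2 fun x _ => hcon x)
    obtain ⟨σ, hσo, hσ⟩ := hperm g hg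
    have hstep : ∀ i, W i = ⊥ → W (σ i) = ⊥ := by
      intro i hi
      rw [← hσ i, hi, Submodule.map_bot]
    have hpow : ∀ k : ℕ, W ((σ ^ k) i₀) = ⊥ := by
      intro k
      induction k with
      | zero => simpa using hi₀
      | succ k ih =>
        rw [pow_succ', Equiv.Perm.mul_apply]
        exact hstep _ ih
    have h0 : (Fintype.card (Fin p)).Prime := by rw [Fintype.card_fin]; exact hp.out
    have hσ1 : orderOf σ = Fintype.card (Fin p) := by rw [Fintype.card_fin]; exact hσo
    have hcyc := Equiv.Perm.isCycle_of_prime_order'' h0 hσ1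
    have hall : ∀ j, W j = ⊥ := by
      intro j
      obtain ⟨k, hk⟩ := hcyc.exists_pow_eq (perm_no_fix σ hσo i₀) (perm_no_fix σ hσo j)
      rw [← hk]; exact hpow k
    have : iSup W = ⊥ := by simp [hall]
    rw [hsup] at this
    exact top_ne_bot this
  -- stabilizers of vectors inside a block lie in `H`
  have hstabH : ∀ i, ∀ v ∈ W i, v ≠ 0 → vecStab ρ v ≤ H := by
    intro i v hv hv0 g hg
    by_contra hgH
    obtain ⟨σ, hσo, hσ⟩ := hperm g hgH
    have h1 : ρ g v ∈ W (σ i) := hmapmem g hgH σ hσ i v hv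
    have hgv : ρ g v = v := hg
    rw [hgv] at h1
    exact hv0 (hdisj i (σ i) (perm_no_fix σ hσo i).symm v hv h1)
  -- key: for vectors in two different blocks the stabilizers coincide
  have hkey : ∀ i j : Fin p, i ≠ j → ∀ v ∈ W i, ∀ v' ∈ W j, v ≠ 0 → v' ≠ 0 →
      vecStab ρ v ≤ vecStab ρ v' := by
    intro i j hij v hv v' hv' hv0 hv'0
    have hw0 : v + v' ≠ 0 := by
      intro h
      have : v = -v' := eq_neg_of_add_eq_zero_left h
      apply hv0
      apply hdisj i j hij v hv
      rw [this]; exact (W j).neg_mem hv'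
    -- Claim A: the stabilizer of `v + v'` lies in `H`
    have hA : vecStab ρ (v + v') ≤ H := by
      intro g hg
      by_contra hgH
      obtain ⟨σ, hσo, hσ⟩ := hperm g hgH
      have h1 : ρ g v ∈ W (σ i) := hmapmem g hgH σ hσ i v hv
      have h2 : ρ g v' ∈ W (σ j) := hmapmem g hgH σ hσ j v' hv'
      have hsum : ρ g v + ρ g v' = v + v' := by rw [← map_add]; exact hg
      have hgv0 : ρ g v ≠ 0 := fun h => hv0 ((ρ g).map_eq_zero_iff.1 h)
      have hgv'0 : ρ g v' ≠ 0 := fun h => hv'0 ((ρ g).map_eq_zero_iff.1 h)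
      have hpair : ∀ a b : Fin p, W a ⊔ W b = ⨆ k ∈ ({a, b} : Set (Fin p)), W k := by
        intro a b
        rw [iSup_pair]
      have hsi : σ i ≠ σ j := fun h => hij (σ.injective h)
      -- `σ i ∈ {i, j}`
      have hmem1 : ∀ a b : Fin p, ∀ x y : V, x ∈ W a → y ∈ W b → x ≠ 0 →
          x + y ∈ W i ⊔ W j → a ≠ b → a = i ∨ a = j := by
        intro a b x y hx hy hx0 hxy hab
        by_contra hcon
        push Not at hcon
        by_cases hb : b = i ∨ b = j
        · -- then `x ∈ W a ⊓ (W i ⊔ W j)`
          have hy' : y ∈ W i ⊔ W j := by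
            rcases hb with rfl | rfl
            · exact Submodule.mem_sup_left hy
            · exact Submodule.mem_sup_right hy
          have hx' : x ∈ W i ⊔ W j := by
            have := (W i ⊔ W j).sub_mem hxy hy'
            rwa [add_sub_cancel_right] at this
          have hd : Disjoint (W a) (⨆ k ∈ ({i, j} : Set (Fin p)), W k) :=
            hind.disjoint_biSup (by
              simp only [Set.mem_insert_iff, Set.mem_singleton_iff, not_or]
              exact hcon)
          rw [← hpair] at hd
          exact hx0 ((Submodule.disjoint_def.1 hd) x hx hx')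
        · push Not at hb
          have hd : Disjoint (⨆ k ∈ ({a, b} : Set (Fin p)), W k)
              (⨆ k ∈ ({i, j} : Set (Fin p)), W k) := by
            apply hind.disjoint_biSup_biSup' _ (Set.toFinite _)
            rw [Set.disjoint_left]
            intro k hk hk'
            simp only [Set.mem_insert_iff, Set.mem_singleton_iff] at hk hk'
            rcases hk with rfl | rfl
            · rcases hk' with h | h
              · exact hcon.1 h
              · exact hcon.2 h
            · rcases hk' with h | h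
              · exact hb.1 h
              · exact hb.2 h
          rw [← hpair, ← hpair] at hd
          have hxy' : x + y ∈ W a ⊔ W b :=
            Submodule.add_mem_sup hx hy
          have h0 := (Submodule.disjoint_def.1 hd) (x + y) hxy' hxy
          have : x = -y := eq_neg_of_add_eq_zero_left h0
          apply hx0
          apply hdisj a b hab x hx
          rw [this]; exact (W b).neg_mem hy
      have hvv' : v + v' ∈ W i ⊔ W j := Submodule.add_mem_sup hv hv'
      have ha := hmem1 (σ i) (σ j) (ρ g v) (ρ g v') h1 h2 hgv0 (by rw [hsum]; exact hvv') hsi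
      have hb := hmem1 (σ j) (σ i) (ρ g v') (ρ g v) h2 h1 hgv'0
        (by rw [add_comm, hsum]; exact hvv') hsi.symm
      have hai : σ i = j := ha.resolve_left (perm_no_fix σ hσo i)
      have hbj : σ j = i := by
        rcases hb with h | h
        · exact h
        · exact absurd h (perm_no_fix σ hσo j)
      -- `σ² i = i`, hence `σ i = i` as `σ` has odd order
      have h2i : (σ ^ 2) i = i := by
        rw [sq, Equiv.Perm.mul_apply, hai, hbj]
      obtain ⟨k, hk⟩ := hodd
      have hσp : σ ^ p = 1 := by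
        have := pow_orderOf_eq_one σ
        rwa [hσo] at this
      have h3 : (σ ^ (2 * (k + 1))) i = i := by
        rw [pow_mul]
        have : ∀ m : ℕ, ((σ ^ 2) ^ m) i = i := by
          intro m
          induction m with
          | zero => simp
          | succ m ih => rw [pow_succ, Equiv.Perm.mul_apply, h2i, ih]
        exact this _
      have h4 : σ ^ (2 * (k + 1)) = σ := by
        have : 2 * (k + 1) = p + 1 := by omega
        rw [this, pow_succ, hσp, one_mul]
      rw [h4] at h3
      exact perm_no_fix σ hσo i h3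
    -- Claim B: the stabilizer of `v + v'` is the intersection
    have hB : vecStab ρ (v + v') ≤ vecStab ρ v ⊓ vecStab ρ v' := by
      intro g hg
      have hgH := hA hg
      have h1 : ρ g v ∈ W i := hinv g hgH i v hv
      have h2 : ρ g v' ∈ W j := hinv g hgH j v' hv'
      have hsum : ρ g v + ρ g v' = v + v' := by rw [← map_add]; exact hg
      have hx : ρ g v - v = v' - ρ g v' := by
        rw [sub_eq_sub_iff_add_eq_add, hsum, add_comm]
      have h0 := hdisj i j hij (ρ g v - v) ((W i).sub_mem h1 hv)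
        (by rw [hx]; exact (W j).sub_mem hv' h2)
      constructor
      · exact sub_eq_zero.1 h0
      · rw [hx] at h0
        exact (sub_eq_zero.1 h0).symm
    have hcard : Nat.card (vecStab ρ (v + v')) = Nat.card (vecStab ρ v) := hs _ _ hw0 hv0
    have hle : vecStab ρ (v + v') ≤ vecStab ρ v := hB.trans inf_le_left
    have heq : vecStab ρ (v + v') = vecStab ρ v := Subgroup.eq_of_le_of_card_ge hle (by rw [hcard])
    rw [← heq]
    exact hB.trans inf_le_right
  -- conclusion: a nonidentity element fixes every block pointwise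
  let i₁ : Fin p := ⟨0, by omega⟩
  let i₂ : Fin p := ⟨1, by omega⟩
  have hi12 : i₁ ≠ i₂ := by
    intro h
    have := congrArg Fin.val h
    simp [i₁, i₂] at this
  obtain ⟨v₁, hv₁, hv₁0⟩ := Submodule.exists_mem_ne_zero_of_ne_bot (hWne i₁)
  obtain ⟨v₂, hv₂, hv₂0⟩ := Submodule.exists_mem_ne_zero_of_ne_bot (hWne i₂)
  obtain ⟨h₁, hh₁H, hh₁1, hh₁⟩ := hnf i₁
  have hh₁v : h₁ ∈ vecStab ρ v₁ := hh₁ v₁ hv₁
  have hfixall : ∀ j, ∀ w ∈ W j, ρ h₁ w = w := by
    intro j w hw
    by_cases hw0 : w = 0
    · rw [hw0, map_zero]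
    by_cases hj : j = i₁
    · subst hj
      exact hh₁ w hw
    · exact hkey i₁ j (Ne.symm hj) v₁ hv₁ w hw hv₁0 hw0 hh₁v
  apply hh₁1
  apply hρ
  rw [map_one]
  ext x
  have hx : x ∈ iSup W := by rw [hsup]; trivial
  induction hx using Submodule.iSup_induction' with
  | mem i w hw => exact hfixall i w hw
  | zero => simp
  | add a b _ _ iha ihb => rw [map_add, iha, ihb]; rfl

end imp

end Cfsg.Agent.Helper58.HT
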