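import Mathlib
import Cfsg.Agent.Helper58.HTBasic
import Cfsg.Agent.Helper58.HTDS
import Cfsg.Agent.Helper58.HTDS2
import Cfsg.Agent.Helper58.HTNum
import Cfsg.Agent.Helper52.PGroupLemmas

/-!
# Half-transitive imprimitive linear 2-groups with two blocks (helper58)
-/

set_option autoImplicit false

namespace Cfsg.Agent.Helper58.HT

open Cfsg.Agent.Helper58

section imp2
variable {q : ℕ} [Fact q.Prime] {V : Type*} [AddCommGroup V] [Module (ZMod q) V]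
  {G : Type*} [Group G] [Finite G] (ρ : G →* (V ≃ₗ[ZMod q] V))

/-- an element of `H` fixing `v + v'` fixes both summands -/
theorem fix_both {W₁ W₂ : Submodule (ZMod q) V} (hd : Disjoint W₁ W₂) {h : G}
    (h1 : ∀ w ∈ W₁, ρ h w ∈ W₁) (h2 : ∀ w ∈ W₂, ρ h w ∈ W₂) {v v' : V} (hv : v ∈ W₁)
    (hv' : v' ∈ W₂) (hfix : ρ h (v + v') = v + v') : ρ h v = v ∧ ρ h v' = v' := by
  have hsum : ρ h v + ρ h v' = v + v' := by rw [← map_add]; exact hfix
  have hx : ρ h v - v = v' - ρ h v' := by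
    rw [sub_eq_sub_iff_add_eq_add, hsum, add_comm]
  have h0 := (Submodule.disjoint_def.1 hd) (ρ h v - v) (W₁.sub_mem (h1 v hv) hv)
    (by rw [hx]; exact W₂.sub_mem hv' (h2 v' hv'))
  constructor
  · exact sub_eq_zero.1 h0
  · rw [hx] at h0
    exact (sub_eq_zero.1 h0).symm

/-- the central involution of `H` fixing `W₁` pointwise acts as `-1` on `W₂` -/
theorem exists_neg_elt (hq2 : q ≠ 2) (hG : IsPGroup 2 G) (hρ : Function.Injective ρ)
    (hs : ∀ v w : V, v ≠ 0 → w ≠ 0 → Nat.card (vecStab ρ v) = Nat.card (vecStab ρ w))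
    (H : Subgroup G) (W₁ W₂ : Submodule (ZMod q) V) (hc : IsCompl W₁ W₂)
    (hinv₁ : ∀ h ∈ H, ∀ w ∈ W₁, ρ h w ∈ W₁) (hinv₂ : ∀ h ∈ H, ∀ w ∈ W₂, ρ h w ∈ W₂)
    (hst₂ : ∀ v ∈ W₂, v ≠ 0 → vecStab ρ v ≤ H)
    (h₁ : G) (hh₁ : h₁ ∈ H) (hh₁1 : h₁ ≠ 1) (hfix : ∀ w ∈ W₁, ρ h₁ w = w) :
    ∃ k ∈ H, (∀ w ∈ W₁, ρ k w = w) ∧ (∀ w ∈ W₂, ρ k w = -w) := by
  classical
  -- the pointwise stabilizer of `W₁` in `H`
  let N : Subgroup H :=
    { carrier := {h | ∀ w ∈ W₁, ρ (h : G) w = w}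
      mul_mem' := by
        intro a b ha hb w hw
        show ρ ((a : G) * (b : G)) w = w
        rw [rho_mul_apply, hb w hw, ha w hw]
      one_mem' := by
        intro w _
        show ρ (1 : G) w = w
        rw [map_one]; rfl
      inv_mem' := by
        intro a ha w hw
        show ρ ((a : G)⁻¹) w = w
        have h := ha w hw
        calc ρ ((a : G)⁻¹) w = ρ ((a : G)⁻¹) (ρ (a : G) w) := by rw [h]
          _ = w := by rw [← rho_mul_apply, inv_mul_cancel, map_one]; rfl }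
  have hNmem : ∀ h : H, h ∈ N ↔ ∀ w ∈ W₁, ρ (h : G) w = w := fun h => Iff.rfl
  have hNn : N.Normal := by
    constructor
    intro n hn g w hw
    show ρ ((g : G) * (n : G) * (g : G)⁻¹) w = w
    have hg' : ρ ((g : G)⁻¹) w ∈ W₁ := hinv₁ _ (H.inv_mem g.2) w hw
    rw [rho_mul_apply, rho_mul_apply, hn _ hg', ← rho_mul_apply, mul_inv_cancel, map_one]; rfl
  have hN1 : N ≠ ⊥ := by
    intro h
    have hm : (⟨h₁, hh₁⟩ : H) ∈ N := hfix
    rw [h, Subgroup.mem_bot] at hm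
    exact hh₁1 (congrArg Subtype.val hm)
  obtain ⟨z, hzN, hzc, hzo⟩ := Helper52.exists_central_orderOf_eq_prime (hG.to_subgroup H) N hN1
  have hk2 : ((z : G)) * (z : G) = 1 := by
    have : z ^ 2 = 1 := by rw [← hzo]; exact pow_orderOf_eq_one z
    have h2 := congrArg Subtype.val this
    simpa [sq] using h2
  have hk1 : (z : G) ≠ 1 := by
    intro h
    have : z = 1 := Subtype.ext h
    rw [this, orderOf_one] at hzo
    omega
  have hkc : ∀ h ∈ H, h * (z : G) = (z : G) * h := by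
    intro h hh
    have := (Subgroup.mem_center_iff.1 hzc) ⟨h, hh⟩
    exact congrArg Subtype.val this
  refine ⟨(z : G), z.2, hzN, ?_⟩
  set k : G := (z : G) with hk
  have hkk : ∀ x : V, ρ k (ρ k x) = x := by
    intro x
    rw [← rho_mul_apply, hk2, map_one]; rfl
  -- a nonzero `-1`-eigenvector in `W₂`
  obtain ⟨c, hcW, hc0, hkc'⟩ : ∃ c ∈ W₂, c ≠ 0 ∧ ρ k c = -c := by
    have hne : ρ k ≠ 1 := by
      intro h
      apply hk1
      apply hρ
      rw [h, map_one]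
    obtain ⟨x, hx⟩ : ∃ x : V, ρ k x ≠ x := by
      by_contra hcon
      push Not at hcon
      apply hne
      ext x
      exact hcon x
    have hxtop : x ∈ W₁ ⊔ W₂ := by rw [hc.sup_eq_top]; trivial
    obtain ⟨x₁, hx₁, x₂, hx₂, rfl⟩ := Submodule.mem_sup.1 hxtop
    have hx2 : ρ k x₂ ≠ x₂ := by
      intro h
      apply hx
      rw [map_add, hzN x₁ hx₁, h]
    refine ⟨x₂ - ρ k x₂, W₂.sub_mem hx₂ (hinv₂ k z.2 x₂ hx₂), ?_, ?_⟩
    · intro h
      exact hx2 (sub_eq_zero.1 h).symm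
    · rw [map_sub, hkk, neg_sub]
  intro w hw
  set a : V := w + ρ k w with ha
  have haW : a ∈ W₂ := W₂.add_mem hw (hinv₂ k z.2 w hw)
  have hka : ρ k a = a := by
    rw [ha, map_add, hkk, add_comm]
  by_cases ha0 : a = 0
  · rw [ha] at ha0
    exact (eq_neg_of_add_eq_zero_right ha0)
  exfalso
  have hu0 : a + c ≠ 0 := by
    intro h
    have h1 : a = -c := eq_neg_of_add_eq_zero_left h
    have h2 : ρ k a = -ρ k c := by rw [h1, map_neg]
    rw [hka, hkc', neg_neg] at h2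
    rw [h2] at h1
    exact hc0 (eq_zero_of_eq_neg hq2 h1)
  have hle : vecStab ρ (a + c) ≤ vecStab ρ a ⊓ vecStab ρ c := by
    intro g hg
    have hgH : g ∈ H := hst₂ (a + c) (W₂.add_mem haW hcW) hu0 hg
    have hsum : ρ g a + ρ g c = a + c := by rw [← map_add]; exact hg
    have hcomm : ∀ x : V, ρ k (ρ g x) = ρ g (ρ k x) := by
      intro x
      rw [← rho_mul_apply, ← rho_mul_apply, hkc g hgH]
    have hd : ρ g a - a = c - ρ g c := by
      rw [sub_eq_sub_iff_add_eq_add, hsum, add_comm]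
    have h1 : ρ k (ρ g a - a) = ρ g a - a := by
      rw [map_sub, hcomm, hka]
    have h2 : ρ k (ρ g a - a) = -(ρ g a - a) := by
      rw [hd, map_sub, hcomm, hkc', map_neg]
      abel
    have h0 : ρ g a - a = 0 := eq_zero_of_eq_neg hq2 (h1.symm.trans h2)
    constructor
    · exact sub_eq_zero.1 h0
    · rw [hd] at h0
      exact (sub_eq_zero.1 h0).symm
  have hcard : Nat.card (vecStab ρ (a + c)) = Nat.card (vecStab ρ a) := hs _ _ hu0 ha0
  have heq : vecStab ρ (a + c) = vecStab ρ a :=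
    Subgroup.eq_of_le_of_card_ge (hle.trans inf_le_left) (by rw [hcard])
  have hkmem : k ∈ vecStab ρ (a + c) := by rw [heq]; exact hka
  have hkcfix : ρ k c = c := (hle hkmem).2
  rw [hkc'] at hkcfix
  exact hc0 (eq_zero_of_eq_neg hq2 hkcfix.symm)

/-- a linear map all of whose vectors in `W` are `±1`-eigenvectors is `±1` on `W` -/
theorem pm_scalar (hq2 : q ≠ 2) (f : V ≃ₗ[ZMod q] V) (W : Submodule (ZMod q) V)
    (h : ∀ w ∈ W, f w = w ∨ f w = -w) : (∀ w ∈ W, f w = w) ∨ (∀ w ∈ W, f w = -w) := by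
  by_contra hcon
  push Not at hcon
  obtain ⟨⟨w₁, hw₁, h1⟩, ⟨w₂, hw₂, h2⟩⟩ := hcon
  have h1' : f w₁ = -w₁ := (h w₁ hw₁).resolve_left h1
  have h2' : f w₂ = w₂ := (h w₂ hw₂).resolve_right h2
  rcases h (w₁ + w₂) (W.add_mem hw₁ hw₂) with h3 | h3
  · rw [map_add, h1', h2'] at h3
    have : -w₁ = w₁ := add_right_cancel h3
    have hz : w₁ = 0 := eq_zero_of_eq_neg hq2 this.symm
    apply h1
    rw [hz, map_zero]
  · rw [map_add, h1', h2', neg_add] at h3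
    have : w₂ = -w₂ := add_left_cancel h3
    have hz : w₂ = 0 := eq_zero_of_eq_neg hq2 this
    apply h2
    rw [hz, map_zero, neg_zero]

/-- stabilizers of nonzero vectors of `W₁` lie in `H` when the elements outside `H` move `W₁` to `W₂` -/
theorem stab_le_of_swap {H : Subgroup G} {W₁ W₂ : Submodule (ZMod q) V} (hd : Disjoint W₁ W₂)
    (hsw : ∀ g : G, g ∉ H → ∀ w ∈ W₁, ρ g w ∈ W₂) {v : V} (hv : v ∈ W₁) (hv0 : v ≠ 0) :
    vecStab ρ v ≤ H := by
  intro g hg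
  by_contra hgH
  have h1 := hsw g hgH v hv
  have hgv : ρ g v = v := hg
  rw [hgv] at h1
  exact hv0 ((Submodule.disjoint_def.1 hd) v hv h1)

/-- (★) any two nonzero vectors of the two blocks are interchanged by an element outside `H` -/
theorem exists_swap (hq2 : q ≠ 2)
    (hs : ∀ v w : V, v ≠ 0 → w ≠ 0 → Nat.card (vecStab ρ v) = Nat.card (vecStab ρ w))
    (H : Subgroup G) (W₁ W₂ : Submodule (ZMod q) V) (hd : Disjoint W₁ W₂)
    (hinv₁ : ∀ h ∈ H, ∀ w ∈ W₁, ρ h w ∈ W₁) (hinv₂ : ∀ h ∈ H, ∀ w ∈ W₂, ρ h w ∈ W₂)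
    (hsw₁ : ∀ g : G, g ∉ H → ∀ w ∈ W₁, ρ g w ∈ W₂)
    (hsw₂ : ∀ g : G, g ∉ H → ∀ w ∈ W₂, ρ g w ∈ W₁)
    (k : G) (hk₁ : ∀ w ∈ W₁, ρ k w = w) (hk₂ : ∀ w ∈ W₂, ρ k w = -w)
    {v v' : V} (hv : v ∈ W₁) (hv' : v' ∈ W₂) (hv0 : v ≠ 0) (hv'0 : v' ≠ 0) :
    ∃ g : G, g ∉ H ∧ ρ g v = v' ∧ ρ g v' = v := by
  have hw0 : v + v' ≠ 0 := by
    intro h
    have : v = -v' := eq_neg_of_add_eq_zero_left h
    apply hv0
    apply (Submodule.disjoint_def.1 hd) v hv
    rw [this]; exact W₂.neg_mem hv'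
  by_cases hle : vecStab ρ (v + v') ≤ H
  · exfalso
    have hB : vecStab ρ (v + v') ≤ vecStab ρ v ⊓ vecStab ρ v' := by
      intro g hg
      have hgH := hle hg
      exact fix_both ρ hd (hinv₁ g hgH) (hinv₂ g hgH) hv hv' hg
    have hcard : Nat.card (vecStab ρ (v + v')) = Nat.card (vecStab ρ v) := hs _ _ hw0 hv0
    have heq : vecStab ρ (v + v') = vecStab ρ v :=
      Subgroup.eq_of_le_of_card_ge (hB.trans inf_le_left) (by rw [hcard])
    have hkm : k ∈ vecStab ρ (v + v') := by rw [heq]; exact hk₁ v hv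
    have h2 : ρ k v' = v' := (hB hkm).2
    rw [hk₂ v' hv'] at h2
    exact hv'0 (eq_zero_of_eq_neg hq2 h2.symm)
  · obtain ⟨g, hg, hgH⟩ := SetLike.not_le_iff_exists.1 hle
    refine ⟨g, hgH, ?_⟩
    have hsum : ρ g v + ρ g v' = v + v' := by rw [← map_add]; exact hg
    have hx : ρ g v - v' = v - ρ g v' := by
      rw [sub_eq_sub_iff_add_eq_add, hsum]
    have h0 := (Submodule.disjoint_def.1 hd) (ρ g v - v')
      (by rw [hx]; exact W₁.sub_mem hv (hsw₂ g hgH v' hv')) (W₂.sub_mem (hsw₁ g hgH v hv) hv')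
    constructor
    · exact sub_eq_zero.1 h0
    · rw [hx] at h0
      exact (sub_eq_zero.1 h0).symm

/-- an element fixing `W₁` pointwise maps each vector of `W₂` to `±` itself -/
theorem pm_of_fix (hq2 : q ≠ 2)
    (hs : ∀ v w : V, v ≠ 0 → w ≠ 0 → Nat.card (vecStab ρ v) = Nat.card (vecStab ρ w))
    (H : Subgroup G) (hidx : H.index = 2) (W₁ W₂ : Submodule (ZMod q) V) (hd : Disjoint W₁ W₂)
    (hinv₁ : ∀ h ∈ H, ∀ w ∈ W₁, ρ h w ∈ W₁) (hinv₂ : ∀ h ∈ H, ∀ w ∈ W₂, ρ h w ∈ W₂)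
    (k : G) (hk₁ : ∀ w ∈ W₁, ρ k w = w) (hk₂ : ∀ w ∈ W₂, ρ k w = -w)
    {v : V} (hv : v ∈ W₁) (hv0 : v ≠ 0)
    (h : G) (hh : ρ h v = v) {v' : V} (hv' : v' ∈ W₂) : ρ h v' = v' ∨ ρ h v' = -v' := by
  by_cases hv'0 : v' = 0
  · left; rw [hv'0, map_zero]
  have hw0 : v + v' ≠ 0 := by
    intro h
    have : v = -v' := eq_neg_of_add_eq_zero_left h
    apply hv0
    apply (Submodule.disjoint_def.1 hd) v hv
    rw [this]; exact W₂.neg_mem hv'
  set A := vecStab ρ v with hA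
  set T := vecStab ρ v ⊓ vecStab ρ v' with hT
  set S := vecStab ρ (v + v') with hS
  have hTA : T ≤ A := inf_le_left
  have h1 : H ⊓ S ≤ T := by
    intro g hg
    exact fix_both ρ hd (hinv₁ g hg.1) (hinv₂ g hg.1) hv hv' hg.2
  have h2 : Nat.card S = Nat.card A := hs _ _ hw0 hv0
  have hHn : H.Normal := Subgroup.normal_of_index_eq_two hidx
  have h3 : Nat.card S ≤ 2 * Nat.card (H ⊓ S : Subgroup G) := by
    have e1 := Helper52.relIndex_mul_card_of_le (inf_le_right : H ⊓ S ≤ S)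
    rw [Subgroup.inf_relIndex_right] at e1
    have e2 : H.relIndex S ∣ 2 := by
      rw [← hidx]; exact Subgroup.relIndex_dvd_index_of_normal H S
    have e3 : H.relIndex S ≤ 2 := Nat.le_of_dvd (by norm_num) e2
    rw [← e1]
    exact Nat.mul_le_mul_right _ e3
  have h4 : Nat.card (H ⊓ S : Subgroup G) ≤ Nat.card T := Subgroup.card_le_of_le h1
  have h5 := Helper52.relIndex_mul_card_of_le hTA
  have hTpos : 0 < Nat.card T := Nat.card_pos
  have hApos : 0 < Nat.card A := Nat.card_pos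
  have h6 : T.relIndex A ≤ 2 := by
    have : T.relIndex A * Nat.card T ≤ 2 * Nat.card T := by
      rw [h5, ← h2]
      exact h3.trans (Nat.mul_le_mul_left _ h4)
    exact Nat.le_of_mul_le_mul_right this hTpos
  have hkA : k ∈ A := hk₁ v hv
  have hkT : k ∉ T := by
    intro hk
    have h2 : ρ k v' = v' := hk.2
    rw [hk₂ v' hv'] at h2
    exact hv'0 (eq_zero_of_eq_neg hq2 h2.symm)
  have h7 : T.relIndex A ≠ 1 := by
    intro h
    rw [Subgroup.relIndex_eq_one] at h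
    exact hkT (h hkA)
  have h8 : T.relIndex A ≠ 0 := by
    intro h
    rw [h, zero_mul] at h5
    omega
  have h9 : (T.subgroupOf A).index = 2 := by
    show T.relIndex A = 2
    omega
  have hhA : h ∈ A := hh
  by_cases hhT : h ∈ T
  · left; exact hhT.2
  · right
    have hm := Subgroup.mul_mem_iff_of_index_two h9 (a := (⟨h, hhA⟩ : A)) (b := (⟨k, hkA⟩ : A))
    have hm' : (⟨h, hhA⟩ : A) * (⟨k, hkA⟩ : A) ∈ T.subgroupOf A := by
      rw [hm]
      constructor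
      · intro hx; exact absurd (Subgroup.mem_subgroupOf.1 hx) hhT
      · intro hx; exact absurd (Subgroup.mem_subgroupOf.1 hx) hkT
    have hm2 : h * k ∈ T := Subgroup.mem_subgroupOf.1 hm'
    have hm3 : ρ (h * k) v' = v' := hm2.2
    rw [rho_mul_apply, hk₂ v' hv', map_neg] at hm3
    exact neg_eq_iff_eq_neg.1 hm3

/-- an element fixing `W₁` pointwise is `1` or `k` -/
theorem fix_eq_one_or (hq2 : q ≠ 2) (hρ : Function.Injective ρ)
    (hs : ∀ v w : V, v ≠ 0 → w ≠ 0 → Nat.card (vecStab ρ v) = Nat.card (vecStab ρ w))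
    (H : Subgroup G) (hidx : H.index = 2) (W₁ W₂ : Submodule (ZMod q) V) (hc : IsCompl W₁ W₂)
    (hinv₁ : ∀ h ∈ H, ∀ w ∈ W₁, ρ h w ∈ W₁) (hinv₂ : ∀ h ∈ H, ∀ w ∈ W₂, ρ h w ∈ W₂)
    (k : G) (hk₁ : ∀ w ∈ W₁, ρ k w = w) (hk₂ : ∀ w ∈ W₂, ρ k w = -w)
    (hW₁ : W₁ ≠ ⊥) (h : G) (hh : ∀ w ∈ W₁, ρ h w = w) : h = 1 ∨ h = k := by
  obtain ⟨v, hv, hv0⟩ := Submodule.exists_mem_ne_zero_of_ne_bot hW₁
  have hpm : ∀ w ∈ W₂, ρ h w = w ∨ ρ h w = -w := fun w hw =>
    pm_of_fix ρ hq2 hs H hidx W₁ W₂ hc.disjoint hinv₁ hinv₂ k hk₁ hk₂ hv hv0 h (hh v hv) hw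
  have hall : ∀ x : V, ∃ x₁ ∈ W₁, ∃ x₂ ∈ W₂, x₁ + x₂ = x := by
    intro x
    have hxtop : x ∈ W₁ ⊔ W₂ := by rw [hc.sup_eq_top]; trivial
    exact Submodule.mem_sup.1 hxtop
  rcases pm_scalar hq2 (ρ h) W₂ hpm with h1 | h1
  · left
    apply hρ
    rw [map_one]
    ext x
    obtain ⟨x₁, hx₁, x₂, hx₂, rfl⟩ := hall x
    rw [map_add, hh x₁ hx₁, h1 x₂ hx₂]; rfl
  · right
    apply hρ
    ext x
    obtain ⟨x₁, hx₁, x₂, hx₂, rfl⟩ := hall x
    rw [map_add, map_add, hh x₁ hx₁, h1 x₂ hx₂, hk₁ x₁ hx₁, hk₂ x₂ hx₂]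

end imp2

end Cfsg.Agent.Helper58.HT
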