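import Mathlib
import Cfsg.Agent.Helper58.HTImp2
import Cfsg.Agent.Helper58.HTImp1

/-!
# Half-transitive imprimitive linear 2-groups with two blocks: counting and coordinates (helper58)
-/

set_option autoImplicit false

namespace Cfsg.Agent.Helper58.HT

open Cfsg.Agent.Helper58

section imp4
variable {q : ℕ} [Fact q.Prime] {V : Type*} [AddCommGroup V] [Module (ZMod q) V]
  {G : Type*} [Group G] [Finite G] (ρ : G →* (V ≃ₗ[ZMod q] V))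

omit [Finite G] in
theorem rho_inv_apply_of_eq {g : G} {x y : V} (h : ρ g x = y) : ρ g⁻¹ y = x := by
  rw [← h, ← rho_mul_apply, inv_mul_cancel, map_one]; rfl

/-- `H` is transitive on the nonzero vectors of `W₁` -/
theorem exists_mem_map_eq (hq2 : q ≠ 2)
    (hs : ∀ v w : V, v ≠ 0 → w ≠ 0 → Nat.card (vecStab ρ v) = Nat.card (vecStab ρ w))
    (H : Subgroup G) (hidx : H.index = 2) (W₁ W₂ : Submodule (ZMod q) V) (hd : Disjoint W₁ W₂)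
    (hinv₁ : ∀ h ∈ H, ∀ w ∈ W₁, ρ h w ∈ W₁) (hinv₂ : ∀ h ∈ H, ∀ w ∈ W₂, ρ h w ∈ W₂)
    (hsw₁ : ∀ g : G, g ∉ H → ∀ w ∈ W₁, ρ g w ∈ W₂)
    (hsw₂ : ∀ g : G, g ∉ H → ∀ w ∈ W₂, ρ g w ∈ W₁)
    (k : G) (hk₁ : ∀ w ∈ W₁, ρ k w = w) (hk₂ : ∀ w ∈ W₂, ρ k w = -w) (hW₂ : W₂ ≠ ⊥)
    {v w : V} (hv : v ∈ W₁) (hw : w ∈ W₁) (hv0 : v ≠ 0) (hw0 : w ≠ 0) :
    ∃ h ∈ H, ρ h v = w := by
  obtain ⟨v', hv', hv'0⟩ := Submodule.exists_mem_ne_zero_of_ne_bot hW₂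
  obtain ⟨g, hgH, hg1, _⟩ := exists_swap ρ hq2 hs H W₁ W₂ hd hinv₁ hinv₂ hsw₁ hsw₂ k hk₁ hk₂
    hv hv' hv0 hv'0
  obtain ⟨g', hg'H, hg'1, _⟩ := exists_swap ρ hq2 hs H W₁ W₂ hd hinv₁ hinv₂ hsw₁ hsw₂ k hk₁ hk₂
    hw hv' hw0 hv'0
  refine ⟨g'⁻¹ * g, ?_, ?_⟩
  · rw [Subgroup.mul_mem_iff_of_index_two hidx, Subgroup.inv_mem_iff]
    exact ⟨fun h => absurd h hg'H, fun h => absurd h hgH⟩
  · rw [rho_mul_apply, hg1]
    exact rho_inv_apply_of_eq ρ hg'1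

/-- the size of a block -/
theorem card_block [Finite V] (hq2 : q ≠ 2) (hG : IsPGroup 2 G)
    (hs : ∀ v w : V, v ≠ 0 → w ≠ 0 → Nat.card (vecStab ρ v) = Nat.card (vecStab ρ w))
    (H : Subgroup G) (hidx : H.index = 2) (W₁ W₂ : Submodule (ZMod q) V) (hd : Disjoint W₁ W₂)
    (hinv₁ : ∀ h ∈ H, ∀ w ∈ W₁, ρ h w ∈ W₁) (hinv₂ : ∀ h ∈ H, ∀ w ∈ W₂, ρ h w ∈ W₂)
    (hsw₁ : ∀ g : G, g ∉ H → ∀ w ∈ W₁, ρ g w ∈ W₂)
    (hsw₂ : ∀ g : G, g ∉ H → ∀ w ∈ W₂, ρ g w ∈ W₁)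
    (k : G) (hk₁ : ∀ w ∈ W₁, ρ k w = w) (hk₂ : ∀ w ∈ W₂, ρ k w = -w) (hW₁ : W₁ ≠ ⊥)
    (hW₂ : W₂ ≠ ⊥) :
    (Nat.card W₁ = q ∧ ∃ m : ℕ, q = 2 ^ m + 1) ∨ (q = 3 ∧ Nat.card W₁ = 9) := by
  classical
  obtain ⟨v, hv, hv0⟩ := Submodule.exists_mem_ne_zero_of_ne_bot hW₁
  let ρ' : H →* (V ≃ₗ[ZMod q] V) := ρ.comp H.subtype
  have hρ' : ∀ h : H, ρ' h = ρ (h : G) := fun h => rfl
  have hcount := card_orb_mul_card_vecStab ρ' v
  have horb : Nat.card (orb ρ' v) = Nat.card W₁ - 1 := by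
    rw [← card_ne_subtype (0 : W₁)]
    apply Nat.card_congr
    refine ⟨fun u => ⟨⟨u.1, ?_⟩, ?_⟩, fun x => ⟨x.1.1, ?_⟩, fun u => rfl, fun x => rfl⟩
    · obtain ⟨h, hh⟩ := u.2
      rw [← hh, hρ']
      exact hinv₁ _ h.2 v hv
    · obtain ⟨h, hh⟩ := u.2
      intro h0
      have h1 : u.1 = 0 := congrArg Subtype.val h0
      rw [← hh, hρ'] at h1
      exact hv0 ((ρ (h : G)).map_eq_zero_iff.1 h1)
    · have hx0 : (x.1 : V) ≠ 0 := fun h => x.2 (Subtype.ext h)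
      obtain ⟨h, hh, hhv⟩ := exists_mem_map_eq ρ hq2 hs H hidx W₁ W₂ hd hinv₁ hinv₂ hsw₁ hsw₂
        k hk₁ hk₂ hW₂ hv x.1.2 hv0 hx0
      exact ⟨⟨h, hh⟩, hhv⟩
  obtain ⟨n, hn⟩ := (IsPGroup.iff_card.1 (hG.to_subgroup H))
  have hdvd : (Nat.card W₁ - 1) ∣ 2 ^ n := by
    rw [← hn, ← hcount, horb]
    exact dvd_mul_right _ _
  obtain ⟨a, _, ha⟩ := (Nat.dvd_prime_pow Nat.prime_two).1 hdvd
  have hcardW : Nat.card W₁ = q ^ Module.finrank (ZMod q) W₁ := natCard_eq_pow_finrank (q := q)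
  have hpos : 0 < Nat.card W₁ := Nat.card_pos
  have h2a : 0 < 2 ^ a := by positivity
  have hqd : q ^ Module.finrank (ZMod q) W₁ = 2 ^ a + 1 := by
    rw [← hcardW]; omega
  have hd1 : 1 ≤ Module.finrank (ZMod q) W₁ := by
    by_contra hcon
    have : Module.finrank (ZMod q) W₁ = 0 := by omega
    rw [this, pow_zero] at hqd
    omega
  have hqp : q.Prime := Fact.out
  have hodd : Odd q := hqp.odd_of_ne_two hq2
  rcases of_pow_sub_one_eq_two_pow hqp hodd hd1 hqd with h1 | ⟨h3, h2⟩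
  · left
    rw [h1, pow_one] at hqd
    rw [hcardW, h1, pow_one]
    exact ⟨rfl, a, hqd⟩
  · right
    refine ⟨h3, ?_⟩
    rw [hcardW, h2, h3]
    norm_num

/-- the two blocks have the same size -/
theorem card_block_eq [Finite V] (H : Subgroup G) (W₁ W₂ : Submodule (ZMod q) V)
    (hsw₁ : ∀ g : G, g ∉ H → ∀ w ∈ W₁, ρ g w ∈ W₂)
    (hsw₂ : ∀ g : G, g ∉ H → ∀ w ∈ W₂, ρ g w ∈ W₁) (g : G) (hg : g ∉ H) :
    Nat.card W₁ = Nat.card W₂ := by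
  have hg' : g⁻¹ ∉ H := fun h => hg (H.inv_mem_iff.1 h)
  apply Nat.card_congr
  refine ⟨fun w => ⟨ρ g w.1, hsw₁ g hg w.1 w.2⟩, fun w => ⟨ρ g⁻¹ w.1, hsw₂ g⁻¹ hg' w.1 w.2⟩, ?_, ?_⟩
  · intro w
    apply Subtype.ext
    show ρ g⁻¹ (ρ g w.1) = w.1
    exact rho_inv_apply_of_eq ρ rfl
  · intro w
    apply Subtype.ext
    show ρ g (ρ g⁻¹ w.1) = w.1
    rw [← rho_mul_apply, mul_inv_cancel, map_one]; rfl

/-- a submodule with `q` elements is spanned by any of its nonzero vectors -/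
theorem exists_smul_eq_of_card {W : Submodule (ZMod q) V} [Finite W] (hW : Nat.card W = q) {e : V}
    (he : e ∈ W) (he0 : e ≠ 0) {w : V} (hw : w ∈ W) : ∃ c : ZMod q, w = c • e := by
  let f : ZMod q → W := fun c => ⟨c • e, W.smul_mem c he⟩
  have hf : Function.Injective f := by
    intro c c' h
    have h1 : c • e = c' • e := congrArg Subtype.val h
    have h2 : (c - c') • e = 0 := by rw [sub_smul, h1, sub_self]
    exact sub_eq_zero.1 ((smul_eq_zero.1 h2).resolve_right he0)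
  have hbij : Function.Bijective f := by
    apply hf.bijective_of_nat_card_le
    rw [hW, Nat.card_zmod]
  obtain ⟨c, hc⟩ := hbij.2 ⟨w, hw⟩
  exact ⟨c, (congrArg Subtype.val hc).symm⟩

omit [Finite G] in
theorem rho_inv_apply_of_eq' {g : G} {x y : V} (h : ρ g x = y) : ρ g⁻¹ y = x := by
  rw [← h, ← rho_mul_apply, inv_mul_cancel, map_one]; rfl

theorem ne_bot_of_card {W : Submodule (ZMod q) V} (hW : Nat.card W = q) : W ≠ ⊥ := by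
  intro h
  subst h
  have h1 : Nat.card (⊥ : Submodule (ZMod q) V) = 1 := Nat.card_unique
  rw [h1] at hW
  exact (Fact.out : q.Prime).ne_one hW.symm

/-- type (iii): the coordinates -/
theorem coords [Finite V] (hq2 : q ≠ 2) (hρ : Function.Injective ρ)
    (hs : ∀ v w : V, v ≠ 0 → w ≠ 0 → Nat.card (vecStab ρ v) = Nat.card (vecStab ρ w))
    (H : Subgroup G) (hidx : H.index = 2) (W₁ W₂ : Submodule (ZMod q) V) (hc : IsCompl W₁ W₂)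
    (hinv₁ : ∀ h ∈ H, ∀ w ∈ W₁, ρ h w ∈ W₁) (hinv₂ : ∀ h ∈ H, ∀ w ∈ W₂, ρ h w ∈ W₂)
    (hsw₁ : ∀ g : G, g ∉ H → ∀ w ∈ W₁, ρ g w ∈ W₂)
    (hsw₂ : ∀ g : G, g ∉ H → ∀ w ∈ W₂, ρ g w ∈ W₁)
    (k : G) (hkH : k ∈ H) (hk₁ : ∀ w ∈ W₁, ρ k w = w) (hk₂ : ∀ w ∈ W₂, ρ k w = -w)
    (hW₁ : Nat.card W₁ = q) (hW₂ : Nat.card W₂ = q) :
    ∃ e : V ≃ₗ[ZMod q] (Fin 2 → ZMod q), ∀ f : (Fin 2 → ZMod q) ≃ₗ[ZMod q] (Fin 2 → ZMod q),
        (∃ g : G, f = e.symm.trans ((ρ g).trans e)) ↔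
        ∃ a s : ZMod q, a ≠ 0 ∧ (s = 1 ∨ s = -1) ∧
          ((∀ v, f v = ![a * v 0, s * a⁻¹ * v 1]) ∨ (∀ v, f v = ![s * a⁻¹ * v 1, a * v 0])) := by
  classical
  have hd : Disjoint W₁ W₂ := hc.disjoint
  have hW₁' : W₁ ≠ ⊥ := ne_bot_of_card hW₁
  have hW₂' : W₂ ≠ ⊥ := ne_bot_of_card hW₂
  obtain ⟨e₁, he₁, he₁0⟩ := Submodule.exists_mem_ne_zero_of_ne_bot hW₁'
  obtain ⟨e₂, he₂, he₂0⟩ := Submodule.exists_mem_ne_zero_of_ne_bot hW₂'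
  have hswap := fun (v v' : V) (hv : v ∈ W₁) (hv' : v' ∈ W₂) (hv0 : v ≠ 0) (hv'0 : v' ≠ 0) =>
    exists_swap ρ hq2 hs H W₁ W₂ hd hinv₁ hinv₂ hsw₁ hsw₂ k hk₁ hk₂ hv hv' hv0 hv'0
  obtain ⟨g₀, hg₀H, hg₀1, hg₀2⟩ := hswap e₁ e₂ he₁ he₂ he₁0 he₂0
  have hg₀1' : ρ g₀⁻¹ e₂ = e₁ := rho_inv_apply_of_eq' ρ hg₀1
  have hg₀2' : ρ g₀⁻¹ e₁ = e₂ := rho_inv_apply_of_eq' ρ hg₀2
  have hspan₁ : ∀ w ∈ W₁, ∃ c : ZMod q, w = c • e₁ := fun w hw =>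
    exists_smul_eq_of_card hW₁ he₁ he₁0 hw
  have hspan₂ : ∀ w ∈ W₂, ∃ c : ZMod q, w = c • e₂ := fun w hw =>
    exists_smul_eq_of_card hW₂ he₂ he₂0 hw
  have hHmul : ∀ a b : G, a ∉ H → b ∉ H → a⁻¹ * b ∈ H := by
    intro a b ha hb
    rw [Subgroup.mul_mem_iff_of_index_two hidx, Subgroup.inv_mem_iff]
    exact ⟨fun h => absurd h ha, fun h => absurd h hb⟩
  -- linear independence
  have hindep : ∀ a b : ZMod q, a • e₁ + b • e₂ = 0 → a = 0 ∧ b = 0 := by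
    intro a b hab
    have h1 : a • e₁ = -(b • e₂) := eq_neg_of_add_eq_zero_left hab
    have h2 : a • e₁ = 0 := (Submodule.disjoint_def.1 hd) _ (W₁.smul_mem a he₁)
      (by rw [h1]; exact W₂.neg_mem (W₂.smul_mem b he₂))
    have ha : a = 0 := (smul_eq_zero.1 h2).resolve_right he₁0
    rw [h2, zero_add] at hab
    exact ⟨ha, (smul_eq_zero.1 hab).resolve_right he₂0⟩
  let L : (Fin 2 → ZMod q) →ₗ[ZMod q] V :=
    (LinearMap.proj 0 : (Fin 2 → ZMod q) →ₗ[ZMod q] ZMod q).smulRight e₁ +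
      (LinearMap.proj 1 : (Fin 2 → ZMod q) →ₗ[ZMod q] ZMod q).smulRight e₂
  have hL : ∀ c : Fin 2 → ZMod q, L c = c 0 • e₁ + c 1 • e₂ := fun c => rfl
  have hLinj : Function.Injective L := by
    intro c c' hcc
    rw [hL, hL] at hcc
    have h0 : (c 0 - c' 0) • e₁ + (c 1 - c' 1) • e₂ = 0 := by
      rw [sub_smul, sub_smul]
      have : c 0 • e₁ - c' 0 • e₁ + (c 1 • e₂ - c' 1 • e₂) =
          (c 0 • e₁ + c 1 • e₂) - (c' 0 • e₁ + c' 1 • e₂) := by abel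
      rw [this, hcc, sub_self]
    obtain ⟨h1, h2⟩ := hindep _ _ h0
    funext i
    fin_cases i
    · exact sub_eq_zero.1 h1
    · exact sub_eq_zero.1 h2
  have hLsurj : Function.Surjective L := by
    intro x
    have hxtop : x ∈ W₁ ⊔ W₂ := by rw [hc.sup_eq_top]; trivial
    obtain ⟨x₁, hx₁, x₂, hx₂, rfl⟩ := Submodule.mem_sup.1 hxtop
    obtain ⟨c₁, rfl⟩ := hspan₁ x₁ hx₁
    obtain ⟨c₂, rfl⟩ := hspan₂ x₂ hx₂
    refine ⟨![c₁, c₂], ?_⟩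
    rw [hL]
    simp
  let E : (Fin 2 → ZMod q) ≃ₗ[ZMod q] V := LinearEquiv.ofBijective L ⟨hLinj, hLsurj⟩
  have hE : ∀ c, E c = c 0 • e₁ + c 1 • e₂ := fun c => rfl
  refine ⟨E.symm, ?_⟩
  have hcomp₁ : ∀ (g : G) (a b : ZMod q), ρ g e₁ = a • e₁ → ρ g e₂ = b • e₂ →
      ∀ c, E.symm (ρ g (E c)) = ![a * c 0, b * c 1] := by
    intro g a b h1 h2 c
    rw [LinearEquiv.symm_apply_eq, hE, hE, map_add, map_smul, map_smul, h1, h2, smul_smul, smul_smul]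
    simp [mul_comm]
  have hcomp₂ : ∀ (g : G) (a b : ZMod q), ρ g e₁ = a • e₂ → ρ g e₂ = b • e₁ →
      ∀ c, E.symm (ρ g (E c)) = ![b * c 1, a * c 0] := by
    intro g a b h1 h2 c
    rw [LinearEquiv.symm_apply_eq, hE, hE, map_add, map_smul, map_smul, h1, h2, smul_smul, smul_smul,
      add_comm]
    simp [mul_comm]
  have hC1 : ∀ a : ZMod q, a ≠ 0 → ∃ h ∈ H, ρ h e₁ = a • e₁ ∧ ρ h e₂ = a⁻¹ • e₂ := by
    intro a ha
    have hae : a • e₂ ≠ 0 := smul_ne_zero ha he₂0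
    obtain ⟨g, hgH, hg1, hg2⟩ := hswap e₁ (a • e₂) he₁ (W₂.smul_mem a he₂) he₁0 hae
    rw [map_smul] at hg2
    have hg2' : ρ g e₂ = a⁻¹ • e₁ := (eq_inv_smul_iff₀ ha).2 hg2
    refine ⟨g₀⁻¹ * g, hHmul g₀ g hg₀H hgH, ?_, ?_⟩
    · rw [rho_mul_apply, hg1, map_smul, hg₀1']
    · rw [rho_mul_apply, hg2', map_smul, hg₀2']
  have hfixW₁ : ∀ h : G, ρ h e₁ = e₁ → ∀ w ∈ W₁, ρ h w = w := by
    intro h hh w hw
    obtain ⟨c, rfl⟩ := hspan₁ w hw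
    rw [map_smul, hh]
  have hC2 : ∀ h ∈ H, ∃ a s : ZMod q, a ≠ 0 ∧ (s = 1 ∨ s = -1) ∧ ρ h e₁ = a • e₁ ∧
      ρ h e₂ = (s * a⁻¹) • e₂ := by
    intro h hh
    obtain ⟨a, ha⟩ := hspan₁ (ρ h e₁) (hinv₁ h hh e₁ he₁)
    have ha0 : a ≠ 0 := by
      rintro rfl
      rw [zero_smul] at ha
      exact he₁0 ((ρ h).map_eq_zero_iff.1 ha)
    obtain ⟨h', hh'H, hh'1, hh'2⟩ := hC1 a ha0
    have hfix : ρ (h'⁻¹ * h) e₁ = e₁ := by
      rw [rho_mul_apply, ha]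
      exact rho_inv_apply_of_eq' ρ hh'1
    rcases fix_eq_one_or ρ hq2 hρ hs H hidx W₁ W₂ hc hinv₁ hinv₂ k hk₁ hk₂ hW₁' (h'⁻¹ * h)
      (hfixW₁ _ hfix) with h1 | h1
    · have : h = h' := by
        have := congrArg (fun x => h' * x) h1
        simpa using this
      subst this
      exact ⟨a, 1, ha0, Or.inl rfl, ha, by rw [one_mul]; exact hh'2⟩
    · have : h = h' * k := by
        have := congrArg (fun x => h' * x) h1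
        simpa using this
      subst this
      refine ⟨a, -1, ha0, Or.inr rfl, ha, ?_⟩
      rw [rho_mul_apply, hk₂ e₂ he₂, map_neg, hh'2, neg_one_mul, neg_smul]
  have hC3 : ∀ a s : ZMod q, a ≠ 0 → (s = 1 ∨ s = -1) → ∃ h ∈ H, ρ h e₁ = a • e₁ ∧
      ρ h e₂ = (s * a⁻¹) • e₂ := by
    intro a s ha hs'
    obtain ⟨h', hh'H, hh'1, hh'2⟩ := hC1 a ha
    rcases hs' with rfl | rfl
    · exact ⟨h', hh'H, hh'1, by rw [one_mul]; exact hh'2⟩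
    · refine ⟨h' * k, H.mul_mem hh'H hkH, ?_, ?_⟩
      · rw [rho_mul_apply, hk₁ e₁ he₁, hh'1]
      · rw [rho_mul_apply, hk₂ e₂ he₂, map_neg, hh'2, neg_one_mul, neg_smul]
  intro f
  constructor
  · rintro ⟨g, rfl⟩
    by_cases hgH : g ∈ H
    · obtain ⟨a, s, ha, hs', h1, h2⟩ := hC2 g hgH
      refine ⟨a, s, ha, hs', Or.inl ?_⟩
      intro v
      exact hcomp₁ g a (s * a⁻¹) h1 h2 v
    · obtain ⟨a, s, ha, hs', h1, h2⟩ := hC2 (g₀⁻¹ * g) (hHmul g₀ g hg₀H hgH)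
      refine ⟨a, s, ha, hs', Or.inr ?_⟩
      intro v
      have hg : g = g₀ * (g₀⁻¹ * g) := by group
      have h1' : ρ g e₁ = a • e₂ := by
        rw [hg, rho_mul_apply, h1, map_smul, hg₀1]
      have h2' : ρ g e₂ = (s * a⁻¹) • e₁ := by
        rw [hg, rho_mul_apply, h2, map_smul, hg₀2]
      exact hcomp₂ g a (s * a⁻¹) h1' h2' v
  · rintro ⟨a, s, ha, hs', hform | hform⟩
    · obtain ⟨h, hhH, h1, h2⟩ := hC3 a s ha hs'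
      refine ⟨h, LinearEquiv.ext fun v => ?_⟩
      rw [hform v]
      exact (hcomp₁ h a (s * a⁻¹) h1 h2 v).symm
    · obtain ⟨h, hhH, h1, h2⟩ := hC3 a s ha hs'
      refine ⟨g₀ * h, LinearEquiv.ext fun v => ?_⟩
      rw [hform v]
      have h1' : ρ (g₀ * h) e₁ = a • e₂ := by
        rw [rho_mul_apply, h1, map_smul, hg₀1]
      have h2' : ρ (g₀ * h) e₂ = (s * a⁻¹) • e₁ := by
        rw [rho_mul_apply, h2, map_smul, hg₀2]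
      exact (hcomp₂ (g₀ * h) a (s * a⁻¹) h1' h2' v).symm

/-- the two-block case: type (iii) or `|V| = 81` -/
theorem two_blocks [Finite V] (hq2 : q ≠ 2) (hG : IsPGroup 2 G)
    (hρ : Function.Injective ρ)
    (hs : ∀ v w : V, v ≠ 0 → w ≠ 0 → Nat.card (vecStab ρ v) = Nat.card (vecStab ρ w))
    (H : Subgroup G) (hidx : H.index = 2) (W : Fin 2 → Submodule (ZMod q) V)
    (hsup : iSup W = ⊤) (hind : iSupIndep W)
    (hinv : ∀ h ∈ H, ∀ i, ∀ w ∈ W i, ρ h w ∈ W i)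
    (hnf : ∀ i, ∃ h ∈ H, h ≠ 1 ∧ ∀ w ∈ W i, ρ h w = w)
    (hperm : ∀ g : G, g ∉ H → ∃ σ : Equiv.Perm (Fin 2), orderOf σ = 2 ∧
      ∀ i, (W i).map ((ρ g : V ≃ₗ[ZMod q] V) : V →ₗ[ZMod q] V) = W (σ i)) :
    (Nat.card V = q ^ 2 ∧ (∃ m : ℕ, q = 2 ^ m + 1) ∧
      ∃ e : V ≃ₗ[ZMod q] (Fin 2 → ZMod q), ∀ f : (Fin 2 → ZMod q) ≃ₗ[ZMod q] (Fin 2 → ZMod q),
        (∃ g : G, f = e.symm.trans ((ρ g).trans e)) ↔
        ∃ a s : ZMod q, a ≠ 0 ∧ (s = 1 ∨ s = -1) ∧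
          ((∀ v, f v = ![a * v 0, s * a⁻¹ * v 1]) ∨ (∀ v, f v = ![s * a⁻¹ * v 1, a * v 0]))) ∨
    (Nat.card V = 81 ∧ q = 3) := by
  classical
  have h01 : (0 : Fin 2) ≠ 1 := by decide
  have hd : Disjoint (W 0) (W 1) := hind.pairwiseDisjoint h01
  have hcod : W 0 ⊔ W 1 = ⊤ := by
    apply le_antisymm le_top
    rw [← hsup]
    apply iSup_le
    intro i
    fin_cases i
    · exact le_sup_left
    · exact le_sup_right
  have hc : IsCompl (W 0) (W 1) := ⟨hd, codisjoint_iff.2 hcod⟩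
  have hσ : ∀ σ : Equiv.Perm (Fin 2), orderOf σ = 2 → σ 0 = 1 ∧ σ 1 = 0 := by
    intro σ hσo
    have h0 := perm_no_fix (p := 2) σ hσo 0
    have h1 := perm_no_fix (p := 2) σ hσo 1
    constructor
    · generalize σ 0 = x at h0
      fin_cases x
      · exact absurd rfl h0
      · rfl
    · generalize σ 1 = x at h1
      fin_cases x
      · rfl
      · exact absurd rfl h1
  have hsw₁ : ∀ g : G, g ∉ H → ∀ w ∈ W 0, ρ g w ∈ W 1 := by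
    intro g hg w hw
    obtain ⟨σ, hσo, hσm⟩ := hperm g hg
    have := hσm 0
    rw [(hσ σ hσo).1] at this
    rw [← this]
    exact Submodule.mem_map_of_mem hw
  have hsw₂ : ∀ g : G, g ∉ H → ∀ w ∈ W 1, ρ g w ∈ W 0 := by
    intro g hg w hw
    obtain ⟨σ, hσo, hσm⟩ := hperm g hg
    have := hσm 1
    rw [(hσ σ hσo).2] at this
    rw [← this]
    exact Submodule.mem_map_of_mem hw
  have hall : ∀ x : V, ∃ x₁ ∈ W 0, ∃ x₂ ∈ W 1, x₁ + x₂ = x := by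
    intro x
    have hxtop : x ∈ W 0 ⊔ W 1 := by rw [hcod]; trivial
    exact Submodule.mem_sup.1 hxtop
  have hW₁ : W 0 ≠ ⊥ := by
    intro h0
    obtain ⟨h, _, hh1, hhfix⟩ := hnf 1
    apply hh1
    apply hρ
    rw [map_one]
    ext x
    obtain ⟨x₁, hx₁, x₂, hx₂, rfl⟩ := hall x
    rw [h0, Submodule.mem_bot] at hx₁
    rw [hx₁, zero_add, hhfix x₂ hx₂]; rfl
  have hW₂ : W 1 ≠ ⊥ := by
    intro h0
    obtain ⟨h, _, hh1, hhfix⟩ := hnf 0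
    apply hh1
    apply hρ
    rw [map_one]
    ext x
    obtain ⟨x₁, hx₁, x₂, hx₂, rfl⟩ := hall x
    rw [h0, Submodule.mem_bot] at hx₂
    rw [hx₂, add_zero, hhfix x₁ hx₁]; rfl
  have hHtop : ∃ g : G, g ∉ H := by
    by_contra hcon
    push Not at hcon
    have : H = ⊤ := eq_top_iff.2 fun x _ => hcon x
    rw [this, Subgroup.index_top] at hidx
    omega
  obtain ⟨g₁, hg₁⟩ := hHtop
  have hinv₁ : ∀ h ∈ H, ∀ w ∈ W 0, ρ h w ∈ W 0 := fun h hh => hinv h hh 0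
  have hinv₂ : ∀ h ∈ H, ∀ w ∈ W 1, ρ h w ∈ W 1 := fun h hh => hinv h hh 1
  obtain ⟨h₁, hh₁H, hh₁1, hh₁fix⟩ := hnf 0
  have hst₂ : ∀ v ∈ W 1, v ≠ 0 → vecStab ρ v ≤ H := fun v hv hv0 =>
    stab_le_of_swap ρ hd.symm hsw₂ hv hv0
  obtain ⟨k, hkH, hk₁, hk₂⟩ := exists_neg_elt ρ hq2 hG hρ hs H (W 0) (W 1) hc hinv₁ hinv₂ hst₂
    h₁ hh₁H hh₁1 hh₁fix
  have hcardeq := card_block_eq ρ H (W 0) (W 1) hsw₁ hsw₂ g₁ hg₁
  have hcardV := card_eq_mul_of_isCompl hc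
  rcases card_block ρ hq2 hG hs H hidx (W 0) (W 1) hd hinv₁ hinv₂ hsw₁ hsw₂ k hk₁ hk₂ hW₁ hW₂ with
    ⟨hq, hm⟩ | ⟨hq3, h9⟩
  · left
    refine ⟨?_, hm, ?_⟩
    · rw [hcardV, ← hcardeq, hq, sq]
    · exact coords ρ hq2 hρ hs H hidx (W 0) (W 1) hc hinv₁ hinv₂ hsw₁ hsw₂ k hkH hk₁ hk₂ hq
        (hcardeq ▸ hq)
  · right
    refine ⟨?_, hq3⟩
    rw [hcardV, ← hcardeq, h9]

end imp4

end Cfsg.Agent.Helper58.HT
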