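import Mathlib
import Cfsg.Agent.Helper71.S4Embed

/-!
# Facts about the quaternion group of order 8 (helper58)
-/

set_option autoImplicit false

namespace Cfsg.Agent.Helper58.SL

open QuaternionGroup

/-- a generalized quaternion group with central commutators has order at most 8 -/
theorem quat_dvd_two {m : ℕ} [NeZero m]
    (h : ∀ X Y : QuaternionGroup m, ∃ c : QuaternionGroup m, (∀ Z, c * Z = Z * c) ∧ X * Y = c * Y * X) :
    m ∣ 2 := by
  obtain ⟨c, hc, hxy⟩ := h (a 1) (xa 0)
  have h4 : ((4 : ℕ) : ZMod (2 * m)) = 0 := by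
    cases c with
    | a j =>
      rw [a_mul_xa, a_mul_xa, xa_mul_a] at hxy
      have h1 : (0 : ZMod (2 * m)) - 1 = 0 - j + 1 := xa.inj hxy
      have hj : j = 2 := by
        have : j = 0 - (0 - 1 : ZMod (2 * m)) + 1 := by rw [h1]; ring
        rw [this]; ring
      subst hj
      have h2 := hc (xa 0)
      rw [a_mul_xa, xa_mul_a] at h2
      have h3 : (0 : ZMod (2 * m)) - 2 = 0 + 2 := xa.inj h2
      have : (4 : ZMod (2 * m)) = 0 := by
        have : (4 : ZMod (2 * m)) = (0 + 2) - (0 - 2) := by ring
        rw [this, ← h3]; ring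
      exact_mod_cast this
    | xa j =>
      exfalso
      rw [a_mul_xa, xa_mul_xa, a_mul_a] at hxy
      cases hxy
  rw [ZMod.natCast_eq_zero_iff] at h4
  have : 2 * m ∣ 2 * 2 := h4
  exact (Nat.mul_dvd_mul_iff_left (by norm_num)).1 this

/-- every element of `Q₈` is a word in `a 1` and `xa 0` -/
theorem q8_word : ∀ x : QuaternionGroup 2, ∃ i : Fin 4, ∃ j : Fin 2,
    x = (a 1 : QuaternionGroup 2) ^ (i : ℕ) * (xa 0) ^ (j : ℕ) := by decide

/-- two homomorphisms out of `Q₈` agreeing on `a 1` and `xa 0` are equal -/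
theorem q8_hom_ext {M : Type*} [Monoid M] (f g : QuaternionGroup 2 →* M)
    (h1 : f (a 1) = g (a 1)) (h2 : f (xa 0) = g (xa 0)) : f = g := by
  ext x
  obtain ⟨i, j, rfl⟩ := q8_word x
  rw [map_mul, map_mul, map_pow, map_pow, map_pow, map_pow, h1, h2]

theorem q8_center_card : Nat.card (Subgroup.center (QuaternionGroup 2)) = 2 := by
  rw [Nat.card_eq_fintype_card]
  decide

/-- central elements of `Q₈` -/
theorem q8_central : ∀ z : QuaternionGroup 2, (∀ y, z * y = y * z) → z = 1 ∨ z = a 2 := by decide

/-- the four inner automorphisms on generators -/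
theorem q8_inner_cases : ∀ u v : QuaternionGroup 2, (u = 1 ∨ u = a 2) → (v = 1 ∨ v = a 2) →
    ∃ s : QuaternionGroup 2, s * a 1 * s⁻¹ = u * a 1 ∧ s * xa 0 * s⁻¹ = v * xa 0 := by decide

theorem card_mulAut_q8_dvd : Nat.card (MulAut (QuaternionGroup 2)) ∣ 24 := by
  classical
  let Q := QuaternionGroup 2
  let c : Q →* MulAut Q := MulAut.conj
  have hconj : ∀ (α : MulAut Q) (r : Q), α * c r * α⁻¹ = c (α r) := by
    intro α r
    ext x
    simp only [MulAut.mul_apply, c, MulAut.conj_apply, map_mul, map_inv]
    rw [MulAut.apply_inv_self]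
  let V : Subgroup (MulAut Q) := c.range
  have hVn : V.Normal := by
    constructor
    rintro _ ⟨r, rfl⟩ α
    exact ⟨α r, (hconj α r).symm⟩
  have hker : c.ker = Subgroup.center Q := by
    ext g
    rw [MonoidHom.mem_ker, Subgroup.mem_center_iff]
    constructor
    · intro h y
      have := congrArg (fun f : MulAut Q => f y) h
      simp only [c, MulAut.conj_apply, MulAut.one_apply] at this
      calc y * g = (g * y * g⁻¹) * g := by rw [this]
        _ = g * y := by group
    · intro h
      ext y
      simp only [c, MulAut.conj_apply, MulAut.one_apply]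
      rw [← h y]; group
  have hQcard : Nat.card Q = 8 := by
    rw [Nat.card_eq_fintype_card, QuaternionGroup.card]
  have hVcard : Nat.card V = 4 := by
    have h1 := Subgroup.card_mul_index c.ker
    rw [Subgroup.index_ker, hker, q8_center_card, hQcard] at h1
    show Nat.card c.range = 4
    omega
  have hfin : Finite (MulAut Q) := by
    apply Finite.of_injective (fun α : MulAut Q => (α : Q → Q))
    intro α β h
    ext x
    exact congrFun h x
  have hC : Subgroup.centralizer (V : Set (MulAut Q)) ≤ V := by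
    intro α hα
    rw [Subgroup.mem_centralizer_iff] at hα
    -- `α r * r⁻¹` is central
    have hcen : ∀ r : Q, ∀ y : Q, (α r * r⁻¹) * y = y * (α r * r⁻¹) := by
      intro r y
      have h1 := hα (c r) ⟨r, rfl⟩
      -- c r * α = α * c r
      have h2 : c (α r) = c r := by
        rw [← hconj α r, ← h1, mul_inv_cancel_right]
      have h3 := congrArg (fun f : MulAut Q => f y) h2
      simp only [c, MulAut.conj_apply] at h3
      -- α r * y * (α r)⁻¹ = r * y * r⁻¹
      calc (α r * r⁻¹) * y = α r * (r⁻¹ * y * r) * r⁻¹ := by group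
        _ = (α r * (r⁻¹ * y * r) * (α r)⁻¹) * (α r * r⁻¹) := by group
        _ = (r * (r⁻¹ * y * r) * r⁻¹) * (α r * r⁻¹) := by
            have h4 := congrArg (fun f : MulAut Q => f (r⁻¹ * y * r)) h2
            simp only [c, MulAut.conj_apply] at h4
            rw [h4]
        _ = y * (α r * r⁻¹) := by group
    have hu := q8_central _ (hcen (a 1))
    have hv := q8_central _ (hcen (xa 0))
    obtain ⟨s, hs1, hs2⟩ := q8_inner_cases _ _ hu hv
    refine ⟨s, ?_⟩
    have : (c s : Q →* Q) = (α : Q →* Q) := by
      apply q8_hom_ext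
      · show c s (a 1) = α (a 1)
        simp only [c, MulAut.conj_apply]
        rw [hs1]; group
      · show c s (xa 0) = α (xa 0)
        simp only [c, MulAut.conj_apply]
        rw [hs2]; group
    ext x
    exact congrArg (fun f : Q →* Q => f x) this
  have hidx := Cfsg.Agent.Helper71.s4e_index_dvd_six V hVcard hC
  have h1 := Subgroup.card_mul_index V
  rw [hVcard] at h1
  rw [← h1]
  have h24 : (24 : ℕ) = 4 * 6 := by norm_num
  rw [h24]
  exact Nat.mul_dvd_mul_left 4 hidx

end Cfsg.Agent.Helper58.SL
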