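import Mathlib
import Cfsg.Agent.Helper73.PGroupCyclic
import Cfsg.Agent.Helper58.SLQ8

/-!
# Normal quaternion subgroups of fixed-point-free solvable groups (helper58)
-/

set_option autoImplicit false

namespace Cfsg.Agent.Helper58.SL

open scoped commutatorElement

variable {G : Type*} [Group G]

/-- the iterated commutator subgroups of a subgroup `B` of `G` -/
def dser (B : Subgroup G) : ℕ → Subgroup G
  | 0 => B
  | n + 1 => ⁅dser B n, dser B n⁆

theorem dser_le_derivedSeries (B : Subgroup G) (n : ℕ) : dser B n ≤ derivedSeries G n := by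
  induction n with
  | zero => exact le_top
  | succ n ih => exact Subgroup.commutator_mono ih ih

theorem dser_normal (B : Subgroup G) [hB : B.Normal] (n : ℕ) : (dser B n).Normal := by
  induction n with
  | zero => exact hB
  | succ n ih =>
    haveI := ih
    exact Subgroup.commutator_normal _ _

theorem dser_le (B : Subgroup G) [hB : B.Normal] (n : ℕ) : dser B n ≤ B := by
  induction n with
  | zero => exact le_refl _
  | succ n ih =>
    haveI := dser_normal B n
    exact (Subgroup.commutator_le_right _ _).trans ih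

theorem exists_class_two (hsol : Group.IsSolvable G) (A B : Subgroup G) [B.Normal] (hAB : A ≤ B)
    (hne : B ≠ A) :
    ∃ X : Subgroup G, X.Normal ∧ X ≤ B ∧ ¬ X ≤ A ∧ ⁅X, X⁆ ≤ A := by
  classical
  obtain ⟨n, hn⟩ := hsol.solvable
  have hex : ∃ n, dser B n ≤ A := ⟨n, by
    have := dser_le_derivedSeries B n
    rw [hn] at this
    exact this.trans bot_le⟩
  have h0 : ¬ dser B 0 ≤ A := fun h => hne (le_antisymm h hAB)
  have hfind := Nat.find_spec hex
  have hmin := fun m => Nat.find_min hex (m := m)
  rcases hk : Nat.find hex with _ | k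
  · rw [hk] at hfind; exact absurd hfind h0
  · refine ⟨dser B k, dser_normal B k, dser_le B k, ?_, ?_⟩
    · exact hmin k (by omega)
    · rw [hk] at hfind; exact hfind

/-- **Key lemma**: a normal subgroup `B` strictly between a maximal abelian normal subgroup `A`
and its centralizer contains a normal quaternion subgroup of order 8. -/
theorem exists_normal_q8 [Finite G]
    (hsol : Group.IsSolvable G)
    (hU : ∀ (p : ℕ) [Fact p.Prime] (P : Subgroup G), IsPGroup p P →
      Cfsg.Agent.Helper73.UniqueOrderP p P)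
    (A : Subgroup G) [hAn : A.Normal] (hAc : ∀ a ∈ A, ∀ b ∈ A, a * b = b * a)
    (hmax : ∀ B : Subgroup G, B.Normal → (∀ a ∈ B, ∀ b ∈ B, a * b = b * a) → A ≤ B → B = A)
    (B : Subgroup G) [hBn : B.Normal] (hAB : A ≤ B)
    (hBC : B ≤ Subgroup.centralizer (A : Set G)) (hne : B ≠ A) :
    ∃ R : Subgroup G, R.Normal ∧ R ≤ B ∧ Nonempty (R ≃* QuaternionGroup 2) := by
  classical
  obtain ⟨X, hXn, hXB, hXA, hXX⟩ := exists_class_two hsol A B hAB hne
  -- elements of `A` commute with elements of `X`
  have hcomm : ∀ a ∈ A, ∀ x ∈ X, a * x = x * a := by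
    intro a ha x hx
    have := hBC (hXB hx)
    rw [Subgroup.mem_centralizer_iff] at this
    exact this a ha
  -- `X` is not abelian
  have hXnc : ¬ ∀ x ∈ X, ∀ y ∈ X, x * y = y * x := by
    intro hXc
    apply hXA
    have hY : A ⊔ X = A := by
      apply hmax (A ⊔ X) inferInstance _ le_sup_left
      have hle : A ⊔ X ≤ Subgroup.centralizer ((A ⊔ X : Subgroup G) : Set G) := by
        apply sup_le
        · rw [Subgroup.le_centralizer_iff]
          apply sup_le
          · intro a ha; rw [Subgroup.mem_centralizer_iff]; intro b hb; exact hAc b hb a ha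
          · intro x hx; rw [Subgroup.mem_centralizer_iff]; intro a ha; exact hcomm a ha x hx
        · rw [Subgroup.le_centralizer_iff]
          apply sup_le
          · intro a ha; rw [Subgroup.mem_centralizer_iff]; intro x hx
            exact (hcomm a ha x hx).symm
          · intro x hx; rw [Subgroup.mem_centralizer_iff]; intro y hy; exact hXc y hy x hx
      intro a ha b hb
      have := hle hb
      rw [Subgroup.mem_centralizer_iff] at this
      exact this a ha
    rw [← hY]; exact le_sup_right
  -- `X` is nilpotent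
  have hnil : Group.IsNilpotent X := by
    apply Subgroup.isNilpotent_of_ker_le_center (Abelianization.of : X →* Abelianization X)
    rw [Abelianization.ker_of, _root_.commutator_def, Subgroup.commutator_le]
    intro g₁ _ g₂ _
    rw [Subgroup.mem_center_iff]
    intro z
    apply Subtype.ext
    have h1 : ((⁅g₁, g₂⁆ : X) : G) ∈ A :=
      hXX (Subgroup.commutator_mem_commutator g₁.2 g₂.2)
    exact (hcomm _ h1 z z.2).symm
  -- some Sylow subgroup of `X` is not abelian
  have hsyl : ∃ (p : ℕ) (_ : Fact p.Prime) (P : Sylow p X),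
      ¬ ∀ x ∈ (P : Subgroup X), ∀ y ∈ (P : Subgroup X), x * y = y * x := by
    by_contra hno
    push Not at hno
    obtain ⟨e⟩ := ((Group.isNilpotent_of_finite_tfae (G := X)).out 0 4).1 hnil
    apply hXnc
    intro x hx y hy
    have hpi : ∀ f g : (∀ p : (Nat.card X).primeFactors, ∀ P : Sylow p X, (↑P : Subgroup X)),
        f * g = g * f := by
      intro f g
      funext p P
      apply Subtype.ext
      haveI : Fact (p : ℕ).Prime := ⟨Nat.prime_of_mem_primeFactors p.2⟩
      exact hno p inferInstance P _ (f p P).2 _ (g p P).2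
    have h1 := hpi (e.symm ⟨x, hx⟩) (e.symm ⟨y, hy⟩)
    rw [← map_mul, ← map_mul] at h1
    have h2 := e.symm.injective h1
    exact congrArg Subtype.val h2
  obtain ⟨p, hp, P, hPnc⟩ := hsyl
  haveI := hp
  have hPn : (P : Subgroup X).Normal := inferInstance
  haveI : (P : Subgroup X).Characteristic := Sylow.characteristic_of_normal P hPn
  have hRn0 : ((P : Subgroup X).map X.subtype).Normal :=
    ConjAct.normal_of_characteristic_of_normal
  have hRp0 : IsPGroup p ((P : Subgroup X).map X.subtype) := P.isPGroup'.map _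
  obtain ⟨R, hRdef⟩ : ∃ R : Subgroup G, R = (P : Subgroup X).map X.subtype := ⟨_, rfl⟩
  have hRp : IsPGroup p R := by rw [hRdef]; exact hRp0
  have hRn : R.Normal := by rw [hRdef]; exact hRn0
  have hRu := hU p R hRp
  have hRX : R ≤ X := by rw [hRdef]; exact Subgroup.map_subtype_le _
  have hRnc : ¬ ∀ x y : R, x * y = y * x := by
    intro h
    apply hPnc
    intro x hx y hy
    have hx' : (x : G) ∈ R := by rw [hRdef]; exact Subgroup.mem_map_of_mem _ hx
    have hy' : (y : G) ∈ R := by rw [hRdef]; exact Subgroup.mem_map_of_mem _ hy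
    have h1 := h ⟨_, hx'⟩ ⟨_, hy'⟩
    have h2 : (x : G) * y = y * x := congrArg Subtype.val h1
    exact Subtype.ext h2
  refine ⟨R, hRn, hRX.trans hXB, ?_⟩
  rcases Cfsg.Agent.Helper73.cyclic_or_quaternion hRp hRu with hcyc | ⟨hp2, n, hn, ⟨φ⟩⟩
  · exfalso
    apply hRnc
    intro x y
    exact (IsCyclic.isMulCommutative (α := R)).is_comm.comm x y
  · have h2n : 2 ^ n ∣ 2 := by
      haveI : NeZero (2 ^ n) := ⟨by positivity⟩
      apply quat_dvd_two
      intro X' Y'
      refine ⟨φ (⁅φ.symm X', φ.symm Y'⁆), ?_, ?_⟩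
      · intro Z
        have h1 : ((⁅φ.symm X', φ.symm Y'⁆ : R) : G) ∈ A :=
          hXX (Subgroup.commutator_mem_commutator (hRX (φ.symm X').2) (hRX (φ.symm Y').2))
        have h2 := hcomm _ h1 _ (hRX (φ.symm Z).2)
        have h3 : (⁅φ.symm X', φ.symm Y'⁆ : R) * φ.symm Z = φ.symm Z * ⁅φ.symm X', φ.symm Y'⁆ :=
          Subtype.ext h2
        have h4 := congrArg φ h3
        rw [map_mul, map_mul, MulEquiv.apply_symm_apply] at h4
        exact h4
      · rw [commutatorElement_def, map_mul, map_mul, map_mul, map_inv, map_inv,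
          MulEquiv.apply_symm_apply, MulEquiv.apply_symm_apply]
        group
    have h2n' : 2 ^ n = 2 := by
      have h1 : 2 ^ n ≤ 2 := Nat.le_of_dvd (by norm_num) h2n
      have h2 : 2 ^ 1 ≤ 2 ^ n := Nat.pow_le_pow_right (by norm_num) hn
      omega
    rw [h2n'] at φ
    exact ⟨φ⟩

end Cfsg.Agent.Helper58.SL
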