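import Mathlib
import Cfsg.Agent.Helper58.SLGrp2

/-!
# Huppert's theorem: a maximal class-two normal subgroup over `A` (helper58)
-/

set_option autoImplicit false

namespace Cfsg.Agent.Helper58.Hup

open Cfsg.Agent.Helper58.SL

variable {G : Type*} [Group G]

theorem comm_mul_mul (f₁ f₂ x₁ x₂ : G) (h11 : Commute x₁ f₁) (h12 : Commute x₁ f₂)
    (h21 : Commute x₂ f₁) (h22 : Commute x₂ f₂) :
    (f₁ * x₁) * (f₂ * x₂) * (f₁ * x₁)⁻¹ * (f₂ * x₂)⁻¹ =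
      (f₁ * f₂ * f₁⁻¹ * f₂⁻¹) * (x₁ * x₂ * x₁⁻¹ * x₂⁻¹) := by
  have c1 : Commute (x₁ * x₂ * x₁⁻¹) f₁⁻¹ :=
    ((h11.mul_left h21).mul_left h11.inv_left).inv_right
  have c2 : Commute (x₁ * x₂ * x₁⁻¹ * x₂⁻¹) f₂⁻¹ :=
    (((h12.mul_left h22).mul_left h12.inv_left).mul_left h22.inv_left).inv_right
  calc (f₁ * x₁) * (f₂ * x₂) * (f₁ * x₁)⁻¹ * (f₂ * x₂)⁻¹
      = f₁ * (x₁ * f₂) * x₂ * x₁⁻¹ * f₁⁻¹ * x₂⁻¹ * f₂⁻¹ := by group
    _ = f₁ * (f₂ * x₁) * x₂ * x₁⁻¹ * f₁⁻¹ * x₂⁻¹ * f₂⁻¹ := by rw [h12.eq]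
    _ = f₁ * f₂ * ((x₁ * x₂ * x₁⁻¹) * f₁⁻¹) * x₂⁻¹ * f₂⁻¹ := by group
    _ = f₁ * f₂ * (f₁⁻¹ * (x₁ * x₂ * x₁⁻¹)) * x₂⁻¹ * f₂⁻¹ := by rw [c1.eq]
    _ = f₁ * f₂ * f₁⁻¹ * ((x₁ * x₂ * x₁⁻¹ * x₂⁻¹) * f₂⁻¹) := by group
    _ = f₁ * f₂ * f₁⁻¹ * (f₂⁻¹ * (x₁ * x₂ * x₁⁻¹ * x₂⁻¹)) := by rw [c2.eq]
    _ = (f₁ * f₂ * f₁⁻¹ * f₂⁻¹) * (x₁ * x₂ * x₁⁻¹ * x₂⁻¹) := by group

/-- bilinearity of the commutator in the second variable -/
theorem comm_mul_right (f g h : G) (hc : Commute (f * h * f⁻¹ * h⁻¹) g) :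
    f * (g * h) * f⁻¹ * (g * h)⁻¹ = (f * g * f⁻¹ * g⁻¹) * (f * h * f⁻¹ * h⁻¹) := by
  calc f * (g * h) * f⁻¹ * (g * h)⁻¹ = f * g * f⁻¹ * ((f * h * f⁻¹ * h⁻¹) * g⁻¹) := by group
    _ = f * g * f⁻¹ * (g⁻¹ * (f * h * f⁻¹ * h⁻¹)) := by rw [hc.inv_right.eq]
    _ = _ := by group

/-- bilinearity of the commutator in the first variable -/
theorem comm_mul_left (f g h : G) (hc : Commute (g * h * g⁻¹ * h⁻¹) f)
    (hc' : Commute (g * h * g⁻¹ * h⁻¹) h) :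
    (f * g) * h * (f * g)⁻¹ * h⁻¹ = (f * h * f⁻¹ * h⁻¹) * (g * h * g⁻¹ * h⁻¹) := by
  have h1 : Commute (g * h * g⁻¹ * h⁻¹) (f * h * f⁻¹ * h⁻¹) :=
    ((hc.mul_right hc').mul_right hc.inv_right).mul_right hc'.inv_right
  calc (f * g) * h * (f * g)⁻¹ * h⁻¹ = f * (g * h * g⁻¹ * h⁻¹) * h * f⁻¹ * h⁻¹ := by group
    _ = (g * h * g⁻¹ * h⁻¹) * f * h * f⁻¹ * h⁻¹ := by rw [hc.eq]
    _ = (g * h * g⁻¹ * h⁻¹) * (f * h * f⁻¹ * h⁻¹) := by group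
    _ = _ := h1.eq

/-- a maximal normal subgroup `F` of `G` with `A ≤ F ≤ C_G(A)` and `[F, F] ≤ A` -/
theorem exists_max_class_two [Finite G] (A : Subgroup G) [hAn : A.Normal]
    (hAc : ∀ a ∈ A, ∀ b ∈ A, a * b = b * a) :
    ∃ F : Subgroup G, F.Normal ∧ A ≤ F ∧ F ≤ Subgroup.centralizer (A : Set G) ∧
      (∀ f ∈ F, ∀ g ∈ F, f * g * f⁻¹ * g⁻¹ ∈ A) ∧
      ∀ F' : Subgroup G, F'.Normal → F ≤ F' → F' ≤ Subgroup.centralizer (A : Set G) →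
        (∀ f ∈ F', ∀ g ∈ F', f * g * f⁻¹ * g⁻¹ ∈ A) → F' = F := by
  classical
  let S : Set (Subgroup G) := {F | F.Normal ∧ A ≤ F ∧ F ≤ Subgroup.centralizer (A : Set G) ∧
      ∀ f ∈ F, ∀ g ∈ F, f * g * f⁻¹ * g⁻¹ ∈ A}
  have hS : S.Finite := Set.toFinite S
  have hAC : A ≤ Subgroup.centralizer (A : Set G) := by
    intro a ha; rw [Subgroup.mem_centralizer_iff]; intro b hb; exact hAc b hb a ha
  have hne : S.Nonempty := ⟨A, hAn, le_rfl, hAC, by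
    intro f hf g hg
    rw [hAc f hf g hg, mul_inv_cancel_right, mul_inv_cancel]
    exact A.one_mem⟩
  obtain ⟨F, hF, hmax⟩ := Set.exists_max_image S (fun B => Nat.card B) hS hne
  refine ⟨F, hF.1, hF.2.1, hF.2.2.1, hF.2.2.2, ?_⟩
  intro F' hn hle hC h2
  have h1 := hmax F' ⟨hn, hF.2.1.trans hle, hC, h2⟩
  exact (Subgroup.eq_of_le_of_card_ge hle h1).symm

section props
variable [Finite G] (A : Subgroup G) [hAn : A.Normal]
  (hAc : ∀ a ∈ A, ∀ b ∈ A, a * b = b * a)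
  (hmax : ∀ B : Subgroup G, B.Normal → (∀ a ∈ B, ∀ b ∈ B, a * b = b * a) → A ≤ B → B = A)
  (F : Subgroup G) [hFn : F.Normal] (hAF : A ≤ F) (hFC : F ≤ Subgroup.centralizer (A : Set G))
  (hF2 : ∀ f ∈ F, ∀ g ∈ F, f * g * f⁻¹ * g⁻¹ ∈ A)
  (hFmax : ∀ F' : Subgroup G, F'.Normal → F ≤ F' → F' ≤ Subgroup.centralizer (A : Set G) →
        (∀ f ∈ F', ∀ g ∈ F', f * g * f⁻¹ * g⁻¹ ∈ A) → F' = F)

include hmax hAF hFC in
/-- the center of `F` is `A` -/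
theorem center_F_eq : ∀ f ∈ F, (∀ g ∈ F, f * g = g * f) → f ∈ A := by
  intro f hf hcen
  have hZ : F ⊓ Subgroup.centralizer (F : Set G) = A := by
    apply hmax _ inferInstance
    · intro a ha b hb
      have h1 := (Subgroup.mem_inf.1 ha).2
      rw [Subgroup.mem_centralizer_iff] at h1
      exact (h1 b (Subgroup.mem_inf.1 hb).1).symm
    · apply le_inf hAF
      rw [Subgroup.le_centralizer_iff]; exact hFC
  rw [← hZ]
  refine Subgroup.mem_inf.2 ⟨hf, ?_⟩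
  rw [Subgroup.mem_centralizer_iff]
  intro g hg
  exact (hcen g hg).symm

include hAc hmax hAF hFC hF2 hFmax in
/-- `F` contains its centralizer in `C_G(A)` -/
theorem centralizer_F_le (hsol : Group.IsSolvable G) :
    Subgroup.centralizer (A : Set G) ⊓ Subgroup.centralizer (F : Set G) ≤ F := by
  by_contra hle
  set D := Subgroup.centralizer (A : Set G) ⊓ Subgroup.centralizer (F : Set G) with hD
  have hAD : A ≤ D := by
    apply le_inf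
    · intro a ha; rw [Subgroup.mem_centralizer_iff]; intro b hb; exact hAc b hb a ha
    · rw [Subgroup.le_centralizer_iff]; exact hFC
  have hDne : D ≠ A := by
    intro h; apply hle; rw [h]; exact hAF
  obtain ⟨X, hXn, hXD, hXA, hXX⟩ := exists_class_two hsol A D hAD hDne
  -- `X` commutes with `F`
  have hXF : ∀ x ∈ X, ∀ f ∈ F, Commute x f := by
    intro x hx f hf
    have := (Subgroup.mem_inf.1 (hXD hx)).2
    rw [Subgroup.mem_centralizer_iff] at this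
    exact (this f hf).symm
  have hXC : X ≤ Subgroup.centralizer (A : Set G) := fun x hx => (Subgroup.mem_inf.1 (hXD hx)).1
  have hsup : F ⊔ X = F := by
    apply hFmax _ inferInstance le_sup_left (sup_le hFC hXC)
    intro u hu v hv
    have hu' : u ∈ ((F ⊔ X : Subgroup G) : Set G) := hu
    have hv' : v ∈ ((F ⊔ X : Subgroup G) : Set G) := hv
    rw [Subgroup.mul_normal] at hu' hv'
    obtain ⟨f₁, hf₁, x₁, hx₁, rfl⟩ := hu'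
    obtain ⟨f₂, hf₂, x₂, hx₂, rfl⟩ := hv'
    rw [comm_mul_mul f₁ f₂ x₁ x₂ (hXF x₁ hx₁ f₁ hf₁) (hXF x₁ hx₁ f₂ hf₂) (hXF x₂ hx₂ f₁ hf₁)
      (hXF x₂ hx₂ f₂ hf₂)]
    apply A.mul_mem (hF2 f₁ hf₁ f₂ hf₂)
    apply hXX
    exact Subgroup.commutator_mem_commutator hx₁ hx₂
  apply hXA
  intro x hx
  have hxF : x ∈ F := by rw [← hsup]; exact (le_sup_right : X ≤ F ⊔ X) hx
  exact center_F_eq A hmax F hAF hFC x hxF (fun g hg => (hXF x hx g hg).eq)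

end props

end Cfsg.Agent.Helper58.Hup
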