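import Mathlib
import Cfsg.Agent.Helper58.HupF

/-!
# Huppert's theorem: character counting for the commutator pairing (helper58)
-/

set_option autoImplicit false

namespace Cfsg.Agent.Helper58.Hup

variable {G : Type*} [Group G]

/-- Dedekind: a finite group has at most `|Q|` homomorphisms into the units of a field -/
theorem card_hom_le (Q : Type*) [Group Q] [Finite Q] (K : Type*) [Field K] :
    Nat.card (Q →* Kˣ) ≤ Nat.card Q := by
  classical
  have hli := linearIndependent_monoidHom Q K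
  have hfin : Finite (Q →* K) := hli.finite_of_isNoetherian
  let _ : Fintype (Q →* K) := Fintype.ofFinite _
  let _ : Fintype Q := Fintype.ofFinite _
  have h1 := hli.fintype_card_le_finrank
  rw [Module.finrank_fintype_fun_eq_card] at h1
  have hinj : Function.Injective (fun χ : Q →* Kˣ => (Units.coeHom K).comp χ) := by
    intro χ ψ h
    ext q
    have := congrArg (fun f : Q →* K => f q) h
    simpa using this
  have h2 := Nat.card_le_card_of_injective _ hinj
  have h3 : Nat.card (Q →* K) ≤ Nat.card Q := by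
    rw [Nat.card_eq_fintype_card, Nat.card_eq_fintype_card]; exact h1
  exact h2.trans h3

/-- **Pairing bound**: if `X × Y → A`, `(x, y) ↦ [x, y]` is a pairing into a subgroup `A` embedded in
the units of a field, trivial on `Y₀ ≤ Y`, then the index in `X` of the left kernel is at most
`|Y : Y₀|`. -/
theorem relIndex_le_of_pairing [Finite G] {K : Type*} [Field K] (A : Subgroup G) (θ : A →* Kˣ)
    (hθ : Function.Injective θ) (X Y Y₀ : Subgroup G)
    (hnorm : ∀ y ∈ Y, ∀ z ∈ Y₀, y * z * y⁻¹ ∈ Y₀)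
    (hXY : ∀ x ∈ X, ∀ y ∈ Y, x * y * x⁻¹ * y⁻¹ ∈ A)
    (hcen : ∀ a ∈ A, ∀ y ∈ Y, a * y = y * a)
    (hXY₀ : ∀ x ∈ X, ∀ z ∈ Y₀, x * z = z * x)
    (X₀ : Subgroup G) (hX₀ : ∀ x ∈ X, (∀ y ∈ Y, x * y = y * x) → x ∈ X₀) :
    X₀.relIndex X ≤ Y₀.relIndex Y := by
  classical
  haveI hN : (Y₀.subgroupOf Y).Normal := by
    constructor
    intro z hz y
    rw [Subgroup.mem_subgroupOf] at hz ⊢
    exact hnorm y y.2 z hz
  -- the character attached to `x ∈ X`
  let χ : X → (Y →* Kˣ) := fun x =>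
    { toFun := fun y => θ ⟨(x : G) * y * (x : G)⁻¹ * (y : G)⁻¹, hXY x x.2 y y.2⟩
      map_one' := by
        have : (⟨(x : G) * ((1 : Y) : G) * (x : G)⁻¹ * (((1 : Y) : G))⁻¹,
            hXY x x.2 _ (1 : Y).2⟩ : A) = 1 := by
          apply Subtype.ext
          simp
        rw [this, map_one]
      map_mul' := by
        intro y y'
        rw [← map_mul]
        congr 1
        apply Subtype.ext
        have hc : Commute ((x : G) * y' * (x : G)⁻¹ * (y' : G)⁻¹) (y : G) :=
          hcen _ (hXY x x.2 y' y'.2) y y.2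
        exact comm_mul_right (x : G) y y' hc }
  have hχ : ∀ (x : X) (y : Y), χ x y = θ ⟨(x : G) * y * (x : G)⁻¹ * (y : G)⁻¹,
      hXY x x.2 y y.2⟩ := fun x y => rfl
  have hker : ∀ x : X, Y₀.subgroupOf Y ≤ (χ x).ker := by
    intro x z hz
    rw [Subgroup.mem_subgroupOf] at hz
    rw [MonoidHom.mem_ker, hχ]
    have : (⟨(x : G) * z * (x : G)⁻¹ * (z : G)⁻¹, hXY x x.2 z z.2⟩ : A) = 1 := by
      apply Subtype.ext
      show (x : G) * z * (x : G)⁻¹ * (z : G)⁻¹ = 1
      rw [hXY₀ x x.2 z hz]; group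
    rw [this, map_one]
  let Ψ : X → ((Y ⧸ Y₀.subgroupOf Y) →* Kˣ) := fun x => QuotientGroup.lift _ (χ x) (hker x)
  let g : (X ⧸ X₀.subgroupOf X) → ((Y ⧸ Y₀.subgroupOf Y) →* Kˣ) := fun q => Ψ q.out
  have hg : Function.Injective g := by
    intro q q' h
    have h1 : ∀ y : Y, χ q.out y = χ q'.out y := by
      intro y
      have := congrArg (fun f : (Y ⧸ Y₀.subgroupOf Y) →* Kˣ => f (QuotientGroup.mk y)) h
      simpa [g, Ψ] using this
    rw [← Quotient.out_eq' q, ← Quotient.out_eq' q']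
    apply Quotient.sound'
    rw [QuotientGroup.leftRel_apply, Subgroup.mem_subgroupOf]
    apply hX₀ _ (Subgroup.mul_mem _ (Subgroup.inv_mem _ q.out.2) q'.out.2)
    intro y hy
    have h2 := h1 ⟨y, hy⟩
    rw [hχ, hχ] at h2
    have h3 := congrArg Subtype.val (hθ h2)
    -- `a y a⁻¹ y⁻¹ = b y b⁻¹ y⁻¹` gives `(a⁻¹ b) y = y (a⁻¹ b)`
    have h4 : (q.out : G) * y * (q.out : G)⁻¹ = (q'.out : G) * y * (q'.out : G)⁻¹ := by
      have := congrArg (· * y) h3
      simpa using this
    calc (q.out : G)⁻¹ * (q'.out : G) * y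
        = (q.out : G)⁻¹ * ((q'.out : G) * y * (q'.out : G)⁻¹) * (q'.out : G) := by group
      _ = (q.out : G)⁻¹ * ((q.out : G) * y * (q.out : G)⁻¹) * (q'.out : G) := by rw [h4]
      _ = y * ((q.out : G)⁻¹ * (q'.out : G)) := by group
  have h1 := Nat.card_le_card_of_injective g hg
  have h2 := card_hom_le (Y ⧸ Y₀.subgroupOf Y) K
  exact h1.trans h2

/-- `F` is of symplectic type over `A`: `A = Z(F)` and `F / A` is abelian -/
structure Sympl (A F : Subgroup G) : Prop where
  hAF : A ≤ F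
  hAZ : ∀ a ∈ A, ∀ f ∈ F, a * f = f * a
  hF2 : ∀ f ∈ F, ∀ g ∈ F, f * g * f⁻¹ * g⁻¹ ∈ A
  hZ : ∀ f ∈ F, (∀ g ∈ F, f * g = g * f) → f ∈ A

/-- the index `|F : A|` is a perfect square -/
theorem Sympl.exists_sq [Finite G] {A F : Subgroup G} (h : Sympl A F) {K : Type*} [Field K]
    (θ : A →* Kˣ) (hθ : Function.Injective θ) : ∃ e : ℕ, A.relIndex F = e * e := by
  classical
  -- a maximal abelian subgroup of `F` containing `A`
  let S : Set (Subgroup G) := {M | A ≤ M ∧ M ≤ F ∧ ∀ a ∈ M, ∀ b ∈ M, a * b = b * a}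
  have hS : S.Finite := Set.toFinite S
  have hne : S.Nonempty := ⟨A, le_rfl, h.hAF, fun a ha b hb => h.hAZ a ha b (h.hAF hb)⟩
  obtain ⟨M, ⟨hAM, hMF, hMc⟩, hmax⟩ := Set.exists_max_image S (fun B => Nat.card B) hS hne
  -- `M` is self-centralizing in `F`
  have hself : ∀ g ∈ F, (∀ m ∈ M, g * m = m * g) → g ∈ M := by
    intro g hg hgm
    have hMcen : M ≤ Subgroup.centralizer ((M ⊔ Subgroup.zpowers g : Subgroup G) : Set G) := by
      rw [Subgroup.le_centralizer_iff]
      apply sup_le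
      · intro a ha; rw [Subgroup.mem_centralizer_iff]; intro b hb; exact hMc b hb a ha
      · rw [Subgroup.zpowers_le, Subgroup.mem_centralizer_iff]
        intro m hm; exact (hgm m hm).symm
    have hZcen : Subgroup.zpowers g ≤
        Subgroup.centralizer ((M ⊔ Subgroup.zpowers g : Subgroup G) : Set G) := by
      rw [Subgroup.le_centralizer_iff]
      apply sup_le
      · intro m hm; rw [Subgroup.mem_centralizer_iff]
        intro u hu
        obtain ⟨i, rfl⟩ := Subgroup.mem_zpowers_iff.1 hu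
        have hc : Commute g m := hgm m hm
        exact (hc.zpow_left i).eq
      · intro u hu; rw [Subgroup.mem_centralizer_iff]
        intro v hv
        obtain ⟨i, rfl⟩ := Subgroup.mem_zpowers_iff.1 hu
        obtain ⟨j, rfl⟩ := Subgroup.mem_zpowers_iff.1 hv
        rw [← zpow_add, ← zpow_add, add_comm]
    have hmem : M ⊔ Subgroup.zpowers g ∈ S := by
      refine ⟨hAM.trans le_sup_left, sup_le hMF ((Subgroup.zpowers_le).2 hg), ?_⟩
      intro a ha b hb
      have := (sup_le hMcen hZcen) hb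
      rw [Subgroup.mem_centralizer_iff] at this
      exact this a ha
    have h1 := hmax _ hmem
    have h2 : M ⊔ Subgroup.zpowers g = M :=
      (Subgroup.eq_of_le_of_card_ge le_sup_left h1).symm
    rw [← h2]
    exact (le_sup_right : Subgroup.zpowers g ≤ _) (Subgroup.mem_zpowers g)
  -- `[F : M] ≤ [M : A]`
  have h1 : M.relIndex F ≤ A.relIndex M := by
    apply relIndex_le_of_pairing A θ hθ F M A
    · intro y hy z hz
      have := h.hAZ z hz y (hMF hy)
      rw [← this, mul_inv_cancel_right]; exact hz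
    · intro x hx y hy; exact h.hF2 x hx y (hMF hy)
    · intro a ha y hy; exact h.hAZ a ha y (hMF hy)
    · intro x hx z hz; exact (h.hAZ z hz x hx).symm
    · intro x hx hx'; exact hself x hx hx'
  -- `[M : A] ≤ [F : M]`
  have h2 : A.relIndex M ≤ M.relIndex F := by
    apply relIndex_le_of_pairing A θ hθ M F M
    · intro y hy z hz
      have h3 := h.hF2 y hy z (hMF hz)
      have : y * z * y⁻¹ = (y * z * y⁻¹ * z⁻¹) * z := by group
      rw [this]
      exact M.mul_mem (hAM h3) hz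
    · intro x hx y hy; exact h.hF2 x (hMF hx) y hy
    · intro a ha y hy; exact h.hAZ a ha y hy
    · intro x hx z hz; exact hMc x hx z hz
    · intro x hx hx'; exact h.hZ x (hMF hx) hx'
  refine ⟨A.relIndex M, ?_⟩
  rw [← Subgroup.relIndex_mul_relIndex A M F hAM hMF]
  congr 1
  exact le_antisymm h1 h2

/-- an element of `C` centralizing `F / A` lies in `F` -/
theorem Sympl.mem_of_comm_mem [Finite G] {A F : Subgroup G} (h : Sympl A F) [hAn : A.Normal]
    {K : Type*} [Field K] (θ : A →* Kˣ) (hθ : Function.Injective θ)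
    (C : Subgroup G) (hFC : F ≤ C) (hAC : ∀ a ∈ A, ∀ c ∈ C, a * c = c * a)
    (hCF : ∀ c ∈ C, (∀ f ∈ F, c * f = f * c) → c ∈ F)
    (c : G) (hc : c ∈ C) (hcF : ∀ f ∈ F, c * f * c⁻¹ * f⁻¹ ∈ A) : c ∈ F := by
  classical
  let T : Subgroup G :=
    { carrier := {t | t ∈ C ∧ ∀ f ∈ F, t * f * t⁻¹ * f⁻¹ ∈ A}
      one_mem' := ⟨C.one_mem, fun f _ => by simp [A.one_mem]⟩
      mul_mem' := by
        rintro t t' ⟨ht, htF⟩ ⟨ht', htF'⟩
        refine ⟨C.mul_mem ht ht', fun f hf => ?_⟩
        have c1 : Commute (t' * f * t'⁻¹ * f⁻¹) t := hAC _ (htF' f hf) t ht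
        have c2 : Commute (t' * f * t'⁻¹ * f⁻¹) f := hAC _ (htF' f hf) f (hFC hf)
        rw [comm_mul_left t t' f c1 c2]
        exact A.mul_mem (htF f hf) (htF' f hf)
      inv_mem' := by
        rintro t ⟨ht, htF⟩
        refine ⟨C.inv_mem ht, fun f hf => ?_⟩
        have h1 : t⁻¹ * f * t⁻¹⁻¹ * f⁻¹ = t⁻¹ * (t * f * t⁻¹ * f⁻¹)⁻¹ * t := by group
        rw [h1]
        have h2 := hAn.conj_mem _ (A.inv_mem (htF f hf)) t⁻¹
        rwa [inv_inv] at h2 }
  have hT : ∀ t, t ∈ T ↔ t ∈ C ∧ ∀ f ∈ F, t * f * t⁻¹ * f⁻¹ ∈ A := fun t => Iff.rfl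
  have hFT : F ≤ T := fun f hf => (hT f).2 ⟨hFC hf, fun g hg => h.hF2 f hf g hg⟩
  have h1 : A.relIndex T ≤ A.relIndex F := by
    apply relIndex_le_of_pairing A θ hθ T F A
    · intro y hy z hz
      have := h.hAZ z hz y hy
      rw [← this, mul_inv_cancel_right]; exact hz
    · intro x hx y hy; exact ((hT x).1 hx).2 y hy
    · intro a ha y hy; exact h.hAZ a ha y hy
    · intro x hx z hz; exact (hAC z hz x ((hT x).1 hx).1).symm
    · intro x hx hx'
      have hxF : x ∈ F := hCF x ((hT x).1 hx).1 hx'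
      exact h.hZ x hxF hx'
  have h2 := Subgroup.relIndex_mul_relIndex A F T h.hAF hFT
  have hpos : 0 < A.relIndex F :=
    Nat.pos_of_ne_zero (Subgroup.index_ne_zero_of_finite (H := A.subgroupOf F))
  have hpos' : 0 < F.relIndex T :=
    Nat.pos_of_ne_zero (Subgroup.index_ne_zero_of_finite (H := F.subgroupOf T))
  have h3 : F.relIndex T = 1 := by
    rw [← h2] at h1
    by_contra hne
    have : 2 ≤ F.relIndex T := by omega
    nlinarith
  have h4 : T ≤ F := Subgroup.relIndex_eq_one.1 h3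
  exact h4 ((hT c).2 ⟨hc, hcF⟩)

end Cfsg.Agent.Helper58.Hup
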