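import Mathlib
import Cfsg.Agent.Helper58.HupHom

/-!
# Huppert's theorem: linear independence of coset representatives (helper58)
-/

set_option autoImplicit false

namespace Cfsg.Agent.Helper58.Hup

variable {q : ℕ} [Fact q.Prime] {V : Type*} [AddCommGroup V] [Module (ZMod q) V]
  {G : Type*} [Group G] (ρ : G →* (V ≃ₗ[ZMod q] V))
  {K : Type*} [Field K] [Module K V]

/-- the `K`-linear map attached to a `K`-linearly acting element -/
def linK (f : G) (hf : ∀ (κ : K) (v : V), ρ f (κ • v) = κ • ρ f v) : V →ₗ[K] V where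
  toFun := ρ f
  map_add' := map_add _
  map_smul' := hf

/-- coset representatives of `F / A` act `K`-linearly independently -/
theorem relIndex_le_sq [Finite G] [Module.Finite K V] [Nontrivial V]
    (A F : Subgroup G) (h : Sympl A F) (ι : G → K)
    (hscal : ∀ a ∈ A, ∀ v : V, ρ a v = ι a • v)
    (hιinj : ∀ a ∈ A, ∀ b ∈ A, ι a = ι b → a = b)
    (hlin : ∀ f ∈ F, ∀ (κ : K) (v : V), ρ f (κ • v) = κ • ρ f v) :
    A.relIndex F ≤ Module.finrank K V * Module.finrank K V := by
  classical
  -- the `K`-linear maps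
  let T : F → (V →ₗ[K] V) := fun f => linK ρ (f : G) (hlin f f.2)
  have hT : ∀ (f : F) (v : V), T f v = ρ (f : G) v := fun f v => rfl
  have hTmul : ∀ f g : F, T (f * g) = T f * T g := by
    intro f g
    ext v
    rw [hT, Module.End.mul_apply, hT, hT, Subgroup.coe_mul, map_mul, LinearEquiv.mul_apply]
  have hTone : T 1 = LinearMap.id := by
    ext v
    rw [hT, Subgroup.coe_one, map_one]; rfl
  -- scalars
  have hTscal : ∀ (a : F), (a : G) ∈ A → ∀ f : F, T (a * f) = ι (a : G) • T f := by
    intro a ha f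
    ext v
    rw [hTmul, Module.End.mul_apply, LinearMap.smul_apply, hT a, hscal _ ha]
  -- conjugation
  have hconj : ∀ y f : F, T y * T f * T y⁻¹ =
      ι ((y : G) * f * (y : G)⁻¹ * (f : G)⁻¹) • T f := by
    intro y f
    have hmem : (y : G) * f * (y : G)⁻¹ * (f : G)⁻¹ ∈ A := h.hF2 y y.2 f f.2
    have h1 : y * f * y⁻¹ = (⟨(y : G) * f * (y : G)⁻¹ * (f : G)⁻¹, h.hAF hmem⟩ : F) * f := by
      apply Subtype.ext
      simp
    rw [← hTscal ⟨_, h.hAF hmem⟩ hmem f, ← h1, hTmul, hTmul]
  -- representatives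
  let v : (F ⧸ A.subgroupOf F) → (V →ₗ[K] V) := fun i => T i.out
  have hsep : ∀ i j : F ⧸ A.subgroupOf F, i ≠ j →
      ∃ y : F, ι ((y : G) * (i.out : G) * (y : G)⁻¹ * (i.out : G)⁻¹) ≠
        ι ((y : G) * (j.out : G) * (y : G)⁻¹ * (j.out : G)⁻¹) := by
    intro i j hij
    by_contra hno
    push Not at hno
    apply hij
    rw [← Quotient.out_eq' i, ← Quotient.out_eq' j]
    apply Quotient.sound'
    rw [QuotientGroup.leftRel_apply, Subgroup.mem_subgroupOf]
    apply h.hZ _ (F.mul_mem (F.inv_mem i.out.2) j.out.2)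
    intro g hg
    have h1 := hno ⟨g, hg⟩
    have hmi : g * (i.out : G) * g⁻¹ * (i.out : G)⁻¹ ∈ A := h.hF2 g hg _ i.out.2
    have hmj : g * (j.out : G) * g⁻¹ * (j.out : G)⁻¹ ∈ A := h.hF2 g hg _ j.out.2
    -- the two commutators are equal
    have h2 : g * (i.out : G) * g⁻¹ * (i.out : G)⁻¹ = g * (j.out : G) * g⁻¹ * (j.out : G)⁻¹ :=
      hιinj _ hmi _ hmj h1
    have e1 : g * (i.out : G) * g⁻¹ = (g * (i.out : G) * g⁻¹ * (i.out : G)⁻¹) * (i.out : G) := by
      group
    have e2 : g * (j.out : G) * g⁻¹ = (g * (i.out : G) * g⁻¹ * (i.out : G)⁻¹) * (j.out : G) := by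
      rw [h2]; group
    have e3 : g * ((i.out : G)⁻¹ * (j.out : G)) * g⁻¹ = (i.out : G)⁻¹ * (j.out : G) := by
      calc g * ((i.out : G)⁻¹ * (j.out : G)) * g⁻¹
          = (g * (i.out : G) * g⁻¹)⁻¹ * (g * (j.out : G) * g⁻¹) := by group
        _ = (i.out : G)⁻¹ * (j.out : G) := by rw [e1, e2]; group
    show ((i.out : G)⁻¹ * (j.out : G)) * g = g * ((i.out : G)⁻¹ * (j.out : G))
    calc ((i.out : G)⁻¹ * (j.out : G)) * g
        = (g * ((i.out : G)⁻¹ * (j.out : G)) * g⁻¹) * g := by rw [e3]
      _ = g * ((i.out : G)⁻¹ * (j.out : G)) := by group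
  -- invertibility
  have hinv : ∀ (f : F) (c : K), c • T f = 0 → c = 0 := by
    intro f c hc
    by_contra hne
    obtain ⟨w, hw⟩ := exists_ne (0 : V)
    have h1 := congrArg (fun X : V →ₗ[K] V => X w) hc
    simp only [LinearMap.smul_apply, LinearMap.zero_apply] at h1
    rw [smul_eq_zero] at h1
    rcases h1 with h1 | h1
    · exact hne h1
    · rw [hT] at h1
      exact hw ((ρ (f : G)).map_eq_zero_iff.1 h1)
  have hli : LinearIndependent K v := by
    rw [linearIndependent_iff']
    intro s
    induction s using Finset.induction_on with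
    | empty => intro g _ i hi; simp at hi
    | insert a s has ih =>
      intro g hg
      -- conjugate the relation
      have hrel : ∀ y : F, ∑ i ∈ insert a s,
          (g i * ι ((y : G) * (i.out : G) * (y : G)⁻¹ * (i.out : G)⁻¹)) • v i = 0 := by
        intro y
        have h1 := congrArg (fun X : V →ₗ[K] V => T y * X * T y⁻¹) hg
        simp only [mul_zero, zero_mul] at h1
        rw [← h1, Finset.mul_sum, Finset.sum_mul]
        apply Finset.sum_congr rfl
        intro i _
        rw [mul_smul_comm, smul_mul_assoc, hconj y i.out, smul_smul]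
      -- the coefficients on `s` vanish
      have hs : ∀ i ∈ s, g i = 0 := by
        intro i hi
        have hia : i ≠ a := fun h => has (h ▸ hi)
        obtain ⟨y, hy⟩ := hsep i a hia
        have h1 := hrel y
        rw [Finset.sum_insert has] at h1 hg
        -- subtract
        have h2 : ∑ j ∈ s, (g j * (ι ((y : G) * (j.out : G) * (y : G)⁻¹ * (j.out : G)⁻¹) -
            ι ((y : G) * (a.out : G) * (y : G)⁻¹ * (a.out : G)⁻¹))) • v j = 0 := by
          have h3 : ∑ j ∈ s, (g j * (ι ((y : G) * (j.out : G) * (y : G)⁻¹ * (j.out : G)⁻¹) -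
            ι ((y : G) * (a.out : G) * (y : G)⁻¹ * (a.out : G)⁻¹))) • v j =
            (∑ j ∈ s, (g j * ι ((y : G) * (j.out : G) * (y : G)⁻¹ * (j.out : G)⁻¹)) • v j) -
            ι ((y : G) * (a.out : G) * (y : G)⁻¹ * (a.out : G)⁻¹) • ∑ j ∈ s, g j • v j := by
            rw [Finset.smul_sum, ← Finset.sum_sub_distrib]
            apply Finset.sum_congr rfl
            intro j _
            rw [mul_sub, sub_smul, smul_smul, mul_comm (ι _) (g j)]
          rw [h3]
          have h4 : ∑ j ∈ s, g j • v j = - (g a • v a) := by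
            rw [eq_neg_iff_add_eq_zero, add_comm]; exact hg
          have h5 : ∑ j ∈ s, (g j * ι ((y : G) * (j.out : G) * (y : G)⁻¹ * (j.out : G)⁻¹)) • v j =
              - ((g a * ι ((y : G) * (a.out : G) * (y : G)⁻¹ * (a.out : G)⁻¹)) • v a) := by
            rw [eq_neg_iff_add_eq_zero, add_comm]; exact h1
          rw [h4, h5, smul_neg, smul_smul, mul_comm (ι _) (g a)]
          abel
        have h6 := ih _ h2 i hi
        rcases mul_eq_zero.1 h6 with h7 | h7
        · exact h7
        · exact absurd (sub_eq_zero.1 h7) hy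
      intro i hi
      rcases Finset.mem_insert.1 hi with rfl | hi'
      · rw [Finset.sum_insert has, Finset.sum_eq_zero (fun j hj => by rw [hs j hj, zero_smul]),
          add_zero] at hg
        exact hinv _ _ hg
      · exact hs i hi'
  let _ : Fintype (F ⧸ A.subgroupOf F) := Fintype.ofFinite _
  have hcard := hli.fintype_card_le_finrank
  rw [Module.finrank_linearMap] at hcard
  rw [Subgroup.relIndex, Subgroup.index, Nat.card_eq_fintype_card]
  exact hcard

end Cfsg.Agent.Helper58.Hup
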