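import Mathlib
import Cfsg.Agent.Helper58.HupInd

/-!
# Huppert's theorem: elements of primitive prime order act irreducibly (helper58)
-/

set_option autoImplicit false

namespace Cfsg.Agent.Helper58.Hup

variable {q : ℕ} [Fact q.Prime] {V : Type*} [AddCommGroup V] [Module (ZMod q) V] [Finite V]
  {G : Type*} [Group G] (ρ : G →* (V ≃ₗ[ZMod q] V))
  {K : Type*} [Field K] [Finite K] [Module K V]

section irr
variable (x : G) (hx : ∀ (κ : K) (v : V), ρ x (κ • v) = κ • ρ x v) (p : ℕ) [hp : Fact p.Prime]
  (hxp : x ^ p = 1)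

/-- the submodule of fixed vectors of `x` -/
def fixK : Submodule K V := LinearMap.eqLocus (linK ρ x hx) LinearMap.id

theorem mem_fixK (v : V) : v ∈ fixK ρ x hx ↔ ρ x v = v := Iff.rfl

include hxp in
/-- counting fixed points modulo `p` on an invariant subspace -/
theorem card_modEq (W : Submodule K V) (hW : ∀ w ∈ W, ρ x w ∈ W) :
    Nat.card W ≡ Nat.card (W ⊓ fixK ρ x hx : Submodule K V) [MOD p] := by
  classical
  let _ : Fintype W := Fintype.ofFinite _
  let f : Function.End W := fun w => ⟨ρ x w, hW w w.2⟩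
  have hf : ∀ (n : ℕ) (w : W), (((f ^ n) w : W) : V) = ρ (x ^ n) w := by
    intro n
    induction n with
    | zero => intro w; rw [pow_zero, pow_zero, map_one]; rfl
    | succ n ih =>
      intro w
      rw [pow_succ]
      show (((f ^ n) (f w) : W) : V) = _
      rw [ih, pow_succ, map_mul, LinearEquiv.mul_apply]
  have hfp : f ^ p ^ 1 = 1 := by
    rw [pow_one]
    funext w
    apply Subtype.ext
    rw [hf, hxp, map_one]
    rfl
  have h1 := Equiv.Perm.card_fixedPoints_modEq (f := f) (p := p) (n := 1) hfp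
  have e : Function.fixedPoints f ≃ (W ⊓ fixK ρ x hx : Submodule K V) :=
    { toFun := fun w => ⟨(w.1 : V), Submodule.mem_inf.2 ⟨w.1.2, by
        have := w.2
        rw [Function.mem_fixedPoints, Function.IsFixedPt] at this
        exact congrArg Subtype.val this⟩⟩
      invFun := fun w => ⟨⟨(w : V), (Submodule.mem_inf.1 w.2).1⟩, by
        rw [Function.mem_fixedPoints, Function.IsFixedPt]
        apply Subtype.ext
        exact (Submodule.mem_inf.1 w.2).2⟩
      left_inv := fun w => rfl
      right_inv := fun w => rfl }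
  rw [Nat.card_eq_fintype_card, ← Nat.card_congr e, Nat.card_eq_fintype_card]
  exact h1

variable (Q k : ℕ) (hQ : Nat.card K = Q) (hk : Module.finrank K V = k)
  (hprim : ∀ j, 1 ≤ j → j < k → ¬ p ∣ Q ^ j - 1) (hpQ : ¬ p ∣ Q)

include hxp hQ hk hprim hpQ in
/-- `x` fixes no nonzero vector -/
theorem fixK_eq_bot (hρ : Function.Injective ρ) (hx1 : x ≠ 1) : fixK ρ x hx = ⊥ := by
  classical
  by_contra hne
  have hQ1 : 1 ≤ Q := by
    rw [← hQ]; exact Nat.card_pos
  have hmod := card_modEq ρ x hx p hxp ⊤ (fun w _ => Submodule.mem_top)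
  rw [top_inf_eq] at hmod
  have hcV : Nat.card (⊤ : Submodule K V) = Q ^ k := by
    rw [Nat.card_congr (Submodule.topEquiv (R := K) (M := V)).toEquiv,
      Module.natCard_eq_pow_finrank (K := K) (V := V), hQ, hk]
  have hcU : Nat.card (fixK ρ x hx) = Q ^ Module.finrank K (fixK ρ x hx) := by
    rw [Module.natCard_eq_pow_finrank (K := K) (V := fixK ρ x hx), hQ]
  rw [hcV, hcU] at hmod
  set j₀ := Module.finrank K (fixK ρ x hx) with hj₀
  have hlt : j₀ < k := by
    rw [← hk]
    apply Submodule.finrank_lt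
    intro htop
    apply hx1
    apply hρ
    rw [map_one]
    ext v
    have : v ∈ fixK ρ x hx := by rw [htop]; exact Submodule.mem_top
    exact this
  have hpos : 1 ≤ j₀ := by
    rw [Nat.one_le_iff_ne_zero]
    intro h0
    apply hne
    exact Submodule.finrank_eq_zero.1 h0
  have hle : Q ^ j₀ ≤ Q ^ k := Nat.pow_le_pow_right hQ1 hlt.le
  have hdvd : p ∣ Q ^ k - Q ^ j₀ := (Nat.modEq_iff_dvd' hle).1 hmod.symm
  have hfac : Q ^ k - Q ^ j₀ = Q ^ j₀ * (Q ^ (k - j₀) - 1) := by
    have : k = j₀ + (k - j₀) := by omega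
    nth_rewrite 1 [this]
    rw [pow_add, Nat.mul_sub, mul_one]
  rw [hfac] at hdvd
  rcases (Nat.Prime.dvd_mul hp.out).1 hdvd with h | h
  · exact hpQ (hp.out.dvd_of_dvd_pow h)
  · exact hprim (k - j₀) (by omega) (by omega) h

include hx hxp hQ hk hprim hpQ in
/-- `x` acts irreducibly -/
theorem invariant_eq_bot_or_top (hρ : Function.Injective ρ) (hx1 : x ≠ 1) (W : Submodule K V)
    (hW : ∀ w ∈ W, ρ x w ∈ W) : W = ⊥ ∨ W = ⊤ := by
  classical
  by_cases hbot : W = ⊥
  · exact Or.inl hbot
  right
  have hQ1 : 1 ≤ Q := by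
    rw [← hQ]; exact Nat.card_pos
  have hmod := card_modEq ρ x hx p hxp W hW
  rw [fixK_eq_bot ρ x hx p hxp Q k hQ hk hprim hpQ hρ hx1, inf_bot_eq] at hmod
  have hcW : Nat.card W = Q ^ Module.finrank K W := by
    rw [Module.natCard_eq_pow_finrank (K := K) (V := W), hQ]
  have hcb : Nat.card (⊥ : Submodule K V) = 1 := by
    rw [Nat.card_eq_one_iff_unique]
    exact ⟨inferInstance, inferInstance⟩
  rw [hcW, hcb] at hmod
  set j := Module.finrank K W with hj
  have hpos : 1 ≤ j := by
    rw [Nat.one_le_iff_ne_zero]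
    intro h0
    exact hbot (Submodule.finrank_eq_zero.1 h0)
  have hle : j ≤ k := by
    rw [← hk]; exact Submodule.finrank_le W
  have hdvd : p ∣ Q ^ j - 1 := (Nat.modEq_iff_dvd' (Nat.one_le_pow _ _ hQ1)).1 hmod.symm
  have hjk : j = k := by
    by_contra hne
    exact hprim j hpos (by omega) hdvd
  apply Submodule.eq_top_of_finrank_eq
  rw [← hj, hjk, hk]

include hx hxp hQ hk hprim hpQ in
/-- the centralizer of `x` among `K`-linearly acting elements is abelian -/
theorem comm_of_centralize [Nontrivial V] (hρ : Function.Injective ρ) (hx1 : x ≠ 1) (f g : G)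
    (hf : ∀ (κ : K) (v : V), ρ f (κ • v) = κ • ρ f v)
    (hg : ∀ (κ : K) (v : V), ρ g (κ • v) = κ • ρ g v)
    (hfx : f * x = x * f) (hgx : g * x = x * g) : f * g = g * f := by
  classical
  let Tx : Module.End K V := linK ρ x hx
  let Z : Subring (Module.End K V) := Subring.centralizer {Tx}
  have hfinE : Finite (Module.End K V) :=
    Finite.of_injective (fun X : Module.End K V => (X : V → V)) DFunLike.coe_injective
  have hmemZ : ∀ (u : G) (hu : ∀ (κ : K) (v : V), ρ u (κ • v) = κ • ρ u v), u * x = x * u →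
      linK ρ u hu ∈ Z := by
    intro u hu hux
    rw [Subring.mem_centralizer_iff]
    intro m hm
    rw [Set.mem_singleton_iff] at hm
    subst hm
    ext v
    show ρ x (ρ u v) = ρ u (ρ x v)
    rw [← LinearEquiv.mul_apply, ← LinearEquiv.mul_apply, ← map_mul, ← map_mul, hux]
  have hnzd : NoZeroDivisors Z := ⟨fun {a b} hab => by
    by_contra hne
    push Not at hne
    have hker : LinearMap.ker a.1 = ⊥ := by
      have hinv : ∀ w ∈ LinearMap.ker a.1, ρ x w ∈ LinearMap.ker a.1 := by
        intro w hw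
        rw [LinearMap.mem_ker] at hw ⊢
        have h1 := a.2
        rw [Subring.mem_centralizer_iff] at h1
        have h2 := congrArg (fun X : Module.End K V => X w) (h1 Tx rfl)
        simp only [Module.End.mul_apply] at h2
        have h3 : Tx w = ρ x w := rfl
        rw [← h3, ← h2, hw, map_zero]
      rcases invariant_eq_bot_or_top ρ x hx p hxp Q k hQ hk hprim hpQ hρ hx1 _ hinv with h | h
      · exact h
      · exfalso
        apply hne.1
        apply Subtype.ext
        exact LinearMap.ker_eq_top.1 h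
    apply hne.2
    apply Subtype.ext
    ext v
    have h1 := congrArg (fun X : Z => X.1 v) hab
    simp only [Subring.coe_mul, Module.End.mul_apply, ZeroMemClass.coe_zero,
      LinearMap.zero_apply] at h1
    have h2 : b.1 v ∈ LinearMap.ker a.1 := h1
    rw [hker, Submodule.mem_bot] at h2
    exact h2⟩
  have hnt : Nontrivial Z := ⟨⟨0, 1, fun h => by
    obtain ⟨w, hw⟩ := exists_ne (0 : V)
    have := congrArg (fun X : Z => X.1 w) h
    simp at this
    exact hw this.symm⟩⟩
  haveI : IsDomain Z := NoZeroDivisors.to_isDomain Z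
  have hfield := Finite.isDomain_to_isField Z
  have hcomm := hfield.mul_comm ⟨_, hmemZ f hf hfx⟩ ⟨_, hmemZ g hg hgx⟩
  have h1 := congrArg Subtype.val hcomm
  apply hρ
  ext v
  have h2 := congrArg (fun X : Module.End K V => X v) h1
  simp only [Subring.coe_mul, Module.End.mul_apply] at h2
  rw [map_mul, map_mul, LinearEquiv.mul_apply, LinearEquiv.mul_apply]
  exact h2

end irr

end Cfsg.Agent.Helper58.Hup
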