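import Mathlib
import Cfsg.Agent.Helper58.HupIrr

/-!
# Huppert's theorem: elements of primitive prime order and the symplectic-type subgroup (helper58)
-/

set_option autoImplicit false

namespace Cfsg.Agent.Helper58.Hup

variable {G : Type*} [Group G]

/-- powers in the first variable of a commutator that commutes with both entries -/
theorem comm_pow_left (f g : G) (hc : Commute (f * g * f⁻¹ * g⁻¹) f)
    (hc' : Commute (f * g * f⁻¹ * g⁻¹) g) (m : ℕ) :
    f ^ m * g * (f ^ m)⁻¹ * g⁻¹ = (f * g * f⁻¹ * g⁻¹) ^ m := by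
  induction m with
  | zero => simp
  | succ m ih =>
    rw [pow_succ, comm_mul_left (f ^ m) f g (hc.pow_right m) hc', ih, pow_succ]

/-- a prime dividing `|F : A|` divides `|A|` -/
theorem Sympl.prime_dvd_card [Finite G] {A F : Subgroup G} (h : Sympl A F) (r : ℕ)
    [hr : Fact r.Prime] (hdvd : r ∣ A.relIndex F) : r ∣ Nat.card A := by
  classical
  haveI hN : (A.subgroupOf F).Normal := by
    constructor
    intro a ha f
    rw [Subgroup.mem_subgroupOf] at ha ⊢
    have h1 := h.hAZ a ha f f.2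
    have h2 : ((f * a * f⁻¹ : F) : G) = (a : G) := by
      show (f : G) * a * (f : G)⁻¹ = a
      rw [← h1, mul_inv_cancel_right]
    rw [h2]; exact ha
  have hcard : r ∣ Nat.card (F ⧸ A.subgroupOf F) := hdvd
  obtain ⟨x, hx⟩ := exists_prime_orderOf_dvd_card' (G := F ⧸ A.subgroupOf F) r hcard
  obtain ⟨f, rfl⟩ := QuotientGroup.mk_surjective x
  have hfr : (f : G) ^ r ∈ A := by
    have h1 : ((f ^ r : F) : F ⧸ A.subgroupOf F) = 1 := by
      rw [QuotientGroup.mk_pow, ← hx, pow_orderOf_eq_one]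
    rw [QuotientGroup.eq_one_iff, Subgroup.mem_subgroupOf] at h1
    exact h1
  have hfA : (f : G) ∉ A := by
    intro hfA
    have h1 : ((f : F) : F ⧸ A.subgroupOf F) = 1 := by
      rw [QuotientGroup.eq_one_iff, Subgroup.mem_subgroupOf]; exact hfA
    rw [h1, orderOf_one] at hx
    exact hr.out.one_lt.ne hx
  have hex : ∃ g ∈ F, (f : G) * g ≠ g * f := by
    by_contra hno
    push Not at hno
    exact hfA (h.hZ f f.2 hno)
  obtain ⟨g, hg, hfg⟩ := hex
  have hcA : (f : G) * g * (f : G)⁻¹ * g⁻¹ ∈ A := h.hF2 f f.2 g hg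
  have hpow := comm_pow_left (f : G) g (h.hAZ _ hcA f f.2) (h.hAZ _ hcA g hg) r
  have h1 : ((f : G) * g * (f : G)⁻¹ * g⁻¹) ^ r = 1 := by
    rw [← hpow, h.hAZ _ hfr g hg, mul_inv_cancel_right, mul_inv_cancel]
  have hne : (f : G) * g * (f : G)⁻¹ * g⁻¹ ≠ 1 := by
    intro h0
    apply hfg
    calc (f : G) * g = ((f : G) * g * (f : G)⁻¹ * g⁻¹) * (g * f) := by group
      _ = g * f := by rw [h0, one_mul]
  have hord : orderOf ((f : G) * g * (f : G)⁻¹ * g⁻¹) = r := orderOf_eq_prime h1 hne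
  have h2 := orderOf_dvd_natCard (⟨_, hcA⟩ : A)
  rw [Subgroup.orderOf_mk, hord] at h2
  exact h2

/-- iterated product of conjugates -/
def prodConj (x g : G) : ℕ → G
  | 0 => 1
  | (i + 1) => prodConj x g i * (x ^ i * g * (x ^ i)⁻¹)

theorem prodConj_mem (F : Subgroup G) [hFn : F.Normal] (x g : G) (hg : g ∈ F) (i : ℕ) :
    prodConj x g i ∈ F := by
  induction i with
  | zero => exact F.one_mem
  | succ i ih => exact F.mul_mem ih (hFn.conj_mem g hg _)

theorem conj_prodConj (x g : G) (i : ℕ) :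
    x * prodConj x g i * x⁻¹ = g⁻¹ * prodConj x g (i + 1) := by
  induction i with
  | zero => simp [prodConj]
  | succ i ih =>
    have h1 : x * (prodConj x g i * (x ^ i * g * (x ^ i)⁻¹)) * x⁻¹ =
        (x * prodConj x g i * x⁻¹) * (x ^ (i + 1) * g * (x ^ (i + 1))⁻¹) := by
      rw [pow_succ']; group
    show x * (prodConj x g i * (x ^ i * g * (x ^ i)⁻¹)) * x⁻¹ =
      g⁻¹ * (prodConj x g (i + 1) * (x ^ (i + 1) * g * (x ^ (i + 1))⁻¹))
    rw [h1, ih, mul_assoc]

section cent
variable [Finite G] {A F : Subgroup G} (h : Sympl A F) [hFn : F.Normal] (x : G)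
  (hxA : ∀ a ∈ A, x * a = a * x) (s : ℕ) (hxs : x ^ s = 1)
  (hsA : ∀ a ∈ A, a ^ s = 1 → a = 1)

omit [Finite G] hFn in
include h hxA hxs hsA in
/-- if `x` centralizes `h'` modulo `A`, it centralizes `h'` -/
theorem comm_of_comm_mod (h' : G) (hh' : h' ∈ F) (hmem : x * h' * x⁻¹ * h'⁻¹ ∈ A) :
    x * h' = h' * x := by
  have hpow := comm_pow_left x h' (hxA _ hmem).symm (h.hAZ _ hmem h' hh') s
  rw [hxs] at hpow
  have h1 : (x * h' * x⁻¹ * h'⁻¹) ^ s = 1 := by rw [← hpow]; group
  have h2 := hsA _ hmem h1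
  calc x * h' = (x * h' * x⁻¹ * h'⁻¹) * (h' * x) := by group
    _ = h' * x := by rw [h2, one_mul]

omit [Finite G] in
include h hxA hxs hsA in
/-- **the centralizer of `x` in `F` is `A`**, provided it is abelian -/
theorem centralizer_eq_of_abelian
    (hab : ∀ f ∈ F, ∀ g ∈ F, f * x = x * f → g * x = x * g → f * g = g * f) :
    ∀ f ∈ F, f * x = x * f → f ∈ A := by
  intro f hf hfx
  by_contra hfA
  have hex : ∃ g ∈ F, f * g ≠ g * f := by
    by_contra hno
    push Not at hno
    exact hfA (h.hZ f hf hno)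
  obtain ⟨g, hg, hfg⟩ := hex
  have hcA : f * g * f⁻¹ * g⁻¹ ∈ A := h.hF2 f hf g hg
  have hne : f * g * f⁻¹ * g⁻¹ ≠ 1 := by
    intro h0
    apply hfg
    calc f * g = (f * g * f⁻¹ * g⁻¹) * (g * f) := by group
      _ = g * f := by rw [h0, one_mul]
  -- `[f, g_i] = c`
  have hfxi : ∀ i : ℕ, Commute f (x ^ i) := fun i => (Commute.pow_right hfx i)
  have hcxi : ∀ i : ℕ, Commute (x ^ i) (f * g * f⁻¹ * g⁻¹) :=
    fun i => Commute.pow_left (hxA _ hcA) i
  have hgi : ∀ i : ℕ, f * (x ^ i * g * (x ^ i)⁻¹) * f⁻¹ * (x ^ i * g * (x ^ i)⁻¹)⁻¹ =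
      f * g * f⁻¹ * g⁻¹ := by
    intro i
    have h1 : f * (x ^ i * g * (x ^ i)⁻¹) * f⁻¹ * (x ^ i * g * (x ^ i)⁻¹)⁻¹ =
        (f * x ^ i) * g * (f * x ^ i)⁻¹ * (x ^ i * g⁻¹ * (x ^ i)⁻¹) := by group
    rw [h1, (hfxi i).eq]
    calc (x ^ i * f) * g * (x ^ i * f)⁻¹ * (x ^ i * g⁻¹ * (x ^ i)⁻¹)
        = x ^ i * (f * g * f⁻¹ * g⁻¹) * (x ^ i)⁻¹ := by group
      _ = f * g * f⁻¹ * g⁻¹ := by rw [(hcxi i).eq, mul_inv_cancel_right]
  -- `[f, P i] = c ^ i`
  have hP : ∀ i : ℕ, f * prodConj x g i * f⁻¹ * (prodConj x g i)⁻¹ = (f * g * f⁻¹ * g⁻¹) ^ i := by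
    intro i
    induction i with
    | zero => simp [prodConj]
    | succ i ih =>
      show f * (prodConj x g i * (x ^ i * g * (x ^ i)⁻¹)) * f⁻¹ *
        (prodConj x g i * (x ^ i * g * (x ^ i)⁻¹))⁻¹ = _
      rw [comm_mul_right f (prodConj x g i) (x ^ i * g * (x ^ i)⁻¹), ih, hgi, pow_succ]
      rw [hgi]
      exact h.hAZ _ hcA _ (prodConj_mem F x g hg i)
  have hPs : prodConj x g s ∈ F := prodConj_mem F x g hg s
  -- `x` centralizes `P s` modulo `A`
  have hconj : x * prodConj x g s * x⁻¹ = g⁻¹ * prodConj x g s * g := by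
    rw [conj_prodConj]
    show g⁻¹ * (prodConj x g s * (x ^ s * g * (x ^ s)⁻¹)) = _
    rw [hxs]; group
  have hmem : x * prodConj x g s * x⁻¹ * (prodConj x g s)⁻¹ ∈ A := by
    rw [hconj]
    have := h.hF2 g⁻¹ (F.inv_mem hg) _ hPs
    rwa [inv_inv] at this
  have hcomm := comm_of_comm_mod h x hxA s hxs hsA _ hPs hmem
  have h1 := hab f hf _ hPs hfx hcomm.symm
  have h2 : (f * g * f⁻¹ * g⁻¹) ^ s = 1 := by
    rw [← hP, h1, mul_inv_cancel_right, mul_inv_cancel]
  exact hne (hsA _ hcA h2)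

end cent

section count
variable [Finite G] {A F : Subgroup G} (hAF : A ≤ F) [hFn : F.Normal]

omit [Finite G] hFn in
include hAF in
theorem card_F_eq : Nat.card F = Nat.card A * A.relIndex F := by
  have h1 := Subgroup.relIndex_mul_relIndex ⊥ A F bot_le hAF
  rw [Subgroup.relIndex_bot_left, Subgroup.relIndex_bot_left] at h1
  exact h1.symm

include hAF in
/-- counting the fixed points of conjugation by an element of prime order -/
theorem card_modEq_of_fixed (x : G) (s : ℕ) [hs : Fact s.Prime] (hxs : x ^ s = 1)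
    (hxA : ∀ a ∈ A, x * a = a * x) (hfix : ∀ f ∈ F, f * x = x * f → f ∈ A) :
    Nat.card F ≡ Nat.card A [MOD s] := by
  classical
  let _ : Fintype F := Fintype.ofFinite _
  let φ : Function.End F := fun f => ⟨x * f * x⁻¹, hFn.conj_mem f f.2 x⟩
  have hφ : ∀ (n : ℕ) (f : F), (((φ ^ n) f : F) : G) = x ^ n * f * (x ^ n)⁻¹ := by
    intro n
    induction n with
    | zero => intro f; rw [pow_zero, pow_zero, one_mul, inv_one, mul_one]; rfl
    | succ n ih =>
      intro f
      rw [pow_succ]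
      show (((φ ^ n) (φ f) : F) : G) = _
      rw [ih, pow_succ]
      show x ^ n * (x * f * x⁻¹) * (x ^ n)⁻¹ = _
      group
  have hφs : φ ^ s ^ 1 = 1 := by
    rw [pow_one]
    funext f
    apply Subtype.ext
    rw [hφ, hxs, one_mul, inv_one, mul_one]
    rfl
  have h1 := Equiv.Perm.card_fixedPoints_modEq (f := φ) (p := s) (n := 1) hφs
  have e : Function.fixedPoints φ ≃ A :=
    { toFun := fun f => ⟨(f.1 : G), hfix _ f.1.2 (by
        have := f.2
        rw [Function.mem_fixedPoints, Function.IsFixedPt] at this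
        have h2 : x * (f.1 : G) * x⁻¹ = (f.1 : G) := congrArg Subtype.val this
        calc (f.1 : G) * x = (x * (f.1 : G) * x⁻¹) * x := by rw [h2]
          _ = x * (f.1 : G) := by group)⟩
      invFun := fun a => ⟨⟨(a : G), hAF a.2⟩, by
        rw [Function.mem_fixedPoints, Function.IsFixedPt]
        apply Subtype.ext
        show x * (a : G) * x⁻¹ = a
        rw [hxA a a.2, mul_inv_cancel_right]⟩
      left_inv := fun f => rfl
      right_inv := fun a => rfl }
  rw [Nat.card_eq_fintype_card, ← Nat.card_congr e, Nat.card_eq_fintype_card]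
  exact h1

include hAF in
/-- a subgroup acting freely by conjugation on `F ∖ A` has order dividing `|F| - |A|` -/
theorem card_dvd_of_free [hAn : A.Normal] (P₀ : Subgroup G)
    (hfree : ∀ y ∈ P₀, y ≠ 1 → ∀ f ∈ F, f * y = y * f → f ∈ A) :
    Nat.card P₀ ∣ Nat.card F - Nat.card A := by
  classical
  let X := {f : G // f ∈ F ∧ f ∉ A}
  let act : MulAction P₀ X :=
    { smul := fun y f => ⟨(y : G) * f.1 * (y : G)⁻¹, hFn.conj_mem _ f.2.1 _, fun hmem => f.2.2 (by
        have := hAn.conj_mem _ hmem (y : G)⁻¹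
        rw [inv_inv] at this
        have h2 : (y : G)⁻¹ * ((y : G) * f.1 * (y : G)⁻¹) * (y : G) = f.1 := by group
        rwa [h2] at this)⟩
      one_smul := fun f => by
        apply Subtype.ext
        show ((1 : P₀) : G) * f.1 * ((1 : P₀) : G)⁻¹ = f.1
        simp
      mul_smul := fun y z f => by
        apply Subtype.ext
        show ((y * z : P₀) : G) * f.1 * ((y * z : P₀) : G)⁻¹ =
          (y : G) * ((z : G) * f.1 * (z : G)⁻¹) * (y : G)⁻¹
        rw [Subgroup.coe_mul]; group }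
  have hsmul : ∀ (y : P₀) (f : X), ((y • f : X) : G) = (y : G) * f.1 * (y : G)⁻¹ := fun y f => rfl
  have hstab : ∀ f : X, MulAction.stabilizer P₀ f = ⊥ := by
    intro f
    rw [Subgroup.eq_bot_iff_forall]
    intro y hy
    rw [MulAction.mem_stabilizer_iff] at hy
    by_contra hne
    have h1 : (y : G) * f.1 * (y : G)⁻¹ = f.1 := by rw [← hsmul, hy]
    have h2 : f.1 * (y : G) = (y : G) * f.1 := by
      calc f.1 * (y : G) = ((y : G) * f.1 * (y : G)⁻¹) * (y : G) := by rw [h1]
        _ = (y : G) * f.1 := by group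
    exact f.2.2 (hfree y y.2 (fun h0 => hne (Subtype.ext h0)) f.1 f.2.1 h2)
  have e := MulAction.selfEquivOrbitsQuotientProd hstab
  have h1 : Nat.card X = Nat.card (Quotient (MulAction.orbitRel P₀ X)) * Nat.card P₀ := by
    rw [Nat.card_congr e, Nat.card_prod]
  -- `|X| = |F| - |A|`
  have e2 : F ≃ A ⊕ X :=
    { toFun := fun f => if hf : (f : G) ∈ A then Sum.inl ⟨f, hf⟩ else Sum.inr ⟨f, f.2, hf⟩
      invFun := fun u => Sum.elim (fun a : A => (⟨(a : G), hAF a.2⟩ : F))
        (fun f : X => (⟨f.1, f.2.1⟩ : F)) u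
      left_inv := fun f => by
        by_cases hf : (f : G) ∈ A
        · simp [hf]
        · simp [hf]
      right_inv := fun u => by
        rcases u with a | f
        · simp
        · have := f.2.2
          simp [this] }
  have h2 : Nat.card F = Nat.card A + Nat.card X := by
    rw [Nat.card_congr e2, Nat.card_sum]
  rw [h2, Nat.add_sub_cancel_left, h1]
  exact Dvd.intro_left _ rfl

end count

section lin
variable {q : ℕ} [Fact q.Prime] {V : Type*} [AddCommGroup V] [Module (ZMod q) V] [Finite V]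
  [Nontrivial V] {G : Type*} [Group G] [Finite G] (ρ : G →* (V ≃ₗ[ZMod q] V))
  {K : Type*} [Field K] [Finite K] [Module K V]
  (hρ : Function.Injective ρ) {A F : Subgroup G} (h : Sympl A F) [hFn : F.Normal]
  (C : Subgroup G) (hFC : F ≤ C)
  (hlin : ∀ c ∈ C, ∀ (κ : K) (v : V), ρ c (κ • v) = κ • ρ c v)
  (hCA : ∀ c ∈ C, ∀ a ∈ A, c * a = a * c)
  (Q k : ℕ) (hQ : Nat.card K = Q) (hk : Module.finrank K V = k)
  (s : ℕ) [hs : Fact s.Prime] (hprim : ∀ j, 1 ≤ j → j < k → ¬ s ∣ Q ^ j - 1) (hsQ : ¬ s ∣ Q)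
  (hsA : ¬ s ∣ Nat.card A)

omit [Finite G] in
include hρ h hFC hlin hCA hQ hk hprim hsQ hsA in
/-- the centralizer in `F` of an element of primitive prime order is `A` -/
theorem centralizer_eq_of_ppd (x : G) (hxC : x ∈ C) (hxs : x ^ s = 1) (hx1 : x ≠ 1) :
    ∀ f ∈ F, f * x = x * f → f ∈ A := by
  apply centralizer_eq_of_abelian h x (hCA x hxC) s hxs
  · intro a ha has
    by_contra hne
    have hord : orderOf a = s := orderOf_eq_prime has hne
    have h2 := orderOf_dvd_natCard (⟨a, ha⟩ : A)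
    rw [Subgroup.orderOf_mk, hord] at h2
    exact hsA h2
  · intro f hf g hg hfx hgx
    exact comm_of_centralize ρ x (hlin x hxC) s hxs Q k hQ hk hprim hsQ hρ hx1 f g
      (hlin f (hFC hf)) (hlin g (hFC hg)) hfx hgx

include hρ h hFC hlin hCA hQ hk hprim hsQ hsA in
/-- **the primitive prime divisor argument** -/
theorem ppd_dvd [hAn : A.Normal] :
    (s ∣ Nat.card C → s ∣ A.relIndex F - 1) ∧
    (s ^ 2 ∣ Nat.card C → s ^ 2 ∣ A.relIndex F - 1) := by
  classical
  have hcardF := card_F_eq h.hAF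
  have hNpos : 0 < A.relIndex F :=
    Nat.pos_of_ne_zero (Subgroup.index_ne_zero_of_finite (H := A.subgroupOf F))
  have hcop : Nat.Coprime s (Nat.card A) := (Nat.Prime.coprime_iff_not_dvd hs.out).2 hsA
  have hsub : Nat.card F - Nat.card A = Nat.card A * (A.relIndex F - 1) := by
    rw [hcardF, Nat.mul_sub, mul_one]
  constructor
  · intro hdvd
    obtain ⟨x, hx⟩ := exists_prime_orderOf_dvd_card' (G := C) s hdvd
    have hxs : (x : G) ^ s = 1 := by
      have := pow_orderOf_eq_one x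
      rw [hx] at this
      have h2 := congrArg Subtype.val this
      simpa using h2
    have hx1 : (x : G) ≠ 1 := by
      intro h0
      have : x = 1 := Subtype.ext h0
      rw [this, orderOf_one] at hx
      exact hs.out.one_lt.ne hx
    have hfix := centralizer_eq_of_ppd ρ hρ h C hFC hlin hCA Q k hQ hk s hprim hsQ hsA
      (x : G) x.2 hxs hx1
    have hmod := card_modEq_of_fixed h.hAF (x : G) s hxs (hCA x x.2) hfix
    have hle : Nat.card A ≤ Nat.card F := by
      rw [hcardF]; exact Nat.le_mul_of_pos_right _ hNpos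
    have h1 : s ∣ Nat.card F - Nat.card A := (Nat.modEq_iff_dvd' hle).1 hmod.symm
    rw [hsub] at h1
    exact hcop.dvd_of_dvd_mul_left h1
  · intro hdvd
    obtain ⟨P, hP⟩ := Sylow.exists_subgroup_card_pow_prime (G := C) s hdvd
    have hPcard : Nat.card (P.map C.subtype) = s ^ 2 := by
      rw [← hP]
      exact (Nat.card_congr (Subgroup.equivMapOfInjective P C.subtype
        C.subtype_injective).toEquiv).symm
    have hfree : ∀ y ∈ P.map C.subtype, y ≠ 1 → ∀ f ∈ F, f * y = y * f → f ∈ A := by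
      intro y hy hy1 f hf hfy
      obtain ⟨y', hy', rfl⟩ := Subgroup.mem_map.1 hy
      have hyC : (C.subtype y' : G) ∈ C := y'.2
      have hpow : (C.subtype y' : G) ^ (s ^ 2) = 1 := by
        have h1 : (⟨y', hy'⟩ : P) ^ Nat.card P = 1 := pow_card_eq_one'
        rw [hP] at h1
        have h2 := congrArg (fun z : P => ((z : C) : G)) h1
        simpa using h2
      by_cases hys : (C.subtype y' : G) ^ s = 1
      · exact centralizer_eq_of_ppd ρ hρ h C hFC hlin hCA Q k hQ hk s hprim hsQ hsA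
          _ hyC hys hy1 f hf hfy
      · have hxs : ((C.subtype y' : G) ^ s) ^ s = 1 := by
          rw [← pow_mul, ← sq]; exact hpow
        have hfx : f * (C.subtype y' : G) ^ s = (C.subtype y' : G) ^ s * f :=
          (Commute.pow_right hfy s).eq
        exact centralizer_eq_of_ppd ρ hρ h C hFC hlin hCA Q k hQ hk s hprim hsQ hsA
          _ (C.pow_mem hyC s) hxs hys f hf hfx
    have h1 := card_dvd_of_free h.hAF (P.map C.subtype) hfree
    rw [hPcard, hsub] at h1
    exact (Nat.Coprime.pow_left 2 hcop).dvd_of_dvd_mul_left h1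

end lin

end Cfsg.Agent.Helper58.Hup
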