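import Mathlib
import Cfsg.Agent.Helper58.HupPpd

/-!
# Huppert's theorem: the case `|F : A| = 4` (helper58)
-/

set_option autoImplicit false

namespace Cfsg.Agent.Helper58.Hup

variable {G : Type*} [Group G]

/-- a group of permutations of a four-element set fixing a point has order dividing `6` -/
theorem card_dvd_six_of_fix {Y : Type*} [Finite Y] (hY : Nat.card Y = 4) (y₀ : Y)
    (H : Subgroup (Equiv.Perm Y)) (hH : ∀ σ ∈ H, σ y₀ = y₀) : Nat.card H ∣ 6 := by
  classical
  have hle : H ≤ MulAction.stabilizer (Equiv.Perm Y) y₀ := by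
    intro σ hσ
    rw [MulAction.mem_stabilizer_iff]
    exact hH σ hσ
  have h1 := Subgroup.card_dvd_of_le hle
  have h2 := Subgroup.card_mul_index (MulAction.stabilizer (Equiv.Perm Y) y₀)
  rw [MulAction.index_stabilizer_of_transitive, Nat.card_perm, hY] at h2
  have h3 : Nat.card (MulAction.stabilizer (Equiv.Perm Y) y₀) = 6 := by
    have : (4 : ℕ).factorial = 24 := by decide
    rw [this] at h2
    omega
  rwa [h3] at h1

/-- if `|F : A| = 4`, then `|C : F|` divides `6` -/
theorem relIndex_dvd_six [Finite G] {A F : Subgroup G} (h : Sympl A F) [hAn : A.Normal]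
    [hFn : F.Normal] {K : Type*} [Field K] (θ : A →* Kˣ) (hθ : Function.Injective θ)
    (C : Subgroup G) (hFC : F ≤ C) (hAC : ∀ a ∈ A, ∀ c ∈ C, a * c = c * a)
    (hCF : ∀ c ∈ C, (∀ f ∈ F, c * f = f * c) → c ∈ F)
    (h4 : A.relIndex F = 4) : F.relIndex C ∣ 6 := by
  classical
  let act : MulAction C (F ⧸ A.subgroupOf F) :=
    { smul := fun c => Quotient.map'
        (fun f : F => (⟨(c : G) * f * (c : G)⁻¹, hFn.conj_mem f f.2 c⟩ : F)) (by
          intro f₁ f₂ hrel
          rw [QuotientGroup.leftRel_apply, Subgroup.mem_subgroupOf] at hrel ⊢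
          have h1 : (((⟨(c : G) * f₁ * (c : G)⁻¹, hFn.conj_mem f₁ f₁.2 c⟩ : F)⁻¹ *
              (⟨(c : G) * f₂ * (c : G)⁻¹, hFn.conj_mem f₂ f₂.2 c⟩ : F) : F) : G) =
              (c : G) * ((f₁⁻¹ * f₂ : F) : G) * (c : G)⁻¹ := by
            show ((c : G) * f₁ * (c : G)⁻¹)⁻¹ * ((c : G) * f₂ * (c : G)⁻¹) =
              (c : G) * ((f₁ : G)⁻¹ * f₂) * (c : G)⁻¹
            group
          rw [h1]
          exact hAn.conj_mem _ hrel c)
      one_smul := fun y => by
        induction y using Quotient.inductionOn' with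
        | h f =>
          show Quotient.mk'' _ = Quotient.mk'' _
          congr 1
          apply Subtype.ext
          show ((1 : C) : G) * f * ((1 : C) : G)⁻¹ = f
          simp
      mul_smul := fun c c' y => by
        induction y using Quotient.inductionOn' with
        | h f =>
          show Quotient.mk'' _ = Quotient.mk'' _
          congr 1
          apply Subtype.ext
          show ((c * c' : C) : G) * f * ((c * c' : C) : G)⁻¹ =
            (c : G) * ((c' : G) * f * (c' : G)⁻¹) * (c : G)⁻¹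
          rw [Subgroup.coe_mul]; group }
  have hsmul : ∀ (c : C) (f : F), c • (QuotientGroup.mk f : F ⧸ A.subgroupOf F) =
      QuotientGroup.mk (⟨(c : G) * f * (c : G)⁻¹, hFn.conj_mem f f.2 c⟩ : F) := fun c f => rfl
  let φ : C →* Equiv.Perm (F ⧸ A.subgroupOf F) := MulAction.toPermHom C (F ⧸ A.subgroupOf F)
  have hφ : ∀ (c : C) (y : F ⧸ A.subgroupOf F), φ c y = c • y := fun c y => rfl
  -- the kernel is contained in `F`
  have hker : φ.ker ≤ F.subgroupOf C := by
    intro c hc
    rw [MonoidHom.mem_ker] at hc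
    rw [Subgroup.mem_subgroupOf]
    apply h.mem_of_comm_mem θ hθ C hFC hAC hCF (c : G) c.2
    intro f hf
    have h1 : φ c (QuotientGroup.mk (⟨f, hf⟩ : F)) = QuotientGroup.mk (⟨f, hf⟩ : F) := by
      rw [hc]; rfl
    rw [hφ, hsmul, QuotientGroup.eq, Subgroup.mem_subgroupOf] at h1
    have h2 : ((c : G) * f * (c : G)⁻¹)⁻¹ * f ∈ A := h1
    have h3 := hAn.conj_mem _ (A.inv_mem h2) f
    have h4' : f * (((c : G) * f * (c : G)⁻¹)⁻¹ * f)⁻¹ * f⁻¹ = (c : G) * f * (c : G)⁻¹ * f⁻¹ := by
      group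
    rwa [h4'] at h3
  have hidx : F.relIndex C ∣ φ.ker.index := Subgroup.index_dvd_of_le hker
  rw [Subgroup.index_ker] at hidx
  apply hidx.trans
  apply card_dvd_six_of_fix (Y := F ⧸ A.subgroupOf F) h4 (QuotientGroup.mk (1 : F))
  rintro σ ⟨c, rfl⟩
  rw [hφ, hsmul]
  congr 1
  apply Subtype.ext
  show (c : G) * ((1 : F) : G) * (c : G)⁻¹ = ((1 : F) : G)
  simp

end Cfsg.Agent.Helper58.Hup
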