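import Mathlib
import Cfsg.Agent.Helper58.FieldCore
import Cfsg.Agent.Helper58.HTBasic

/-!
# Semilinear groups: consequences of the field structure (helper58)
-/

set_option autoImplicit false

namespace Cfsg.Agent.Helper58.SL

open Cfsg.Agent.Helper58

universe u

/-- a group acting on a finite field of order `q^d` by ring automorphisms: the image is cyclic of
order dividing `d` -/
theorem index_ker_dvd {K : Type*} [Field K] [Finite K] (q d : ℕ) [hq : Fact q.Prime]
    (hK : Nat.card K = q ^ d) {H : Type*} [Group H] (Φ : H →* (K ≃+* K)) :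
    Φ.ker.index ∣ d ∧ IsCyclic Φ.range := by
  classical
  let _ : Fintype K := Fintype.ofFinite K
  have hKc : Fintype.card K = q ^ d := by rw [← Nat.card_eq_fintype_card]; exact hK
  have hchar : CharP K q := charP_of_card_eq_prime_pow hKc
  let _ : Algebra (ZMod q) K := ZMod.algebra K q
  let Φ' : H →* (K ≃ₐ[ZMod q] K) := (ringAutToGal K q).comp Φ
  have hker' : Φ'.ker = Φ.ker := by
    ext x
    rw [MonoidHom.mem_ker, MonoidHom.mem_ker, MonoidHom.comp_apply,
      ← map_one (ringAutToGal K q), (ringAutToGal_injective K q).eq_iff]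
  have hGalcard : Nat.card (K ≃ₐ[ZMod q] K) = d := by
    have h1 := Nat.card_congr (Equiv.ofBijective _
      (FiniteField.bijective_frobeniusAlgEquivOfAlgebraic_pow (ZMod q) K))
    rw [Nat.card_eq_fintype_card, Fintype.card_fin] at h1
    rw [← h1]
    have h2 : Nat.card K = Nat.card (ZMod q) ^ Module.finrank (ZMod q) K :=
      Module.natCard_eq_pow_finrank (K := ZMod q) (V := K)
    rw [hK, Nat.card_eq_fintype_card, ZMod.card] at h2
    exact (Nat.pow_right_injective hq.out.two_le h2).symm
  have hcycG : IsCyclic (K ≃ₐ[ZMod q] K) := inferInstance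
  constructor
  · rw [← hker', Subgroup.index_ker, ← hGalcard]
    exact Subgroup.card_subgroup_dvd_card _
  · -- `Φ.range` embeds in the cyclic Galois group
    let f : Φ.range →* (K ≃ₐ[ZMod q] K) := (ringAutToGal K q).comp Φ.range.subtype
    have hf : Function.Injective f := by
      intro a b hab
      apply Subtype.ext
      exact ringAutToGal_injective K q hab
    exact isCyclic_of_injective f hf

section abstract
variable {q : ℕ} [hq : Fact q.Prime] {V : Type u} [AddCommGroup V] [Module (ZMod q) V] [Finite V]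
  [Nontrivial V] {G : Type*} [Group G] [Finite G] (ρ : G →* (V ≃ₗ[ZMod q] V))
  {K : Type u} [Field K] [Finite K] [Module K V]

/-- the case of dimension one: the group is semilinear -/
theorem semilinear_of_card_eq (Φ : G →* (K ≃+* K)) (d : ℕ) (hK : Nat.card K = q ^ d)
    (hsl : ∀ (g : G) (k : K) (v : V), ρ g (k • v) = Φ g k • ρ g v)
    (hcard : Nat.card V = Nat.card K) :
    ∃ (F : Type) (_ : Field F) (_ : Fintype F) (e : V ≃+ F),
        ∀ g : G, ∃ (a : F) (σ : F ≃+* F), ∀ v : V, e (ρ g v) = a * σ (e v) := by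
  classical
  obtain ⟨v₀, hv₀⟩ := exists_ne (0 : V)
  let _ : Fintype K := Fintype.ofFinite K
  have hKc : Fintype.card K = q ^ d := by rw [← Nat.card_eq_fintype_card]; exact hK
  have hchar : CharP K q := charP_of_card_eq_prime_pow hKc
  let _ : Algebra (ZMod q) K := ZMod.algebra K q
  let ψ : K ≃+* GaloisField q d := (GaloisField.algEquivGaloisField q d hK).toRingEquiv
  -- evaluation at `v₀`
  let ε : K →+ V :=
    { toFun := fun k => k • v₀
      map_zero' := zero_smul K v₀
      map_add' := fun a b => add_smul a b v₀ }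
  have hεinj : Function.Injective ε := by
    intro a b hab
    have h1 : (a - b) • v₀ = 0 := by
      rw [sub_smul]
      exact sub_eq_zero.2 hab
    exact sub_eq_zero.1 ((smul_eq_zero.1 h1).resolve_right hv₀)
  have hεbij : Function.Bijective ε := hεinj.bijective_of_nat_card_le (by rw [hcard])
  let e₀ : K ≃+ V := AddEquiv.ofBijective ε hεbij
  have he₀ : ∀ k : K, e₀ k = k • v₀ := fun k => rfl
  let e : V ≃+ GaloisField q d := e₀.symm.trans ψ.toAddEquiv
  have he : ∀ v : V, e v = ψ (e₀.symm v) := fun v => rfl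
  refine ⟨GaloisField q d, inferInstance, Fintype.ofFinite _, e, ?_⟩
  intro g
  refine ⟨ψ (e₀.symm (ρ g v₀)), (ψ.symm.trans (Φ g)).trans ψ, ?_⟩
  intro v
  rw [he, he]
  set k := e₀.symm v with hk
  have hv : v = k • v₀ := by rw [← he₀, hk, AddEquiv.apply_symm_apply]
  set a₀ := e₀.symm (ρ g v₀) with ha₀
  have hgv₀ : ρ g v₀ = a₀ • v₀ := by rw [← he₀, ha₀, AddEquiv.apply_symm_apply]
  have h1 : ρ g v = (Φ g k * a₀) • v₀ := by
    rw [hv, hsl, hgv₀, smul_smul]
  have h2 : e₀.symm (ρ g v) = Φ g k * a₀ := by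
    rw [h1, ← he₀, AddEquiv.symm_apply_apply]
  rw [h2, map_mul, mul_comm]
  congr 1
  simp [RingEquiv.trans_apply]

/-- the order of `A` divides `q^d - 1`, and `A` is cyclic -/
theorem card_dvd_of_embedding (A : Subgroup G) (ι : G → K) (d : ℕ) (hK : Nat.card K = q ^ d)
    (hρ : Function.Injective ρ)
    (hmul : ∀ a ∈ A, ∀ b ∈ A, ι (a * b) = ι a * ι b) (hone : ι 1 = 1)
    (hinj : ∀ a ∈ A, ∀ b ∈ A, ι a = ι b → ρ a = ρ b) :
    Nat.card A ∣ q ^ d - 1 ∧ IsCyclic A := by
  classical
  let _ : Fintype K := Fintype.ofFinite K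
  have hunit : ∀ a : A, ι a * ι (a⁻¹ : A) = 1 := by
    intro a
    rw [← hmul _ a.2 _ (a⁻¹).2, Subgroup.coe_inv, mul_inv_cancel, hone]
  let f : A →* Kˣ :=
    { toFun := fun a => Units.mkOfMulEqOne (ι a) (ι (a⁻¹ : A)) (hunit a)
      map_one' := by
        apply Units.ext
        show ι ((1 : A) : G) = 1
        rw [Subgroup.coe_one, hone]
      map_mul' := fun a b => by
        apply Units.ext
        show ι ((a * b : A) : G) = ι a * ι b
        rw [Subgroup.coe_mul, hmul _ a.2 _ b.2] }
  have hf : Function.Injective f := by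
    intro a b hab
    have h1 : ι a = ι b := congrArg Units.val hab
    exact Subtype.ext (hρ (hinj _ a.2 _ b.2 h1))
  constructor
  · have h1 := Subgroup.card_dvd_of_injective f hf
    have h2 : Nat.card Kˣ = q ^ d - 1 := by
      rw [Nat.card_eq_fintype_card, Fintype.card_units, ← Nat.card_eq_fintype_card, hK]
    rwa [h2] at h1
  · exact isCyclic_of_subgroup_isDomain ((Units.coeHom K).comp f)
      (fun a b hab => hf (Units.ext hab))

omit [Finite V] [Nontrivial V] [Finite G] [Finite K] in
/-- the kernel of `Φ` is the centralizer of `A` -/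
theorem ker_eq_centralizer (A : Subgroup G) (Φ : G →* (K ≃+* K)) (hρ : Function.Injective ρ)
    (hker : ∀ g : G, Φ g = 1 ↔ ∀ a ∈ A, ρ (g * a * g⁻¹) = ρ a) :
    Φ.ker = Subgroup.centralizer (A : Set G) := by
  ext g
  rw [MonoidHom.mem_ker, hker, Subgroup.mem_centralizer_iff]
  constructor
  · intro h a ha
    have := hρ (h a ha)
    calc a * g = (g * a * g⁻¹) * g := by rw [this]
      _ = g * a := by group
  · intro h a ha
    have := h a ha
    congr 1
    calc g * a * g⁻¹ = (a * g) * g⁻¹ := by rw [this]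
      _ = a := by group

/-- a regular group on the nonzero vectors has order `|V| - 1` -/
theorem card_of_regular (htrans : ∀ v w : V, v ≠ 0 → w ≠ 0 → ∃ g : G, ρ g v = w)
    (hreg : ∀ v : V, v ≠ 0 → ∀ g : G, ρ g v = v → g = 1) :
    Nat.card G = Nat.card V - 1 := by
  classical
  obtain ⟨v₀, hv₀⟩ := exists_ne (0 : V)
  have h1 := HT.card_orb_mul_card_vecStab ρ v₀
  have h2 : Nat.card (vecStab ρ v₀) = 1 := by
    rw [Subgroup.card_eq_one, Subgroup.eq_bot_iff_forall]
    intro g hg
    exact hreg v₀ hv₀ g hg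
  rw [h2, mul_one] at h1
  rw [← h1]
  have h3 : HT.orb ρ v₀ = {x : V | x ≠ 0} := by
    ext w
    constructor
    · rintro ⟨g, rfl⟩
      exact fun h => hv₀ ((ρ g).map_eq_zero_iff.1 h)
    · intro hw
      exact htrans v₀ w hv₀ hw
  rw [h3]
  have := Fintype.ofFinite V
  rw [Nat.card_eq_fintype_card, Nat.card_eq_fintype_card]
  rw [show Fintype.card {x : V | x ≠ 0} = Fintype.card {x : V // x ≠ 0} from rfl,
    Fintype.card_subtype_compl, Fintype.card_subtype_eq]

end abstract

end Cfsg.Agent.Helper58.SL
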