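import Mathlib
import Cfsg.Agent.Helper58.SLCore

/-!
# Huppert's theorem: small auxiliary lemmas (helper58)
-/

set_option autoImplicit false

namespace Cfsg.Agent.Helper58.Hup

open Cfsg.Agent.Helper58

universe u

variable {q : ℕ} [hq : Fact q.Prime] {V : Type u} [AddCommGroup V] [Module (ZMod q) V] [Finite V]
  [Nontrivial V] {G : Type*} [Group G] [Finite G] (ρ : G →* (V ≃ₗ[ZMod q] V))
  {K : Type u} [Field K] [Finite K] [Module K V]

/-- a group transitive on the nonzero vectors has order divisible by `|V| - 1` -/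
theorem card_sub_one_dvd (htrans : ∀ v w : V, v ≠ 0 → w ≠ 0 → ∃ g : G, ρ g v = w) :
    Nat.card V - 1 ∣ Nat.card G := by
  classical
  obtain ⟨v₀, hv₀⟩ := exists_ne (0 : V)
  have h1 := HT.card_orb_mul_card_vecStab ρ v₀
  rw [← h1]
  have h3 : HT.orb ρ v₀ = {x : V | x ≠ 0} := by
    ext w
    constructor
    · rintro ⟨g, rfl⟩
      exact fun h => hv₀ ((ρ g).map_eq_zero_iff.1 h)
    · intro hw
      exact htrans v₀ w hv₀ hw
  rw [h3]
  have := Fintype.ofFinite V
  have h4 : Nat.card {x : V | x ≠ 0} = Nat.card V - 1 := by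
    rw [Nat.card_eq_fintype_card, Nat.card_eq_fintype_card]
    rw [show Fintype.card {x : V | x ≠ 0} = Fintype.card {x : V // x ≠ 0} from rfl,
      Fintype.card_subtype_compl, Fintype.card_subtype_eq]
  rw [h4]
  exact Dvd.intro _ rfl

omit [Finite V] [Finite G] [Finite K] in
/-- if `V` is one-dimensional over `K`, the `K`-linear part of `G` is abelian -/
theorem ker_comm_of_finrank_one' (Φ : G →* (K ≃+* K)) (hρ : Function.Injective ρ)
    (hsl : ∀ (g : G) (k : K) (v : V), ρ g (k • v) = Φ g k • ρ g v)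
    (h1 : Module.finrank K V = 1) :
    ∀ c ∈ Φ.ker, ∀ c' ∈ Φ.ker, c * c' = c' * c := by
  obtain ⟨v₀, hv₀⟩ := exists_ne (0 : V)
  have hspan := (finrank_eq_one_iff_of_nonzero' v₀ hv₀).1 h1
  have hscal : ∀ c ∈ Φ.ker, ∃ s : K, ∀ v : V, ρ c v = s • v := by
    intro c hc
    rw [MonoidHom.mem_ker] at hc
    obtain ⟨s, hs⟩ := hspan (ρ c v₀)
    refine ⟨s, fun v => ?_⟩
    obtain ⟨t, rfl⟩ := hspan v
    have h1' : (1 : K ≃+* K) t = t := rfl
    rw [hsl, hc, h1', ← hs, smul_smul, smul_smul, mul_comm]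
  intro c hc c' hc'
  obtain ⟨s, hs⟩ := hscal c hc
  obtain ⟨s', hs'⟩ := hscal c' hc'
  apply hρ
  ext v
  rw [map_mul, map_mul, LinearEquiv.mul_apply, LinearEquiv.mul_apply, hs, hs', hs', hs, smul_smul,
    smul_smul, mul_comm]

omit [Finite V] [Nontrivial V] [Finite G] [Finite K] [Module K V] in
/-- the embedding of `A` into the units of `K` -/
theorem exists_theta (A : Subgroup G) (ι : G → K) (hρ : Function.Injective ρ)
    (hmul : ∀ a ∈ A, ∀ b ∈ A, ι (a * b) = ι a * ι b) (hone : ι 1 = 1)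
    (hinj : ∀ a ∈ A, ∀ b ∈ A, ι a = ι b → ρ a = ρ b) :
    ∃ θ : A →* Kˣ, Function.Injective θ ∧ ∀ a : A, ((θ a : Kˣ) : K) = ι a := by
  have hunit : ∀ a : A, ι a * ι (a⁻¹ : A) = 1 := by
    intro a
    rw [← hmul _ a.2 _ (a⁻¹).2, Subgroup.coe_inv, mul_inv_cancel, hone]
  let f : A →* Kˣ :=
    { toFun := fun a => Units.mkOfMulEqOne (ι a) (ι (a⁻¹ : A)) (hunit a)
      map_one' := by
        apply Units.ext
        show ι ((1 : A) : G) = 1
        rw [Subgroup.coe_one, hone]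
      map_mul' := fun a b => by
        apply Units.ext
        show ι ((a * b : A) : G) = ι a * ι b
        rw [Subgroup.coe_mul, hmul _ a.2 _ b.2] }
  refine ⟨f, ?_, fun a => rfl⟩
  intro a b hab
  have h1 : ι a = ι b := congrArg Units.val hab
  exact Subtype.ext (hρ (hinj _ a.2 _ b.2 h1))

end Cfsg.Agent.Helper58.Hup
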