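import Mathlib
import Cfsg.Agent.Helper57.ZsigMain

/-!
# Huppert's theorem: the arithmetic endgame via large Zsigmondy primes (helper58)
-/

set_option autoImplicit false

namespace Cfsg.Agent.Helper58.Hup

open Cfsg.Agent.Helper57.Zsig

theorem num_ppd {q d k e : ℕ} (hq : q.Prime) (hd : 1 ≤ d) (hk : 3 ≤ k) (he2 : 2 ≤ e)
    (hek : e ≤ k)
    (hN1 : ∀ s : ℕ, s.Prime → ¬ s ∣ d → (∀ j, 1 ≤ j → j < k → ¬ s ∣ (q ^ d) ^ j - 1) →
      (s ∣ q ^ (d * k) - 1 → s ∣ e * e - 1) ∧ (s ^ 2 ∣ q ^ (d * k) - 1 → s ^ 2 ∣ e * e - 1))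
    (hN2 : ∀ r : ℕ, r.Prime → r ∣ e → r ∣ q ^ d - 1) :
    q = 3 ∧ d = 1 ∧ k = 4 := by
  have hq2 : 2 ≤ q := hq.two_le
  have hn3 : 3 ≤ d * k := by nlinarith
  have hkn : k ≤ d * k := Nat.le_mul_of_pos_left k hd
  -- the key consequence for primitive prime divisors
  have key : ∀ s : ℕ, s.Prime → s ∣ q ^ (d * k) - 1 →
      (∀ i, 0 < i → i < d * k → ¬ s ∣ q ^ i - 1) →
      s = d * k + 1 ∧ d = 1 ∧ e = k ∧ ¬ s ^ 2 ∣ q ^ (d * k) - 1 := by
    intro s hs hdvd hprim
    obtain ⟨-, hns⟩ := prime_dvd_cyc_of_primitive hs (by omega) hq2 hdvd hprim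
    have hs2 := hs.two_le
    have hle : d * k ≤ s - 1 := Nat.le_of_dvd (by omega) hns
    have hdn : d ≤ d * k := Nat.le_mul_of_pos_right d (by omega)
    have hsd : ¬ s ∣ d := Nat.not_dvd_of_pos_of_lt (by omega) (by omega)
    have hprim' : ∀ j, 1 ≤ j → j < k → ¬ s ∣ (q ^ d) ^ j - 1 := by
      intro j hj hjk
      rw [← pow_mul]
      apply hprim
      · exact Nat.mul_pos (by omega) (by omega)
      · exact Nat.mul_lt_mul_of_pos_left hjk (by omega)
    obtain ⟨h1, h2⟩ := hN1 s hs hsd hprim'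
    have h3 := h1 hdvd
    have hfac : e * e - 1 = (e - 1) * (e + 1) := by
      obtain ⟨e', rfl⟩ : ∃ e', e = e' + 1 := ⟨e - 1, by omega⟩
      rw [Nat.add_sub_cancel]
      have : (e' + 1) * (e' + 1) = e' * (e' + 1 + 1) + 1 := by ring
      rw [this, Nat.add_sub_cancel]
    rw [hfac] at h3
    have hse : s ≤ e + 1 := by
      rcases (Nat.Prime.dvd_mul hs).1 h3 with h4 | h4
      · have := Nat.le_of_dvd (by omega) h4
        omega
      · exact Nat.le_of_dvd (by omega) h4
    have hsn : s = d * k + 1 := by omega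
    have hek' : e = k := by omega
    have hd1 : d = 1 := by
      have hdk : d * k = k := by omega
      have : d * k = 1 * k := by rw [one_mul]; exact hdk
      exact Nat.eq_of_mul_eq_mul_right (by omega) this
    refine ⟨hsn, hd1, hek', ?_⟩
    intro hsq
    have h5 := h2 hsq
    have hes : e = s - 1 := by omega
    have hfac2 : e * e - 1 = s * (s - 2) := by
      obtain ⟨t, rfl⟩ : ∃ t, s = t + 2 := ⟨s - 2, by omega⟩
      rw [hes]
      have h6 : t + 2 - 1 = t + 1 := by omega
      have h7 : t + 2 - 2 = t := by omega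
      rw [h6, h7]
      have : (t + 1) * (t + 1) = (t + 2) * t + 1 := by ring
      rw [this, Nat.add_sub_cancel]
    rw [hfac2, sq] at h5
    have h8 : s ∣ s - 2 := Nat.dvd_of_mul_dvd_mul_left (by omega) h5
    have h9 := Nat.le_of_dvd (by omega) h8
    omega
  -- the pair `(q, d * k)` is exceptional
  have hexc : (q, d * k) ∈ exc := by
    by_contra hex
    obtain ⟨m, hm, hcop, hge⟩ := exists_primitive_divisor_ge hq2 hn3 hex
    have hm1 : m ≠ 1 := by omega
    have hppd : ∀ s : ℕ, s.Prime → s ∣ m → s = d * k + 1 ∧ ¬ s ^ 2 ∣ q ^ (d * k) - 1 := by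
      intro s hs hsm
      have := key s hs (hsm.trans hm) (by
        intro i hi hin hdvd
        have h1 := hcop i hi hin
        have h2 : s ∣ Nat.gcd m (q ^ i - 1) := Nat.dvd_gcd hsm hdvd
        rw [h1] at h2
        exact hs.one_lt.ne' (Nat.dvd_one.1 h2))
      exact ⟨this.1, this.2.2.2⟩
    obtain ⟨s, hs⟩ : ∃ s, s = m.minFac := ⟨_, rfl⟩
    have hsp : s.Prime := hs ▸ Nat.minFac_prime hm1
    have hsm : s ∣ m := hs ▸ Nat.minFac_dvd m
    obtain ⟨hs1, hs2⟩ := hppd s hsp hsm
    obtain ⟨m', hm'⟩ := hsm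
    by_cases hm'1 : m' = 1
    · rw [hm'1, mul_one] at hm'
      omega
    · obtain ⟨hs1', -⟩ := hppd m'.minFac (Nat.minFac_prime hm'1)
        ((Nat.minFac_dvd m').trans (Dvd.intro_left _ hm'.symm))
      apply hs2
      rw [sq]
      refine Dvd.dvd.trans ?_ hm
      rw [hm']
      apply Nat.mul_dvd_mul_left
      have : s = m'.minFac := by rw [hs1, hs1']
      rw [this]
      exact Nat.minFac_dvd m'
  -- a prime divisor of `e`
  have hr := hN2 e.minFac (Nat.minFac_prime (by omega)) (Nat.minFac_dvd e)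
  have hrp : 2 ≤ e.minFac := (Nat.minFac_prime (by omega)).two_le
  have hQ2 : ∀ hd1 : d = 1, q = 2 → False := by
    intro hd1 hq2'
    rw [hd1, hq2'] at hr
    have := Nat.le_of_dvd (by norm_num) hr
    omega
  simp only [exc, List.mem_cons, Prod.mk.injEq, List.mem_nil_iff, or_false] at hexc
  rcases hexc with ⟨rfl, hn⟩ | ⟨rfl, hn⟩ | ⟨rfl, hn⟩ | ⟨rfl, hn⟩ | ⟨rfl, hn⟩ | ⟨rfl, hn⟩ |
    ⟨rfl, hn⟩ | ⟨rfl, hn⟩ | ⟨rfl, hn⟩ | ⟨rfl, hn⟩ | ⟨rfl, hn⟩ | ⟨rfl, hn⟩ | ⟨rfl, hn⟩
  · -- (2, 6)
    exfalso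
    have hd6 : d ∣ 6 := Dvd.intro _ hn
    have hdle : d ≤ 2 := by nlinarith
    interval_cases d
    · exact hQ2 rfl rfl
    · have hk3 : k = 3 := by omega
      subst hk3
      have h7 := (hN1 7 (by norm_num) (by norm_num) (by
        intro j hj hjk
        interval_cases j <;> norm_num)).1 (by norm_num)
      interval_cases e <;> omega
  · -- (2, 4)
    exfalso
    rw [hn] at key
    obtain ⟨-, hd1, -, -⟩ := key 5 (by norm_num) (by norm_num) (by
      intro i hi hin
      interval_cases i <;> norm_num)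
    exact hQ2 hd1 rfl
  · -- (2, 10)
    exfalso
    rw [hn] at key
    obtain ⟨-, hd1, -, -⟩ := key 11 (by norm_num) (by norm_num) (by
      intro i hi hin
      interval_cases i <;> norm_num)
    exact hQ2 hd1 rfl
  · -- (2, 12)
    exfalso
    rw [hn] at key
    obtain ⟨-, hd1, -, -⟩ := key 13 (by norm_num) (by norm_num) (by
      intro i hi hin
      interval_cases i <;> norm_num)
    exact hQ2 hd1 rfl
  · -- (2, 18)
    exfalso
    rw [hn] at key
    obtain ⟨-, hd1, -, -⟩ := key 19 (by norm_num) (by norm_num) (by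
      intro i hi hin
      interval_cases i <;> norm_num)
    exact hQ2 hd1 rfl
  · -- (3, 4)
    rw [hn] at key
    obtain ⟨-, hd1, -, -⟩ := key 5 (by norm_num) (by norm_num) (by
      intro i hi hin
      interval_cases i <;> norm_num)
    subst hd1
    exact ⟨rfl, rfl, by omega⟩
  · -- (3, 6)
    exfalso
    rw [hn] at key
    obtain ⟨-, hd1, hek', -⟩ := key 7 (by norm_num) (by norm_num) (by
      intro i hi hin
      interval_cases i <;> norm_num)
    subst hd1
    have hk6 : k = 6 := by omega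
    have h3 := hN2 3 (by norm_num) (by rw [hek', hk6]; norm_num)
    norm_num at h3
  · -- (5, 6)
    exfalso
    rw [hn] at key
    obtain ⟨-, hd1, hek', -⟩ := key 7 (by norm_num) (by norm_num) (by
      intro i hi hin
      interval_cases i <;> norm_num)
    subst hd1
    have hk6 : k = 6 := by omega
    have h3 := hN2 3 (by norm_num) (by rw [hek', hk6]; norm_num)
    norm_num at h3
  · -- (2, 3)
    exfalso
    rw [hn] at key
    obtain ⟨h1, -, -, -⟩ := key 7 (by norm_num) (by norm_num) (by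
      intro i hi hin
      interval_cases i <;> norm_num)
    omega
  · -- (2, 8)
    exfalso
    rw [hn] at key
    obtain ⟨h1, -, -, -⟩ := key 17 (by norm_num) (by norm_num) (by
      intro i hi hin
      interval_cases i <;> norm_num)
    omega
  · -- (2, 20)
    exfalso
    rw [hn] at key
    obtain ⟨h1, -, -, -⟩ := key 41 (by norm_num) (by norm_num) (by
      intro i hi hin
      interval_cases i <;> norm_num)
    omega
  · -- (4, 3)
    exfalso
    norm_num at hq
  · -- (4, 6)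
    exfalso
    norm_num at hq

end Cfsg.Agent.Helper58.Hup
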