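import Mathlib
import Cfsg.Agent.Helper58.HTBasic

/-!
# Group-theoretic lemmas for fixed-point-free solvable linear groups (helper58)
-/

set_option autoImplicit false

namespace Cfsg.Agent.Helper58.SL

open Cfsg.Agent.Helper58

/-- a maximal normal abelian subgroup -/
theorem exists_max_abelian_normal (G : Type*) [Group G] [Finite G] :
    ∃ A : Subgroup G, A.Normal ∧ (∀ a ∈ A, ∀ b ∈ A, a * b = b * a) ∧
      ∀ B : Subgroup G, B.Normal → (∀ a ∈ B, ∀ b ∈ B, a * b = b * a) → A ≤ B → B = A := by
  classical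
  let S : Set (Subgroup G) := {B | B.Normal ∧ ∀ a ∈ B, ∀ b ∈ B, a * b = b * a}
  have hS : S.Finite := Set.toFinite S
  have hne : S.Nonempty := ⟨⊥, inferInstance, by
    intro a ha b hb
    rw [Subgroup.mem_bot] at ha hb
    rw [ha, hb]⟩
  obtain ⟨A, hA, hmax⟩ := Set.exists_max_image S (fun B => Nat.card B) hS hne
  refine ⟨A, hA.1, hA.2, ?_⟩
  intro B hBn hBc hAB
  have h1 := hmax B ⟨hBn, hBc⟩
  exact (Subgroup.eq_of_le_of_card_ge hAB h1).symm

/-- a cyclic group of even order has a subgroup of index 2 -/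
theorem exists_index_two_of_cyclic {P : Type*} [Group P] [Finite P] (hc : IsCyclic P)
    (h2 : 2 ∣ Nat.card P) : ∃ M : Subgroup P, M.index = 2 := by
  obtain ⟨g, hg⟩ := hc.exists_generator
  have ho : orderOf g = Nat.card P := orderOf_eq_card_of_forall_mem_zpowers hg
  refine ⟨Subgroup.zpowers (g ^ 2), ?_⟩
  have h1 : Nat.card (Subgroup.zpowers (g ^ 2)) = Nat.card P / 2 := by
    rw [Nat.card_zpowers, orderOf_pow, ho, Nat.gcd_eq_right h2]
  have h3 := Subgroup.card_mul_index (Subgroup.zpowers (g ^ 2))
  rw [h1] at h3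
  obtain ⟨k, hk⟩ := h2
  have hk0 : 0 < k := by
    rcases k with _ | k
    · rw [mul_zero] at hk
      have := Nat.card_pos (α := P)
      omega
    · omega
  rw [hk, Nat.mul_div_cancel_left k (by norm_num)] at h3
  have : k * (Subgroup.zpowers (g ^ 2)).index = k * 2 := by rw [h3, mul_comm]
  exact Nat.eq_of_mul_eq_mul_left hk0 this

/-- a group with a cyclic quotient of even order has a normal subgroup of index 2 -/
theorem exists_index_two_of_hom {G H : Type*} [Group G] [Group H] [Finite G] (Φ : G →* H)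
    (hc : IsCyclic Φ.range) (h2 : 2 ∣ Nat.card Φ.range) :
    ∃ N : Subgroup G, N.Normal ∧ N.index = 2 := by
  have : Finite Φ.range := Finite.of_surjective Φ.rangeRestrict Φ.rangeRestrict_surjective
  obtain ⟨M, hM⟩ := exists_index_two_of_cyclic hc h2
  refine ⟨M.comap Φ.rangeRestrict, ?_, ?_⟩
  · have : M.Normal := Subgroup.normal_of_index_eq_two hM
    exact Subgroup.Normal.comap this _
  · rw [Subgroup.index_comap_of_surjective _ Φ.rangeRestrict_surjective, hM]

/-- a finite group of even order with cyclic Sylow `2`-subgroups has a normal subgroup of index 2 -/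
theorem exists_index_two_of_cyclic_sylow {X : Type*} [Group X] [Finite X] (P : Sylow 2 X)
    (hP : IsCyclic P) (h2 : 2 ∣ Nat.card X) : ∃ N : Subgroup X, N.Normal ∧ N.index = 2 := by
  have hmin : (Nat.card X).minFac = 2 := (Nat.minFac_eq_two_iff _).2 h2
  have hcompl := IsCyclic.isComplement' hmin hP
  set T := MonoidHom.transferSylow P (hP.normalizer_le_centralizer hmin) with hT
  have hcard : Nat.card T.ker * Nat.card P = Nat.card X := hcompl.card_mul_card
  have hrange : Nat.card T.range = Nat.card P := by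
    have h1 := Subgroup.card_mul_index T.ker
    rw [Subgroup.index_ker] at h1
    have hpos : 0 < Nat.card T.ker := Nat.card_pos
    have : Nat.card T.ker * Nat.card T.range = Nat.card T.ker * Nat.card P := by rw [h1, hcard]
    exact Nat.eq_of_mul_eq_mul_left hpos this
  have hsurj : Function.Surjective T := by
    rw [← MonoidHom.range_eq_top]
    exact Subgroup.eq_top_of_card_eq _ hrange
  have h2P : 2 ∣ Nat.card P := by
    have := P.card_eq_multiplicity
    rw [this]
    apply dvd_pow_self
    have hX : Nat.card X ≠ 0 := Nat.card_pos.ne'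
    intro h
    have h3 := (Nat.factorization_eq_zero_iff _ _).1 h
    rcases h3 with h3 | h3 | h3
    · exact h3 Nat.prime_two
    · exact h3 h2
    · exact hX h3
  obtain ⟨M, hM⟩ := exists_index_two_of_cyclic hP h2P
  refine ⟨M.comap T, ?_, ?_⟩
  · have : M.Normal := Subgroup.normal_of_index_eq_two hM
    exact Subgroup.Normal.comap this _
  · rw [Subgroup.index_comap_of_surjective _ hsurj, hM]

section reg
variable {q : ℕ} [Fact q.Prime] {V : Type*} [AddCommGroup V] [Module (ZMod q) V] [Nontrivial V]
  {G : Type*} [Group G] [Finite G] (ρ : G →* (V ≃ₗ[ZMod q] V))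

/-- in a fixed-point-free linear group every `p`-subgroup has a unique subgroup of order `p` -/
theorem uniqueOrderP_of_regular (hreg : ∀ v : V, v ≠ 0 → ∀ g : G, ρ g v = v → g = 1)
    (p : ℕ) [hp : Fact p.Prime] (P : Subgroup G) (hP : IsPGroup p P) :
    Cfsg.Agent.Helper73.UniqueOrderP p P := by
  let ρ' : P →* (V ≃ₗ[ZMod q] V) := ρ.comp P.subtype
  have hsr : ∀ v : V, v ≠ 0 → ∀ g : P, ρ' g v = v → g = 1 := by
    intro v hv g hg
    exact Subtype.ext (hreg v hv g hg)
  by_cases hqp : q = p
  · subst hqp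
    have hpk : ((q : ℕ) : ZMod q) = 0 := ZMod.natCast_self q
    obtain ⟨v, hv, hfix⟩ := LinP.exists_fixed_ne_zero ρ' q hpk hP
    intro x y hx _
    exfalso
    have : x = 1 := hsr v hv x (hfix x)
    rw [this, orderOf_one] at hx
    exact hp.out.ne_one hx.symm
  · exact HT.uniqueOrderP_of_semiregular ρ' p hqp hP hsr

end reg

end Cfsg.Agent.Helper58.SL
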