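import Mathlib
import Cfsg.Agent.Helper58.SLCore
import Cfsg.Agent.Helper58.SLGrp1

/-!
# Auxiliary lemmas for the two cases of Zassenhaus' theorem (helper58)
-/

set_option autoImplicit false

namespace Cfsg.Agent.Helper58.SL

universe u

section abstract
variable {q : ℕ} [hq : Fact q.Prime] {V : Type u} [AddCommGroup V] [Module (ZMod q) V] [Finite V]
  [Nontrivial V] {G : Type*} [Group G] [Finite G] (ρ : G →* (V ≃ₗ[ZMod q] V))
  {K : Type u} [Field K] [Finite K] [Module K V]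

/-- if `V` is one-dimensional over `K`, the `K`-linear part of `G` is abelian -/
theorem ker_comm_of_finrank_one (Φ : G →* (K ≃+* K))
    (hreg : ∀ v : V, v ≠ 0 → ∀ g : G, ρ g v = v → g = 1)
    (hsl : ∀ (g : G) (k : K) (v : V), ρ g (k • v) = Φ g k • ρ g v)
    (h1 : Module.finrank K V = 1) :
    ∀ c ∈ Φ.ker, ∀ c' ∈ Φ.ker, c * c' = c' * c := by
  obtain ⟨v₀, hv₀⟩ := exists_ne (0 : V)
  have hspan := (finrank_eq_one_iff_of_nonzero' v₀ hv₀).1 h1
  intro c hc c' hc'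
  obtain ⟨s, hs⟩ := hspan (ρ c v₀)
  obtain ⟨s', hs'⟩ := hspan (ρ c' v₀)
  rw [MonoidHom.mem_ker] at hc hc'
  have e1 : ρ (c * c') v₀ = (s' * s) • v₀ := by
    have h1' : (1 : K ≃+* K) s' = s' := rfl
    rw [map_mul, LinearEquiv.mul_apply, ← hs', hsl, hc, h1', ← hs, smul_smul]
  have e2 : ρ (c' * c) v₀ = (s * s') • v₀ := by
    have h1' : (1 : K ≃+* K) s = s := rfl
    rw [map_mul, LinearEquiv.mul_apply, ← hs, hsl, hc', h1', ← hs', smul_smul]
  have e3 : ρ (c * c') v₀ = ρ (c' * c) v₀ := by rw [e1, e2, mul_comm]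
  have e4 : ρ ((c' * c)⁻¹ * (c * c')) v₀ = v₀ := by
    rw [map_mul, LinearEquiv.mul_apply, e3, ← LinearEquiv.mul_apply, ← map_mul, inv_mul_cancel,
      map_one]
    rfl
  have e5 := hreg v₀ hv₀ _ e4
  exact (inv_mul_eq_one.1 e5).symm

end abstract

theorem num_case_one {d q k : ℕ} (hd : 1 ≤ d) (hq : 2 ≤ q) (hk : 2 ≤ k)
    (hdvd : (q ^ (d * k) - 1) ∣ d * (q ^ d - 1)) : False := by
  have hQ : 2 ≤ q ^ d := by
    calc 2 ≤ q := hq
      _ = q ^ 1 := (pow_one q).symm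
      _ ≤ q ^ d := Nat.pow_le_pow_right (by omega) hd
  have hpos : 0 < d * (q ^ d - 1) := Nat.mul_pos (by omega) (by omega)
  have hle := Nat.le_of_dvd hpos hdvd
  have hdq : d < q ^ d := Nat.lt_pow_self (by omega)
  have h2 : q ^ d * q ^ d ≤ q ^ (d * k) := by
    rw [← pow_add]
    apply Nat.pow_le_pow_right (by omega)
    nlinarith
  have h3 : d * (q ^ d - 1) + q ^ d ≤ q ^ d * q ^ d := by
    obtain ⟨Y, hY⟩ : ∃ Y, q ^ d = Y + 1 := ⟨q ^ d - 1, by omega⟩
    rw [hY, Nat.add_sub_cancel]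
    have : d ≤ Y := by omega
    nlinarith
  generalize q ^ (d * k) = X at *
  generalize d * (q ^ d - 1) = M at *
  generalize q ^ d * q ^ d = N at *
  omega

/-- if the image of `Φ` has odd order and its kernel is cyclic, Sylow `2`-subgroups are cyclic -/
theorem sylow_two_cyclic_of_odd {G H : Type*} [Group G] [Finite G] [Group H] (Φ : G →* H)
    (hodd : ¬ 2 ∣ Nat.card Φ.range) (hcyc : IsCyclic Φ.ker) (P : Sylow 2 G) : IsCyclic P := by
  haveI : Fact (Nat.Prime 2) := ⟨Nat.prime_two⟩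
  have hfin : Finite Φ.range := Finite.of_surjective Φ.rangeRestrict Φ.rangeRestrict_surjective
  have hle : (P : Subgroup G) ≤ Φ.ker := by
    intro x hx
    rw [MonoidHom.mem_ker]
    obtain ⟨j, hj⟩ := (IsPGroup.iff_orderOf.1 P.isPGroup') ⟨x, hx⟩
    rw [Subgroup.orderOf_mk] at hj
    have h1 : orderOf (Φ x) ∣ 2 ^ j := by rw [← hj]; exact orderOf_map_dvd Φ x
    have h2 : orderOf (Φ x) ∣ Nat.card Φ.range := by
      have := orderOf_dvd_natCard (⟨Φ x, ⟨x, rfl⟩⟩ : Φ.range)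
      rwa [← Subgroup.orderOf_coe] at this
    have hcop : Nat.Coprime (2 ^ j) (Nat.card Φ.range) :=
      Nat.Coprime.pow_left j ((Nat.Prime.coprime_iff_not_dvd Nat.prime_two).2 hodd)
    have h3 : orderOf (Φ x) = 1 := Nat.eq_one_of_dvd_coprimes hcop h1 h2
    exact orderOf_eq_one_iff.1 h3
  exact isCyclic_of_injective (Subgroup.inclusion hle) (Subgroup.inclusion_injective hle)

end Cfsg.Agent.Helper58.SL
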