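import Mathlib

/-!
# The field generated by a normal abelian subgroup of a transitive linear group (helper58)
-/

set_option autoImplicit false

namespace Cfsg.Agent.Helper58.SL

universe u

section field
variable {q : ℕ} [Fact q.Prime] {V : Type u} [AddCommGroup V] [Module (ZMod q) V]
  {G : Type*} [Group G] (ρ : G →* (V ≃ₗ[ZMod q] V))

/-- `ρ g` as an endomorphism -/
def rE (g : G) : Module.End (ZMod q) V := ((ρ g : V ≃ₗ[ZMod q] V) : V →ₗ[ZMod q] V)

theorem rE_apply (g : G) (v : V) : rE ρ g v = ρ g v := rfl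

theorem rE_mul (g h : G) : rE ρ (g * h) = rE ρ g * rE ρ h := by
  ext v
  simp [rE, map_mul]

theorem rE_one : rE ρ (1 : G) = 1 := by
  ext v
  simp [rE]

theorem rE_inv_mul (g : G) : rE ρ g⁻¹ * rE ρ g = 1 := by
  rw [← rE_mul, inv_mul_cancel, rE_one]

theorem rE_mul_inv (g : G) : rE ρ g * rE ρ g⁻¹ = 1 := by
  rw [← rE_mul, mul_inv_cancel, rE_one]

/-- the subring generated by the image of `A` -/
def ringOf (A : Subgroup G) : Subring (Module.End (ZMod q) V) :=
  Subring.closure ((rE ρ) '' (A : Set G))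

theorem rE_mem_ringOf (A : Subgroup G) {a : G} (ha : a ∈ A) : rE ρ a ∈ ringOf ρ A :=
  Subring.subset_closure ⟨a, ha, rfl⟩

theorem ringOf_comm (A : Subgroup G) (hAc : ∀ a ∈ A, ∀ b ∈ A, a * b = b * a) :
    ∀ x ∈ ringOf ρ A, ∀ y ∈ ringOf ρ A, x * y = y * x := by
  have hScomm : ∀ x ∈ (rE ρ) '' (A : Set G), ∀ y ∈ (rE ρ) '' (A : Set G), x * y = y * x := by
    rintro _ ⟨a, ha, rfl⟩ _ ⟨b, hb, rfl⟩
    rw [← rE_mul, ← rE_mul, hAc a ha b hb]
  intro x hx y hy
  induction hx, hy using Subring.closure_induction₂ with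
  | mem_mem x y hx hy => exact hScomm x hx y hy
  | zero_left x hx => simp
  | zero_right x hx => simp
  | one_left x hx => simp
  | one_right x hx => simp
  | neg_left x y hx hy h => rw [neg_mul, mul_neg, h]
  | neg_right x y hx hy h => rw [neg_mul, mul_neg, h]
  | add_left x y z hx hy hz h1 h2 => rw [add_mul, mul_add, h1, h2]
  | add_right x y z hx hy hz h1 h2 => rw [add_mul, mul_add, h1, h2]
  | mul_left x y z hx hy hz h1 h2 => rw [mul_assoc, h2, ← mul_assoc, h1, mul_assoc]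
  | mul_right x y z hx hy hz h1 h2 => rw [← mul_assoc, h1, mul_assoc, h2, ← mul_assoc]

theorem ringOf_conj (A : Subgroup G) [hAn : A.Normal] (g : G) :
    ∀ x ∈ ringOf ρ A, rE ρ g * x * rE ρ g⁻¹ ∈ ringOf ρ A := by
  have e1' : ∀ (h : G) (z : Module.End (ZMod q) V), rE ρ h⁻¹ * (rE ρ h * z) = z := fun h z => by
    rw [← mul_assoc, rE_inv_mul, one_mul]
  intro x hx
  induction hx using Subring.closure_induction with
  | mem x hx =>
    obtain ⟨t, ht, rfl⟩ := hx
    rw [← rE_mul, ← rE_mul]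
    exact rE_mem_ringOf ρ A (hAn.conj_mem t ht g)
  | zero => rw [mul_zero, zero_mul]; exact Subring.zero_mem _
  | one => rw [mul_one, rE_mul_inv]; exact Subring.one_mem _
  | add x y hx hy h1 h2 => rw [mul_add, add_mul]; exact Subring.add_mem _ h1 h2
  | neg x hx h1 => rw [mul_neg, neg_mul]; exact Subring.neg_mem _ h1
  | mul x y hx hy h1 h2 =>
    have : rE ρ g * (x * y) * rE ρ g⁻¹ = (rE ρ g * x * rE ρ g⁻¹) * (rE ρ g * y * rE ρ g⁻¹) := by
      simp only [mul_assoc, e1']
    rw [this]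
    exact Subring.mul_mem _ h1 h2

/-- the annihilator of `v` in the ring -/
def ann (A : Subgroup G) (v : V) : Set (Module.End (ZMod q) V) := {k | k ∈ ringOf ρ A ∧ k v = 0}

theorem ann_conj [Finite V] (A : Subgroup G) [hAn : A.Normal] (g : G) (v : V) :
    (ann ρ A (ρ g v)).ncard = (ann ρ A v).ncard := by
  have himg : ann ρ A (ρ g v) = (fun k => rE ρ g * k * rE ρ g⁻¹) '' ann ρ A v := by
    ext k
    constructor
    · rintro ⟨hk, hkv⟩
      refine ⟨rE ρ g⁻¹ * k * rE ρ g, ⟨?_, ?_⟩, ?_⟩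
      · have := ringOf_conj ρ A g⁻¹ k hk
        rwa [inv_inv] at this
      · show rE ρ g⁻¹ (k (rE ρ g v)) = 0
        rw [rE_apply ρ g v, hkv, map_zero]
      · show rE ρ g * (rE ρ g⁻¹ * k * rE ρ g) * rE ρ g⁻¹ = k
        calc rE ρ g * (rE ρ g⁻¹ * k * rE ρ g) * rE ρ g⁻¹
            = (rE ρ g * rE ρ g⁻¹) * k * (rE ρ g * rE ρ g⁻¹) := by simp only [mul_assoc]
          _ = k := by rw [rE_mul_inv, one_mul, mul_one]
    · rintro ⟨k', ⟨hk', hk'v⟩, rfl⟩
      refine ⟨ringOf_conj ρ A g k' hk', ?_⟩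
      show rE ρ g (k' (rE ρ g⁻¹ (ρ g v))) = 0
      have : rE ρ g⁻¹ (ρ g v) = v := by
        have := LinearMap.congr_fun (rE_inv_mul ρ g) v
        simpa [rE_apply] using this
      rw [this, hk'v, map_zero]
  rw [himg]
  apply Set.ncard_image_of_injective
  intro k₁ k₂ h
  have h' : rE ρ g * k₁ * rE ρ g⁻¹ = rE ρ g * k₂ * rE ρ g⁻¹ := h
  calc k₁ = rE ρ g⁻¹ * (rE ρ g * k₁ * rE ρ g⁻¹) * rE ρ g := by
        simp only [mul_assoc, rE_inv_mul, mul_one]
        rw [← mul_assoc, rE_inv_mul, one_mul]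
    _ = rE ρ g⁻¹ * (rE ρ g * k₂ * rE ρ g⁻¹) * rE ρ g := by rw [h']
    _ = k₂ := by
        simp only [mul_assoc, rE_inv_mul, mul_one]
        rw [← mul_assoc, rE_inv_mul, one_mul]

/-- nonzero elements of the ring are injective -/
theorem ringOf_inj [Finite V] (A : Subgroup G) [hAn : A.Normal]
    (hAc : ∀ a ∈ A, ∀ b ∈ A, a * b = b * a)
    (htrans : ∀ v w : V, v ≠ 0 → w ≠ 0 → ∃ g : G, ρ g v = w) :
    ∀ x ∈ ringOf ρ A, x ≠ 0 → ∀ v, x v = 0 → v = 0 := by
  classical
  have hfinE : Finite (Module.End (ZMod q) V) := DFunLike.finite _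
  have hcomm := ringOf_comm ρ A hAc
  have hcard : ∀ v w : V, v ≠ 0 → w ≠ 0 → (ann ρ A v).ncard = (ann ρ A w).ncard := by
    intro v w hv hw
    obtain ⟨g, rfl⟩ := htrans v w hv hw
    exact (ann_conj ρ A g v).symm
  have hsub : ∀ v w : V, v ≠ 0 → w ≠ 0 → ann ρ A v ⊆ ann ρ A w → ann ρ A v = ann ρ A w := by
    intro v w hv hw hsub
    exact Set.eq_of_subset_of_ncard_le hsub (hcard v w hv hw).ge (Set.toFinite _)
  have heq : ∀ v w : V, v ≠ 0 → w ≠ 0 → ann ρ A v = ann ρ A w := by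
    intro v w hv hw
    by_cases hcase : ∃ k₁ ∈ ringOf ρ A, ∃ k₂ ∈ ringOf ρ A, k₁ v = k₂ w ∧ k₁ v ≠ 0
    · obtain ⟨k₁, hk₁, k₂, hk₂, he, hne⟩ := hcase
      have h1 : ann ρ A v = ann ρ A (k₁ v) := by
        apply hsub v (k₁ v) hv hne
        rintro k ⟨hk, hkv⟩
        refine ⟨hk, ?_⟩
        have := LinearMap.congr_fun (hcomm k hk k₁ hk₁) v
        rw [Module.End.mul_apply, Module.End.mul_apply, hkv, map_zero] at this
        exact this
      have h2 : ann ρ A w = ann ρ A (k₁ v) := by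
        rw [he]
        apply hsub w (k₂ w) hw (he ▸ hne)
        rintro k ⟨hk, hkw⟩
        refine ⟨hk, ?_⟩
        have := LinearMap.congr_fun (hcomm k hk k₂ hk₂) w
        rw [Module.End.mul_apply, Module.End.mul_apply, hkw, map_zero] at this
        exact this
      rw [h1, h2]
    · push Not at hcase
      have hvw : v + w ≠ 0 := by
        intro h
        have h1 : (1 : Module.End (ZMod q) V) v = (-1 : Module.End (ZMod q) V) w := by
          simp only [Module.End.one_apply, LinearMap.neg_apply]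
          exact eq_neg_of_add_eq_zero_left h
        have := hcase 1 (Subring.one_mem _) (-1) (Subring.neg_mem _ (Subring.one_mem _)) h1
        exact hv (by simpa using this)
      have h1 : ann ρ A (v + w) = ann ρ A v := by
        apply hsub (v + w) v hvw hv
        rintro k ⟨hk, hkvw⟩
        refine ⟨hk, ?_⟩
        have h2 : k v = (-k) w := by
          rw [map_add] at hkvw
          rw [LinearMap.neg_apply]
          exact eq_neg_of_add_eq_zero_left hkvw
        exact hcase k hk (-k) (Subring.neg_mem _ hk) h2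
      have h2 : ann ρ A (v + w) = ann ρ A w := by
        apply hsub (v + w) w hvw hw
        rintro k ⟨hk, hkvw⟩
        refine ⟨hk, ?_⟩
        have h2 : k v = (-k) w := by
          rw [map_add] at hkvw
          rw [LinearMap.neg_apply]
          exact eq_neg_of_add_eq_zero_left hkvw
        have h3 := hcase k hk (-k) (Subring.neg_mem _ hk) h2
        rw [map_add, h3, zero_add] at hkvw
        exact hkvw
      rw [← h1, h2]
  intro x hx hx0 v hxv
  by_contra hv0
  apply hx0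
  ext w
  by_cases hw0 : w = 0
  · rw [hw0, map_zero, map_zero]
  · have : x ∈ ann ρ A w := by
      rw [← heq v w hv0 hw0]
      exact ⟨hx, hxv⟩
    rw [this.2]; rfl

/-- **The field generated by a normal abelian subgroup of a transitive linear group.** -/
theorem exists_field [Finite V] [Nontrivial V] (A : Subgroup G) [hAn : A.Normal]
    (hAc : ∀ a ∈ A, ∀ b ∈ A, a * b = b * a)
    (htrans : ∀ v w : V, v ≠ 0 → w ≠ 0 → ∃ g : G, ρ g v = w) :
    ∃ (K : Type u) (_ : Field K) (_ : Finite K) (_ : Module K V) (Φ : G →* (K ≃+* K)) (ι : G → K)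
      (d : ℕ), 1 ≤ d ∧ Nat.card K = q ^ d ∧
      (∀ a ∈ A, ∀ v : V, ρ a v = ι a • v) ∧
      (∀ (g : G) (k : K) (v : V), ρ g (k • v) = Φ g k • ρ g v) ∧
      (∀ g : G, ∀ a ∈ A, Φ g (ι a) = ι (g * a * g⁻¹)) ∧
      (∀ g : G, Φ g = 1 ↔ ∀ a ∈ A, ρ (g * a * g⁻¹) = ρ a) ∧
      (∀ a ∈ A, ∀ b ∈ A, ι (a * b) = ι a * ι b) ∧ ι 1 = 1 ∧
      (∀ a ∈ A, ∀ b ∈ A, ι a = ι b → ρ a = ρ b) := by
  classical
  obtain ⟨v₀, hv₀⟩ := exists_ne (0 : V)
  have hcomm := ringOf_comm ρ A hAc
  have hinj := ringOf_inj ρ A hAc htrans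
  set R : Subring (Module.End (ZMod q) V) := ringOf ρ A with hR
  have hnzd : NoZeroDivisors R := ⟨fun {a b} hab => by
    by_contra hne
    push Not at hne
    apply hne.2
    apply Subtype.ext
    apply LinearMap.ext
    intro v
    have h1 : (a.1 * b.1) v = 0 := by
      have := congrArg Subtype.val hab
      rw [Subring.coe_mul] at this
      rw [this]; rfl
    exact hinj a.1 a.2 (fun h => hne.1 (Subtype.ext h)) _ h1⟩
  have hnt : Nontrivial R := ⟨⟨0, 1, fun h => hv₀ (by
      have := congrArg (fun a : R => a.1 v₀) h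
      simpa using this.symm)⟩⟩
  have hdom : IsDomain R := NoZeroDivisors.to_isDomain R
  have hfinE : Finite (Module.End (ZMod q) V) := DFunLike.finite _
  have hfinR : Finite R := inferInstance
  let instC : CommRing R := { (inferInstance : Ring R) with
    mul_comm := fun a b => Subtype.ext (hcomm a.1 a.2 b.1 b.2) }
  let _ : Fintype R := Fintype.ofFinite R
  let instF : Field R := Fintype.fieldOfDomain R
  let instM : Module R V := Module.compHom V (Subring.subtype R)
  have hsmul : ∀ (k : R) (v : V), k • v = k.1 v := fun k v => rfl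
  -- conjugation
  have hconj := ringOf_conj ρ A
  have e1' : ∀ (h : G) (z : Module.End (ZMod q) V), rE ρ h⁻¹ * (rE ρ h * z) = z := fun h z => by
    rw [← mul_assoc, rE_inv_mul, one_mul]
  have e2' : ∀ (h : G) (z : Module.End (ZMod q) V), rE ρ h * (rE ρ h⁻¹ * z) = z := fun h z => by
    rw [← mul_assoc, rE_mul_inv, one_mul]
  let σ : G → (R ≃+* R) := fun h =>
    { toFun := fun a => ⟨rE ρ h * a.1 * rE ρ h⁻¹, hconj h a.1 a.2⟩
      invFun := fun a => ⟨rE ρ h⁻¹ * a.1 * rE ρ h, by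
        have := hconj h⁻¹ a.1 a.2
        rwa [inv_inv] at this⟩
      left_inv := fun a => Subtype.ext (by
        show rE ρ h⁻¹ * (rE ρ h * a.1 * rE ρ h⁻¹) * rE ρ h = a.1
        simp only [mul_assoc, e1', rE_inv_mul, mul_one])
      right_inv := fun a => Subtype.ext (by
        show rE ρ h * (rE ρ h⁻¹ * a.1 * rE ρ h) * rE ρ h⁻¹ = a.1
        simp only [mul_assoc, e2', rE_mul_inv, mul_one])
      map_mul' := fun a b => Subtype.ext (by
        show rE ρ h * (a.1 * b.1) * rE ρ h⁻¹ = (rE ρ h * a.1 * rE ρ h⁻¹) * (rE ρ h * b.1 * rE ρ h⁻¹)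
        simp only [mul_assoc, e1'])
      map_add' := fun a b => Subtype.ext (by
        show rE ρ h * (a.1 + b.1) * rE ρ h⁻¹ = (rE ρ h * a.1 * rE ρ h⁻¹) + (rE ρ h * b.1 * rE ρ h⁻¹)
        rw [mul_add, add_mul]) }
  have hσ : ∀ (h : G) (a : R), ((σ h a : R) : Module.End (ZMod q) V) = rE ρ h * a.1 * rE ρ h⁻¹ :=
    fun h a => rfl
  let Φ : G →* (R ≃+* R) :=
    { toFun := σ
      map_one' := by
        ext a : 2
        rw [hσ]
        simp [rE_one]
      map_mul' := fun g h => by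
        ext a : 2
        rw [hσ]
        show rE ρ (g * h) * a.1 * rE ρ (g * h)⁻¹ = rE ρ g * (rE ρ h * a.1 * rE ρ h⁻¹) * rE ρ g⁻¹
        rw [mul_inv_rev, rE_mul, rE_mul]
        simp only [mul_assoc] }
  have hΦ : ∀ (h : G) (a : R), ((Φ h a : R) : Module.End (ZMod q) V) = rE ρ h * a.1 * rE ρ h⁻¹ :=
    fun h a => rfl
  let ι : G → R := fun a => if h : a ∈ A then ⟨rE ρ a, rE_mem_ringOf ρ A h⟩ else 0
  have hι : ∀ a (h : a ∈ A), ι a = ⟨rE ρ a, rE_mem_ringOf ρ A h⟩ := fun a h => dif_pos h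
  -- the cardinality
  have hq0 : ((q : ℕ) : R) = 0 := by
    apply Subtype.ext
    rw [Subring.coe_natCast]
    ext v
    have : ((q : ℕ) : Module.End (ZMod q) V) v = (q : ℕ) • v := by
      rw [← nsmul_one, LinearMap.smul_apply, Module.End.one_apply]
    rw [this, ← Nat.cast_smul_eq_nsmul (ZMod q), ZMod.natCast_self, zero_smul]
    rfl
  have hchar : CharP R q := by
    obtain ⟨p', hp'⟩ := CharP.exists R
    have hdvd : p' ∣ q := (CharP.cast_eq_zero_iff R p' q).1 hq0
    rcases (Nat.dvd_prime (Fact.out : q.Prime)).1 hdvd with h1 | h1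
    · exfalso
      subst h1
      exact CharP.char_ne_one R 1 rfl
    · subst h1; exact hp'
  obtain ⟨n, -, hcard⟩ := FiniteField.card R q
  have e1 : ∀ h : G, rE ρ h⁻¹ * rE ρ h = 1 := rE_inv_mul ρ
  refine ⟨R, instF, hfinR, instM, Φ, ι, (n : ℕ), n.pos, ?_, ?_, ?_, ?_, ?_, ?_, ?_, ?_⟩
  · rw [Nat.card_eq_fintype_card]; exact hcard
  · intro a ha v
    rw [hsmul, hι a ha]
    rfl
  · intro g k v
    rw [hsmul, hsmul, hΦ]
    show ρ g (k.1 v) = rE ρ g (k.1 (rE ρ g⁻¹ (ρ g v)))
    have : rE ρ g⁻¹ (ρ g v) = v := by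
      have := LinearMap.congr_fun (e1 g) v
      simpa [rE_apply] using this
    rw [this]; rfl
  · intro g a ha
    apply Subtype.ext
    rw [hΦ, hι a ha, hι _ (hAn.conj_mem a ha g)]
    show rE ρ g * rE ρ a * rE ρ g⁻¹ = rE ρ (g * a * g⁻¹)
    rw [rE_mul, rE_mul]
  · intro g
    constructor
    · intro hg a ha
      have h1 : Φ g (ι a) = ι a := by rw [hg]; rfl
      have h2 := congrArg Subtype.val h1
      rw [hΦ, hι a ha] at h2
      have h3 : rE ρ (g * a * g⁻¹) = rE ρ a := by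
        rw [rE_mul, rE_mul]; exact h2
      ext v
      have := LinearMap.congr_fun h3 v
      exact this
    · intro hg
      ext k : 2
      rw [hΦ]
      obtain ⟨k, hk⟩ := k
      show rE ρ g * k * rE ρ g⁻¹ = k
      induction hk using Subring.closure_induction with
      | mem x hx =>
        obtain ⟨t, ht, rfl⟩ := hx
        rw [← rE_mul, ← rE_mul]
        have := hg t ht
        ext v
        have h4 := congrArg (fun f : V ≃ₗ[ZMod q] V => f v) this
        exact h4
      | zero => rw [mul_zero, zero_mul]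
      | one => rw [mul_one, rE_mul_inv]
      | add x y hx hy h1 h2 => rw [mul_add, add_mul, h1, h2]
      | neg x hx h1 => rw [mul_neg, neg_mul, h1]
      | mul x y hx hy h1 h2 =>
        have : rE ρ g * (x * y) * rE ρ g⁻¹ = (rE ρ g * x * rE ρ g⁻¹) * (rE ρ g * y * rE ρ g⁻¹) := by
          simp only [mul_assoc, e1']
        rw [this, h1, h2]
  · intro a ha b hb
    rw [hι a ha, hι b hb, hι _ (A.mul_mem ha hb)]
    apply Subtype.ext
    show rE ρ (a * b) = rE ρ a * rE ρ b
    exact rE_mul ρ a b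
  · rw [hι 1 A.one_mem]
    apply Subtype.ext
    exact rE_one ρ
  · intro a ha b hb hab
    rw [hι a ha, hι b hb] at hab
    have h2 : rE ρ a = rE ρ b := congrArg Subtype.val hab
    ext v
    exact LinearMap.congr_fun h2 v

end field

end Cfsg.Agent.Helper58.SL
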