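import Mathlib

/-!
# Number theory for Zassenhaus' theorem (helper58)
-/

set_option autoImplicit false

namespace Cfsg.Agent.Helper58.SL

/-- boolean check -/
def numChk (d q k : ℕ) : Bool :=
  !(decide (1 ≤ d) && decide (3 ≤ q) && decide (2 ≤ k) && decide (q % 2 = 1) &&
    decide ((24 * d * (q ^ d - 1)) % (q ^ (d * k) - 1) = 0)) ||
  (decide (d = 1) && decide (k = 2) &&
    (decide (q = 3) || decide (q = 5) || decide (q = 7) || decide (q = 11) || decide (q = 23)))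

theorem num_brute_bool : ∀ d < 5, ∀ q < 96, ∀ k < 6, numChk d q k = true := by
  decide

theorem num_brute {d q k : ℕ} (hd5 : d < 5) (hq : q < 96) (hk : k < 6) (hd : 1 ≤ d) (hq3 : 3 ≤ q)
    (hk2 : 2 ≤ k) (hodd : q % 2 = 1) (hdvd : (q ^ (d * k) - 1) ∣ 24 * d * (q ^ d - 1)) :
    d = 1 ∧ k = 2 ∧ (q = 3 ∨ q = 5 ∨ q = 7 ∨ q = 11 ∨ q = 23) := by
  have h := num_brute_bool d hd5 q hq k hk
  unfold numChk at h
  have hmod : (24 * d * (q ^ d - 1)) % (q ^ (d * k) - 1) = 0 := Nat.mod_eq_zero_of_dvd hdvd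
  simp only [hd, hq3, hk2, hodd, hmod, decide_true, Bool.and_self, Bool.not_true, Bool.false_or,
    Bool.and_eq_true, Bool.or_eq_true, decide_eq_true_eq] at h
  obtain ⟨⟨h1, h2⟩, h3⟩ := h
  refine ⟨h1, h2, ?_⟩
  tauto

theorem pow_three_gt (d : ℕ) (hd : 5 ≤ d) : 24 * d + 1 < 3 ^ d := by
  induction d, hd using Nat.le_induction with
  | base => norm_num
  | succ n hn ih => rw [pow_succ]; omega

/-- the numerical heart of Zassenhaus' theorem -/
theorem num_main {d q k : ℕ} (hd : 1 ≤ d) (hq3 : 3 ≤ q) (hk2 : 2 ≤ k) (hodd : q % 2 = 1)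
    (hdvd : (q ^ (d * k) - 1) ∣ 24 * d * (q ^ d - 1)) :
    d = 1 ∧ k = 2 ∧ (q = 3 ∨ q = 5 ∨ q = 7 ∨ q = 11 ∨ q = 23) := by
  have hQ3 : 3 ≤ q ^ d := by
    calc 3 ≤ q := hq3
      _ = q ^ 1 := (pow_one q).symm
      _ ≤ q ^ d := Nat.pow_le_pow_right (by omega) hd
  have hpos : 0 < 24 * d * (q ^ d - 1) := by
    apply Nat.mul_pos (by omega); omega
  have hle := Nat.le_of_dvd hpos hdvd
  -- `q ^ (d * (k - 1)) ≤ 24 * d`
  have hk' : d * k = d * (k - 1) + d := by
    rw [← Nat.mul_succ]; congr 1; omega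
  have hpk : q ^ (d * k) = q ^ (d * (k - 1)) * q ^ d := by rw [hk', pow_add]
  have hb1 : q ^ (d * (k - 1)) ≤ 24 * d := by
    by_contra hlt
    push Not at hlt
    have h1 : (24 * d + 1) * q ^ d ≤ q ^ (d * (k - 1)) * q ^ d := Nat.mul_le_mul_right _ hlt
    rw [← hpk] at h1
    have h2 : 24 * d * (q ^ d - 1) + 24 * d = 24 * d * q ^ d := by
      have : q ^ d = (q ^ d - 1) + 1 := by omega
      nth_rewrite 2 [this]; ring
    have h3 : (24 * d + 1) * q ^ d = 24 * d * q ^ d + q ^ d := by ring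
    rw [h3] at h1
    generalize q ^ (d * k) = X at *
    generalize 24 * d * (q ^ d - 1) = M at *
    generalize 24 * d * q ^ d = N at *
    omega
  -- `q ^ d ≤ 24 * d`
  have hb2 : q ^ d ≤ 24 * d := by
    calc q ^ d = q ^ (d * 1) := by rw [mul_one]
      _ ≤ q ^ (d * (k - 1)) := Nat.pow_le_pow_right (by omega) (Nat.mul_le_mul_left _ (by omega))
      _ ≤ 24 * d := hb1
  have hd5 : d < 5 := by
    by_contra h
    push Not at h
    have h1 := pow_three_gt d h
    have h2 : 3 ^ d ≤ q ^ d := Nat.pow_le_pow_left hq3 d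
    omega
  have hq96 : q < 96 := by
    have : q ≤ q ^ d := by
      calc q = q ^ 1 := (pow_one q).symm
        _ ≤ q ^ d := Nat.pow_le_pow_right (by omega) hd
    omega
  have hk6 : k < 6 := by
    by_contra h
    push Not at h
    have h1 : 3 ^ 5 ≤ q ^ (d * (k - 1)) := by
      calc 3 ^ 5 ≤ q ^ 5 := Nat.pow_le_pow_left hq3 5
        _ ≤ q ^ (d * (k - 1)) := Nat.pow_le_pow_right (by omega) (by nlinarith)
    have : (3 : ℕ) ^ 5 = 243 := by norm_num
    omega
  exact num_brute hd5 hq96 hk6 hd hq3 hk2 hodd hdvd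

end Cfsg.Agent.Helper58.SL
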