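/-
Helper58: strong form of Huppert's theorem (S3360): in the exceptional case `|V| = 81` we also
record a normal `2`-subgroup `T` of order dividing `32` with `C_G(T) ≤ T`.
-/
import Mathlib
import Cfsg.Agent.Helper58.SLField
import Cfsg.Agent.Helper58.SLCore
import Cfsg.Agent.Helper58.SLGrp1
import Cfsg.Agent.Helper58.SLNum
import Cfsg.Agent.Helper58.SLCase
import Cfsg.Agent.Helper58.HupK2
import Cfsg.Agent.Helper58.HupNum
import Cfsg.Agent.Helper58.HupMisc

set_option autoImplicit false

namespace Cfsg.Agent.Helper58.Hup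

open Cfsg.Agent.Helper58.SL

/-- Strong form of Huppert's theorem. -/
theorem huppert_strong
    (q : ℕ) [Fact q.Prime] {V : Type*} [AddCommGroup V] [Module (ZMod q) V] [Finite V] [Nontrivial V]
    {G : Type*} [Group G] [Finite G] (hsol : Group.IsSolvable G)
    (ρ : G →* (V ≃ₗ[ZMod q] V)) (hρ : Function.Injective ρ)
    (htrans : ∀ v w : V, v ≠ 0 → w ≠ 0 → ∃ g : G, ρ g v = w) :
    (∃ (F : Type) (_ : Field F) (_ : Fintype F) (e : V ≃+ F),
        ∀ g : G, ∃ (a : F) (σ : F ≃+* F), ∀ v : V, e (ρ g v) = a * σ (e v)) ∨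
    Nat.card V ∈ ({9, 25, 49, 121, 529} : Set ℕ) ∨
    (Nat.card V = 81 ∧ ∃ T : Subgroup G, T.Normal ∧ Nat.card T ∣ 32 ∧
      Subgroup.centralizer (T : Set G) ≤ T) := by
  classical
  have hqp : q.Prime := Fact.out
  obtain ⟨A, hAn, hAc, hmax⟩ := exists_max_abelian_normal G
  haveI := hAn
  obtain ⟨K, fK, finK, modK, Φ, ι, d, hd, hK, hscal, hsl, hΦι, hker, hιmul, hι1, hιinj⟩ :=
    exists_field ρ A hAc htrans
  have hcardG := card_sub_one_dvd ρ htrans
  have hkerC := ker_eq_centralizer ρ A Φ hρ hker
  obtain ⟨hidx, hcyc⟩ := index_ker_dvd q d hK Φ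
  obtain ⟨hAdvd, hAcyc⟩ := card_dvd_of_embedding ρ A ι d hK hρ hιmul hι1 hιinj
  have hVK : Nat.card V = Nat.card K ^ Module.finrank K V := Module.natCard_eq_pow_finrank
  obtain ⟨k, hk⟩ : ∃ k, k = Module.finrank K V := ⟨_, rfl⟩
  rw [← hk, hK, ← pow_mul] at hVK
  have hV1 : 1 < Nat.card V := Finite.one_lt_card
  have hk0 : k ≠ 0 := by
    rintro rfl
    rw [mul_zero, pow_zero] at hVK; omega
  have hq2 : 2 ≤ q := hqp.two_le
  have hGC := Subgroup.card_mul_index Φ.ker
  have hAC : A ≤ Subgroup.centralizer (A : Set G) := by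
    intro a ha; rw [Subgroup.mem_centralizer_iff]; intro b hb; exact hAc b hb a ha
  rw [hVK] at hcardG
  by_cases hCA : Subgroup.centralizer (A : Set G) = A
  · -- Case I: `A` is self-centralizing
    have hkerA : Φ.ker = A := by rw [hkerC, hCA]
    have hk1 : k = 1 := by
      by_contra hk1
      have hk2 : 2 ≤ k := by omega
      apply num_case_one hd hq2 hk2
      refine hcardG.trans ?_
      rw [← hGC, mul_comm]
      apply Nat.mul_dvd_mul hidx
      rw [hkerA]; exact hAdvd
    have hVcard : Nat.card V = Nat.card K := by rw [hVK, hk1, mul_one, hK]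
    exact Or.inl (semilinear_of_card_eq ρ Φ d hK hsl hVcard)
  · -- Case II: `A` is not self-centralizing
    right
    have hk2 : 2 ≤ k := by
      by_contra hlt
      have hk1 : k = 1 := by omega
      apply hCA
      have hcomm := ker_comm_of_finrank_one' ρ Φ hρ hsl (by rw [← hk, hk1])
      rw [hkerC] at hcomm
      exact hmax _ inferInstance hcomm hAC
    obtain ⟨F, hFn, hAF, hFC, hF2, hFmax⟩ := exists_max_class_two A hAc
    haveI := hFn
    have hZ := center_F_eq A hmax F hAF hFC
    have hCF := centralizer_F_le A hAc hmax F hAF hFC hF2 hFmax hsol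
    have hsym : Sympl A F := ⟨hAF, fun a ha f hf => by
      have := hFC hf
      rw [Subgroup.mem_centralizer_iff] at this
      exact this a ha, hF2, hZ⟩
    obtain ⟨C, hC⟩ : ∃ C, C = Subgroup.centralizer (A : Set G) := ⟨_, rfl⟩
    rw [← hC] at hFC hCF hkerC hAC hCA
    have hAC' : ∀ a ∈ A, ∀ c ∈ C, a * c = c * a := by
      intro a ha c hc
      rw [hC, Subgroup.mem_centralizer_iff] at hc
      exact hc a ha
    have hCA' : ∀ c ∈ C, ∀ a ∈ A, c * a = a * c := fun c hc a ha => (hAC' a ha c hc).symm
    have hlin : ∀ c ∈ C, ∀ (κ : K) (v : V), ρ c (κ • v) = κ • ρ c v := by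
      intro c hc κ v
      rw [← hkerC, MonoidHom.mem_ker] at hc
      rw [hsl, hc]; rfl
    have hCF' : ∀ c ∈ C, (∀ f ∈ F, c * f = f * c) → c ∈ F := by
      intro c hc hcf
      apply hCF
      refine Subgroup.mem_inf.2 ⟨hc, ?_⟩
      rw [Subgroup.mem_centralizer_iff]
      intro f hf
      exact (hcf f hf).symm
    obtain ⟨θ, hθ, -⟩ := exists_theta ρ A ι hρ hιmul hι1 hιinj
    have hιinj' : ∀ a ∈ A, ∀ b ∈ A, ι a = ι b → a = b :=
      fun a ha b hb hab => hρ (hιinj a ha b hb hab)
    obtain ⟨e, he⟩ := hsym.exists_sq θ hθ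
    have hNk : A.relIndex F ≤ Module.finrank K V * Module.finrank K V :=
      relIndex_le_sq ρ A F hsym ι hscal hιinj' (fun f hf => hlin f (hFC hf))
    rw [← hk, he] at hNk
    have hFA : F ≠ A := by
      intro hFA
      apply hCA
      apply le_antisymm _ hAC
      intro c hc
      rw [← hFA]
      apply hCF' c hc
      intro f hf
      rw [hFA] at hf
      exact hCA' c hc f hf
    have hN1 : A.relIndex F ≠ 1 := by
      intro h1
      exact hFA (le_antisymm (Subgroup.relIndex_eq_one.1 h1) hAF)
    have hNpos : 0 < A.relIndex F :=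
      Nat.pos_of_ne_zero (Subgroup.index_ne_zero_of_finite (H := A.subgroupOf F))
    have he2 : 2 ≤ e := by
      by_contra hlt
      have : e = 0 ∨ e = 1 := by omega
      rcases this with rfl | rfl
      · omega
      · omega
    have hek : e ≤ k := Nat.mul_self_le_mul_self_iff.1 hNk
    rw [hkerC] at hGC
    have hidx' : C.index ∣ d := by rw [← hkerC]; exact hidx
    have hcardF := card_F_eq hAF
    by_cases hk3 : 3 ≤ k
    · -- the case `k ≥ 3`
      have hfin : q = 3 ∧ d = 1 ∧ k = 4 := by
        apply num_ppd hqp hd hk3 he2 hek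
        · intro s hs hsd hprim
          haveI : Fact s.Prime := ⟨hs⟩
          have hsidx : ¬ s ∣ C.index := fun h' => hsd (h'.trans hidx')
          have main : s ∣ q ^ (d * k) - 1 →
              (s ∣ Nat.card C → s ∣ A.relIndex F - 1) ∧
              (s ^ 2 ∣ Nat.card C → s ^ 2 ∣ A.relIndex F - 1) := by
            intro hdvd
            have hsQ : ¬ s ∣ q ^ d := by
              intro h'
              have h1 : s ∣ q := hs.dvd_of_dvd_pow h'
              have h2 : s ∣ q ^ (d * k) := h1.trans (dvd_pow_self q (Nat.mul_ne_zero (by omega) hk0))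
              have h3 : 1 ≤ q ^ (d * k) := Nat.one_le_pow _ _ (by omega)
              have h4 : s ∣ 1 := by
                have := (Nat.dvd_sub (m := q ^ (d * k)) (n := q ^ (d * k) - 1) h2 hdvd)
                rwa [Nat.sub_sub_self h3] at this
              exact hs.one_lt.ne' (Nat.dvd_one.1 h4)
            have hsA : ¬ s ∣ Nat.card A := by
              intro h'
              apply hprim 1 le_rfl (by omega)
              rw [pow_one]
              exact h'.trans hAdvd
            exact ppd_dvd ρ hρ hsym C hFC hlin hCA' (q ^ d) k hK hk.symm s hprim hsQ hsA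
          constructor
          · intro hdvd
            have h1 : s ∣ Nat.card C * C.index := by rw [hGC]; exact hdvd.trans hcardG
            have h2 : s ∣ Nat.card C := by
              rcases (Nat.Prime.dvd_mul hs).1 h1 with h | h
              · exact h
              · exact absurd h hsidx
            have := (main hdvd).1 h2
            rwa [he] at this
          · intro hdvd
            have hdvd1 : s ∣ q ^ (d * k) - 1 := (dvd_pow_self s (by norm_num)).trans hdvd
            have h1 : s ^ 2 ∣ Nat.card C * C.index := by rw [hGC]; exact hdvd.trans hcardG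
            have hcop : Nat.Coprime (s ^ 2) C.index :=
              Nat.Coprime.pow_left 2 ((Nat.Prime.coprime_iff_not_dvd hs).2 hsidx)
            have h2 : s ^ 2 ∣ Nat.card C := hcop.dvd_of_dvd_mul_right h1
            have := (main hdvd1).2 h2
            rwa [he] at this
        · intro r hr hre
          haveI : Fact r.Prime := ⟨hr⟩
          have h1 : r ∣ A.relIndex F := by rw [he]; exact hre.trans (Dvd.intro _ rfl)
          exact (hsym.prime_dvd_card r h1).trans hAdvd
      obtain ⟨rfl, rfl, rfl⟩ := hfin
      right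
      refine ⟨by rw [hVK]; norm_num, F, hFn, ?_, ?_⟩
      · -- `|F| ∣ 32`
        rw [hcardF, he]
        have hA2 : Nat.card A ∣ 2 := by simpa using hAdvd
        have he3 : e ≠ 3 := by
          rintro rfl
          haveI : Fact (Nat.Prime 3) := ⟨Nat.prime_three⟩
          have h1 : 3 ∣ A.relIndex F := by rw [he]; exact Dvd.intro _ rfl
          have h3 := (hsym.prime_dvd_card 3 h1).trans hA2
          omega
        have hA12 : Nat.card A = 1 ∨ Nat.card A = 2 := by
          have := Nat.le_of_dvd (by norm_num) hA2
          have hpos : 0 < Nat.card A := Nat.card_pos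
          omega
        have he24 : e = 2 ∨ e = 4 := by omega
        rcases hA12 with h | h <;> rcases he24 with rfl | rfl <;> rw [h] <;> norm_num
      · -- `C_G(F) ≤ F`
        intro c hc
        rw [Subgroup.mem_centralizer_iff] at hc
        apply hCF' c
        · rw [hC, Subgroup.mem_centralizer_iff]
          intro a ha
          exact hc a (hAF ha)
        · intro f hf
          exact (hc f hf).symm
    · -- the case `k = 2`
      have hk2' : k = 2 := by omega
      subst hk2'
      have he2' : e = 2 := by omega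
      subst he2'
      haveI : Fact (Nat.Prime 2) := ⟨Nat.prime_two⟩
      have h2A : 2 ∣ Nat.card A := hsym.prime_dvd_card 2 (by rw [he]; norm_num)
      have h2Q : 2 ∣ q ^ d - 1 := h2A.trans hAdvd
      have hqodd : q % 2 = 1 := by
        rcases hqp.eq_two_or_odd with h | h
        · exfalso
          rw [h] at h2Q
          have h2 : 2 ∣ 2 ^ d := dvd_pow_self 2 (by omega)
          have h1 : 0 < 2 ^ d := by positivity
          omega
        · exact h
      have hq3 : 3 ≤ q := by omega
      have h6 : F.relIndex C ∣ 6 := relIndex_dvd_six hsym θ hθ C hFC hAC' hCF' he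
      have hCcard : Nat.card C = Nat.card F * F.relIndex C := by
        have h1 := Subgroup.relIndex_mul_relIndex ⊥ F C bot_le hFC
        rw [Subgroup.relIndex_bot_left, Subgroup.relIndex_bot_left] at h1
        exact h1.symm
      have hCdvd : Nat.card C ∣ 24 * (q ^ d - 1) := by
        rw [hCcard, hcardF, he]
        have : Nat.card A * (2 * 2) * F.relIndex C = (4 * F.relIndex C) * Nat.card A := by ring
        rw [this]
        exact Nat.mul_dvd_mul (Nat.mul_dvd_mul_left 4 h6) hAdvd
      have hdvd : (q ^ (d * 2) - 1) ∣ 24 * d * (q ^ d - 1) := by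
        refine hcardG.trans ?_
        rw [← hGC]
        have : 24 * d * (q ^ d - 1) = (24 * (q ^ d - 1)) * d := by ring
        rw [this]
        exact Nat.mul_dvd_mul hCdvd hidx'
      obtain ⟨hd1, -, hqcases⟩ := num_main hd hq3 le_rfl hqodd hdvd
      subst hd1
      left
      rw [hVK]
      rcases hqcases with rfl | rfl | rfl | rfl | rfl <;> norm_num

end Cfsg.Agent.Helper58.Hup
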