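import Mathlib
import Cfsg.Prelude.Def_Transfer
import Cfsg.Prelude.Def_CaseTheorems
import Cfsg.Agent.Helper52.NormalRankTwo
import Cfsg.Agent.Helper52.PGroupLemmas
import Cfsg.Agent.Helper73.NormalAbelianCyclic
import Cfsg.Agent.Helper73.PGroupCyclic

set_option autoImplicit false
set_option linter.unusedSectionVars false

namespace Cfsg.Agent.Helper58

open Subgroup

theorem exists_normal_abelian_noncyclic {G : Type*} [Group G] [Finite G] (p : ℕ) [hp : Fact p.Prime]
    (hG : IsPGroup p G) (hnc : ¬ IsCyclic G)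
    (hnq : ∀ n : ℕ, ¬ Nonempty (G ≃* QuaternionGroup n))
    (hnd : ∀ n : ℕ, ¬ Nonempty (G ≃* DihedralGroup n)) (hnsd : ¬ Cfsg.IsQuasiDihedral G) :
    ∃ A : Subgroup G, A.Normal ∧ IsMulCommutative A ∧ ¬ IsCyclic A := by
  by_cases hp2 : p = 2
  · subst hp2
    by_contra hcon
    push Not at hcon
    rcases Helper73.two_group_normal_abelian_cyclic hG hcon hnc with ⟨n, h⟩ | ⟨n, _, h⟩ | h
    · exact hnq n h
    · exact hnd n h
    · exact hnsd h
  · have htop : ¬ IsCyclic (⊤ : Subgroup G) := by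
      intro h
      apply hnc
      exact isCyclic_of_surjective (Subgroup.topEquiv : (⊤ : Subgroup G) ≃* G) Subgroup.topEquiv.surjective
    obtain ⟨A, _, hAn, ⟨hAc, hAe⟩, hAcard⟩ :=
      Helper52.exists_normal_elementaryAbelian_sq hp2 hG ⊤ htop
    refine ⟨A, hAn, hAc, ?_⟩
    intro hcyc
    obtain ⟨g, hg⟩ := hcyc.exists_generator
    have h1 : orderOf g = Nat.card A := orderOf_eq_card_of_forall_mem_zpowers hg
    have h2 : g ^ p = 1 := by
      apply Subtype.ext
      rw [Subgroup.coe_pow, Subgroup.coe_one]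
      exact hAe _ g.2
    have h3 := orderOf_dvd_of_pow_eq_one h2
    rw [h1, hAcard] at h3
    have := Nat.le_of_dvd hp.out.pos h3
    have hp1 := hp.out.one_lt
    nlinarith

end Cfsg.Agent.Helper58

namespace Cfsg.Agent.Helper58

open Subgroup

theorem exists_central_pair_of_abelian {G : Type*} [Group G] [Finite G] (p : ℕ) [hp : Fact p.Prime]
    (hG : IsPGroup p G) (A : Subgroup G) (hAn : A.Normal) (hAc : IsMulCommutative A)
    (hAnc : ¬ IsCyclic A) :
    ∃ z y : G, z ∈ center G ∧ orderOf z = p ∧ y ^ p = 1 ∧ y ∉ zpowers z ∧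
      ∀ g : G, g * y * g⁻¹ * y⁻¹ ∈ zpowers z := by
  classical
  -- two independent elements of order p in A
  have hAp : IsPGroup p A := hG.to_subgroup A
  have hnu : ¬ Helper73.UniqueOrderP p A := by
    intro hu
    apply hAnc
    exact Helper73.isCyclic_of_comm_of_uniqueOrderP hAp (fun a b => hAc.is_comm.comm a b) hu
  unfold Helper73.UniqueOrderP at hnu
  push Not at hnu
  obtain ⟨x₁, x₂, hx₁, hx₂, hx₁₂⟩ := hnu
  -- Ω
  let Ω : Subgroup G :=
    { carrier := {a | a ∈ A ∧ a ^ p = 1}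
      one_mem' := ⟨A.one_mem, one_pow p⟩
      mul_mem' := by
        rintro a b ⟨ha, hap⟩ ⟨hb, hbp⟩
        refine ⟨A.mul_mem ha hb, ?_⟩
        have hc : Commute a b := by
          have := hAc.is_comm.comm ⟨a, ha⟩ ⟨b, hb⟩
          exact congrArg Subtype.val this
        rw [hc.mul_pow, hap, hbp, one_mul]
      inv_mem' := by
        rintro a ⟨ha, hap⟩
        exact ⟨A.inv_mem ha, by rw [inv_pow, hap, inv_one]⟩ }
  have hΩn : Ω.Normal := by
    constructor
    rintro a ⟨ha, hap⟩ g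
    refine ⟨hAn.conj_mem a ha g, ?_⟩
    rw [conj_pow, hap, mul_one, mul_inv_cancel]
  have hx₁Ω : (x₁ : G) ∈ Ω := by
    refine ⟨x₁.2, ?_⟩
    have := pow_orderOf_eq_one x₁
    rw [hx₁] at this
    exact congrArg Subtype.val this
  have hx₂Ω : (x₂ : G) ∈ Ω := by
    refine ⟨x₂.2, ?_⟩
    have := pow_orderOf_eq_one x₂
    rw [hx₂] at this
    exact congrArg Subtype.val this
  have hx₂n : (x₂ : G) ∉ zpowers (x₁ : G) := by
    intro h
    apply hx₁₂
    obtain ⟨k, hk⟩ := mem_zpowers_iff.mp h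
    exact mem_zpowers_iff.mpr ⟨k, Subtype.ext (by simpa using hk)⟩
  have hΩcard : p ^ 2 ≤ Nat.card Ω := by
    obtain ⟨k, hk⟩ := (hG.to_subgroup Ω).exists_card_eq
    have hlt : Nat.card (zpowers (x₁ : G)) < Nat.card Ω := by
      by_contra hge
      push Not at hge
      have h := Subgroup.eq_of_le_of_card_ge (zpowers_le.mpr hx₁Ω) hge
      apply hx₂n
      rw [h]; exact hx₂Ω
    rw [Nat.card_zpowers, Subgroup.orderOf_coe, hx₁, hk] at hlt
    rw [hk]
    have : 1 < k := by
      by_contra hk1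
      push Not at hk1
      have : p ^ k ≤ p ^ 1 := Nat.pow_le_pow_right hp.out.pos hk1
      rw [pow_one] at this
      omega
    exact Nat.pow_le_pow_right hp.out.pos this
  -- minimal normal E ≤ Ω with p^2 ≤ card
  let S : Set (Subgroup G) := {E | E.Normal ∧ E ≤ Ω ∧ p ^ 2 ≤ Nat.card E}
  have hSne : S.Nonempty := ⟨Ω, hΩn, le_rfl, hΩcard⟩
  obtain ⟨E, ⟨hEn, hEΩ, hEcard⟩, hEmin⟩ := wellFounded_lt.has_min S hSne
  have hE1 : E ≠ ⊥ := by
    rintro rfl
    rw [Subgroup.card_bot] at hEcard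
    have := hp.out.one_lt
    nlinarith
  haveI := hEn
  obtain ⟨B, hBn, hBE, hBidx, hBcomm⟩ := Helper52.exists_normal_relIndex_prime hG E hE1
  have hBcard : Nat.card B * p = Nat.card E := by
    rw [← hBidx, mul_comm]; exact Helper52.relIndex_mul_card_of_le hBE
  obtain ⟨k, hk⟩ := (hG.to_subgroup E).exists_card_eq
  have hk2 : 2 ≤ k := by
    rw [hk] at hEcard
    exact (Nat.pow_le_pow_iff_right hp.out.one_lt).mp hEcard
  have hBcard' : Nat.card B = p ^ (k - 1) := by
    have : p ^ k = p ^ (k - 1) * p := by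
      rw [← pow_succ, Nat.sub_add_cancel (by omega)]
    rw [hk, this] at hBcard
    exact Nat.eq_of_mul_eq_mul_right hp.out.pos hBcard
  have hBltE : B < E := by
    apply lt_of_le_of_ne hBE
    intro h
    rw [h, hk] at hBcard'
    have : p ^ (k - 1) < p ^ k := Nat.pow_lt_pow_right hp.out.one_lt (by omega)
    omega
  have hk2' : k = 2 := by
    by_contra hne
    have hk3 : 3 ≤ k := by omega
    have hBS : B ∈ S := by
      refine ⟨hBn, hBE.trans hEΩ, ?_⟩
      rw [hBcard']
      exact Nat.pow_le_pow_right hp.out.pos (by omega)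
    exact hEmin B hBS hBltE
  subst hk2'
  have hBp : Nat.card B = p := by rw [hBcard']; simp
  have hB1 : B ≠ ⊥ := by
    rintro rfl
    rw [Subgroup.card_bot] at hBp
    exact hp.out.ne_one hBp.symm
  haveI := hBn
  obtain ⟨z, hzB, hzc, hzo⟩ := Helper52.exists_central_orderOf_eq_prime hG B hB1
  have hzB' : zpowers z = B := by
    apply Subgroup.eq_of_le_of_card_ge (zpowers_le.mpr hzB)
    rw [Nat.card_zpowers, hzo, hBp]
  obtain ⟨y, hyE, hyB⟩ : ∃ y : G, y ∈ E ∧ y ∉ B := by
    by_contra hcon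
    push Not at hcon
    have hle : E ≤ B := hcon
    have := Subgroup.card_le_of_le hle
    rw [hk, hBp] at this
    have hp1 := hp.out.one_lt
    nlinarith
  refine ⟨z, y, hzc, hzo, (hEΩ hyE).2, ?_, ?_⟩
  · rw [hzB']; exact hyB
  · intro g
    rw [hzB']
    exact hBcomm g y hyE

end Cfsg.Agent.Helper58
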