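import Mathlib
import Cfsg.Agent.Helper58.PImprimGrp

/-!
# Group-theoretic lemmas for the derived length of linear `p`-groups
-/

set_option autoImplicit false
set_option linter.unusedSectionVars false

namespace Cfsg.Agent.Helper58.LinP

open Subgroup

/-- if `H` contains the commutator subgroup then `G^(n+1) ≤ H^(n)` -/
theorem derivedSeries_succ_le_map {G : Type*} [Group G] (H : Subgroup G) (hH : commutator G ≤ H) (n : ℕ) :
    derivedSeries G (n + 1) ≤ (derivedSeries H n).map H.subtype := by
  induction n with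
  | zero =>
    rw [derivedSeries_zero, derivedSeries_succ, derivedSeries_zero]
    intro x hx
    have : x ∈ H := hH (by rw [commutator_def]; exact hx)
    exact ⟨⟨x, this⟩, mem_top _, rfl⟩
  | succ n ih =>
    rw [derivedSeries_succ, derivedSeries_succ (G := H), Subgroup.map_commutator]
    exact Subgroup.commutator_mono ih ih

/-- a finite `p`-group all of whose normal abelian subgroups are cyclic is metabelian -/
theorem derivedSeries_two_eq_bot_of_normal_abelian_cyclic {P : Type*} [Group P] [Finite P] (p : ℕ)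
    [hp : Fact p.Prime] (hP : IsPGroup p P)
    (hn : ∀ A : Subgroup P, A.Normal → IsMulCommutative A → IsCyclic A) :
    derivedSeries P 2 = ⊥ := by
  obtain ⟨A, hAn, hAc, hmax⟩ := Helper73.exists_maximal_normal_abelian (P := P)
  have hCA := Helper73.centralizer_le_of_maximal_normal_abelian hP A hAc hmax
  have hAcyc : IsCyclic A := hn A hAn hAc
  obtain ⟨⟨a, haA⟩, hgen⟩ := hAcyc.exists_generator
  have hAeq : A = zpowers a := by
    apply le_antisymm
    · intro y hy
      obtain ⟨k, hk⟩ := mem_zpowers_iff.1 (hgen ⟨y, hy⟩)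
      refine mem_zpowers_iff.2 ⟨k, ?_⟩
      have := congrArg Subtype.val hk
      simpa using this
    · exact zpowers_le.2 haA
  subst hAeq
  have hapos : 0 < orderOf a := orderOf_pos a
  have hnorm : ∀ y : P, y * a * y⁻¹ ∈ zpowers a := fun y => hAn.conj_mem a (mem_zpowers a) y
  have hcent : ∀ y : P, y * a = a * y → y ∈ zpowers a := by
    intro y hy
    apply hCA
    rw [mem_centralizer_iff]
    intro z hz
    obtain ⟨k, rfl⟩ := mem_zpowers_iff.1 hz
    have : Commute y a := hy
    exact (this.zpow_right k).eq.symm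
  have h1 : derivedSeries P 1 ≤ zpowers a := by
    rw [derivedSeries_succ, derivedSeries_zero, Subgroup.commutator_le]
    intro g _ y _
    rw [commutatorElement_def]
    exact Helper73.commutator_mem_of_cyclic_normal hapos hnorm hcent g y
  rw [derivedSeries_succ, eq_bot_iff]
  calc ⁅derivedSeries P 1, derivedSeries P 1⁆ ≤ ⁅zpowers a, zpowers a⁆ := Subgroup.commutator_mono h1 h1
    _ ≤ ⊥ := by
      rw [Subgroup.commutator_le]
      intro g hg y hy
      rw [Subgroup.mem_bot, commutatorElement_eq_one_iff_mul_comm]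
      obtain ⟨m, rfl⟩ := mem_zpowers_iff.1 hg
      obtain ⟨n, rfl⟩ := mem_zpowers_iff.1 hy
      exact (zpow_mul_comm a m n)

/-- a nonabelian finite `p`-group has a "central pair" or is a metabelian `2`-group -/
theorem exists_central_pair_or_metabelian {G : Type*} [Group G] [Finite G] (p : ℕ) [hp : Fact p.Prime]
    (hG : IsPGroup p G) (hnab : ¬ ∀ a b : G, a * b = b * a) :
    (∃ z y : G, z ∈ center G ∧ orderOf z = p ∧ y ^ p = 1 ∧ y ∉ zpowers z ∧
      ∀ g : G, g * y * g⁻¹ * y⁻¹ ∈ zpowers z) ∨ (p = 2 ∧ derivedSeries G 2 = ⊥) := by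
  by_cases hex : ∃ A : Subgroup G, A.Normal ∧ IsMulCommutative A ∧ ¬ IsCyclic A
  · obtain ⟨A, hAn, hAc, hAnc⟩ := hex
    left
    exact Helper58.exists_central_pair_of_abelian p hG A hAn hAc hAnc
  · right
    push Not at hex
    have hn : ∀ A : Subgroup G, A.Normal → IsMulCommutative A → IsCyclic A := hex
    refine ⟨?_, derivedSeries_two_eq_bot_of_normal_abelian_cyclic p hG hn⟩
    by_contra hp2
    have hnc : ¬ IsCyclic G := by
      intro hc
      apply hnab
      intro a b
      exact (IsCyclic.commGroup (α := G)).mul_comm a b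
    have htop : ¬ IsCyclic (⊤ : Subgroup G) := by
      intro h
      apply hnc
      exact isCyclic_of_surjective (Subgroup.topEquiv : (⊤ : Subgroup G) ≃* G)
        Subgroup.topEquiv.surjective
    obtain ⟨A, _, hAn, ⟨hAc, hAe⟩, hAcard⟩ :=
      Helper52.exists_normal_elementaryAbelian_sq hp2 hG ⊤ htop
    have hcyc := hn A hAn hAc
    obtain ⟨g, hg⟩ := hcyc.exists_generator
    have h1 : orderOf g = Nat.card A := orderOf_eq_card_of_forall_mem_zpowers hg
    have h2 : g ^ p = 1 := by
      apply Subtype.ext
      rw [Subgroup.coe_pow, Subgroup.coe_one]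
      exact hAe _ g.2
    have h3 := orderOf_dvd_of_pow_eq_one h2
    rw [h1, hAcard] at h3
    have := Nat.le_of_dvd hp.out.pos h3
    have hp1 := hp.out.one_lt
    nlinarith

end Cfsg.Agent.Helper58.LinP
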