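import Mathlib
import Cfsg.Agent.Helper58.LinImprim
import Cfsg.Agent.Helper58.LinGrp

/-!
# Derived length of finite linear `p`-groups in characteristic `≠ p`

`derivedSeries_le_ker`: if every fixed-point-free element of order `p` lives in dimension divisible by `e`
then a finite `p`-group acting on a `d`-dimensional space has derived length at most
`⌊log₂ (d / e)⌋ + 1` modulo the kernel of the action.
-/

set_option autoImplicit false
set_option linter.unusedSectionVars false
set_option linter.style.haveILetI false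

universe u v

namespace Cfsg.Agent.Helper58.LinP

open Subgroup Module

/-- the bound on the derived length -/
def dlBound (e d : ℕ) : ℕ := if d < e then 0 else Nat.log 2 (d / e) + 1

theorem dlBound_mono (e : ℕ) {d₁ d₂ : ℕ} (h : d₁ ≤ d₂) : dlBound e d₁ ≤ dlBound e d₂ := by
  unfold dlBound
  split_ifs with h1 h2 h2
  · exact le_rfl
  · exact Nat.zero_le _
  · omega
  · have := Nat.log_mono_right (b := 2) (Nat.div_le_div_right (c := e) h)
    omega

theorem dlBound_step (e : ℕ) (he : 0 < e) {d₀ d : ℕ} (h2 : 2 * d₀ ≤ d) (hed : e ≤ d) :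
    dlBound e d₀ + 1 ≤ dlBound e d := by
  unfold dlBound
  rw [if_neg (by omega : ¬ d < e)]
  split_ifs with h1
  · omega
  · push Not at h1
    have hx : 1 ≤ d₀ / e := (Nat.one_le_div_iff he).mpr h1
    have h3 : 2 * (d₀ / e) ≤ d / e := by
      rw [Nat.le_div_iff_mul_le he]
      have := Nat.div_mul_le_self d₀ e
      nlinarith
    have h4 : Nat.log 2 (2 * (d₀ / e)) = Nat.log 2 (d₀ / e) + 1 := by
      rw [mul_comm]
      exact Nat.log_mul_base (by norm_num) (by omega)
    have := Nat.log_mono_right (b := 2) h3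
    omega

section
variable {k : Type*} [Field k] {V : Type*} [AddCommGroup V] [Module k V]

/-- an automorphism of finite order prime to the characteristic which is trivial on `W` and on `V ⧸ W` is
trivial -/
theorem eq_self_of_trivial_sub_quot (f : V ≃ₗ[k] V) (W : Submodule k V) (n : ℕ) (hn : ((n : ℕ) : k) ≠ 0)
    (hf : f ^ n = 1) (h1 : ∀ w ∈ W, f w = w) (h2 : ∀ v, f v - v ∈ W) (v : V) : f v = v := by
  have hpow : ∀ m : ℕ, (f ^ m) v = v + m • (f v - v) := by
    intro m
    induction m with
    | zero => simp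
    | succ m ih =>
      rw [pow_succ', LinearEquiv.mul_apply, ih, map_add, map_nsmul, h1 _ (h2 v), succ_nsmul]
      abel
  have h := hpow n
  rw [hf] at h
  change v = v + n • (f v - v) at h
  have h0 : n • (f v - v) = 0 := by
    have : v + n • (f v - v) = v + 0 := by rw [add_zero]; exact h.symm
    exact add_left_cancel this
  rw [← Nat.cast_smul_eq_nsmul k] at h0
  have := (smul_eq_zero.mp h0).resolve_left hn
  exact sub_eq_zero.mp this

theorem comm_of_finrank_one (h : finrank k V = 1) (f g : V ≃ₗ[k] V) : f * g = g * f := by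
  obtain ⟨v, _, hv⟩ := finrank_eq_one_iff'.mp h
  obtain ⟨a, ha⟩ := hv (f v)
  obtain ⟨b, hb⟩ := hv (g v)
  ext w
  obtain ⟨c, rfl⟩ := hv w
  simp only [LinearEquiv.mul_apply, map_smul, ← ha, ← hb]
  rw [smul_comm a b]

end

theorem derivedSeries_le_ker {k : Type*} [Field k] (p : ℕ) [hp : Fact p.Prime] (hpk : ((p : ℕ) : k) ≠ 0)
    (e : ℕ) (he : 0 < e) (h2 : p = 2 → e = 1)
    (hE : ∀ (W : Type u) [AddCommGroup W] [Module k W] [FiniteDimensional k W] (z : W ≃ₗ[k] W),
      z ^ p = 1 → (∀ w, z w = w → w = 0) → e ∣ finrank k W) :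
    ∀ (d : ℕ) (V : Type u) [AddCommGroup V] [Module k V] [FiniteDimensional k V]
      (G : Type v) [Group G] [Finite G], IsPGroup p G → ∀ ρ : G →* (V ≃ₗ[k] V), finrank k V = d →
      derivedSeries G (dlBound e d) ≤ ρ.ker := by
  classical
  intro d
  induction d using Nat.strong_induction_on with
  | _ d ih =>
  intro V _ _ _ G _ _ hG ρ hd
  by_cases hirr : ∀ W : Submodule k V, (∀ g : G, ∀ w ∈ W, ρ g w ∈ W) → W = ⊥ ∨ W = ⊤
  swap
  · -- reducible case
    push Not at hirr
    obtain ⟨W, hW, hWbot, hWtop⟩ := hirr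
    have hsum := Submodule.finrank_quotient_add_finrank W
    have hd1pos : 0 < finrank k W := by
      rw [Nat.pos_iff_ne_zero]
      intro h0
      exact hWbot (Submodule.finrank_eq_zero.mp h0)
    have hd1lt : finrank k W < finrank k V := Submodule.finrank_lt hWtop
    have ih1 := ih (finrank k W) (by omega) W G hG (subRep ρ W hW) rfl
    have ih2 := ih (finrank k (V ⧸ W)) (by omega) (V ⧸ W) G hG (quotRep ρ W hW) rfl
    intro g hg
    have hg1 : g ∈ (subRep ρ W hW).ker :=
      ih1 (derivedSeries_antitone G (dlBound_mono e (by omega)) hg)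
    have hg2 : g ∈ (quotRep ρ W hW).ker :=
      ih2 (derivedSeries_antitone G (dlBound_mono e (by omega)) hg)
    rw [MonoidHom.mem_ker] at hg1 hg2 ⊢
    have t1 : ∀ w ∈ W, ρ g w = w := by
      intro w hw
      have := congrArg (fun f : W ≃ₗ[k] W => ((f ⟨w, hw⟩ : W) : V)) hg1
      exact this
    have t2 : ∀ v, ρ g v - v ∈ W := by
      intro v
      have := congrArg (fun f : (V ⧸ W) ≃ₗ[k] (V ⧸ W) => f (Submodule.Quotient.mk v)) hg2
      change (Submodule.Quotient.mk (ρ g v) : V ⧸ W) = Submodule.Quotient.mk v at this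
      exact (Submodule.Quotient.eq W).mp this
    obtain ⟨j, hj⟩ := (IsPGroup.iff_orderOf.mp hG) g
    have hpow : (ρ g) ^ (p ^ j) = 1 := by
      rw [← map_pow, ← hj, pow_orderOf_eq_one, map_one]
    have hne : (((p ^ j : ℕ)) : k) ≠ 0 := by
      rw [Nat.cast_pow]
      exact pow_ne_zero _ hpk
    ext v
    exact eq_self_of_trivial_sub_quot (ρ g) W (p ^ j) hne hpow t1 t2 v
  -- irreducible case
  by_cases hd0 : d = 0
  · subst hd0
    haveI : Subsingleton V := Module.finrank_zero_iff.mp hd
    intro g _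
    rw [MonoidHom.mem_ker]
    ext v
    exact Subsingleton.elim _ _
  have hdpos : 0 < d := Nat.pos_of_ne_zero hd0
  haveI : Nontrivial V := Module.nontrivial_of_finrank_pos (R := k) (by omega)
  -- pass to the faithful quotient
  set ρ' : G ⧸ ρ.ker →* (V ≃ₗ[k] V) := QuotientGroup.kerLift ρ with hρ'
  have hρ'inj : Function.Injective ρ' := QuotientGroup.kerLift_injective ρ
  have hρ'mk : ∀ g : G, ρ' (QuotientGroup.mk g) = ρ g := fun g => rfl
  have hG' : IsPGroup p (G ⧸ ρ.ker) := hG.to_quotient ρ.ker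
  suffices hsuff : derivedSeries (G ⧸ ρ.ker) (dlBound e d) = ⊥ by
    intro g hg
    have h1 : (QuotientGroup.mk' ρ.ker) g ∈ (derivedSeries G (dlBound e d)).map (QuotientGroup.mk' ρ.ker) :=
      Subgroup.mem_map_of_mem _ hg
    have h2 := map_derivedSeries_le_derivedSeries (QuotientGroup.mk' ρ.ker) (dlBound e d) h1
    rw [hsuff, Subgroup.mem_bot] at h2
    exact (QuotientGroup.eq_one_iff g).mp h2
  have hirr' : ∀ W : Submodule k V, (∀ g : G ⧸ ρ.ker, ∀ w ∈ W, ρ' g w ∈ W) → W = ⊥ ∨ W = ⊤ := by
    intro W hW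
    apply hirr W
    intro g w hw
    rw [← hρ'mk]
    exact hW _ w hw
  by_cases hsub : Subsingleton (G ⧸ ρ.ker)
  · exact Subsingleton.elim _ _
  rw [not_subsingleton_iff_nontrivial] at hsub
  have htopne : (⊤ : Subgroup (G ⧸ ρ.ker)) ≠ ⊥ := by
    intro h
    obtain ⟨a, ha⟩ := exists_ne (1 : G ⧸ ρ.ker)
    apply ha
    have : a ∈ (⊤ : Subgroup (G ⧸ ρ.ker)) := mem_top a
    rw [h, Subgroup.mem_bot] at this
    exact this
  obtain ⟨z, _, hzc, hzo⟩ := Helper52.exists_central_orderOf_eq_prime hG' ⊤ htopne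
  have hz1 : z ≠ 1 := by
    rintro rfl
    rw [orderOf_one] at hzo
    exact hp.out.ne_one hzo.symm
  have hFz := fixSub_central_eq_bot ρ' hρ'inj hirr' z hzc hz1
  have hedvd : e ∣ d := by
    rw [← hd]
    apply hE V (ρ' z)
    · rw [← map_pow, ← hzo, pow_orderOf_eq_one, map_one]
    · intro w hw
      have : w ∈ fixSub ρ' z := hw
      rw [hFz, Submodule.mem_bot] at this
      exact this
  have hed : e ≤ d := Nat.le_of_dvd hdpos hedvd
  have hb1 : 1 ≤ dlBound e d := by
    unfold dlBound
    rw [if_neg (by omega)]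
    omega
  by_cases hab : ∀ a b : G ⧸ ρ.ker, a * b = b * a
  · -- abelian
    have h1 : derivedSeries (G ⧸ ρ.ker) 1 = ⊥ := by
      rw [derivedSeries_succ, derivedSeries_zero, eq_bot_iff, Subgroup.commutator_le]
      intro a _ b _
      rw [Subgroup.mem_bot, commutatorElement_eq_one_iff_mul_comm]
      exact hab a b
    rw [eq_bot_iff, ← h1]
    exact derivedSeries_antitone _ hb1
  rcases exists_central_pair_or_metabelian p hG' hab with ⟨z', y, hz'c, hz'o, hyp, hyz, hcomm⟩ | ⟨hp2, hdl2⟩
  swap
  · -- metabelian 2-group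
    have he1 : e = 1 := h2 hp2
    have hd2 : 2 ≤ d := by
      by_contra hlt
      have hd1 : finrank k V = 1 := by omega
      apply hab
      intro a b
      apply hρ'inj
      rw [map_mul, map_mul]
      exact comm_of_finrank_one hd1 _ _
    have hb2 : 2 ≤ dlBound e d := by
      unfold dlBound
      rw [if_neg (by omega), he1, Nat.div_one]
      have : 1 ≤ Nat.log 2 d := Nat.le_log_of_pow_le (by norm_num) (by omega)
      omega
    rw [eq_bot_iff, ← hdl2]
    exact derivedSeries_antitone _ hb2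
  -- imprimitive case
  obtain ⟨H, W, _, hsup, hind, hinv, _, _, hcommH, htrans⟩ :=
    pimprim_module_trans ρ' p hpk hρ'inj hirr' z' y hz'c hz'o hyp hyz hcomm
  let i0 : Fin p := ⟨0, hp.out.pos⟩
  set d₀ := finrank k (W i0) with hd₀
  have hdim : ∀ i, finrank k (W i) = d₀ := by
    intro i
    obtain ⟨g, hg⟩ := htrans i0 i
    rw [← hg]
    exact LinearEquiv.finrank_map_eq (ρ' g) (W i0)
  have hdsum : d = p * d₀ := by
    have hint := DirectSum.isInternal_submodule_of_iSupIndep_of_iSup_eq_top hind hsup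
    have e1 := (LinearEquiv.ofBijective (DirectSum.coeLinearMap W) hint).finrank_eq
    rw [Module.finrank_directSum] at e1
    simp_rw [hdim] at e1
    rw [Finset.sum_const, Finset.card_univ, Fintype.card_fin, smul_eq_mul] at e1
    rw [← hd, ← e1]
  have h2d : 2 * d₀ ≤ d := by
    rw [hdsum]
    exact Nat.mul_le_mul_right _ hp.out.two_le
  have hd₀lt : d₀ < d := by omega
  have hHbot : derivedSeries H (dlBound e d₀) = ⊥ := by
    rw [eq_bot_iff]
    intro h hh
    rw [Subgroup.mem_bot]
    apply Subtype.ext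
    apply hρ'inj
    rw [Subgroup.coe_one, map_one]
    have hfix : fixSub ρ' (h : G ⧸ ρ.ker) = ⊤ := by
      rw [eq_top_iff, ← hsup]
      apply iSup_le
      intro i w hw
      have hWi : ∀ g : H, ∀ w ∈ W i, (ρ'.comp H.subtype) g w ∈ W i := by
        intro g w hw
        exact hinv g g.2 i w hw
      have ihi := ih d₀ hd₀lt (W i) H (hG'.to_subgroup H) (subRep (ρ'.comp H.subtype) (W i) hWi) (hdim i)
      have := ihi hh
      rw [MonoidHom.mem_ker] at this
      have := congrArg (fun f : (W i) ≃ₗ[k] (W i) => ((f ⟨w, hw⟩ : W i) : V)) this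
      exact this
    ext v
    have : v ∈ fixSub ρ' (h : G ⧸ ρ.ker) := by rw [hfix]; exact Submodule.mem_top
    exact this
  have h3 := derivedSeries_succ_le_map H hcommH (dlBound e d₀)
  rw [hHbot, Subgroup.map_bot] at h3
  rw [eq_bot_iff]
  exact le_trans (derivedSeries_antitone _ (dlBound_step e he h2d hed)) h3

end Cfsg.Agent.Helper58.LinP
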