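import Mathlib
import Cfsg.Agent.Helper58.FieldCore

set_option autoImplicit false

namespace Cfsg.Agent.Helper58

/-- **Module-theoretic core.** -/
theorem module_core {V : Type*} [AddCommGroup V] [Finite V] [Nontrivial V] (p d : ℕ)
    [hp : Fact p.Prime] (hV : Nat.card V = p ^ d)
    {H : Type*} [Group H] [Finite H] (ρ : H →* Module.End ℤ V) (T : Subgroup H) [hTn : T.Normal]
    (hTc : ∀ a ∈ T, ∀ b ∈ T, a * b = b * a) (hTne : T ≠ ⊥)
    (r : ℕ) (hr : r.Prime) (hexp : ∀ t ∈ T, t ^ r = 1)
    (hcent : Subgroup.centralizer (T : Set H) ≤ T)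
    (hsemi : ∀ t ∈ T, ∀ v : V, v ≠ 0 → ρ t v = v → t = 1)
    (horb : ∀ (h : H) (v : V), ∃ t ∈ T, ρ h v = ρ t v)
    (hgen : ∀ w : V, w ≠ 0 → ∀ P : V → Prop, P 0 → (∀ x y, P x → P y → P (x + y)) →
      (∀ x, P x → P (-x)) → (∀ h : H, P (ρ h w)) → ∀ v, P v) :
    Nat.card T = r ∧ r ∣ p ^ d - 1 ∧ (∀ i : ℕ, 0 < i → i < d → ¬ r ∣ p ^ i - 1) ∧
    (∃ h : H, ∀ x : H, ∃ n : ℤ, x * h ^ n ∈ T) ∧ Nat.card H ∣ r * d := by
  classical
  obtain ⟨v₀, hv₀⟩ := exists_ne (0 : V)
  set S : Set (Module.End ℤ V) := ρ '' (T : Set H) with hS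
  have hScomm : ∀ x ∈ S, ∀ y ∈ S, x * y = y * x := by
    rintro _ ⟨a, ha, rfl⟩ _ ⟨b, hb, rfl⟩
    rw [← map_mul, ← map_mul, hTc a ha b hb]
  have hmemS : ∀ t ∈ T, ρ t ∈ Subring.closure S := fun t ht =>
    Subring.subset_closure ⟨t, ht, rfl⟩
  -- simple
  have hsimple : ∀ W : Submodule ℤ V, (∀ t ∈ T, ∀ w ∈ W, ρ t w ∈ W) → W ≠ ⊥ → W = ⊤ := by
    intro W hW hne
    obtain ⟨w, hwW, hw0⟩ := (Submodule.ne_bot_iff W).mp hne
    rw [eq_top_iff]
    intro v _
    exact hgen w hw0 (· ∈ W) W.zero_mem (fun x y => W.add_mem) (fun x => W.neg_mem)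
      (fun h => by obtain ⟨t, ht, e⟩ := horb h w; rw [e]; exact hW t ht w hwW) v
  -- elements of the closure commute with `ρ t`
  have hcomm : ∀ x ∈ Subring.closure S, ∀ y ∈ Subring.closure S, x * y = y * x := by
    intro x hx y hy
    induction hx, hy using Subring.closure_induction₂ with
    | mem_mem x y hx hy => exact hScomm x hx y hy
    | zero_left x hx => simp
    | zero_right x hx => simp
    | one_left x hx => simp
    | one_right x hx => simp
    | neg_left x y hx hy h => rw [neg_mul, mul_neg, h]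
    | neg_right x y hx hy h => rw [neg_mul, mul_neg, h]
    | add_left x y z hx hy hz h1 h2 => rw [add_mul, mul_add, h1, h2]
    | add_right x y z hx hy hz h1 h2 => rw [add_mul, mul_add, h1, h2]
    | mul_left x y z hx hy hz h1 h2 => rw [mul_assoc, h2, ← mul_assoc, h1, mul_assoc]
    | mul_right x y z hx hy hz h1 h2 => rw [← mul_assoc, h1, mul_assoc, h2, ← mul_assoc]
  -- nonzero elements are injective
  have hinj : ∀ x ∈ Subring.closure S, x ≠ 0 → ∀ v, x v = 0 → v = 0 := by
    intro x hx hx0 v hv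
    by_contra hv0
    apply hx0
    have hk : LinearMap.ker x = ⊤ := hsimple _ (fun t ht w hw => by
        rw [LinearMap.mem_ker] at hw ⊢
        have h1 := LinearMap.congr_fun (hcomm x hx (ρ t) (hmemS t ht)) w
        rw [Module.End.mul_apply, Module.End.mul_apply, hw, map_zero] at h1
        exact h1)
      (by
        intro h
        apply hv0
        have : v ∈ LinearMap.ker x := hv
        rw [h] at this
        exact this)
    exact LinearMap.ker_eq_top.mp hk
  set A : Subring (Module.End ℤ V) := Subring.closure S with hA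
  have hnzd : NoZeroDivisors A := ⟨fun {a b} hab => by
    by_contra hne
    push Not at hne
    apply hne.2
    apply Subtype.ext
    apply LinearMap.ext
    intro v
    have h1 : (a.1 * b.1) v = 0 := by
      have := congrArg Subtype.val hab
      rw [Subring.coe_mul] at this
      rw [this]; rfl
    exact hinj a.1 a.2 (fun h => hne.1 (Subtype.ext h)) _ h1⟩
  have hnt : Nontrivial A := ⟨⟨0, 1, fun h => hv₀ (by
      have := congrArg (fun a : A => a.1 v₀) h
      simpa using this.symm)⟩⟩
  have hdom : IsDomain A := NoZeroDivisors.to_isDomain A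
  have hfinE : Finite (Module.End ℤ V) := DFunLike.finite _
  have hfinA : Finite A := inferInstance
  -- evaluation at `v₀` is a bijection `A → V`
  have hevinj : Function.Injective (fun a : A => a.1 v₀) := by
    intro a b hab
    have hab' : a.1 v₀ = b.1 v₀ := hab
    by_contra hne
    have hsub : (a - b).1 ≠ 0 := by
      intro h
      apply hne
      have : a - b = 0 := Subtype.ext h
      exact sub_eq_zero.mp this
    apply hv₀
    apply hinj (a - b).1 (a - b).2 hsub
    have : (a - b).1 = a.1 - b.1 := rfl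
    rw [this, LinearMap.sub_apply, hab', sub_self]
  have hevsurj : Function.Surjective (fun a : A => a.1 v₀) := by
    let W : Submodule ℤ V :=
      { carrier := Set.range (fun a : A => a.1 v₀)
        zero_mem' := ⟨0, by simp⟩
        add_mem' := by
          rintro _ _ ⟨a, rfl⟩ ⟨b, rfl⟩
          exact ⟨a + b, by simp⟩
        smul_mem' := by
          rintro c _ ⟨a, rfl⟩
          exact ⟨c • a, by simp⟩ }
    have hW : W = ⊤ := hsimple W (by
        rintro t ht _ ⟨a, rfl⟩
        exact ⟨⟨ρ t, hmemS t ht⟩ * a, by simp [Module.End.mul_apply]⟩)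
      (by
        intro h
        apply hv₀
        have : v₀ ∈ W := ⟨1, by simp⟩
        rw [h] at this
        exact this)
    intro v
    have : v ∈ W := hW ▸ Submodule.mem_top
    exact this
  have hAcard : Nat.card A = p ^ d := by
    rw [Nat.card_congr (Equiv.ofBijective _ ⟨hevinj, hevsurj⟩), hV]
  let instC : CommRing A := { (inferInstance : Ring A) with
    mul_comm := fun a b => Subtype.ext (hcomm a.1 a.2 b.1 b.2) }
  let f : T →* A :=
    { toFun := fun t => ⟨ρ t, hmemS t t.2⟩
      map_one' := Subtype.ext (map_one ρ)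
      map_mul' := fun a b => Subtype.ext (map_mul ρ (a : H) (b : H)) }
  have hf : Function.Injective f := by
    intro a b hab
    have h1 : ρ (a : H) = ρ (b : H) := congrArg Subtype.val hab
    have h2 : ρ ((a⁻¹ * b : T) : H) v₀ = v₀ := by
      rw [Subgroup.coe_mul, Subgroup.coe_inv, map_mul, ← h1, ← map_mul, inv_mul_cancel, map_one]
      rfl
    have h3 : a⁻¹ * b = 1 := Subtype.ext (hsemi _ (a⁻¹ * b).2 v₀ hv₀ h2)
    calc a = a * (a⁻¹ * b) := by rw [h3, mul_one]
      _ = b := by group
  have hgenA : Subring.closure (Set.range f) = ⊤ := by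
    rw [eq_top_iff]
    rintro ⟨x, hx⟩ -
    induction hx using Subring.closure_induction with
    | mem x hx =>
      obtain ⟨t, ht, rfl⟩ := hx
      exact Subring.subset_closure ⟨⟨t, ht⟩, rfl⟩
    | zero => exact Subring.zero_mem _
    | one => exact Subring.one_mem _
    | add x y hx hy h1 h2 => exact Subring.add_mem _ h1 h2
    | neg x hx h => exact Subring.neg_mem _ h
    | mul x y hx hy h1 h2 => exact Subring.mul_mem _ h1 h2
  have e1 : ∀ h : H, ρ h⁻¹ * ρ h = 1 := fun h => by rw [← map_mul, inv_mul_cancel, map_one]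
  have e2 : ∀ h : H, ρ h * ρ h⁻¹ = 1 := fun h => by rw [← map_mul, mul_inv_cancel, map_one]
  have e1' : ∀ (h : H) (z : Module.End ℤ V), ρ h⁻¹ * (ρ h * z) = z := fun h z => by
    rw [← mul_assoc, e1, one_mul]
  have e2' : ∀ (h : H) (z : Module.End ℤ V), ρ h * (ρ h⁻¹ * z) = z := fun h z => by
    rw [← mul_assoc, e2, one_mul]
  have hconj : ∀ (h : H), ∀ x ∈ A, ρ h * x * ρ h⁻¹ ∈ A := by
    intro h x hx
    induction hx using Subring.closure_induction with
    | mem x hx =>
      obtain ⟨t, ht, rfl⟩ := hx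
      rw [← map_mul, ← map_mul]
      exact hmemS _ (hTn.conj_mem t ht h)
    | zero => rw [mul_zero, zero_mul]; exact Subring.zero_mem _
    | one => rw [mul_one, e2]; exact Subring.one_mem _
    | add x y hx hy h1 h2 => rw [mul_add, add_mul]; exact Subring.add_mem _ h1 h2
    | neg x hx h1 => rw [mul_neg, neg_mul]; exact Subring.neg_mem _ h1
    | mul x y hx hy h1 h2 =>
      have : ρ h * (x * y) * ρ h⁻¹ = (ρ h * x * ρ h⁻¹) * (ρ h * y * ρ h⁻¹) := by
        simp only [mul_assoc, e1']
      rw [this]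
      exact Subring.mul_mem _ h1 h2
  let σ : H → (A ≃+* A) := fun h =>
    { toFun := fun a => ⟨ρ h * a.1 * ρ h⁻¹, hconj h a.1 a.2⟩
      invFun := fun a => ⟨ρ h⁻¹ * a.1 * ρ h, by
        have := hconj h⁻¹ a.1 a.2
        rwa [inv_inv] at this⟩
      left_inv := fun a => Subtype.ext (by
        show ρ h⁻¹ * (ρ h * a.1 * ρ h⁻¹) * ρ h = a.1
        simp only [mul_assoc, e1', e1, mul_one])
      right_inv := fun a => Subtype.ext (by
        show ρ h * (ρ h⁻¹ * a.1 * ρ h) * ρ h⁻¹ = a.1
        simp only [mul_assoc, e2', e2, mul_one])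
      map_mul' := fun a b => Subtype.ext (by
        show ρ h * (a.1 * b.1) * ρ h⁻¹ = (ρ h * a.1 * ρ h⁻¹) * (ρ h * b.1 * ρ h⁻¹)
        simp only [mul_assoc, e1'])
      map_add' := fun a b => Subtype.ext (by
        show ρ h * (a.1 + b.1) * ρ h⁻¹ = (ρ h * a.1 * ρ h⁻¹) + (ρ h * b.1 * ρ h⁻¹)
        rw [mul_add, add_mul]) }
  have hσ : ∀ (h : H) (a : A), ((σ h a : A) : Module.End ℤ V) = ρ h * a.1 * ρ h⁻¹ := fun h a => rfl
  let Φ : H →* (A ≃+* A) :=
    { toFun := σ
      map_one' := by
        ext a : 2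
        rw [hσ]
        simp
      map_mul' := fun g h => by
        ext a : 2
        rw [RingAut.mul_apply, hσ, hσ, hσ, map_mul, mul_inv_rev, map_mul]
        simp only [mul_assoc] }
  have hker : Φ.ker = T := by
    ext h
    rw [MonoidHom.mem_ker]
    constructor
    · intro h1
      apply hcent
      rw [Subgroup.mem_centralizer_iff]
      intro t ht
      have h2 : ρ h * ρ t * ρ h⁻¹ = ρ t := by
        have := congrArg (fun τ : A ≃+* A => ((τ ⟨ρ t, hmemS t ht⟩ : A) : Module.End ℤ V)) h1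
        exact this
      have h3 : ρ (h * t * h⁻¹ * t⁻¹) v₀ = v₀ := by
        rw [map_mul, map_mul, map_mul, h2, ← map_mul, mul_inv_cancel, map_one]
        rfl
      have h4 := hsemi _ (T.mul_mem (hTn.conj_mem t ht h) (T.inv_mem ht)) v₀ hv₀ h3
      have h5 := congrArg (fun z => z * t * h) h4
      simp only [one_mul] at h5
      rw [← h5]
      group
    · intro ht
      ext a : 2
      show ρ h * a.1 * ρ h⁻¹ = a.1
      rw [← hcomm a.1 a.2 (ρ h) (hmemS h ht), mul_assoc, e2, mul_one]
  have hTnt : Nontrivial T := (Subgroup.nontrivial_iff_ne_bot T).mpr hTne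
  exact domain_core p d hAcard T Φ hker f hf hgenA r hr
    (fun t => Subtype.ext (by rw [Subgroup.coe_pow]; exact hexp t t.2)) hTnt

end Cfsg.Agent.Helper58
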