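import Mathlib
import Cfsg.Prelude.Def_Perm
import Cfsg.Agent.S0676
import Cfsg.Agent.S3611
import Cfsg.Agent.Helper61.NeuInv
import Cfsg.Agent.Helper12.MultTrans
import Cfsg.Agent.Helper58.N3Compl
import Cfsg.Agent.Helper20.N3FIN5
import Cfsg.Agent.Helper23.N3FR
import Cfsg.Agent.Helper23.N3I2
import Cfsg.Agent.Helper24.N3SPLIT
import Cfsg.Agent.Helper24.N3W
import Cfsg.Agent.Helper64.N3PL1
import Cfsg.Agent.Helper64.N3T
import Cfsg.Agent.Helper66.N3NT
import Cfsg.Agent.Helper66.N3SYL
import Cfsg.Agent.Helper97.N3ARITH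
import Cfsg.Agent.Helper97.N3GAL

set_option autoImplicit false

namespace Cfsg.Agent.Helper58.N3

open MulAction SubMulAction
open scoped Pointwise
open Cfsg.Agent.Helper20.N3 Cfsg.Agent.Helper23.N3 Cfsg.Agent.Helper24.N3 Cfsg.Agent.Helper64.N3
  Cfsg.Agent.Helper66.N3 Cfsg.Agent.Helper97.N3

/-- Step 1: `G` is triply transitive (case `p % 4 = 1` via S0676; case `p % 4 = 3` needs the
hypothesis `hprim` = S3612) -/
theorem three_trans {G Ω : Type*} [Group G] [Finite G] [MulAction G Ω] [FaithfulSMul G Ω]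
    [Fintype Ω] [DecidableEq Ω] [IsPretransitive G Ω] {p : ℕ} [Fact p.Prime]
    (hΩ : Fintype.card Ω = p) (hins : ¬ Group.IsSolvable G) (P : Sylow p G)
    (hN : 2 * Nat.card ↥(Subgroup.normalizer ((P : Subgroup G) : Set G)) = p * (p - 1))
    (q : ℕ) (hq : q.Prime) (hq5 : 5 < q) (hpq : p = q + 2)
    (hprim : ∀ α : Ω, IsPreprimitive ↥(stabilizer G α) ↥(SubMulAction.ofStabilizer G α)) :
    IsMultiplyPretransitive G Ω 3 := by
  have hpp : p.Prime := Fact.out
  have hp2 : p ≠ 2 := by omega
  have hodd : p % 2 = 1 := by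
    rcases hpp.eq_two_or_odd with h | h
    · exact absurd h hp2
    · exact h
  rcases (by omega : p % 4 = 1 ∨ p % 4 = 3) with h4 | h4
  · -- the normalizer has even order
    apply three_trans_of_even hΩ hins P
    have h1 : p - 1 = 4 * ((p - 1) / 4) := by omega
    have h2 : Nat.card ↥(Subgroup.normalizer ((P : Subgroup G) : Set G)) = p * (2 * ((p - 1) / 4)) := by
      have : 2 * Nat.card ↥(Subgroup.normalizer ((P : Subgroup G) : Set G)) =
          2 * (p * (2 * ((p - 1) / 4))) := by
        rw [hN]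
        nth_rewrite 1 [h1]
        ring
      omega
    rw [h2]
    exact ⟨p * ((p - 1) / 4), by ring⟩
  · have hΩ' : Nat.card Ω = p := by rw [Nat.card_eq_fintype_card, hΩ]
    rcases Cfsg.Agent.S3611.result p hpp hΩ' inferInstance hins P hN h4 with h | h
    · exact h
    · exfalso
      -- two distinct points
      have hcard : 1 < Fintype.card Ω := by rw [hΩ]; omega
      obtain ⟨a, b, hab⟩ := Fintype.exists_pair_of_one_lt_card hcard
      have h4orb := h a b hab
      rw [card_orbits_ofStabilizer a b hab.symm] at h4orb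
      have h3orb : Nat.card (orbitRel.Quotient
          ↥(stabilizer ↥(stabilizer G a) (⟨b, hab.symm⟩ : SubMulAction.ofStabilizer G a))
          ↥(SubMulAction.ofStabilizer G a)) = 3 := by omega
      refine false_of_prim_rank3_prime (hprim a) ⟨b, hab.symm⟩ h3orb q hq (by omega) ?_
      have := SubMulAction.nat_card_ofStabilizer_add_one_eq (G := G) a
      omega

theorem faithful_ofFixingSubgroup {G Ω : Type*} [Group G] [MulAction G Ω] [FaithfulSMul G Ω]
    (s : Set Ω) : FaithfulSMul ↥(fixingSubgroup G s) ↥(ofFixingSubgroup G s) := by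
  refine ⟨fun {g h} H => ?_⟩
  apply Subtype.ext
  apply FaithfulSMul.eq_of_smul_eq_smul (α := Ω)
  intro x
  by_cases hx : x ∈ s
  · have h1 := (mem_fixingSubgroup_iff G).mp g.2 x hx
    have h2 := (mem_fixingSubgroup_iff G).mp h.2 x hx
    rw [h1, h2]
  · have := H ⟨x, hx⟩
    exact congrArg Subtype.val this

theorem card_ofFixingSubgroup {G Ω : Type*} [Group G] [MulAction G Ω] [Finite Ω] (s : Set Ω) :
    Nat.card ↥(ofFixingSubgroup G s) + s.ncard = Nat.card Ω := by
  have : Nat.card ↥(ofFixingSubgroup G s) = (sᶜ).ncard := by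
    rw [← Nat.card_coe_set_eq]; rfl
  rw [this, add_comm]; exact Set.ncard_add_ncard_compl s

/-- the two-point stabilizer is insoluble (given 3-transitivity) -/
theorem fixing_pair_insoluble {G Ω : Type*} [Group G] [Finite G] [MulAction G Ω] [FaithfulSMul G Ω]
    [Fintype Ω] [DecidableEq Ω] {p : ℕ} [Fact p.Prime]
    (hΩ : Fintype.card Ω = p) (P : Sylow p G)
    (hN : 2 * Nat.card ↥(Subgroup.normalizer ((P : Subgroup G) : Set G)) = p * (p - 1))
    (q : ℕ) (hq : q.Prime) (hq5 : 5 < q) (hpq : p = q + 2)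
    (h3 : IsMultiplyPretransitive G Ω 3) (a b : Ω) (hab : a ≠ b) :
    ¬ Group.IsSolvable ↥(fixingSubgroup G ({a, b} : Set Ω)) := by
  classical
  have hpp : p.Prime := Fact.out
  haveI : Fact q.Prime := ⟨hq⟩
  have hsn : ({a, b} : Set Ω).ncard = 2 := Set.ncard_pair hab
  have hΩ' : Nat.card Ω = p := by rw [Nat.card_eq_fintype_card, hΩ]
  have h2 : IsMultiplyPretransitive G Ω 2 :=
    isMultiplyPretransitive_of_le (n := 3) (by norm_num) (by rw [hΩ']; omega)
  haveI hΓtr : IsPretransitive ↥(fixingSubgroup G ({a, b} : Set Ω))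
      ↥(ofFixingSubgroup G ({a, b} : Set Ω)) := by
    rw [← is_one_pretransitive_iff]
    exact ofFixingSubgroup.isMultiplyPretransitive G ({a, b} : Set Ω) (by rw [hsn])
  haveI := faithful_ofFixingSubgroup (G := G) ({a, b} : Set Ω)
  haveI : Fintype ↥(ofFixingSubgroup G ({a, b} : Set Ω)) := Fintype.ofFinite _
  have hX : Fintype.card ↥(ofFixingSubgroup G ({a, b} : Set Ω)) = q := by
    have := card_ofFixingSubgroup (G := G) ({a, b} : Set Ω)
    rw [← Nat.card_eq_fintype_card]; omega
  intro hsol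
  have h1 := card_dvd_of_solvable hX hsol
  have h2' : q ∣ Nat.card ↥(fixingSubgroup G ({a, b} : Set Ω)) := by
    have hne : Nonempty ↥(ofFixingSubgroup G ({a, b} : Set Ω)) := by
      rw [← Fintype.card_pos_iff, hX]; exact hq.pos
    obtain ⟨x⟩ := hne
    have h3' := index_stabilizer_of_transitive ↥(fixingSubgroup G ({a, b} : Set Ω)) x
    rw [Nat.card_eq_fintype_card, hX] at h3'
    rw [← h3']
    exact Subgroup.index_dvd_card _
  exact arith_false p q _ hpp hq hpq hq5 h1 h2' (two_mul_card_modEq h2 hΩ P hN a b hab)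

/-- Step 2: `G` is 4-transitive -/
theorem four_trans {G Ω : Type*} [Group G] [Finite G] [MulAction G Ω] [FaithfulSMul G Ω]
    [Fintype Ω] [DecidableEq Ω] {p : ℕ} [Fact p.Prime]
    (hΩ : Fintype.card Ω = p) (P : Sylow p G)
    (hN : 2 * Nat.card ↥(Subgroup.normalizer ((P : Subgroup G) : Set G)) = p * (p - 1))
    (q : ℕ) (hq : q.Prime) (hq5 : 5 < q) (hpq : p = q + 2)
    (h3 : IsMultiplyPretransitive G Ω 3) : IsMultiplyPretransitive G Ω 4 := by
  classical
  have hpp : p.Prime := Fact.out
  haveI : Fact q.Prime := ⟨hq⟩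
  have hcard : 1 < Fintype.card Ω := by rw [hΩ]; omega
  obtain ⟨a, b, hab⟩ := Fintype.exists_pair_of_one_lt_card hcard
  have hsn : ({a, b} : Set Ω).ncard = 2 := Set.ncard_pair hab
  have hΩ' : Nat.card Ω = p := by rw [Nat.card_eq_fintype_card, hΩ]
  have h2 : IsMultiplyPretransitive G Ω 2 :=
    isMultiplyPretransitive_of_le (n := 3) (by norm_num) (by rw [hΩ']; omega)
  haveI hΓtr : IsPretransitive ↥(fixingSubgroup G ({a, b} : Set Ω))
      ↥(ofFixingSubgroup G ({a, b} : Set Ω)) := by
    rw [← is_one_pretransitive_iff]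
    exact ofFixingSubgroup.isMultiplyPretransitive G ({a, b} : Set Ω) (by rw [hsn])
  haveI := faithful_ofFixingSubgroup (G := G) ({a, b} : Set Ω)
  haveI : Fintype ↥(ofFixingSubgroup G ({a, b} : Set Ω)) := Fintype.ofFinite _
  have hX : Fintype.card ↥(ofFixingSubgroup G ({a, b} : Set Ω)) = q := by
    have := card_ofFixingSubgroup (G := G) ({a, b} : Set Ω)
    rw [← Nat.card_eq_fintype_card]; omega
  have hins := fixing_pair_insoluble hΩ P hN q hq hq5 hpq h3 a b hab
  have h2Γ : IsMultiplyPretransitive ↥(fixingSubgroup G ({a, b} : Set Ω))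
      ↥(ofFixingSubgroup G ({a, b} : Set Ω)) 2 := by
    rw [is_two_pretransitive_iff]
    intro x y z w hxy hzw
    exact Cfsg.Agent.Helper61.Neu.exists_smul_pair' (by rw [hX]; exact hq) hins hxy hzw
  have := Cfsg.Agent.Helper12.isMultiplyPretransitive_add_of_fixingSubgroup ({a, b} : Set Ω)
    (by rw [hsn]; exact h2) h2Γ
  rwa [hsn] at this

theorem faithful_complAction_pair {G Ω : Type*} [Group G] [MulAction G Ω] [FaithfulSMul G Ω]
    (a b : Ω) (hab : a ≠ b)
    (hnt : ∀ g : G, g • a = b → g • b = a → (∀ x, x ≠ a → x ≠ b → g • x = x) → False) :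
    FaithfulSMul ↥(stabilizer G ({a, b} : Set Ω)) ↥(complAction (G := G) ({a, b} : Set Ω)) := by
  refine ⟨fun {g h} H => ?_⟩
  have hk : ∀ x : Ω, x ≠ a → x ≠ b →
      ((g⁻¹ * h : stabilizer G ({a, b} : Set Ω)) : G) • x = x := by
    intro x hxa hxb
    have hx : x ∈ complAction (G := G) ({a, b} : Set Ω) := by
      rw [mem_complAction]; simp [hxa, hxb]
    have := congrArg Subtype.val (H ⟨x, hx⟩)
    simp only [complAction_smul_coe] at this
    rw [Subgroup.coe_mul, Subgroup.coe_inv, mul_smul, ← this, inv_smul_smul]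
  have hkmem := (g⁻¹ * h).2
  rw [mem_stabilizer_set] at hkmem
  set k : G := ((g⁻¹ * h : stabilizer G ({a, b} : Set Ω)) : G) with hkdef
  have hka : k • a = a ∨ k • a = b := by
    have := (hkmem a).mpr (by simp)
    simpa using this
  have hkb : k • b = a ∨ k • b = b := by
    have := (hkmem b).mpr (by simp)
    simpa using this
  have hk1 : k = 1 := by
    rcases hka with h1 | h1
    · have h2 : k • b = b := by
        rcases hkb with h2 | h2
        · exfalso; apply hab; rw [← h1] at h2; exact (smul_left_cancel k h2).symm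
        · exact h2
      apply FaithfulSMul.eq_of_smul_eq_smul (α := Ω)
      intro x
      rw [one_smul]
      by_cases hxa : x = a
      · rw [hxa, h1]
      by_cases hxb : x = b
      · rw [hxb, h2]
      exact hk x hxa hxb
    · have h2 : k • b = a := by
        rcases hkb with h2 | h2
        · exact h2
        · exfalso; apply hab; rw [← h2] at h1; exact smul_left_cancel k h1
      exact (hnt k h1 h2 hk).elim
  have : g⁻¹ * h = 1 := Subtype.ext hk1
  exact (inv_mul_eq_one.mp this)

theorem card_complAction {G Ω : Type*} [Group G] [MulAction G Ω] [Finite Ω] (s : Set Ω) :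
    Nat.card ↥(complAction (G := G) s) + s.ncard = Nat.card Ω := by
  have : Nat.card ↥(complAction (G := G) s) = (sᶜ).ncard := by
    rw [← Nat.card_coe_set_eq]; rfl
  rw [this, add_comm]; exact Set.ncard_add_ncard_compl s

/-- Step 3: the setwise stabilizer of a pair is triply transitive on the complement -/
theorem plus_three_trans {G Ω : Type*} [Group G] [Finite G] [MulAction G Ω] [FaithfulSMul G Ω]
    [Fintype Ω] [DecidableEq Ω] [IsPretransitive G Ω] {p : ℕ} [Fact p.Prime]
    (hΩ : Fintype.card Ω = p) (P : Sylow p G)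
    (hN : 2 * Nat.card ↥(Subgroup.normalizer ((P : Subgroup G) : Set G)) = p * (p - 1))
    (q : ℕ) (hq : q.Prime) (hq5 : 5 < q) (hpq : p = q + 2)
    (h3 : IsMultiplyPretransitive G Ω 3) (a b : Ω) (hab : a ≠ b) :
    IsMultiplyPretransitive ↥(stabilizer G ({a, b} : Set Ω))
      ↥(complAction (G := G) ({a, b} : Set Ω)) 3 := by
  classical
  have hpp : p.Prime := Fact.out
  haveI : Fact q.Prime := ⟨hq⟩
  have hsn : ({a, b} : Set Ω).ncard = 2 := Set.ncard_pair hab
  have hΩ' : Nat.card Ω = p := by rw [Nat.card_eq_fintype_card, hΩ]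
  have h2 : IsMultiplyPretransitive G Ω 2 :=
    isMultiplyPretransitive_of_le (n := 3) (by norm_num) (by rw [hΩ']; omega)
  haveI hΓtr : IsPretransitive ↥(fixingSubgroup G ({a, b} : Set Ω))
      ↥(ofFixingSubgroup G ({a, b} : Set Ω)) := by
    rw [← is_one_pretransitive_iff]
    exact ofFixingSubgroup.isMultiplyPretransitive G ({a, b} : Set Ω) (by rw [hsn])
  have hle : fixingSubgroup G ({a, b} : Set Ω) ≤ stabilizer G ({a, b} : Set Ω) :=
    MulAction.fixingSubgroup_le_stabilizer G _
  -- faithful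
  haveI := faithful_complAction_pair (G := G) a b hab
    (fun g hga hgb hfix => no_transposition hΩ (by omega) P hN a b hab g hga hgb hfix)
  -- transitive
  haveI : IsPretransitive ↥(stabilizer G ({a, b} : Set Ω))
      ↥(complAction (G := G) ({a, b} : Set Ω)) := by
    refine ⟨fun x y => ?_⟩
    obtain ⟨g, hg⟩ := hΓtr.exists_smul_eq ⟨x.1, x.2⟩ ⟨y.1, y.2⟩
    refine ⟨⟨g.1, hle g.2⟩, ?_⟩
    apply Subtype.ext
    exact congrArg Subtype.val hg
  haveI : Fintype ↥(complAction (G := G) ({a, b} : Set Ω)) := Fintype.ofFinite _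
  have hX : Fintype.card ↥(complAction (G := G) ({a, b} : Set Ω)) = q := by
    have := card_complAction (G := G) ({a, b} : Set Ω)
    rw [← Nat.card_eq_fintype_card]; omega
  -- insoluble
  have hins : ¬ Group.IsSolvable ↥(stabilizer G ({a, b} : Set Ω)) := by
    intro hsol
    apply fixing_pair_insoluble hΩ P hN q hq hq5 hpq h3 a b hab
    exact Group.isSolvable_of_isSolvable_injective (f := Subgroup.inclusion hle)
      (Subgroup.inclusion_injective hle)
  -- the normalizer is even
  obtain ⟨g, hga, hgb⟩ := (is_two_pretransitive_iff.mp h2) hab hab.symm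
  have hidx := index_fixing_pair (G := G) a b hab g hga hgb
  have hq2 : q ≠ 2 := by omega
  let Q : Sylow q ↥(stabilizer G ({a, b} : Set Ω)) := default
  have heven := even_card_normalizer_of_index_two
    ((fixingSubgroup G ({a, b} : Set Ω)).subgroupOf (stabilizer G ({a, b} : Set Ω))) hidx hq2 Q
  exact three_trans_of_even hX hins Q heven

theorem ncard_four {Ω : Type*} {a b c d : Ω} (hab : a ≠ b) (hac : a ≠ c) (had : a ≠ d)
    (hbc : b ≠ c) (hbd : b ≠ d) (hcd : c ≠ d) : ({a, b, c, d} : Set Ω).ncard = 4 := by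
  rw [Set.ncard_insert_of_notMem (by simp [hab, hac, had]),
    Set.ncard_insert_of_notMem (by simp [hbc, hbd]), Set.ncard_pair hcd]

/-- Step 4: `G` is 5-transitive -/
theorem five_trans {G Ω : Type*} [Group G] [Finite G] [MulAction G Ω] [FaithfulSMul G Ω]
    [Fintype Ω] [DecidableEq Ω] [IsPretransitive G Ω] {p : ℕ} [Fact p.Prime]
    (hΩ : Fintype.card Ω = p) (P : Sylow p G)
    (hN : 2 * Nat.card ↥(Subgroup.normalizer ((P : Subgroup G) : Set G)) = p * (p - 1))
    (q : ℕ) (hq : q.Prime) (hq5 : 5 < q) (hpq : p = q + 2)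
    (h3 : IsMultiplyPretransitive G Ω 3) : IsMultiplyPretransitive G Ω 5 := by
  classical
  have hpp : p.Prime := Fact.out
  have h4 := four_trans hΩ P hN q hq hq5 hpq h3
  have hcard : Fintype.card (Fin 4) ≤ Fintype.card Ω := by rw [hΩ, Fintype.card_fin]; omega
  obtain ⟨e⟩ := Function.Embedding.nonempty_of_card_le hcard
  have hne : ∀ i j : Fin 4, i ≠ j → e i ≠ e j := fun i j hij => e.injective.ne hij
  have hab := hne 0 1 (by decide)
  have hac := hne 0 2 (by decide)
  have had := hne 0 3 (by decide)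
  have hbc := hne 1 2 (by decide)
  have hbd := hne 1 3 (by decide)
  have hcd := hne 2 3 (by decide)
  have hsn := ncard_four hab hac had hbc hbd hcd
  have hodd : Odd (Fintype.card Ω) := by
    rw [hΩ]
    rcases hpp.eq_two_or_odd' with h | h
    · omega
    · exact h
  have h3plus := plus_three_trans hΩ P hN q hq hq5 hpq h3 (e 0) (e 1) hab
  have h1 := pretransitive_fixing_four hodd (e 0) (e 1) (e 2) (e 3) hab hac had hbc hbd hcd h3plus
  have := Cfsg.Agent.Helper12.isMultiplyPretransitive_add_of_fixingSubgroup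
    ({e 0, e 1, e 2, e 3} : Set Ω) (k := 1)
    (by rw [hsn]; exact h4) (is_one_pretransitive_iff.mpr h1)
  rwa [hsn] at this

end Cfsg.Agent.Helper58.N3
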