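import Mathlib
import Cfsg.Agent.S0713
import Cfsg.Agent.S3620
import Cfsg.Agent.Helper58.N3Glue
import Cfsg.Agent.Helper23.N4COMM
import Cfsg.Agent.Helper23.N4FIXMOD
import Cfsg.Agent.Helper33.N4JOR3
import Cfsg.Agent.Helper33.N4JORR
import Cfsg.Agent.Helper42.N4FINAL
import Cfsg.Agent.Helper64.N4EMB
import Cfsg.Agent.Helper64.N4QP
import Cfsg.Agent.Helper70.N4ORB
import Cfsg.Agent.Helper70.N4WITT
import Cfsg.Agent.Helper87.N4TRICK
import Cfsg.Agent.Helper88.N4MAXORD
import Cfsg.Agent.Helper89.N4EXR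

set_option autoImplicit false

namespace Cfsg.Agent.Helper58.N4

open MulAction
open scoped Pointwise
open Cfsg.Agent.Helper23.N4 Cfsg.Agent.Helper33.N4 Cfsg.Agent.Helper42.N4 Cfsg.Agent.Helper64.N4
  Cfsg.Agent.Helper70.N4 Cfsg.Agent.Helper87.N4 Cfsg.Agent.Helper88.N4 Cfsg.Agent.Helper89.N4

section basic

variable {G Ω : Type*} [Group G] [MulAction G Ω]

theorem pow_smul_swap (w : G) (a b : Ω) (h1 : w • a = b) (h2 : w • b = a) (m : ℕ)
    (hm : Odd m) : w ^ m • a = b := by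
  obtain ⟨j, rfl⟩ := hm
  have h : ∀ j : ℕ, w ^ (2 * j) • a = a := by
    intro j
    induction j with
    | zero => simp
    | succ j ih =>
      rw [show 2 * (j + 1) = 2 * j + 2 by ring, pow_add, mul_smul, pow_two, mul_smul, h1, h2, ih]
  rw [pow_succ, mul_smul, h1]
  -- w^(2j) • b = b
  have h' : ∀ j : ℕ, w ^ (2 * j) • b = b := by
    intro j
    induction j with
    | zero => simp
    | succ j ih =>
      rw [show 2 * (j + 1) = 2 * j + 2 by ring, pow_add, mul_smul, pow_two, mul_smul, h2, h1, ih]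
  exact h' j

theorem pow_smul_three (c : G) (x y z : Ω) (hx : c • x = y) (hy : c • y = z) (hz : c • z = x)
    (hxy : x ≠ y) (hxz : x ≠ z) (m : ℕ) (hm : ¬ 3 ∣ m) : c ^ m • x ≠ x := by
  have h3 : ∀ j : ℕ, c ^ (3 * j) • x = x := by
    intro j
    induction j with
    | zero => simp
    | succ j ih =>
      rw [show 3 * (j + 1) = 3 * j + 3 by ring, pow_add, mul_smul,
        show c ^ 3 = c * c * c by rw [pow_succ, pow_two], mul_smul, mul_smul, hx, hy, hz, ih]
  have hm' : m % 3 = 1 ∨ m % 3 = 2 := by omega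
  rcases hm' with h | h
  · have : m = 3 * (m / 3) + 1 := by omega
    rw [this, pow_succ, mul_smul, hx]
    intro hcon
    -- c^(3j) y = x, but c^(3j) x = x
    have := (h3 (m / 3)).trans hcon.symm
    exact hxy (smul_left_cancel _ this)
  · have : m = 3 * (m / 3) + 2 := by omega
    rw [this, pow_add, mul_smul, pow_two, mul_smul, hx, hy]
    intro hcon
    have := (h3 (m / 3)).trans hcon.symm
    exact hxz (smul_left_cancel _ this)

theorem zpowers_le_stabilizer (ρ : G) (s : Ω) (h : ρ • s = s) :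
    Subgroup.zpowers ρ ≤ stabilizer G s := by
  rw [Subgroup.zpowers_le]
  exact h

end basic

section main

variable {G Ω : Type*} [Group G] [MulAction G Ω] [Fintype Ω] [DecidableEq Ω]

/-- fixed points of an element, as a Finset -/
def fixF (Ω : Type*) [MulAction G Ω] [Fintype Ω] [DecidableEq Ω] (ρ : G) : Finset Ω :=
  Finset.univ.filter (fun x : Ω => ρ • x = x)

theorem mem_fixF {ρ : G} {x : Ω} : x ∈ fixF Ω ρ ↔ ρ • x = x := by simp [fixF]

theorem perm_fin_two_sq (σ : Equiv.Perm (Fin 2)) : σ ^ 2 = 1 := by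
  revert σ; decide

theorem perm_fin_three_comm_cube (σ τ : Equiv.Perm (Fin 3)) :
    (σ * τ * σ⁻¹ * τ⁻¹) ^ 3 = 1 := by
  revert σ τ; decide +kernel

theorem normalizer_realizes [Finite G] {r : ℕ} [Fact r.Prime] (ρ : G) (hρ : orderOf ρ = r)
    (S : Finset Ω) (hSfix : ∀ s ∈ S, ρ • s = s)
    (hmax : ∀ V : Subgroup G, IsPGroup r V → V ≤ fixingSubgroup G (S : Set Ω) → Nat.card V ≤ r)
    (g : G) (hg : ∀ s ∈ S, ρ • (g • s) = g • s) :
    ∃ n ∈ Subgroup.normalizer ((Subgroup.zpowers ρ : Subgroup G) : Set G),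
      ∀ s ∈ S, n • s = g • s := by
  have hcardU : Nat.card (Subgroup.zpowers ρ) = r := by rw [Nat.card_zpowers, hρ]
  have hU : IsPGroup r (Subgroup.zpowers ρ) :=
    IsPGroup.of_card (n := 1) (by rw [hcardU, pow_one])
  have hUS : Subgroup.zpowers ρ ≤ fixingSubgroup G (S : Set Ω) := by
    intro u hu
    rw [mem_fixingSubgroup_iff]
    intro s hs
    exact zpowers_le_stabilizer ρ s (hSfix s hs) hu
  obtain ⟨n, hn, hns⟩ := exists_mem_normalizer_smul_eq (S : Set Ω) (Subgroup.zpowers ρ) hU hUS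
    (fun V hV hVS => by rw [hcardU]; exact hmax V hV hVS) g
    (fun s hs u hu => zpowers_le_stabilizer ρ (g • s) (hg s hs) hu)
  exact ⟨n, hn, fun s hs => hns s hs⟩

/-- two orbits: the `2r`-th power of the commutator of two "transpositions" in the normalizer is
supported on the fixed points of `ρ` and non-trivial there -/
theorem exists_supported_two {r : ℕ} (hr : r.Prime) (hr3 : r ≠ 3) (ρ : G) (hρ : ρ ^ r = 1)
    (hcard : Fintype.card Ω = 2 * r + (fixF Ω ρ).card) (n₁ n₂ : G)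
    (hn₁ : n₁ ∈ Subgroup.normalizer ((Subgroup.zpowers ρ : Subgroup G) : Set G))
    (hn₂ : n₂ ∈ Subgroup.normalizer ((Subgroup.zpowers ρ : Subgroup G) : Set G))
    (x₁ x₂ x₃ : Ω) (h12 : x₁ ≠ x₂) (h13 : x₁ ≠ x₃)
    (h11 : n₁ • x₁ = x₂) (h12' : n₁ • x₂ = x₁) (h13' : n₁ • x₃ = x₃)
    (h21 : n₂ • x₁ = x₃) (h23 : n₂ • x₃ = x₁) (h22 : n₂ • x₂ = x₂) :
    ∃ g : G, (∀ x : Ω, ρ • x ≠ x → g • x = x) ∧ g • x₁ ≠ x₁ := by
  have hc := commutator_mem_centralizer ρ n₁ n₂ hn₁ hn₂
  set c : G := n₁ * n₂ * n₁⁻¹ * n₂⁻¹ with hcdef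
  have i21 : n₂⁻¹ • x₁ = x₃ := inv_smul_eq_iff.mpr h23.symm
  have i23 : n₂⁻¹ • x₃ = x₁ := inv_smul_eq_iff.mpr h21.symm
  have i22 : n₂⁻¹ • x₂ = x₂ := inv_smul_eq_iff.mpr h22.symm
  have i11 : n₁⁻¹ • x₁ = x₂ := inv_smul_eq_iff.mpr h12'.symm
  have i12 : n₁⁻¹ • x₂ = x₁ := inv_smul_eq_iff.mpr h11.symm
  have i13 : n₁⁻¹ • x₃ = x₃ := inv_smul_eq_iff.mpr h13'.symm
  have c1 : c • x₁ = x₂ := by
    rw [hcdef, mul_smul, mul_smul, mul_smul, i21, i13, h23, h11]
  have c2 : c • x₂ = x₃ := by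
    rw [hcdef, mul_smul, mul_smul, mul_smul, i22, i12, h21, h13']
  have c3 : c • x₃ = x₁ := by
    rw [hcdef, mul_smul, mul_smul, mul_smul, i23, i11, h22, h12']
  obtain ⟨ψ, hψ⟩ := exists_orbit_hom ρ r 2 hr hρ hcard
  refine ⟨(c ^ 2) ^ r, ?_, ?_⟩
  · intro x hx
    have h1 : ψ ((⟨c, hc⟩ : ↥(Subgroup.centralizer ({ρ} : Set G))) ^ 2) = 1 := by
      rw [map_pow]
      exact perm_fin_two_sq _
    exact hψ _ h1 x hx
  · rw [← pow_mul]
    apply pow_smul_three c x₁ x₂ x₃ c1 c2 c3 h12 h13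
    intro h3
    have : 3 ∣ r := (Nat.Coprime.dvd_mul_left (by norm_num : Nat.Coprime 3 2)).mp h3
    exact hr3 ((Nat.prime_dvd_prime_iff_eq Nat.prime_three hr).mp this).symm

/-- three orbits -/
theorem exists_supported_three {r : ℕ} (hr : r.Prime) (hr2 : r ≠ 2) (ρ : G) (hρ : ρ ^ r = 1)
    (hcard : Fintype.card Ω = 3 * r + (fixF Ω ρ).card) (nb nc nd : G)
    (hnb : nb ∈ Subgroup.normalizer ((Subgroup.zpowers ρ : Subgroup G) : Set G))
    (hnc : nc ∈ Subgroup.normalizer ((Subgroup.zpowers ρ : Subgroup G) : Set G))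
    (hnd : nd ∈ Subgroup.normalizer ((Subgroup.zpowers ρ : Subgroup G) : Set G))
    (a b c d : Ω) (hab : a ≠ b)
    (hb1 : nb • a = b) (hb2 : nb • b = a) (hb3 : nb • c = c) (hb4 : nb • d = d)
    (hc1 : nc • a = c) (hc2 : nc • c = a) (hc3 : nc • b = b) (hc4 : nc • d = d)
    (hd1 : nd • a = d) (hd2 : nd • d = a) (hd3 : nd • b = b) (hd4 : nd • c = c) :
    ∃ g : G, (∀ x : Ω, ρ • x ≠ x → g • x = x) ∧ g • a ≠ a := by
  have hu := commutator_mem_centralizer ρ nb nc hnb hnc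
  have hv := commutator_mem_centralizer ρ nb nd hnb hnd
  set u : G := nb * nc * nb⁻¹ * nc⁻¹ with hudef
  set v : G := nb * nd * nb⁻¹ * nd⁻¹ with hvdef
  have ib1 : nb⁻¹ • a = b := inv_smul_eq_iff.mpr hb2.symm
  have ib2 : nb⁻¹ • b = a := inv_smul_eq_iff.mpr hb1.symm
  have ib3 : nb⁻¹ • c = c := inv_smul_eq_iff.mpr hb3.symm
  have ib4 : nb⁻¹ • d = d := inv_smul_eq_iff.mpr hb4.symm
  have ic1 : nc⁻¹ • a = c := inv_smul_eq_iff.mpr hc2.symm
  have ic2 : nc⁻¹ • c = a := inv_smul_eq_iff.mpr hc1.symm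
  have ic3 : nc⁻¹ • b = b := inv_smul_eq_iff.mpr hc3.symm
  have ic4 : nc⁻¹ • d = d := inv_smul_eq_iff.mpr hc4.symm
  have id1 : nd⁻¹ • a = d := inv_smul_eq_iff.mpr hd2.symm
  have id2 : nd⁻¹ • d = a := inv_smul_eq_iff.mpr hd1.symm
  have id3 : nd⁻¹ • b = b := inv_smul_eq_iff.mpr hd3.symm
  have id4 : nd⁻¹ • c = c := inv_smul_eq_iff.mpr hd4.symm
  -- u = (a b c), v = (a b d)
  have ua : u • a = b := by rw [hudef, mul_smul, mul_smul, mul_smul, ic1, ib3, hc2, hb1]
  have ub : u • b = c := by rw [hudef, mul_smul, mul_smul, mul_smul, ic3, ib2, hc1, hb3]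
  have uc : u • c = a := by rw [hudef, mul_smul, mul_smul, mul_smul, ic2, ib1, hc3, hb2]
  have ud : u • d = d := by rw [hudef, mul_smul, mul_smul, mul_smul, ic4, ib4, hc4, hb4]
  have va : v • a = b := by rw [hvdef, mul_smul, mul_smul, mul_smul, id1, ib4, hd2, hb1]
  have vb : v • b = d := by rw [hvdef, mul_smul, mul_smul, mul_smul, id3, ib2, hd1, hb4]
  have vd : v • d = a := by rw [hvdef, mul_smul, mul_smul, mul_smul, id2, ib1, hd3, hb2]
  have vc : v • c = c := by rw [hvdef, mul_smul, mul_smul, mul_smul, id4, ib3, hd4, hb3]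
  have iua : u⁻¹ • a = c := inv_smul_eq_iff.mpr uc.symm
  have iud : u⁻¹ • d = d := inv_smul_eq_iff.mpr ud.symm
  have iva : v⁻¹ • a = d := inv_smul_eq_iff.mpr vd.symm
  have ivb : v⁻¹ • b = a := inv_smul_eq_iff.mpr va.symm
  set w : G := u * v * u⁻¹ * v⁻¹ with hwdef
  have wa : w • a = b := by rw [hwdef, mul_smul, mul_smul, mul_smul, iva, iud, vd, ua]
  have wb : w • b = a := by rw [hwdef, mul_smul, mul_smul, mul_smul, ivb, iua, vc, uc]
  obtain ⟨ψ, hψ⟩ := exists_orbit_hom ρ r 3 hr hρ hcard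
  let U : ↥(Subgroup.centralizer ({ρ} : Set G)) := ⟨u, hu⟩
  let V : ↥(Subgroup.centralizer ({ρ} : Set G)) := ⟨v, hv⟩
  refine ⟨(w ^ 3) ^ r, ?_, ?_⟩
  · intro x hx
    have h1 : ψ ((U * V * U⁻¹ * V⁻¹) ^ 3) = 1 := by
      rw [map_pow, map_mul, map_mul, map_mul, map_inv, map_inv]
      exact perm_fin_three_comm_cube _ _
    exact hψ _ h1 x hx
  · rw [← pow_mul, pow_smul_swap w a b wa wb (3 * r)]
    · exact hab.symm
    · rcases hr.eq_two_or_odd' with h | h
      · exact absurd h hr2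
      · exact Odd.mul (by decide) h

/-- `hmax` from a bound on the number of fixed points of elements of order `r` -/
theorem card_le_of_fix_lt [Finite G] [FaithfulSMul G Ω] {r : ℕ} [Fact r.Prime]
    (hΩ2 : Fintype.card Ω < r ^ 2) (S : Finset Ω)
    (hall : ∀ v : G, orderOf v = r → (fixF Ω v).card < S.card + r) :
    ∀ V : Subgroup G, IsPGroup r V → V ≤ fixingSubgroup G (S : Set Ω) → Nat.card V ≤ r := by
  intro V hV hVS
  by_contra hcon
  push Not at hcon
  have hr : r.Prime := Fact.out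
  -- V is non-trivial, so it moves a point
  have hV1 : ∃ u0 ∈ V, u0 ≠ 1 := by
    by_contra h
    push Not at h
    have : V = ⊥ := by
      rw [Subgroup.eq_bot_iff_forall]
      exact h
    rw [this, Subgroup.card_bot] at hcon
    have := hr.one_lt
    omega
  obtain ⟨u0, hu0, hu01⟩ := hV1
  have hmove : ∃ x : Ω, u0 • x ≠ x := by
    by_contra h
    push Not at h
    apply hu01
    apply FaithfulSMul.eq_of_smul_eq_smul (α := Ω)
    intro x
    rw [h x, one_smul]
  obtain ⟨x, hx⟩ := hmove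
  obtain ⟨v, hvV, hvr, hvfix⟩ := exists_orderOf_eq_fixing_orbit V hV hΩ2 hcon x
  -- the orbit of x under V, as a Finset
  classical
  haveI : Fintype ↥(orbit ↥V x) := Fintype.ofFinite _
  let O : Finset Ω := (orbit ↥V x).toFinset
  have hOmem : ∀ y : Ω, y ∈ O ↔ ∃ u ∈ V, u • x = y := by
    intro y
    simp only [O, Set.mem_toFinset]
    constructor
    · rintro ⟨u, rfl⟩
      exact ⟨u.1, u.2, rfl⟩
    · rintro ⟨u, hu, rfl⟩
      exact ⟨⟨u, hu⟩, rfl⟩
  have hOcard : r ≤ O.card := by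
    obtain ⟨n, hn⟩ := hV.card_orbit x
    have hO : Nat.card ↥(orbit ↥V x) = O.card := by
      rw [Nat.card_eq_fintype_card, ← Set.toFinset_card]
    rw [hO] at hn
    have hn0 : n ≠ 0 := by
      rintro rfl
      rw [pow_zero, Finset.card_eq_one] at hn
      obtain ⟨y, hy⟩ := hn
      have h1 : x ∈ O := (hOmem x).mpr ⟨1, V.one_mem, one_smul _ _⟩
      have h2 : u0 • x ∈ O := (hOmem _).mpr ⟨u0, hu0, rfl⟩
      rw [hy, Finset.mem_singleton] at h1 h2
      exact hx (h2.trans h1.symm)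
    rw [hn]
    calc r = r ^ 1 := (pow_one r).symm
      _ ≤ r ^ n := Nat.pow_le_pow_right hr.pos (Nat.one_le_iff_ne_zero.mpr hn0)
  have hdisj : Disjoint S O := by
    rw [Finset.disjoint_left]
    intro y hyS hyO
    obtain ⟨u, hu, rfl⟩ := (hOmem y).mp hyO
    have h2 : ∀ w ∈ V, w • (u • x) = u • x := by
      intro w hw
      have := hVS hw
      rw [mem_fixingSubgroup_iff] at this
      exact this _ hyS
    apply hx
    have h3 := h2 (u * u0 * u⁻¹) (V.mul_mem (V.mul_mem hu hu0) (V.inv_mem hu))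
    rw [mul_smul, mul_smul, inv_smul_smul] at h3
    exact smul_left_cancel u h3
  have hsub : S ∪ O ⊆ fixF Ω v := by
    intro y hy
    rw [mem_fixF]
    rcases Finset.mem_union.mp hy with h | h
    · have := hVS hvV
      rw [mem_fixingSubgroup_iff] at this
      exact this _ h
    · obtain ⟨u, hu, rfl⟩ := (hOmem y).mp h
      exact hvfix u hu
  have := Finset.card_le_card hsub
  rw [Finset.card_union_of_disjoint hdisj] at this
  have := hall v hvr
  omega

/-- possible numbers of fixed points of an element of order `r` -/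
theorem fix_vals [FaithfulSMul G Ω] {r : ℕ} [Fact r.Prime] (v : G) (hv : orderOf v = r) :
    ∃ j : ℕ, 1 ≤ j ∧ (fixF Ω v).card + r * j = Fintype.card Ω := by
  have hr : r.Prime := Fact.out
  have hvr : v ^ r = 1 := by rw [← hv]; exact pow_orderOf_eq_one v
  have hmod := card_fixed_modEq (Ω := Ω) v hvr
  have hle : (fixF Ω v).card ≤ Fintype.card Ω := by
    rw [← Finset.card_univ]
    exact Finset.card_le_card (Finset.subset_univ _)
  have hdvd : r ∣ Fintype.card Ω - (fixF Ω v).card := (Nat.modEq_iff_dvd' hle).mp hmod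
  obtain ⟨j, hj⟩ := hdvd
  refine ⟨j, ?_, by omega⟩
  by_contra h0
  have hj0 : j = 0 := by omega
  rw [hj0, mul_zero] at hj
  -- all points fixed, so v = 1
  have hall : fixF Ω v = Finset.univ := by
    apply Finset.eq_univ_of_card
    omega
  have hv1 : v = 1 := by
    apply FaithfulSMul.eq_of_smul_eq_smul (α := Ω)
    intro x
    rw [one_smul]
    have : x ∈ fixF Ω v := by rw [hall]; exact Finset.mem_univ x
    exact mem_fixF.mp this
  rw [hv1, orderOf_one] at hv
  exact hr.one_lt.ne' hv.symm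

theorem inj3 {α : Type*} {a b c : α} (hab : a ≠ b) (hac : a ≠ c) (hbc : b ≠ c) :
    Function.Injective ![a, b, c] := by
  intro i j hij
  fin_cases i <;> fin_cases j <;> simp_all

theorem inj4 {α : Type*} {a b c d : α} (hab : a ≠ b) (hac : a ≠ c) (had : a ≠ d) (hbc : b ≠ c)
    (hbd : b ≠ d) (hcd : c ≠ d) : Function.Injective ![a, b, c, d] := by
  intro i j hij
  fin_cases i <;> fin_cases j <;> simp_all

theorem inj5 {α : Type*} {a b c d e : α} (hab : a ≠ b) (hac : a ≠ c) (had : a ≠ d) (hae : a ≠ e)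
    (hbc : b ≠ c) (hbd : b ≠ d) (hbe : b ≠ e) (hcd : c ≠ d) (hce : c ≠ e) (hde : d ≠ e) :
    Function.Injective ![a, b, c, d, e] := by
  intro i j hij
  fin_cases i <;> fin_cases j <;> simp_all

/-- endgame: a non-trivial element of small support in a highly transitive group -/
theorem alt_of_small (S : Finset Ω) (hS2 : 2 ≤ S.card) (hk : IsMultiplyPretransitive G Ω S.card)
    (hS : S.card < Fintype.card Ω) (g : G) (hsupp : ∀ x : Ω, x ∉ S → g • x = x)
    (hg : ∃ x : Ω, g • x ≠ x) :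
    ∀ σ : Equiv.Perm Ω, Equiv.Perm.sign σ = 1 →
      ∃ k : G, (MulAction.toPerm k : Equiv.Perm Ω) = σ := by
  haveI := hk
  have h2 : IsMultiplyPretransitive G Ω 2 :=
    isMultiplyPretransitive_of_le (n := S.card) hS2 (by rw [Nat.card_eq_fintype_card]; omega)
  obtain ⟨g', x, y, z, hxy, hyz, hxz, hx, hy, hz, hfix⟩ :=
    exists_three_cycle_of_support S hk hS g hsupp hg
  exact alt_of_three_cycle h2 g' x y z hxy hyz hxz hx hy hz hfix

/-- Case 1: degree `2r + 3` -/
theorem alt_case_one [Finite G] [FaithfulSMul G Ω] {r : ℕ} (hr : r.Prime) (hr5 : 5 ≤ r)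
    (hcard : Fintype.card Ω = 2 * r + 3) (h4 : IsMultiplyPretransitive G Ω 4) :
    ∀ σ : Equiv.Perm Ω, Equiv.Perm.sign σ = 1 →
      ∃ k : G, (MulAction.toPerm k : Equiv.Perm Ω) = σ := by
  haveI : Fact r.Prime := ⟨hr⟩
  haveI := h4
  have hNat : Nat.card Ω = 2 * r + 3 := by rw [Nat.card_eq_fintype_card, hcard]
  have h3 : IsMultiplyPretransitive G Ω 3 :=
    isMultiplyPretransitive_of_le (n := 4) (by norm_num) (by rw [hNat]; omega)
  have h2 : IsMultiplyPretransitive G Ω 2 :=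
    isMultiplyPretransitive_of_le (n := 4) (by norm_num) (by rw [hNat]; omega)
  -- fixed point counts
  have hvals : ∀ v : G, orderOf v = r → (fixF Ω v).card = 3 ∨ (fixF Ω v).card = r + 3 := by
    intro v hv
    obtain ⟨j, hj1, hj⟩ := fix_vals (Ω := Ω) v hv
    rw [hcard] at hj
    have hj3 : j < 3 := by
      by_contra h
      push Not at h
      have : r * 3 ≤ r * j := Nat.mul_le_mul_left r h
      omega
    interval_cases j
    · right; omega
    · left; omega
  by_cases hcyc : ∃ v : G, orderOf v = r ∧ (fixF Ω v).card = r + 3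
  · obtain ⟨v, hv, hvf⟩ := hcyc
    refine alt_of_prime_cycle h2 hr (by omega) v ?_ ?_
    · intro x
      rw [← hv, pow_orderOf_eq_one, one_smul]
    · have : (Finset.univ.filter (fun x : Ω => v • x = x)).card = r + 3 := hvf
      rw [this, hcard]; omega
  · push Not at hcyc
    have hall : ∀ v : G, orderOf v = r → (fixF Ω v).card = 3 := by
      intro v hv
      rcases hvals v hv with h | h
      · exact h
      · exact absurd h (hcyc v hv)
    obtain ⟨ρ, hρ⟩ := exists_orderOf_eq_of_dvd (G := G) (Ω := Ω) (r := r) 3 h4 (by omega)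
      (by rw [hcard]; exact ⟨2, by omega⟩)
    have hρr : ρ ^ r = 1 := by rw [← hρ]; exact pow_orderOf_eq_one ρ
    have hF := hall ρ hρ
    obtain ⟨a, b, c, hab, hac, hbc, hFeq⟩ := Finset.card_eq_three.mp hF
    have hΩ2 : Fintype.card Ω < r ^ 2 := by rw [hcard]; nlinarith
    have hmax := card_le_of_fix_lt (G := G) hΩ2 (fixF Ω ρ)
      (fun v hv => by rw [hall v hv, hF]; omega)
    have hSfix : ∀ s ∈ fixF Ω ρ, ρ • s = s := fun s hs => mem_fixF.mp hs
    have ha : ρ • a = a := mem_fixF.mp (by rw [hFeq]; simp)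
    have hb : ρ • b = b := mem_fixF.mp (by rw [hFeq]; simp)
    have hc : ρ • c = c := mem_fixF.mp (by rw [hFeq]; simp)
    -- transposition (a b)
    obtain ⟨g₁, hg₁⟩ := exists_smul_eq_of_list 3 h3 ![a, b, c] ![b, a, c]
      (inj3 hab hac hbc) (inj3 hab.symm hbc hac)
    have g11 : g₁ • a = b := hg₁ 0
    have g12 : g₁ • b = a := hg₁ 1
    have g13 : g₁ • c = c := hg₁ 2
    obtain ⟨n₁, hn₁, hn₁s⟩ := normalizer_realizes ρ hρ (fixF Ω ρ) hSfix hmax g₁ (by
      intro s hs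
      rw [hFeq] at hs
      simp only [Finset.mem_insert, Finset.mem_singleton] at hs
      rcases hs with rfl | rfl | rfl
      · rw [g11]; exact hb
      · rw [g12]; exact ha
      · rw [g13]; exact hc)
    obtain ⟨g₂, hg₂⟩ := exists_smul_eq_of_list 3 h3 ![a, b, c] ![c, b, a]
      (inj3 hab hac hbc) (inj3 hbc.symm hac.symm hab.symm)
    have g21 : g₂ • a = c := hg₂ 0
    have g22 : g₂ • b = b := hg₂ 1
    have g23 : g₂ • c = a := hg₂ 2
    obtain ⟨n₂, hn₂, hn₂s⟩ := normalizer_realizes ρ hρ (fixF Ω ρ) hSfix hmax g₂ (by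
      intro s hs
      rw [hFeq] at hs
      simp only [Finset.mem_insert, Finset.mem_singleton] at hs
      rcases hs with rfl | rfl | rfl
      · rw [g21]; exact hc
      · rw [g22]; exact hb
      · rw [g23]; exact ha)
    have haF : a ∈ fixF Ω ρ := by rw [hFeq]; simp
    have hbF : b ∈ fixF Ω ρ := by rw [hFeq]; simp
    have hcF : c ∈ fixF Ω ρ := by rw [hFeq]; simp
    obtain ⟨g, hgsupp, hga⟩ := exists_supported_two hr (by omega) ρ hρr
      (by rw [hcard, hF]) n₁ n₂ hn₁ hn₂ a b c hab hac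
      ((hn₁s a haF).trans g11) ((hn₁s b hbF).trans g12) ((hn₁s c hcF).trans g13)
      ((hn₂s a haF).trans g21) ((hn₂s c hcF).trans g23) ((hn₂s b hbF).trans g22)
    refine alt_of_small (fixF Ω ρ) (by omega) (by rw [hF]; exact h3) (by rw [hF, hcard]; omega) g
      ?_ ⟨a, hga⟩
    intro x hx
    by_contra hgx
    apply hx
    rw [mem_fixF]
    by_contra hρx
    exact hgx (hgsupp x hρx)

/-- elements normalizing `zpowers ρ` permute the fixed points of `ρ` -/
theorem smul_fixed_of_mem_normalizer (ρ n : G)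
    (hn : n ∈ Subgroup.normalizer ((Subgroup.zpowers ρ : Subgroup G) : Set G)) (x : Ω)
    (hx : ρ • x = x) : ρ • (n • x) = n • x := by
  -- n⁻¹ ρ n ∈ zpowers ρ fixes x
  have hn' : n⁻¹ ∈ Subgroup.normalizer ((Subgroup.zpowers ρ : Subgroup G) : Set G) :=
    Subgroup.inv_mem _ hn
  have h1 : n⁻¹ * ρ * n⁻¹⁻¹ ∈ Subgroup.zpowers ρ :=
    (Subgroup.mem_normalizer_iff.mp hn' ρ).mp (Subgroup.mem_zpowers ρ)
  rw [inv_inv] at h1
  have h2 : (n⁻¹ * ρ * n) • x = x := zpowers_le_stabilizer ρ x hx h1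
  rw [mul_smul, mul_smul, inv_smul_eq_iff] at h2
  exact h2

/-- the normalizer of `zpowers ρ` is triply transitive on the fixed points of `ρ` -/
theorem normalizer_three_trans [Finite G] {r : ℕ} [Fact r.Prime]
    (h5 : IsMultiplyPretransitive G Ω 5) (ρ : G) (hρ : orderOf ρ = r)
    (hmax : ∀ S : Finset Ω, S.card = 5 → ∀ V : Subgroup G, IsPGroup r V →
      V ≤ fixingSubgroup G (S : Set Ω) → Nat.card V ≤ r)
    (hSig : 8 ≤ (fixF Ω ρ).card)
    (u v w u' v' w' : Ω) (hu : ρ • u = u) (hv : ρ • v = v) (hw : ρ • w = w)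
    (hu' : ρ • u' = u') (hv' : ρ • v' = v') (hw' : ρ • w' = w')
    (huv : u ≠ v) (huw : u ≠ w) (hvw : v ≠ w) (huv' : u' ≠ v') (huw' : u' ≠ w') (hvw' : v' ≠ w') :
    ∃ n ∈ Subgroup.normalizer ((Subgroup.zpowers ρ : Subgroup G) : Set G),
      n • u = u' ∧ n • v = v' ∧ n • w = w' := by
  -- two more fixed points
  have hT : 2 ≤ (fixF Ω ρ \ {u, v, w, u', v', w'}).card := by
    have h1 := Finset.le_card_sdiff ({u, v, w, u', v', w'} : Finset Ω) (fixF Ω ρ)
    have h2 : ({u, v, w, u', v', w'} : Finset Ω).card ≤ 6 := Finset.card_le_six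
    omega
  obtain ⟨T, hTsub, hTcard⟩ := Finset.exists_subset_card_eq hT
  obtain ⟨e₁, e₂, he, hTeq⟩ := Finset.card_eq_two.mp hTcard
  have he₁ : e₁ ∈ fixF Ω ρ \ {u, v, w, u', v', w'} := hTsub (by rw [hTeq]; simp)
  have he₂ : e₂ ∈ fixF Ω ρ \ {u, v, w, u', v', w'} := hTsub (by rw [hTeq]; simp)
  rw [Finset.mem_sdiff] at he₁ he₂
  simp only [Finset.mem_insert, Finset.mem_singleton, not_or] at he₁ he₂
  obtain ⟨he₁F, h1u, h1v, h1w, h1u', h1v', h1w'⟩ := he₁
  obtain ⟨he₂F, h2u, h2v, h2w, h2u', h2v', h2w'⟩ := he₂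
  have hxs : Function.Injective ![u, v, w, e₁, e₂] :=
    inj5 huv huw (Ne.symm h1u) (Ne.symm h2u) hvw (Ne.symm h1v) (Ne.symm h2v) (Ne.symm h1w)
      (Ne.symm h2w) he
  have hys : Function.Injective ![u', v', w', e₁, e₂] :=
    inj5 huv' huw' (Ne.symm h1u') (Ne.symm h2u') hvw' (Ne.symm h1v') (Ne.symm h2v')
      (Ne.symm h1w') (Ne.symm h2w') he
  obtain ⟨g, hg⟩ := exists_smul_eq_of_list 5 h5 ![u, v, w, e₁, e₂] ![u', v', w', e₁, e₂] hxs hys
  have g0 : g • u = u' := hg 0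
  have g1 : g • v = v' := hg 1
  have g2 : g • w = w' := hg 2
  have g3 : g • e₁ = e₁ := hg 3
  have g4 : g • e₂ = e₂ := hg 4
  let S : Finset Ω := {u, v, w, e₁, e₂}
  have hScard : S.card = 5 := by
    have : S = Finset.univ.image ![u, v, w, e₁, e₂] := by
      ext y
      simp only [S, Finset.mem_insert, Finset.mem_singleton, Finset.mem_image, Finset.mem_univ,
        true_and]
      constructor
      · rintro (rfl | rfl | rfl | rfl | rfl)
        · exact ⟨0, rfl⟩
        · exact ⟨1, rfl⟩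
        · exact ⟨2, rfl⟩
        · exact ⟨3, rfl⟩
        · exact ⟨4, rfl⟩
      · rintro ⟨i, rfl⟩
        fin_cases i <;> simp
    rw [this, Finset.card_image_of_injective _ hxs, Finset.card_univ, Fintype.card_fin]
  have hSfix : ∀ s ∈ S, ρ • s = s := by
    intro s hs
    simp only [S, Finset.mem_insert, Finset.mem_singleton] at hs
    rcases hs with rfl | rfl | rfl | rfl | rfl
    · exact hu
    · exact hv
    · exact hw
    · exact mem_fixF.mp he₁F
    · exact mem_fixF.mp he₂F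
  obtain ⟨n, hn, hns⟩ := normalizer_realizes ρ hρ S hSfix (hmax S hScard) g (by
    intro s hs
    simp only [S, Finset.mem_insert, Finset.mem_singleton] at hs
    rcases hs with rfl | rfl | rfl | rfl | rfl
    · rw [g0]; exact hu'
    · rw [g1]; exact hv'
    · rw [g2]; exact hw'
    · rw [g3]; exact mem_fixF.mp he₁F
    · rw [g4]; exact mem_fixF.mp he₂F)
  refine ⟨n, hn, ?_, ?_, ?_⟩
  · rw [hns u (by simp [S]), g0]
  · rw [hns v (by simp [S]), g1]
  · rw [hns w (by simp [S]), g2]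

/-- Case 2 (ii): degree `3r + 4`, all elements of order `r` have exactly four fixed points -/
theorem alt_case_two_ii [Finite G] [FaithfulSMul G Ω] {r : ℕ} [Fact r.Prime] (hr5 : 5 ≤ r)
    (hcard : Fintype.card Ω = 3 * r + 4) (h4 : IsMultiplyPretransitive G Ω 4)
    (hall : ∀ v : G, orderOf v = r → (fixF Ω v).card = 4) (ρ : G) (hρ : orderOf ρ = r) :
    ∀ σ : Equiv.Perm Ω, Equiv.Perm.sign σ = 1 →
      ∃ k : G, (MulAction.toPerm k : Equiv.Perm Ω) = σ := by
  have hr : r.Prime := Fact.out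
  have hρr : ρ ^ r = 1 := by rw [← hρ]; exact pow_orderOf_eq_one ρ
  have hF := hall ρ hρ
  obtain ⟨a, b, c, d, hab, hac, had, hbc, hbd, hcd, hFeq⟩ := Finset.card_eq_four.mp hF
  have hΩ2 : Fintype.card Ω < r ^ 2 := by rw [hcard]; nlinarith
  have hmax := card_le_of_fix_lt (G := G) hΩ2 (fixF Ω ρ)
    (fun v hv => by rw [hall v hv, hF]; omega)
  have hSfix : ∀ s ∈ fixF Ω ρ, ρ • s = s := fun s hs => mem_fixF.mp hs
  have haF : a ∈ fixF Ω ρ := by rw [hFeq]; simp
  have hbF : b ∈ fixF Ω ρ := by rw [hFeq]; simp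
  have hcF : c ∈ fixF Ω ρ := by rw [hFeq]; simp
  have hdF : d ∈ fixF Ω ρ := by rw [hFeq]; simp
  have ha : ρ • a = a := mem_fixF.mp haF
  have hb : ρ • b = b := mem_fixF.mp hbF
  have hc : ρ • c = c := mem_fixF.mp hcF
  have hd : ρ • d = d := mem_fixF.mp hdF
  -- (a b)
  obtain ⟨g₁, hg₁⟩ := exists_smul_eq_of_list 4 h4 ![a, b, c, d] ![b, a, c, d]
    (inj4 hab hac had hbc hbd hcd) (inj4 hab.symm hbc hbd hac had hcd)
  have g11 : g₁ • a = b := hg₁ 0
  have g12 : g₁ • b = a := hg₁ 1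
  have g13 : g₁ • c = c := hg₁ 2
  have g14 : g₁ • d = d := hg₁ 3
  obtain ⟨nb, hnb, hnbs⟩ := normalizer_realizes ρ hρ (fixF Ω ρ) hSfix hmax g₁ (by
    intro s hs
    rw [hFeq] at hs
    simp only [Finset.mem_insert, Finset.mem_singleton] at hs
    rcases hs with rfl | rfl | rfl | rfl
    · rw [g11]; exact hb
    · rw [g12]; exact ha
    · rw [g13]; exact hc
    · rw [g14]; exact hd)
  -- (a c)
  obtain ⟨g₂, hg₂⟩ := exists_smul_eq_of_list 4 h4 ![a, b, c, d] ![c, b, a, d]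
    (inj4 hab hac had hbc hbd hcd) (inj4 hbc.symm hac.symm hcd hab.symm hbd had)
  have g21 : g₂ • a = c := hg₂ 0
  have g22 : g₂ • b = b := hg₂ 1
  have g23 : g₂ • c = a := hg₂ 2
  have g24 : g₂ • d = d := hg₂ 3
  obtain ⟨nc, hnc, hncs⟩ := normalizer_realizes ρ hρ (fixF Ω ρ) hSfix hmax g₂ (by
    intro s hs
    rw [hFeq] at hs
    simp only [Finset.mem_insert, Finset.mem_singleton] at hs
    rcases hs with rfl | rfl | rfl | rfl
    · rw [g21]; exact hc
    · rw [g22]; exact hb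
    · rw [g23]; exact ha
    · rw [g24]; exact hd)
  -- (a d)
  obtain ⟨g₃, hg₃⟩ := exists_smul_eq_of_list 4 h4 ![a, b, c, d] ![d, b, c, a]
    (inj4 hab hac had hbc hbd hcd) (inj4 hbd.symm hcd.symm had.symm hbc hab.symm hac.symm)
  have g31 : g₃ • a = d := hg₃ 0
  have g32 : g₃ • b = b := hg₃ 1
  have g33 : g₃ • c = c := hg₃ 2
  have g34 : g₃ • d = a := hg₃ 3
  obtain ⟨nd, hnd, hnds⟩ := normalizer_realizes ρ hρ (fixF Ω ρ) hSfix hmax g₃ (by
    intro s hs
    rw [hFeq] at hs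
    simp only [Finset.mem_insert, Finset.mem_singleton] at hs
    rcases hs with rfl | rfl | rfl | rfl
    · rw [g31]; exact hd
    · rw [g32]; exact hb
    · rw [g33]; exact hc
    · rw [g34]; exact ha)
  obtain ⟨g, hgsupp, hga⟩ := exists_supported_three hr (by omega) ρ hρr
    (by rw [hcard, hF]) nb nc nd hnb hnc hnd a b c d hab
    ((hnbs a haF).trans g11) ((hnbs b hbF).trans g12) ((hnbs c hcF).trans g13)
    ((hnbs d hdF).trans g14)
    ((hncs a haF).trans g21) ((hncs c hcF).trans g23) ((hncs b hbF).trans g22)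
    ((hncs d hdF).trans g24)
    ((hnds a haF).trans g31) ((hnds d hdF).trans g34) ((hnds b hbF).trans g32)
    ((hnds c hcF).trans g33)
  refine alt_of_small (fixF Ω ρ) (by omega) (by rw [hF]; exact h4) (by rw [hF, hcard]; omega) g
    ?_ ⟨a, hga⟩
  intro x hx
  by_contra hgx
  apply hx
  rw [mem_fixF]
  by_contra hρx
  exact hgx (hgsupp x hρx)

/-- Case 2 (i): degree `3r + 4`, an element of order `r` with `r + 4` fixed points, none with
more -/
theorem alt_case_two_i [Finite G] [FaithfulSMul G Ω] {r : ℕ} [Fact r.Prime] (hr5 : 5 ≤ r)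
    (hcard : Fintype.card Ω = 3 * r + 4) (h5 : IsMultiplyPretransitive G Ω 5)
    (hall : ∀ v : G, orderOf v = r → (fixF Ω v).card ≤ r + 4) (ρ : G) (hρ : orderOf ρ = r)
    (hρf : (fixF Ω ρ).card = r + 4) :
    ∀ σ : Equiv.Perm Ω, Equiv.Perm.sign σ = 1 →
      ∃ k : G, (MulAction.toPerm k : Equiv.Perm Ω) = σ := by
  have hr : r.Prime := Fact.out
  haveI := h5
  have hNat : Nat.card Ω = 3 * r + 4 := by rw [Nat.card_eq_fintype_card, hcard]
  have h2 : IsMultiplyPretransitive G Ω 2 :=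
    isMultiplyPretransitive_of_le (n := 5) (by norm_num) (by rw [hNat]; omega)
  have hρr : ρ ^ r = 1 := by rw [← hρ]; exact pow_orderOf_eq_one ρ
  have hΩ2 : Fintype.card Ω < r ^ 2 := by rw [hcard]; nlinarith
  have hmax : ∀ S : Finset Ω, S.card = 5 → ∀ V : Subgroup G, IsPGroup r V →
      V ≤ fixingSubgroup G (S : Set Ω) → Nat.card V ≤ r := by
    intro S hS
    exact card_le_of_fix_lt (G := G) hΩ2 S (fun v hv => by have := hall v hv; omega)
  have hSig : 8 ≤ (fixF Ω ρ).card := by omega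
  -- three fixed points
  obtain ⟨T, hTsub, hTcard⟩ := Finset.exists_subset_card_eq (show 3 ≤ (fixF Ω ρ).card by omega)
  obtain ⟨x₁, x₂, x₃, h12, h13, h23, hTeq⟩ := Finset.card_eq_three.mp hTcard
  have hx₁ : ρ • x₁ = x₁ := mem_fixF.mp (hTsub (by rw [hTeq]; simp))
  have hx₂ : ρ • x₂ = x₂ := mem_fixF.mp (hTsub (by rw [hTeq]; simp))
  have hx₃ : ρ • x₃ = x₃ := mem_fixF.mp (hTsub (by rw [hTeq]; simp))
  obtain ⟨n₁, hn₁, h11, h12', h13'⟩ := normalizer_three_trans h5 ρ hρ hmax hSig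
    x₁ x₂ x₃ x₂ x₁ x₃ hx₁ hx₂ hx₃ hx₂ hx₁ hx₃ h12 h13 h23 h12.symm h23 h13
  obtain ⟨n₂, hn₂, h21, h22, h23'⟩ := normalizer_three_trans h5 ρ hρ hmax hSig
    x₁ x₂ x₃ x₃ x₂ x₁ hx₁ hx₂ hx₃ hx₃ hx₂ hx₁ h12 h13 h23 h23.symm h13.symm h12.symm
  obtain ⟨g, hgsupp, hgx₁⟩ := exists_supported_two hr (by omega) ρ hρr
    (by rw [hcard, hρf]; ring) n₁ n₂ hn₁ hn₂ x₁ x₂ x₃ h12 h13 h11 h12' h13' h21 h23' h22
  -- g maps fixed points of ρ to fixed points of ρ
  have hgF : ∀ x : Ω, ρ • x = x → ρ • (g • x) = g • x := by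
    intro x hx
    by_contra hcon
    have h1 := hgsupp (g • x) hcon
    have h2 : g • x = x := smul_left_cancel g h1
    rw [h2] at hcon
    exact hcon hx
  set z : Ω := g • x₁ with hz
  have hzF : ρ • z = z := hgF x₁ hx₁
  -- the pointwise stabilizer of the support of ρ is transitive on the fixed points of ρ
  have hreach : ∀ y : Ω, ρ • y = y →
      ∃ c ∈ fixingSubgroup G ((fixF Ω ρ : Finset Ω) : Set Ω)ᶜ, c • x₁ = y := by
    intro y hy
    by_cases hyx : y = x₁
    · exact ⟨1, Subgroup.one_mem _, by rw [one_smul, hyx]⟩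
    · -- a third point
      have hT2 : 1 ≤ (fixF Ω ρ \ {x₁, z, y}).card := by
        have h1 := Finset.le_card_sdiff ({x₁, z, y} : Finset Ω) (fixF Ω ρ)
        have h2 : ({x₁, z, y} : Finset Ω).card ≤ 3 := Finset.card_le_three
        omega
      obtain ⟨e, he⟩ := Finset.card_pos.mp hT2
      rw [Finset.mem_sdiff] at he
      simp only [Finset.mem_insert, Finset.mem_singleton, not_or] at he
      obtain ⟨heF, he1, he2, he3⟩ := he
      obtain ⟨n, hn, hn1, hn2, _⟩ := normalizer_three_trans h5 ρ hρ hmax hSig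
        x₁ z e x₁ y e hx₁ hzF (mem_fixF.mp heF) hx₁ hy (mem_fixF.mp heF)
        (Ne.symm hgx₁) (Ne.symm he1) (Ne.symm he2) (Ne.symm hyx) (Ne.symm he1) (Ne.symm he3)
      refine ⟨n * g * n⁻¹, ?_, ?_⟩
      · rw [mem_fixingSubgroup_iff]
        intro w hw
        have hw' : ρ • w ≠ w := by
          intro h
          apply hw
          exact mem_fixF.mpr h
        -- n⁻¹ • w is moved by ρ
        have hnw : ρ • (n⁻¹ • w) ≠ n⁻¹ • w := by
          intro h
          have := smul_fixed_of_mem_normalizer ρ n hn (n⁻¹ • w) h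
          rw [smul_inv_smul] at this
          exact hw' this
        rw [mul_smul, mul_smul, hgsupp _ hnw, smul_inv_smul]
      · have : n⁻¹ • x₁ = x₁ := inv_smul_eq_iff.mpr hn1.symm
        rw [mul_smul, mul_smul, this, ← hz, hn2]
  have hJ : IsPretransitive ↥(fixingSubgroup G ((fixF Ω ρ : Finset Ω) : Set Ω)ᶜ)
      ↥(SubMulAction.ofFixingSubgroup G ((fixF Ω ρ : Finset Ω) : Set Ω)ᶜ) := by
    have hmem : ∀ x : ↥(SubMulAction.ofFixingSubgroup G ((fixF Ω ρ : Finset Ω) : Set Ω)ᶜ),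
        ρ • (x : Ω) = (x : Ω) := by
      intro x
      have := x.2
      rw [SubMulAction.mem_ofFixingSubgroup_iff, Set.notMem_compl_iff] at this
      exact mem_fixF.mp this
    refine ⟨fun x y => ?_⟩
    obtain ⟨c₁, hc₁, hc₁x⟩ := hreach x (hmem x)
    obtain ⟨c₂, hc₂, hc₂y⟩ := hreach y (hmem y)
    refine ⟨⟨c₂ * c₁⁻¹, Subgroup.mul_mem _ hc₂ (Subgroup.inv_mem _ hc₁)⟩, ?_⟩
    apply Subtype.ext
    show (c₂ * c₁⁻¹) • (x : Ω) = (y : Ω)
    rw [mul_smul, ← hc₁x, inv_smul_smul, hc₂y]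
  refine Cfsg.Agent.S3620.result (G := G) (Ω := Ω)
    (fun N hN hN1 => quasiprimitive_of_two_trans h2 N hN hN1)
    ((fixF Ω ρ : Finset Ω) : Set Ω) ?_ ?_ hJ
  · rw [Set.ncard_coe_finset]; omega
  · rw [Set.ncard_coe_finset, hcard]; omega

/-- Case 2: degree `3r + 4` -/
theorem alt_case_two [Finite G] [FaithfulSMul G Ω] {r : ℕ} (hr : r.Prime) (hr5 : 5 ≤ r)
    (hcard : Fintype.card Ω = 3 * r + 4) (h5 : IsMultiplyPretransitive G Ω 5) :
    ∀ σ : Equiv.Perm Ω, Equiv.Perm.sign σ = 1 →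
      ∃ k : G, (MulAction.toPerm k : Equiv.Perm Ω) = σ := by
  haveI : Fact r.Prime := ⟨hr⟩
  haveI := h5
  have hNat : Nat.card Ω = 3 * r + 4 := by rw [Nat.card_eq_fintype_card, hcard]
  have h4 : IsMultiplyPretransitive G Ω 4 :=
    isMultiplyPretransitive_of_le (n := 5) (by norm_num) (by rw [hNat]; omega)
  have h2 : IsMultiplyPretransitive G Ω 2 :=
    isMultiplyPretransitive_of_le (n := 5) (by norm_num) (by rw [hNat]; omega)
  have hvals : ∀ v : G, orderOf v = r →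
      (fixF Ω v).card = 4 ∨ (fixF Ω v).card = r + 4 ∨ (fixF Ω v).card = 2 * r + 4 := by
    intro v hv
    obtain ⟨j, hj1, hj⟩ := fix_vals (Ω := Ω) v hv
    rw [hcard] at hj
    have hj4 : j < 4 := by
      by_contra h
      push Not at h
      have : r * 4 ≤ r * j := Nat.mul_le_mul_left r h
      omega
    interval_cases j
    · right; right; omega
    · right; left; omega
    · left; omega
  obtain ⟨ρ, hρ⟩ := exists_orderOf_eq_of_dvd (G := G) (Ω := Ω) (r := r) 4 h5 (by omega)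
    (by rw [hcard]; exact ⟨3, by omega⟩)
  by_cases hcyc : ∃ v : G, orderOf v = r ∧ (fixF Ω v).card = 2 * r + 4
  · obtain ⟨v, hv, hvf⟩ := hcyc
    refine alt_of_prime_cycle h2 hr (by omega) v ?_ ?_
    · intro x
      rw [← hv, pow_orderOf_eq_one, one_smul]
    · have : (Finset.univ.filter (fun x : Ω => v • x = x)).card = 2 * r + 4 := hvf
      rw [this, hcard]; omega
  · push Not at hcyc
    by_cases h2c : ∃ v : G, orderOf v = r ∧ (fixF Ω v).card = r + 4
    · obtain ⟨v, hv, hvf⟩ := h2c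
      refine alt_case_two_i hr5 hcard h5 ?_ v hv hvf
      intro u hu
      rcases hvals u hu with h | h | h
      · omega
      · omega
      · exact absurd h (hcyc u hu)
    · push Not at h2c
      refine alt_case_two_ii hr5 hcard h4 ?_ ρ hρ
      intro u hu
      rcases hvals u hu with h | h | h
      · exact h
      · exact absurd h (h2c u hu)
      · exact absurd h (hcyc u hu)

end main

/-- the conclusion of S3614 for a `Fintype` with decidable equality, given 5-transitivity -/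
theorem iso_alt_main {G Ω : Type*} [Group G] [Finite G] [MulAction G Ω] [FaithfulSMul G Ω]
    [Fintype Ω] [DecidableEq Ω] [IsPretransitive G Ω] {p : ℕ} [Fact p.Prime]
    (hΩ : Fintype.card Ω = p) (P : Sylow p G)
    (hN : 2 * Nat.card ↥(Subgroup.normalizer ((P : Subgroup G) : Set G)) = p * (p - 1))
    (r : ℕ) (hr : r.Prime)
    (hcases : (p = 2 * r + 3 ∧ 9 < p) ∨ (p = 3 * r + 4 ∧ 13 < p))
    (h5 : IsMultiplyPretransitive G Ω 5) :
    Nonempty (G ≃* alternatingGroup (Fin p)) := by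
  have hr5 : 5 ≤ r := by
    by_contra h
    push Not at h
    have h3 : 3 < r := by rcases hcases with ⟨h1, h2⟩ | ⟨h1, h2⟩ <;> omega
    have : r = 4 := by omega
    rw [this] at hr
    norm_num at hr
  have hp13 : 3 < p := by rcases hcases with ⟨h1, h2⟩ | ⟨h1, h2⟩ <;> omega
  haveI := h5
  have hNat : Nat.card Ω = p := by rw [Nat.card_eq_fintype_card, hΩ]
  have halt : ∀ σ : Equiv.Perm Ω, Equiv.Perm.sign σ = 1 →
      ∃ k : G, (MulAction.toPerm k : Equiv.Perm Ω) = σ := by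
    rcases hcases with ⟨h1, h2⟩ | ⟨h1, h2⟩
    · have h4 : IsMultiplyPretransitive G Ω 4 :=
        isMultiplyPretransitive_of_le (n := 5) (by norm_num) (by rw [hNat]; omega)
      exact alt_case_one hr hr5 (by rw [hΩ, h1]) h4
    · exact alt_case_two hr hr5 (by rw [hΩ, h1]) h5
  refine iso_alternatingGroup p hΩ (by omega) halt ?_
  intro a b hab g hga hgb hfix
  exact Cfsg.Agent.Helper66.N3.no_transposition hΩ hp13 P hN a b hab g hga hgb hfix


end Cfsg.Agent.Helper58.N4
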