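import Mathlib

/-!
# Subdirect products of a nonabelian simple group (helper58)

`D ≤ (ι → T)` with all coordinate projections onto, `T` nonabelian simple, `ι` finite:
then `D` is a product of twisted diagonals over the classes of the equivalence relation `Rel D`.
-/

set_option autoImplicit false

namespace Cfsg.Agent.Helper58.ONS

variable {ι : Type*} {T : Type*} [Group T]

/-- coordinates `i`, `j` of `D` are linked by an automorphism of `T` -/
def Rel (D : Subgroup (ι → T)) (i j : ι) : Prop := ∃ φ : T ≃* T, ∀ d ∈ D, d j = φ (d i)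

theorem Rel.refl (D : Subgroup (ι → T)) (i : ι) : Rel D i i := ⟨MulEquiv.refl T, fun _ _ => rfl⟩

theorem Rel.symm {D : Subgroup (ι → T)} {i j : ι} (h : Rel D i j) : Rel D j i := by
  obtain ⟨φ, hφ⟩ := h
  exact ⟨φ.symm, fun d hd => by rw [hφ d hd, MulEquiv.symm_apply_apply]⟩

theorem Rel.trans {D : Subgroup (ι → T)} {i j k : ι} (h : Rel D i j) (h' : Rel D j k) :
    Rel D i k := by
  obtain ⟨φ, hφ⟩ := h
  obtain ⟨φ', hφ'⟩ := h'
  exact ⟨φ.trans φ', fun d hd => by rw [hφ' d hd, hφ d hd]; rfl⟩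

/-- the elements of `T` occurring at coordinate `a` of members of `D` that are trivial on `S` -/
def M (D : Subgroup (ι → T)) (a : ι) (S : Set ι) : Subgroup T where
  carrier := {t | ∃ d ∈ D, d a = t ∧ ∀ s ∈ S, d s = 1}
  one_mem' := ⟨1, D.one_mem, rfl, fun _ _ => rfl⟩
  mul_mem' := by
    rintro x y ⟨d, hd, rfl, h1⟩ ⟨d', hd', rfl, h2⟩
    exact ⟨d * d', D.mul_mem hd hd', rfl, fun s hs => by rw [Pi.mul_apply, h1 s hs, h2 s hs, one_mul]⟩
  inv_mem' := by
    rintro x ⟨d, hd, rfl, h1⟩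
    exact ⟨d⁻¹, D.inv_mem hd, rfl, fun s hs => by rw [Pi.inv_apply, h1 s hs, inv_one]⟩

theorem mem_M {D : Subgroup (ι → T)} {a : ι} {S : Set ι} {t : T} :
    t ∈ M D a S ↔ ∃ d ∈ D, d a = t ∧ ∀ s ∈ S, d s = 1 := Iff.rfl

theorem M_normal {D : Subgroup (ι → T)} (hD : ∀ i t, ∃ d ∈ D, d i = t) (a : ι) (S : Set ι) :
    (M D a S).Normal := by
  refine ⟨fun t ht u => ?_⟩
  obtain ⟨d, hd, rfl, h1⟩ := ht
  obtain ⟨d', hd', rfl⟩ := hD a u
  refine ⟨d' * d * d'⁻¹, D.mul_mem (D.mul_mem hd' hd) (D.inv_mem hd'), rfl, fun s hs => ?_⟩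
  rw [Pi.mul_apply, Pi.mul_apply, h1 s hs, Pi.inv_apply, mul_one, mul_inv_cancel]

theorem M_eq_top [IsSimpleGroup T] {D : Subgroup (ι → T)} (hD : ∀ i t, ∃ d ∈ D, d i = t)
    {a : ι} {S : Set ι} {t : T} (ht : t ∈ M D a S) (h1 : t ≠ 1) : M D a S = ⊤ := by
  rcases (M_normal hD a S).eq_bot_or_eq_top with h | h
  · rw [h, Subgroup.mem_bot] at ht
    exact absurd ht h1
  · exact h

/-- Goursat: if `d j = 1` forces `d i = 1` on `D`, then the coordinates are linked -/
theorem rel_of_M_eq_bot [IsSimpleGroup T] {D : Subgroup (ι → T)}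
    (hD : ∀ i t, ∃ d ∈ D, d i = t) {i j : ι} (h : M D i {j} = ⊥) : Rel D j i := by
  classical
  have key0 : ∀ d ∈ D, d j = 1 → d i = 1 := by
    intro d hd hj
    have : d i ∈ M D i {j} := ⟨d, hd, rfl, fun s hs => by rw [Set.mem_singleton_iff.1 hs]; exact hj⟩
    rwa [h, Subgroup.mem_bot] at this
  choose sec hsec hsecj using hD j
  have key : ∀ d ∈ D, d i = sec (d j) i := by
    intro d hd
    have h1 := key0 (d * (sec (d j))⁻¹) (D.mul_mem hd (D.inv_mem (hsec _)))
      (by rw [Pi.mul_apply, Pi.inv_apply, hsecj, mul_inv_cancel])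
    rw [Pi.mul_apply, Pi.inv_apply, mul_inv_eq_one] at h1
    exact h1
  let φ : T →* T :=
    { toFun := fun t => sec t i
      map_one' := by
        have := key 1 D.one_mem
        rw [Pi.one_apply, Pi.one_apply] at this
        exact this.symm
      map_mul' := by
        intro x y
        have := key (sec x * sec y) (D.mul_mem (hsec x) (hsec y))
        rw [Pi.mul_apply, Pi.mul_apply, hsecj, hsecj] at this
        exact this.symm }
  have hφ : ∀ d ∈ D, d i = φ (d j) := key
  have hsurj : Function.Surjective φ := by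
    intro t
    obtain ⟨d, hd, rfl⟩ := hD i t
    exact ⟨d j, (hφ d hd).symm⟩
  have hinj : Function.Injective φ := by
    rw [← MonoidHom.ker_eq_bot_iff]
    rcases (MonoidHom.normal_ker φ).eq_bot_or_eq_top with hk | hk
    · exact hk
    · exfalso
      obtain ⟨x, hx⟩ := exists_ne (1 : T)
      obtain ⟨y, rfl⟩ := hsurj x
      have : y ∈ φ.ker := by rw [hk]; trivial
      exact hx (MonoidHom.mem_ker.1 this)
  exact ⟨MulEquiv.ofBijective φ ⟨hinj, hsurj⟩, fun d hd => hφ d hd⟩

/-- the commutator trick: a coordinate unlinked to each member of a finite set is independent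
of that set -/
theorem M_top_of_not_rel [IsSimpleGroup T] (hT : ¬ IsMulCommutative T) {D : Subgroup (ι → T)}
    (hD : ∀ i t, ∃ d ∈ D, d i = t) (a : ι) (S : Finset ι) :
    (∀ s ∈ S, ¬ Rel D s a) → M D a (S : Set ι) = ⊤ := by
  classical
  induction S using Finset.induction_on with
  | empty =>
    intro _
    rw [eq_top_iff]
    intro t _
    obtain ⟨d, hd, rfl⟩ := hD a t
    exact ⟨d, hd, rfl, fun s hs => by simp at hs⟩
  | insert b S hb ih =>
    intro hS
    have h1 : M D a (S : Set ι) = ⊤ := ih (fun s hs => hS s (Finset.mem_insert_of_mem hs))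
    have h2 : M D a {b} = ⊤ := by
      rcases (M_normal hD a {b}).eq_bot_or_eq_top with h | h
      · exact absurd (rel_of_M_eq_bot hD h) (hS b (Finset.mem_insert_self b S))
      · exact h
    have hxy : ∃ x y : T, x * y ≠ y * x := by
      by_contra hcon
      push Not at hcon
      exact hT ⟨⟨hcon⟩⟩
    obtain ⟨x, y, hxy⟩ := hxy
    have hx : x ∈ M D a (S : Set ι) := by rw [h1]; trivial
    have hy : y ∈ M D a {b} := by rw [h2]; trivial
    obtain ⟨d₁, hd₁, rfl, h1'⟩ := hx
    obtain ⟨d₂, hd₂, rfl, h2'⟩ := hy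
    apply M_eq_top hD (t := d₁ a * d₂ a * (d₁ a)⁻¹ * (d₂ a)⁻¹)
    · refine ⟨d₁ * d₂ * d₁⁻¹ * d₂⁻¹, D.mul_mem (D.mul_mem (D.mul_mem hd₁ hd₂) (D.inv_mem hd₁))
        (D.inv_mem hd₂), rfl, fun s hs => ?_⟩
      rw [Finset.coe_insert, Set.mem_insert_iff] at hs
      simp only [Pi.mul_apply, Pi.inv_apply]
      rcases hs with rfl | hs
      · rw [h2' s rfl]; group
      · rw [h1' s hs]; group
    · intro h
      apply hxy
      calc d₁ a * d₂ a = (d₁ a * d₂ a * (d₁ a)⁻¹ * (d₂ a)⁻¹) * (d₂ a * d₁ a) := by group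
        _ = d₂ a * d₁ a := by rw [h, one_mul]

/-- joint surjectivity on a set of pairwise unlinked coordinates -/
theorem exists_mem_eq_on [IsSimpleGroup T] (hT : ¬ IsMulCommutative T) {D : Subgroup (ι → T)}
    (hD : ∀ i t, ∃ d ∈ D, d i = t) (S : Finset ι) (f : ι → T) :
    (∀ s ∈ S, ∀ s' ∈ S, s ≠ s' → ¬ Rel D s s') → ∃ d ∈ D, ∀ s ∈ S, d s = f s := by
  classical
  induction S using Finset.induction_on with
  | empty => exact fun _ => ⟨1, D.one_mem, fun s hs => by simp at hs⟩
  | insert a S ha ih =>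
    intro hS
    obtain ⟨d₁, hd₁, h1⟩ := ih (fun s hs s' hs' hne =>
      hS s (Finset.mem_insert_of_mem hs) s' (Finset.mem_insert_of_mem hs') hne)
    have hM : M D a (S : Set ι) = ⊤ := M_top_of_not_rel hT hD a S (fun s hs =>
      hS s (Finset.mem_insert_of_mem hs) a (Finset.mem_insert_self a S)
        (fun h => ha (h ▸ hs)))
    have : f a * (d₁ a)⁻¹ ∈ M D a (S : Set ι) := by rw [hM]; trivial
    obtain ⟨d₂, hd₂, h2a, h2⟩ := this
    refine ⟨d₂ * d₁, D.mul_mem hd₂ hd₁, fun s hs => ?_⟩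
    rw [Finset.mem_insert] at hs
    rcases hs with rfl | hs
    · rw [Pi.mul_apply, h2a, inv_mul_cancel_right]
    · rw [Pi.mul_apply, h2 s (Finset.mem_coe.2 hs), one_mul, h1 s hs]

/-- the structure of a subdirect power of a nonabelian simple group -/
theorem subdirect_structure [Finite ι] [IsSimpleGroup T] (hT : ¬ IsMulCommutative T)
    (D : Subgroup (ι → T)) (hD : ∀ i t, ∃ d ∈ D, d i = t) :
    ∃ (c : ι → ι) (Φ : ι → (T ≃* T)), (∀ i j, c i = c j ↔ Rel D i j) ∧
      ∀ f : ι → T, f ∈ D ↔ ∀ i j, c i = c j → Φ i (f i) = Φ j (f j) := by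
  classical
  have := Fintype.ofFinite ι
  let st : Setoid ι := ⟨Rel D, ⟨Rel.refl D, Rel.symm, Rel.trans⟩⟩
  let c : ι → ι := fun i => (Quotient.mk st i).out
  have hc : ∀ i j, c i = c j ↔ Rel D i j := by
    intro i j
    constructor
    · intro h
      have h1 : Quotient.mk st i = Quotient.mk st j := by
        have := congrArg (Quotient.mk st) h
        simpa [c] using this
      exact Quotient.exact h1
    · intro h
      have : Quotient.mk st i = Quotient.mk st j := Quotient.sound h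
      simp only [c, this]
  have hci : ∀ i, Rel D (c i) i := fun i => Quotient.mk_out (s := st) i
  have hcc : ∀ i, c (c i) = c i := fun i => (hc _ _).2 (hci i)
  let phi : ι → ι → (T ≃* T) := fun i j =>
    if h : Rel D i j then h.choose else MulEquiv.refl T
  have hphi : ∀ i j, Rel D i j → ∀ d ∈ D, d j = phi i j (d i) := by
    intro i j h d hd
    simp only [phi, dif_pos h]
    exact h.choose_spec d hd
  have hphi_self : ∀ i t, phi i i t = t := by
    intro i t
    obtain ⟨d, hd, rfl⟩ := hD i t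
    exact (hphi i i (Rel.refl D i) d hd).symm
  refine ⟨c, fun i => (phi (c i) i).symm, hc, fun f => ⟨fun hf i j hij => ?_, fun hf => ?_⟩⟩
  · have h1 := hphi (c i) i (hci i) f hf
    have h2 := hphi (c j) j (hci j) f hf
    rw [h1, h2, MulEquiv.symm_apply_apply, MulEquiv.symm_apply_apply, hij]
  · let reps : Finset ι := Finset.univ.image c
    have hreps : ∀ s ∈ reps, ∀ s' ∈ reps, s ≠ s' → ¬ Rel D s s' := by
      intro s hs s' hs' hne hrel
      obtain ⟨i, -, rfl⟩ := Finset.mem_image.1 hs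
      obtain ⟨j, -, rfl⟩ := Finset.mem_image.1 hs'
      apply hne
      have := (hc _ _).2 hrel
      rwa [hcc, hcc] at this
    obtain ⟨d, hd, hdf⟩ := exists_mem_eq_on hT hD reps f hreps
    have : f = d := by
      funext i
      have hr : c i ∈ reps := Finset.mem_image.2 ⟨i, Finset.mem_univ _, rfl⟩
      have h1 := hphi (c i) i (hci i) d hd
      have h2 : (phi (c i) i).symm (f i) = (phi (c (c i)) (c i)).symm (f (c i)) :=
        hf i (c i) (hcc i).symm
      rw [hcc] at h2
      have h3 : (phi (c i) (c i)).symm (f (c i)) = f (c i) := by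
        rw [MulEquiv.symm_apply_eq, hphi_self]
      rw [h3, MulEquiv.symm_apply_eq] at h2
      rw [h1, hdf _ hr, h2]
    rw [this]; exact hd

end Cfsg.Agent.Helper58.ONS
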