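import Mathlib
import Cfsg.Agent.Helper58.ONSSubdirect

/-!
# O'Nan–Scott: the point stabilizer meets the socle in a product or in diagonals (helper58)

Abstract form: `N ≃* (ι → T)` equivariantly for a group `G` acting on `ι`, `K` a maximal
subgroup of `G` acting transitively on `ι`.
-/

set_option autoImplicit false

namespace Cfsg.Agent.Helper58.ONS

section abstract
variable {G : Type*} [Group G] {N : Subgroup G} [N.Normal] {ι T : Type*} [MulAction G ι] [Group T]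

/-- image of `N ⊓ K` in the coordinate group -/
def DD (e : N ≃* (ι → T)) (K : Subgroup G) : Subgroup (ι → T) :=
  (K.subgroupOf N).map e.toMonoidHom

omit [N.Normal] [MulAction G ι] in
theorem mem_DD {e : N ≃* (ι → T)} {K : Subgroup G} {d : ι → T} :
    d ∈ DD e K ↔ ∃ n : N, (n : G) ∈ K ∧ e n = d := by
  unfold DD
  rw [Subgroup.mem_map]
  constructor
  · rintro ⟨n, hn, rfl⟩
    exact ⟨n, Subgroup.mem_subgroupOf.1 hn, rfl⟩
  · rintro ⟨n, hn, rfl⟩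
    exact ⟨n, Subgroup.mem_subgroupOf.2 hn, rfl⟩

omit [N.Normal] [MulAction G ι] in
theorem e_mem_DD {e : N ≃* (ι → T)} {K : Subgroup G} {n : N} :
    e n ∈ DD e K ↔ (n : G) ∈ K := by
  rw [mem_DD]
  constructor
  · rintro ⟨n', hn', h⟩
    rwa [← e.injective h]
  · intro h
    exact ⟨n, h, rfl⟩

variable (e : N ≃* (ι → T)) (ψ : G → ι → (T ≃* T)) (K : Subgroup G)

/-- conjugation by `k ∈ K` maps `DD` into itself, with a twist -/
theorem DD_conj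
    (hψ : ∀ (g : G) (n : N) (i : ι),
      e ⟨g * n * g⁻¹, ‹N.Normal›.conj_mem n n.2 g⟩ (g • i) = ψ g i (e n i))
    {k : G} (hk : k ∈ K) {d : ι → T} (hd : d ∈ DD e K) :
    ∃ d' ∈ DD e K, ∀ i, d' (k • i) = ψ k i (d i) := by
  obtain ⟨n, hn, rfl⟩ := mem_DD.1 hd
  refine ⟨e ⟨k * n * k⁻¹, ‹N.Normal›.conj_mem n n.2 k⟩, e_mem_DD.2 ?_, fun i => hψ k n i⟩
  exact K.mul_mem (K.mul_mem hk hn) (K.inv_mem hk)

/-- conversely every member of `DD` arises in this way -/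
theorem DD_conj' 
    (hψ : ∀ (g : G) (n : N) (i : ι),
      e ⟨g * n * g⁻¹, ‹N.Normal›.conj_mem n n.2 g⟩ (g • i) = ψ g i (e n i))
    {k : G} (hk : k ∈ K) {d' : ι → T} (hd' : d' ∈ DD e K) :
    ∃ d ∈ DD e K, ∀ i, d' (k • i) = ψ k i (d i) := by
  obtain ⟨n', hn', rfl⟩ := mem_DD.1 hd'
  have hmem : k⁻¹ * (n' : G) * k ∈ N := by
    have := ‹N.Normal›.conj_mem n' n'.2 k⁻¹
    rwa [inv_inv] at this
  refine ⟨e ⟨k⁻¹ * n' * k, hmem⟩, e_mem_DD.2 ?_, fun i => ?_⟩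
  · exact K.mul_mem (K.mul_mem (K.inv_mem hk) hn') hk
  · have h1 := hψ k ⟨k⁻¹ * n' * k, hmem⟩ i
    have heq : (⟨k * ((⟨k⁻¹ * n' * k, hmem⟩ : N) : G) * k⁻¹,
        ‹N.Normal›.conj_mem _ hmem k⟩ : N) = n' :=
      Subtype.ext (by show k * (k⁻¹ * (n' : G) * k) * k⁻¹ = n'; group)
    rw [heq] at h1
    exact h1

/-- `Rel` is invariant under `K` -/
theorem rel_smul
    (hψ : ∀ (g : G) (n : N) (i : ι),
      e ⟨g * n * g⁻¹, ‹N.Normal›.conj_mem n n.2 g⟩ (g • i) = ψ g i (e n i))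
    {k : G} (hk : k ∈ K) {i j : ι} (h : Rel (DD e K) i j) : Rel (DD e K) (k • i) (k • j) := by
  obtain ⟨φ, hφ⟩ := h
  refine ⟨(ψ k i).symm.trans (φ.trans (ψ k j)), fun d' hd' => ?_⟩
  obtain ⟨d, hd, hdd⟩ := DD_conj' e ψ K hψ hk hd'
  rw [hdd j, hdd i, hφ d hd]
  simp

/-- the projection of `DD` to the coordinate `i` -/
def RR (i : ι) : Subgroup T := (DD e K).map (Pi.evalMonoidHom (fun _ : ι => T) i)

omit [N.Normal] [MulAction G ι] in
theorem mem_RR {i : ι} {t : T} : t ∈ RR e K i ↔ ∃ d ∈ DD e K, d i = t := by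
  unfold RR
  rw [Subgroup.mem_map]
  rfl

theorem RR_smul
    (hψ : ∀ (g : G) (n : N) (i : ι),
      e ⟨g * n * g⁻¹, ‹N.Normal›.conj_mem n n.2 g⟩ (g • i) = ψ g i (e n i))
    {k : G} (hk : k ∈ K) (i : ι) (t : T) : t ∈ RR e K i ↔ ψ k i t ∈ RR e K (k • i) := by
  rw [mem_RR e K, mem_RR e K]
  constructor
  · rintro ⟨d, hd, rfl⟩
    obtain ⟨d', hd', h⟩ := DD_conj e ψ K hψ hk hd
    exact ⟨d', hd', h i⟩
  · rintro ⟨d', hd', h⟩
    obtain ⟨d, hd, hdd⟩ := DD_conj' e ψ K hψ hk hd'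
    refine ⟨d, hd, ?_⟩
    rw [hdd i] at h
    exact (ψ k i).injective h

theorem RR_top_smul
    (hψ : ∀ (g : G) (n : N) (i : ι),
      e ⟨g * n * g⁻¹, ‹N.Normal›.conj_mem n n.2 g⟩ (g • i) = ψ g i (e n i))
    {k : G} (hk : k ∈ K) (i : ι) (h : RR e K (k • i) = ⊤) : RR e K i = ⊤ := by
  rw [eq_top_iff]
  intro t _
  rw [RR_smul e ψ K hψ hk i t, h]
  trivial

/-- the product case -/
theorem prod_case
    (hψ : ∀ (g : G) (n : N) (i : ι),
      e ⟨g * n * g⁻¹, ‹N.Normal›.conj_mem n n.2 g⟩ (g • i) = ψ g i (e n i))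
    (hK : IsCoatom K) (htrans : ∀ i j : ι, ∃ k ∈ K, k • i = j)
    {i₀ : ι} (h0 : RR e K i₀ ≠ ⊤) :
    (∀ i, RR e K i ≠ ⊤) ∧ ∀ n : N, (n : G) ∈ K ↔ ∀ i, e n i ∈ RR e K i := by
  have hall : ∀ i, RR e K i ≠ ⊤ := by
    intro i hi
    obtain ⟨k, hk, rfl⟩ := htrans i₀ i
    exact h0 (RR_top_smul e ψ K hψ hk i₀ hi)
  refine ⟨hall, fun n => ⟨fun hn i => (mem_RR e K).2 ⟨e n, e_mem_DD.2 hn, rfl⟩, fun hn => ?_⟩⟩
  -- the subgroup `P` of `N` cut out by the projections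
  have hPK : ∀ k ∈ K, ∀ p : N, (∀ i, e p i ∈ RR e K i) →
      ∀ i, e ⟨k * p * k⁻¹, ‹N.Normal›.conj_mem p p.2 k⟩ i ∈ RR e K i := by
    intro k hk p hp i
    have hi : i = k • (k⁻¹ • i) := (smul_inv_smul k i).symm
    rw [hi, hψ k p (k⁻¹ • i), ← RR_smul e ψ K hψ hk]
    exact hp _
  let Q : Subgroup G :=
    { carrier := {g | ∃ k ∈ K, ∃ p : N, (∀ i, e p i ∈ RR e K i) ∧ g = k * p}
      one_mem' := ⟨1, K.one_mem, 1, fun i => by rw [map_one]; exact (RR e K i).one_mem, by simp⟩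
      mul_mem' := by
        rintro a b ⟨k, hk, p, hp, rfl⟩ ⟨k', hk', p', hp', rfl⟩
        refine ⟨k * k', K.mul_mem hk hk',
          ⟨k'⁻¹ * p * k'⁻¹⁻¹, ‹N.Normal›.conj_mem p p.2 k'⁻¹⟩ * p', fun i => ?_, ?_⟩
        · rw [map_mul, Pi.mul_apply]
          exact (RR e K i).mul_mem (hPK k'⁻¹ (K.inv_mem hk') p hp i) (hp' i)
        · show k * (p : G) * (k' * (p' : G)) = k * k' * (k'⁻¹ * (p : G) * k'⁻¹⁻¹ * (p' : G))
          group
      inv_mem' := by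
        rintro a ⟨k, hk, p, hp, rfl⟩
        refine ⟨k⁻¹, K.inv_mem hk, ⟨k * p⁻¹ * k⁻¹, ‹N.Normal›.conj_mem p⁻¹ p⁻¹.2 k⟩, fun i => ?_, ?_⟩
        · apply hPK k hk p⁻¹
          intro i
          rw [map_inv, Pi.inv_apply]
          exact (RR e K i).inv_mem (hp i)
        · show (k * (p : G))⁻¹ = k⁻¹ * (k * ((p⁻¹ : N) : G) * k⁻¹)
          rw [Subgroup.coe_inv]
          group }
  have hKQ : K ≤ Q := fun k hk =>
    ⟨k, hk, 1, fun i => by rw [map_one]; exact (RR e K i).one_mem, by simp⟩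
  have hnQ : (n : G) ∈ Q := ⟨1, K.one_mem, n, hn, by simp⟩
  rcases hK.le_iff.1 hKQ with hQ | hQ
  · exfalso
    apply h0
    rw [eq_top_iff]
    intro t _
    have hmem : ((e.symm (fun _ => t) : N) : G) ∈ Q := by rw [hQ]; trivial
    obtain ⟨k, hk, p, hp, hkp⟩ := hmem
    have hkN : k ∈ N := by
      have : k = (e.symm (fun _ => t) : N) * ((p : N) : G)⁻¹ := by rw [hkp]; group
      rw [this]
      exact N.mul_mem (e.symm (fun _ => t)).2 (N.inv_mem p.2)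
    have hkR : ∀ i, e ⟨k, hkN⟩ i ∈ RR e K i := fun i =>
      (mem_RR e K).2 ⟨e ⟨k, hkN⟩, e_mem_DD.2 hk, rfl⟩
    have heq : e.symm (fun _ => t) = ⟨k, hkN⟩ * p := Subtype.ext hkp
    have h1 : e (e.symm (fun _ => t)) i₀ = t := by rw [MulEquiv.apply_symm_apply]
    rw [heq, map_mul, Pi.mul_apply] at h1
    rw [← h1]
    exact (RR e K i₀).mul_mem (hkR i₀) (hp i₀)
  · rw [← hQ]; exact hnQ


/-- the diagonal case -/
theorem diag_case [Finite ι] [Nonempty ι] [IsSimpleGroup T] (hT : ¬ IsMulCommutative T)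
    (hψ : ∀ (g : G) (n : N) (i : ι),
      e ⟨g * n * g⁻¹, ‹N.Normal›.conj_mem n n.2 g⟩ (g • i) = ψ g i (e n i))
    (htrans : ∀ i j : ι, ∃ k ∈ K, k • i = j)
    (hall : ∀ i, RR e K i = ⊤) (hNK : ¬ N ≤ K) :
    ∃ (k : ℕ) (c : ι → ι) (e' : N ≃* (ι → T)), 2 ≤ k ∧
      (∀ j : ι, Nat.card {i : ι // c i = j} = k ∨ Nat.card {i : ι // c i = j} = 0) ∧
      ∀ n : N, (n : G) ∈ K ↔ ∀ i j : ι, c i = c j → e' n i = e' n j := by
  have hD : ∀ i t, ∃ d ∈ DD e K, d i = t := fun i t =>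
    (mem_RR e K).1 (by rw [hall i]; trivial)
  obtain ⟨c, Φ, hc, hmem⟩ := subdirect_structure hT (DD e K) hD
  have hcard : ∀ i j : ι,
      Nat.card {x // Rel (DD e K) i x} ≤ Nat.card {x // Rel (DD e K) j x} := by
    intro i j
    obtain ⟨k, hk, rfl⟩ := htrans i j
    exact Nat.card_le_card_of_injective
      (fun x => (⟨k • x.1, rel_smul e ψ K hψ hk x.2⟩ : {x // Rel (DD e K) (k • i) x}))
      (fun x y hxy => Subtype.ext (smul_left_cancel k (congrArg Subtype.val hxy)))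
  obtain ⟨i₀⟩ := ‹Nonempty ι›
  have hfib : ∀ j, Nat.card {i // c i = j} = Nat.card {x // Rel (DD e K) i₀ x} ∨
      Nat.card {i // c i = j} = 0 := by
    intro j
    by_cases hj : ∃ i', c i' = j
    · left
      obtain ⟨i', rfl⟩ := hj
      rw [le_antisymm (hcard i₀ i') (hcard i' i₀)]
      exact Nat.card_congr (Equiv.subtypeEquivRight fun i => by
        rw [hc]; exact ⟨Rel.symm, Rel.symm⟩)
    · right
      have : IsEmpty {i // c i = j} := ⟨fun x => hj ⟨x.1, x.2⟩⟩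
      exact Nat.card_of_isEmpty
  let e' : N ≃* (ι → T) := e.trans (MulEquiv.piCongrRight Φ)
  have hK' : ∀ n : N, (n : G) ∈ K ↔ ∀ i j, c i = c j → e' n i = e' n j := by
    intro n
    rw [← e_mem_DD (e := e), hmem]
    rfl
  refine ⟨_, c, e', ?_, hfib, hK'⟩
  by_contra hlt
  push Not at hlt
  apply hNK
  intro n hn
  have hsub : ∀ i j, Rel (DD e K) i j → i = j := by
    intro i j hij
    have h1 : Nat.card {x // Rel (DD e K) i x} ≤ 1 :=
      (hcard i i₀).trans (Nat.lt_succ_iff.1 hlt)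
    have : Subsingleton {x // Rel (DD e K) i x} := (Finite.card_le_one_iff_subsingleton).1 h1
    have := Subsingleton.elim (⟨i, Rel.refl _ i⟩ : {x // Rel (DD e K) i x}) ⟨j, hij⟩
    exact congrArg Subtype.val this
  exact (hK' ⟨n, hn⟩).2 (fun i j hij => by rw [hsub i j ((hc i j).1 hij)])

end abstract

end Cfsg.Agent.Helper58.ONS
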