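import Mathlib
import Cfsg.Agent.Helper58.UniqueDer
import Cfsg.Agent.Helper58.EPBasic

/-!
# A nonabelian minimal normal subgroup is a power of a simple group (helper58)

For a `Ctx N T₀` (a minimal `N`-invariant subgroup `T₀` of the minimal normal subgroup `N`),
the conjugates of `T₀` are indexed by `Idx T₀`, and `N ≃* (Idx T₀ → T₀)` equivariantly.
-/

set_option autoImplicit false

namespace Cfsg.Agent.Helper58.ONS

open Cfsg.Agent.Helper58.UDer

section conj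
variable {G : Type*} [Group G]

/-- conjugation by `w` as an isomorphism `S ≃* S'` when `cj w S = S'` -/
noncomputable def conjEquiv (w : G) {S S' : Subgroup G} (h : cj w S = S') : S ≃* S' :=
  (S.equivMapOfInjective (MulAut.conj w).toMonoidHom (MulAut.conj w).injective).trans
    (MulEquiv.subgroupCongr h)

theorem conjEquiv_coe (w : G) {S S' : Subgroup G} (h : cj w S = S') (s : S) :
    ((conjEquiv w h s : S') : G) = w * s * w⁻¹ := rfl

/-- the conjugates of `T₀` -/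
@[ext] structure Idx (T₀ : Subgroup G) where
  S : Subgroup G
  ex : ∃ g, cj g T₀ = S

variable {T₀ : Subgroup G}

instance [Finite G] : Finite (Idx T₀) :=
  Finite.of_injective (fun i => i.S) (fun _ _ h => Idx.ext h)

noncomputable instance [Finite G] : Fintype (Idx T₀) := Fintype.ofFinite _

noncomputable instance : DecidableEq (Idx T₀) := Classical.decEq _

instance : MulAction G (Idx T₀) where
  smul g i := ⟨cj g i.S, by obtain ⟨g', hg'⟩ := i.ex; exact ⟨g * g', by rw [cj_mul, hg']⟩⟩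
  one_smul i := Idx.ext (cj_one _)
  mul_smul g h i := Idx.ext (cj_mul g h _)

theorem Idx.smul_S (g : G) (i : Idx T₀) : (g • i).S = cj g i.S := rfl

/-- a conjugating element for the index `i` -/
noncomputable def Idx.g (i : Idx T₀) : G := i.ex.choose

theorem Idx.g_spec (i : Idx T₀) : cj i.g T₀ = i.S := i.ex.choose_spec

instance : Nonempty (Idx T₀) := ⟨⟨T₀, 1, cj_one _⟩⟩

theorem Idx.exists_smul_eq (i j : Idx T₀) : ∃ g : G, g • i = j := by
  refine ⟨j.g * i.g⁻¹, Idx.ext ?_⟩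
  have h1 : cj i.g⁻¹ i.S = T₀ := by rw [← i.g_spec, ← cj_mul, inv_mul_cancel, cj_one]
  rw [Idx.smul_S, cj_mul, h1, j.g_spec]

theorem Idx.card_S (i : Idx T₀) : Nat.card i.S = Nat.card T₀ := by
  rw [← i.g_spec, card_cj]

variable {N : Subgroup G}

theorem Idx.ctx [N.Normal] (h : Ctx N T₀) (i : Idx T₀) : Ctx N i.S := by
  rw [← i.g_spec]; exact h.conj i.g

theorem Idx.smul_eq_of_mem [N.Normal] (h : Ctx N T₀) (i : Idx T₀) {n : G} (hn : n ∈ N) :
    n • i = i := Idx.ext ((i.ctx h).cj_eq_of_mem hn)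

theorem Idx.comm [Finite G] [N.Normal] (h : Ctx N T₀) :
    Pairwise fun i j : Idx T₀ => ∀ x y : G, x ∈ i.S → y ∈ j.S → Commute x y := by
  intro i j hij x y hx hy
  rcases (i.ctx h).eq_or_disjoint (j.ctx h) (by rw [i.card_S, j.card_S]) with he | hd
  · exact absurd (Idx.ext he) hij
  · exact (i.ctx h).commute_of_disjoint (j.ctx h) hd hx hy

theorem Idx.S_le_cen [Finite G] [N.Normal] (h : Ctx N T₀) {i j : Idx T₀} (hij : i ≠ j) :
    j.S ≤ cen N i.S := by
  intro x hx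
  rw [mem_cen]
  exact ⟨(j.ctx h).hTN hx, fun t ht => Idx.comm h hij t x ht hx⟩

end conj

section main
variable {G : Type*} [Group G] [Finite G] {N T₀ : Subgroup G} [N.Normal]

theorem Idx.indep (h : Ctx N T₀)
    (hminN : ∀ M : Subgroup G, M.Normal → M ≤ N → M = ⊥ ∨ M = N)
    (hna : ¬ ∀ a ∈ N, ∀ b ∈ N, a * b = b * a) : iSupIndep (fun i : Idx T₀ => i.S) := by
  intro i
  rw [Subgroup.disjoint_def]
  intro x hx hx'
  have hle : (⨆ j, ⨆ (_ : j ≠ i), j.S) ≤ cen N i.S :=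
    iSup_le fun j => iSup_le fun hj => Idx.S_le_cen h (Ne.symm hj)
  exact (i.ctx h).inf_cen hminN hna hx (hle hx')

/-- the product map `∏ T_i → G` -/
noncomputable def E (h : Ctx N T₀) : (∀ i : Idx T₀, i.S) →* G :=
  Subgroup.noncommPiCoprod (Idx.comm h)

theorem E_mulSingle (h : Ctx N T₀) (i : Idx T₀) (y : i.S) : E h (Pi.mulSingle i y) = y :=
  Subgroup.noncommPiCoprod_mulSingle i y

theorem E_injective (h : Ctx N T₀)
    (hminN : ∀ M : Subgroup G, M.Normal → M ≤ N → M = ⊥ ∨ M = N)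
    (hna : ¬ ∀ a ∈ N, ∀ b ∈ N, a * b = b * a) : Function.Injective (E h) :=
  Subgroup.injective_noncommPiCoprod_of_iSupIndep (Idx.indep h hminN hna)

theorem E_range (h : Ctx N T₀)
    (hminN : ∀ M : Subgroup G, M.Normal → M ≤ N → M = ⊥ ∨ M = N) : (E h).range = N := by
  unfold E
  rw [Subgroup.noncommPiCoprod_range]
  apply le_antisymm
  · exact iSup_le fun i => (i.ctx h).hTN
  · rw [← h.normalClosure_eq hminN]
    unfold Subgroup.normalClosure
    rw [Subgroup.closure_le]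
    intro a ha
    obtain ⟨g, hag⟩ := mem_conjugatesOfSet_cj ha
    exact Subgroup.mem_iSup_of_mem (⟨cj g T₀, g, rfl⟩ : Idx T₀) hag

theorem E_mem (h : Ctx N T₀)
    (hminN : ∀ M : Subgroup G, M.Normal → M ≤ N → M = ⊥ ∨ M = N) (f : ∀ i : Idx T₀, i.S) :
    E h f ∈ N := by
  have h1 : E h f ∈ (E h).range := ⟨f, rfl⟩
  rwa [E_range h hminN] at h1

/-- the product isomorphism `∏ T_i ≃* N` -/
noncomputable def Ee (h : Ctx N T₀)
    (hminN : ∀ M : Subgroup G, M.Normal → M ≤ N → M = ⊥ ∨ M = N)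
    (hna : ¬ ∀ a ∈ N, ∀ b ∈ N, a * b = b * a) : (∀ i : Idx T₀, i.S) ≃* N :=
  MulEquiv.ofBijective ((E h).codRestrict N (E_mem h hminN))
    ⟨fun f f' hff => E_injective h hminN hna (congrArg Subtype.val hff), fun n => by
      have hn : (n : G) ∈ (E h).range := by rw [E_range h hminN]; exact n.2
      obtain ⟨f, hf⟩ := hn
      exact ⟨f, Subtype.ext hf⟩⟩

theorem Ee_coe (h : Ctx N T₀)
    (hminN : ∀ M : Subgroup G, M.Normal → M ≤ N → M = ⊥ ∨ M = N)
    (hna : ¬ ∀ a ∈ N, ∀ b ∈ N, a * b = b * a) (f : ∀ i : Idx T₀, i.S) :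
    ((Ee h hminN hna f : N) : G) = E h f := rfl

/-- the `i`-th coordinate projection `N →* T_i` -/
noncomputable def pr (h : Ctx N T₀)
    (hminN : ∀ M : Subgroup G, M.Normal → M ≤ N → M = ⊥ ∨ M = N)
    (hna : ¬ ∀ a ∈ N, ∀ b ∈ N, a * b = b * a) (i : Idx T₀) : N →* i.S :=
  (Pi.evalMonoidHom (fun j : Idx T₀ => j.S) i).comp (Ee h hminN hna).symm.toMonoidHom

theorem pr_of_mem (h : Ctx N T₀)
    (hminN : ∀ M : Subgroup G, M.Normal → M ≤ N → M = ⊥ ∨ M = N)
    (hna : ¬ ∀ a ∈ N, ∀ b ∈ N, a * b = b * a) (i : Idx T₀) (t : N) (ht : (t : G) ∈ i.S) :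
    pr h hminN hna i t = ⟨t, ht⟩ := by
  have h1 : Ee h hminN hna (Pi.mulSingle i ⟨t, ht⟩) = t := by
    apply Subtype.ext
    rw [Ee_coe, E_mulSingle]
  have h2 : (Ee h hminN hna).symm t = Pi.mulSingle i ⟨t, ht⟩ := by
    rw [MulEquiv.symm_apply_eq, h1]
  show ((Ee h hminN hna).symm t) i = _
  rw [h2, Pi.mulSingle_eq_same]

theorem pr_of_cen (h : Ctx N T₀)
    (hminN : ∀ M : Subgroup G, M.Normal → M ≤ N → M = ⊥ ∨ M = N)
    (hna : ¬ ∀ a ∈ N, ∀ b ∈ N, a * b = b * a) (i : Idx T₀) (c : N) (hc : (c : G) ∈ cen N i.S) :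
    pr h hminN hna i c = 1 := by
  have hz : ((pr h hminN hna i c : i.S) : G) = 1 := by
    apply (i.ctx h).center_trivial hminN hna (pr h hminN hna i c).2
    intro t ht
    have hcomm : c * (⟨t, (i.ctx h).hTN ht⟩ : N) = ⟨t, (i.ctx h).hTN ht⟩ * c := by
      apply Subtype.ext
      exact ((mem_cen.1 hc).2 t ht).symm
    have h1 := congrArg (pr h hminN hna i) hcomm
    rw [map_mul, map_mul, pr_of_mem h hminN hna i ⟨t, (i.ctx h).hTN ht⟩ ht] at h1
    exact congrArg Subtype.val h1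
  exact Subtype.ext hz

theorem pr_eq (h : Ctx N T₀)
    (hminN : ∀ M : Subgroup G, M.Normal → M ≤ N → M = ⊥ ∨ M = N)
    (hna : ¬ ∀ a ∈ N, ∀ b ∈ N, a * b = b * a) (i : Idx T₀) (n : N) {t c : G}
    (ht : t ∈ i.S) (hc : c ∈ cen N i.S) (hn : (n : G) = t * c) :
    ((pr h hminN hna i n : i.S) : G) = t := by
  have hn' : n = (⟨t, (i.ctx h).hTN ht⟩ : N) * ⟨c, (mem_cen.1 hc).1⟩ := Subtype.ext hn
  rw [hn', map_mul, pr_of_mem h hminN hna i _ ht, pr_of_cen h hminN hna i _ hc, mul_one]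


omit [Finite G] in
/-- conjugation moves the centralizer of `T` in `N` to that of the conjugate -/
theorem cen_cj {T : Subgroup G} (g : G) {c : G} (hc : c ∈ cen N T) :
    g * c * g⁻¹ ∈ cen N (cj g T) := by
  rw [mem_cen] at hc ⊢
  refine ⟨‹N.Normal›.conj_mem c hc.1 g, fun t ht => ?_⟩
  rw [mem_cj] at ht
  have := hc.2 _ ht
  calc t * (g * c * g⁻¹) = g * ((g⁻¹ * t * g) * c) * g⁻¹ := by group
    _ = g * (c * (g⁻¹ * t * g)) * g⁻¹ := by rw [this]
    _ = g * c * g⁻¹ * t := by group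

/-- equivariance of the coordinate projections -/
theorem pr_conj (h : Ctx N T₀)
    (hminN : ∀ M : Subgroup G, M.Normal → M ≤ N → M = ⊥ ∨ M = N)
    (hna : ¬ ∀ a ∈ N, ∀ b ∈ N, a * b = b * a) (g : G) (n : N) (i : Idx T₀) :
    ((pr h hminN hna (g • i) ⟨g * n * g⁻¹, ‹N.Normal›.conj_mem n n.2 g⟩ : (g • i).S) : G) =
      g * (pr h hminN hna i n : i.S) * g⁻¹ := by
  obtain ⟨t, ht, c, hc, hn⟩ := (i.ctx h).decomp hminN n.2
  rw [pr_eq h hminN hna i n ht hc hn]
  apply pr_eq h hminN hna (g • i) _ (t := g * t * g⁻¹) (c := g * c * g⁻¹)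
  · exact conj_mem_cj ht
  · exact cen_cj g hc
  · show g * (n : G) * g⁻¹ = _
    rw [hn]; group

/-- the coordinate isomorphism `N ≃* (Idx T₀ → T₀)` -/
noncomputable def e (h : Ctx N T₀)
    (hminN : ∀ M : Subgroup G, M.Normal → M ≤ N → M = ⊥ ∨ M = N)
    (hna : ¬ ∀ a ∈ N, ∀ b ∈ N, a * b = b * a) : N ≃* (Idx T₀ → T₀) :=
  (Ee h hminN hna).symm.trans
    (MulEquiv.piCongrRight (fun i : Idx T₀ => (conjEquiv i.g i.g_spec).symm))

theorem e_apply (h : Ctx N T₀)
    (hminN : ∀ M : Subgroup G, M.Normal → M ≤ N → M = ⊥ ∨ M = N)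
    (hna : ¬ ∀ a ∈ N, ∀ b ∈ N, a * b = b * a) (n : N) (i : Idx T₀) :
    i.g * (e h hminN hna n i : T₀) * i.g⁻¹ = (pr h hminN hna i n : i.S) := by
  rw [← conjEquiv_coe i.g i.g_spec]
  congr 1
  show (conjEquiv i.g i.g_spec) ((conjEquiv i.g i.g_spec).symm (((Ee h hminN hna).symm n) i)) = _
  rw [MulEquiv.apply_symm_apply]
  rfl

/-- the element whose conjugation transports coordinate `i` to coordinate `g • i` -/
noncomputable def tw (g : G) (i : Idx T₀) : G := (g • i).g⁻¹ * g * i.g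

omit [Finite G] in
theorem cj_tw (g : G) (i : Idx T₀) : cj (tw g i) T₀ = T₀ := by
  unfold tw
  rw [cj_mul, cj_mul, i.g_spec, ← Idx.smul_S, ← (g • i).g_spec, ← cj_mul, inv_mul_cancel, cj_one]

/-- the automorphism of `T₀` transporting coordinate `i` to coordinate `g • i` -/
noncomputable def psi (g : G) (i : Idx T₀) : T₀ ≃* T₀ := conjEquiv (tw g i) (cj_tw g i)

/-- equivariance of the coordinate isomorphism -/
theorem e_conj (h : Ctx N T₀)
    (hminN : ∀ M : Subgroup G, M.Normal → M ≤ N → M = ⊥ ∨ M = N)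
    (hna : ¬ ∀ a ∈ N, ∀ b ∈ N, a * b = b * a) (g : G) (n : N) (i : Idx T₀) :
    e h hminN hna ⟨g * n * g⁻¹, ‹N.Normal›.conj_mem n n.2 g⟩ (g • i) =
      psi g i (e h hminN hna n i) := by
  apply Subtype.ext
  rw [psi, conjEquiv_coe]
  have h1 := e_apply h hminN hna ⟨g * n * g⁻¹, ‹N.Normal›.conj_mem n n.2 g⟩ (g • i)
  have h2 := e_apply h hminN hna n i
  rw [pr_conj h hminN hna g n i, ← h2] at h1
  unfold tw
  calc ((e h hminN hna ⟨g * n * g⁻¹, _⟩ (g • i) : T₀) : G)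
      = (g • i).g⁻¹ * ((g • i).g * (e h hminN hna ⟨g * n * g⁻¹, _⟩ (g • i) : T₀) * (g • i).g⁻¹)
          * (g • i).g := by group
    _ = (g • i).g⁻¹ * (g * (i.g * (e h hminN hna n i : T₀) * i.g⁻¹) * g⁻¹) * (g • i).g := by
        rw [h1]
    _ = _ := by group

/-- `T₀` is a simple group -/
theorem isSimpleGroup_T (h : Ctx N T₀)
    (hminN : ∀ M : Subgroup G, M.Normal → M ≤ N → M = ⊥ ∨ M = N) : IsSimpleGroup T₀ := by
  have : Nontrivial T₀ := (Subgroup.nontrivial_iff_ne_bot T₀).2 h.hT1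
  refine ⟨fun H hH => ?_⟩
  by_cases hH1 : H = ⊥
  · exact Or.inl hH1
  · right
    have hle0 : H.map T₀.subtype ≤ T₀ := Subgroup.map_subtype_le H
    have hle : H.map T₀.subtype ≤ N := hle0.trans h.hTN
    have hne : H.map T₀.subtype ≠ ⊥ := by
      intro hb
      apply hH1
      rw [Subgroup.map_eq_bot_iff_of_injective _ T₀.subtype_injective] at hb
      exact hb
    have hinv : ∀ n ∈ N, ∀ s ∈ H.map T₀.subtype, n * s * n⁻¹ ∈ H.map T₀.subtype := by
      rintro n hn s ⟨s', hs', rfl⟩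
      obtain ⟨t, ht, c, hc, rfl⟩ := h.decomp hminN hn
      refine ⟨⟨t, ht⟩ * s' * ⟨t, ht⟩⁻¹, hH.conj_mem s' hs' ⟨t, ht⟩, ?_⟩
      have hcs := (mem_cen.1 hc).2 s' s'.2
      show t * (s' : G) * t⁻¹ = t * c * (s' : G) * (t * c)⁻¹
      calc t * (s' : G) * t⁻¹ = t * ((s' : G) * c) * c⁻¹ * t⁻¹ := by group
        _ = t * (c * (s' : G)) * c⁻¹ * t⁻¹ := by rw [hcs]
        _ = t * c * (s' : G) * (t * c)⁻¹ := by group
    have hc := h.hmin _ hle hne hinv
    have heq : H.map T₀.subtype = T₀ := Subgroup.eq_of_le_of_card_ge hle0 hc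
    rw [eq_top_iff]
    intro x _
    have hx : (x : G) ∈ H.map T₀.subtype := by rw [heq]; exact x.2
    obtain ⟨y, hy, hyx⟩ := hx
    have : y = x := Subtype.ext hyx
    exact this ▸ hy

/-- `T₀` is not commutative -/
theorem not_comm_T (h : Ctx N T₀)
    (hminN : ∀ M : Subgroup G, M.Normal → M ≤ N → M = ⊥ ∨ M = N)
    (hna : ¬ ∀ a ∈ N, ∀ b ∈ N, a * b = b * a) : ¬ IsMulCommutative T₀ := by
  intro hcomm
  apply h.hT1
  rw [Subgroup.eq_bot_iff_forall]
  intro z hz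
  apply h.center_trivial hminN hna hz
  intro t ht
  have := hcomm.is_comm.comm (⟨z, hz⟩ : T₀) ⟨t, ht⟩
  exact congrArg Subtype.val this

end main

end Cfsg.Agent.Helper58.ONS
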