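import Mathlib

set_option autoImplicit false

namespace Cfsg.Agent.Helper58.ONS

/-- a copy of `Fin n` without algebraic instances -/
structure Copy (n : ℕ) where
  /-- the underlying index -/
  val : Fin n

/-- `Copy n ≃ Fin n` -/
def Copy.equiv (n : ℕ) : Copy n ≃ Fin n := ⟨Copy.val, Copy.mk, fun _ => rfl, fun _ => rfl⟩

/-- transport the O'Nan–Scott conclusion to index type `Fin m` and a coordinate group in `Type` -/
theorem transport {N : Type*} [Group N] (P : N → Prop) {ι T : Type*} [Finite ι] [Nonempty ι]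
    [Group T] [Finite T] (e : N ≃* (ι → T)) (hs : IsSimpleGroup T) (hc : ¬ IsMulCommutative T)
    (h : (∃ K : ι → Subgroup T, (∀ i, K i ≠ ⊤) ∧ ∀ n, P n ↔ ∀ i, e n i ∈ K i) ∨
      (∃ (k : ℕ) (c : ι → ι), 2 ≤ k ∧
        (∀ j, Nat.card {i // c i = j} = k ∨ Nat.card {i // c i = j} = 0) ∧
        ∀ n, P n ↔ ∀ i j, c i = c j → e n i = e n j)) :
    ∃ (T' : Type) (_ : Group T') (m : ℕ) (e' : N ≃* (Fin m → T')),
      IsSimpleGroup T' ∧ ¬ IsMulCommutative T' ∧ 0 < m ∧
      ((∃ K : Fin m → Subgroup T', (∀ i, K i ≠ ⊤) ∧ ∀ n, P n ↔ ∀ i, e' n i ∈ K i) ∨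
       (∃ (k : ℕ) (c : Fin m → Fin m), 2 ≤ k ∧
        (∀ j, Nat.card {i // c i = j} = k ∨ Nat.card {i // c i = j} = 0) ∧
        ∀ n, P n ↔ ∀ i j, c i = c j → e' n i = e' n j)) := by
  let ε : ι ≃ Fin (Nat.card ι) := Finite.equivFin ι
  let τ₀ : T ≃ Copy (Nat.card T) := (Finite.equivFin T).trans (Copy.equiv _).symm
  let inst : Group (Copy (Nat.card T)) := τ₀.symm.group
  let τ : Copy (Nat.card T) ≃* T := τ₀.symm.mulEquiv
  let e' : N ≃* (Fin (Nat.card ι) → Copy (Nat.card T)) := e.trans (MulEquiv.arrowCongr ε τ.symm)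
  have he' : ∀ n i', e' n i' = τ.symm (e n (ε.symm i')) := fun n i' => rfl
  refine ⟨Copy (Nat.card T), inst, Nat.card ι, e', ?_, ?_, Nat.card_pos, ?_⟩
  · exact τ.isSimpleGroup
  · intro hcomm
    apply hc
    refine ⟨⟨fun a b => ?_⟩⟩
    have := hcomm.is_comm.comm (τ.symm a) (τ.symm b)
    apply τ.symm.injective
    rw [map_mul, map_mul]
    exact this
  · rcases h with ⟨K, hK, hP⟩ | ⟨k, c, hk, hfib, hP⟩
    · left
      refine ⟨fun i' => (K (ε.symm i')).comap τ.toMonoidHom, fun i' htop => ?_, fun n => ?_⟩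
      · have htop : (K (ε.symm i')).comap τ.toMonoidHom = ⊤ := htop
        apply hK (ε.symm i')
        rw [eq_top_iff]
        intro t _
        have : τ.symm t ∈ (K (ε.symm i')).comap τ.toMonoidHom := by rw [htop]; trivial
        rw [Subgroup.mem_comap] at this
        simpa using this
      · rw [hP n]
        constructor
        · intro h i'
          rw [Subgroup.mem_comap, he']
          simpa using h (ε.symm i')
        · intro h i
          have := h (ε i)
          rw [Subgroup.mem_comap, he'] at this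
          simpa using this
    · right
      refine ⟨k, fun i' => ε (c (ε.symm i')), hk, fun j' => ?_, fun n => ?_⟩
      · have : Nat.card {i' // ε (c (ε.symm i')) = j'} = Nat.card {i // c i = ε.symm j'} :=
          Nat.card_congr (Equiv.subtypeEquiv ε.symm (fun i' => by
            rw [← Equiv.eq_symm_apply, eq_comm]))
        rw [this]
        exact hfib _
      · rw [hP n]
        constructor
        · intro h i' j' hij
          rw [he', he', h _ _ (ε.injective hij)]
        · intro h i j hij
          have := h (ε i) (ε j) (by simp [hij])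
          rw [he', he'] at this
          simpa using this

end Cfsg.Agent.Helper58.ONS
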