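import Mathlib
import Cfsg.Agent.Helper58.ONSSubdirect
import Cfsg.Agent.Helper58.ONSProd
import Cfsg.Agent.Helper58.ONSCases
import Cfsg.Agent.Helper58.ONSTransport
import Cfsg.Agent.Helper58.PrimNormal

/-!
# O'Nan–Scott: point stabilizer meets a nonabelian minimal normal subgroup (helper58)

`ons_main`: for a finite faithful primitive group `G` with a nonabelian minimal normal subgroup `N`,
`N ≃* (Fin m → T)` with `T` nonabelian simple, and `N ⊓ G_a` is a product of proper subgroups or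
a product of diagonals over blocks of equal size `k ≥ 2`.
-/

set_option autoImplicit false

namespace Cfsg.Agent.Helper58.ONS

open Cfsg.Agent.Helper58 Cfsg.Agent.Helper58.UDer MulAction

/-- the O'Nan–Scott dichotomy for an abstract faithful primitive finite group -/
theorem ons_main {G : Type*} [Group G] [Finite G] {α : Type*} [MulAction G α] [FaithfulSMul G α]
    (hprim : IsPreprimitive G α) (N : Subgroup G) [N.Normal] (hN : N ≠ ⊥)
    (hmin : ∀ M : Subgroup G, M.Normal → M ≤ N → M = ⊥ ∨ M = N)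
    (hnab : ¬ IsMulCommutative N) (a : α) :
    ∃ (T : Type) (_ : Group T) (m : ℕ) (e : N ≃* (Fin m → T)),
      IsSimpleGroup T ∧ ¬ IsMulCommutative T ∧ 0 < m ∧
      ((∃ K : Fin m → Subgroup T, (∀ i, K i ≠ ⊤) ∧
          ∀ n : N, (n : G) ∈ stabilizer G a ↔ ∀ i, e n i ∈ K i) ∨
       (∃ (k : ℕ) (c : Fin m → Fin m), 2 ≤ k ∧
        (∀ j, Nat.card {i // c i = j} = k ∨ Nat.card {i // c i = j} = 0) ∧
        ∀ n : N, (n : G) ∈ stabilizer G a ↔ ∀ i j, c i = c j → e n i = e n j)) := by
  have hna : ¬ ∀ a ∈ N, ∀ b ∈ N, a * b = b * a := by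
    intro hcomm
    exact hnab ⟨⟨fun x y => Subtype.ext (hcomm x x.2 y y.2)⟩⟩
  obtain ⟨T₀, h⟩ := exists_ctx N hN
  have htr : ∀ x y : α, ∃ n ∈ N, n • x = y := normal_trans hprim N hN
  have hnt : Nontrivial α := by
    obtain ⟨⟨n, hn⟩, hn1⟩ := (Subgroup.ne_bot_iff_exists_ne_one).1 hN
    by_contra hnt
    rw [not_nontrivial_iff_subsingleton] at hnt
    apply hn1
    apply Subtype.ext
    apply FaithfulSMul.eq_of_smul_eq_smul (α := α)
    intro x
    exact Subsingleton.elim _ _
  have := hprim.toIsPretransitive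
  have hK : IsCoatom (stabilizer G a) := (isCoatom_stabilizer_iff_preprimitive (G := G) a).2 hprim
  have htransK : ∀ i j : Idx T₀, ∃ k ∈ stabilizer G a, k • i = j := by
    intro i j
    obtain ⟨g, rfl⟩ := Idx.exists_smul_eq i j
    obtain ⟨n, hn, hna⟩ := htr a (g⁻¹ • a)
    refine ⟨g * n, ?_, ?_⟩
    · rw [mem_stabilizer_iff, mul_smul, hna, smul_inv_smul]
    · rw [mul_smul, Idx.smul_eq_of_mem h i hn]
  have hNK : ¬ N ≤ stabilizer G a := by
    intro hle
    exact hN (Cfsg.Agent.Helper58.EP.normal_le_stab_eq_bot N htr N (fun g u hu => ‹N.Normal›.conj_mem u hu g) a hle)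
  have hsimple : IsSimpleGroup T₀ := isSimpleGroup_T h hmin
  have hnc : ¬ IsMulCommutative T₀ := not_comm_T h hmin hna
  by_cases hall : ∀ i, RR (e h hmin hna) (stabilizer G a) i = ⊤
  · obtain ⟨k, c, e', hk, hfib, hP⟩ := diag_case (e h hmin hna) psi (stabilizer G a) hnc
      (e_conj h hmin hna) htransK hall hNK
    exact transport (fun n : N => (n : G) ∈ stabilizer G a) e' hsimple hnc
      (Or.inr ⟨k, c, hk, hfib, hP⟩)
  · push Not at hall
    obtain ⟨i₀, h0⟩ := hall
    obtain ⟨hne, hP⟩ := prod_case (e h hmin hna) psi (stabilizer G a)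
      (e_conj h hmin hna) hK htransK h0
    exact transport (fun n : N => (n : G) ∈ stabilizer G a) (e h hmin hna) hsimple hnc
      (Or.inl ⟨RR (e h hmin hna) (stabilizer G a), hne, hP⟩)

end Cfsg.Agent.Helper58.ONS
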