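import Cfsg.Agent.Helper78.Olsson.Defs
import Cfsg.Agent.Helper16.ContribCC
import Cfsg.Agent.S4431

/-!
# Piece (CG) of helper78's S4539 (Olsson, #7662): the Cartan matrix of a basic set is the inverse
of its Gram matrix.  (helper58)
-/

set_option autoImplicit false
set_option linter.style.haveILetI false
set_option linter.unusedSectionVars false
set_option linter.unusedVariables false

noncomputable section

namespace Cfsg.Agent.Helper58.Olsson

open Cfsg
open scoped ComplexConjugate
open Cfsg.Agent.S4426 (cut)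
open Cfsg.Agent.Helper78.Olsson

variable {H : Type*} [Group H] [Fintype H] {M : Ideal AlgInt} {p : ℕ}

omit [Fintype H] in
theorem cut_apply_of_dvd (c : ℂ) (f : H → ℂ) {h : H} (hh : p ∣ orderOf h) : cut p c f h = 0 := by
  unfold cut; rw [if_pos hh]

omit [Fintype H] in
theorem cut_one_apply_of_not_dvd (f : H → ℂ) {h : H} (hh : ¬ p ∣ orderOf h) :
    cut p 1 f h = f h := by
  unfold cut; rw [if_neg hh, one_mul]

/-- the inner product with a function vanishing off the `p`-regular elements sees only the
`p`-regular part -/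
theorem classInner_cut_right (f g : H → ℂ) (hf : cut p 1 f = f) :
    classInner f g = classInner f (cut p 1 g) := by
  unfold classInner
  congr 1
  refine Finset.sum_congr rfl fun h _ => ?_
  by_cases hh : p ∣ orderOf h
  · have : f h = 0 := by rw [← hf]; exact cut_apply_of_dvd 1 f hh
    rw [this, zero_mul, zero_mul]
  · rw [cut_one_apply_of_not_dvd g hh]

/-- the members of a basic set vanish off the `p`-regular elements -/
theorem LatData.cut_phi {b : Set (IrrCharacter H)} (L : LatData p b) (k : Fin 2) :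
    cut p 1 (L.φ k) = L.φ k := by
  funext h
  by_cases hh : p ∣ orderOf h
  · rw [cut_apply_of_dvd 1 _ hh, L.hA]
    symm
    apply Finset.sum_eq_zero
    intro θ _
    rw [cut_apply_of_dvd 1 _ hh, mul_zero]
  · exact cut_one_apply_of_not_dvd _ hh

/-- the members of a basic set are class functions -/
theorem LatData.isClassFunction_phi {b : Set (IrrCharacter H)} (L : LatData p b) (k : Fin 2) :
    IsClassFunction H (L.φ k) := by
  intro g h
  rw [L.hA, L.hA]
  refine Finset.sum_congr rfl fun θ _ => ?_
  rw [Cfsg.Agent.Helper16.isClassFunction_cut' p 1 (Helper79.irr_isClassFunction θ) g h]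

/-- the `p`-regular part of `θ ∈ b` as a combination of the basic set -/
theorem LatData.cut_eq {b : Set (IrrCharacter H)} (L : LatData p b) {θ : IrrCharacter H}
    (hθ : θ ∈ b) :
    cut p 1 (θ : H → ℂ) = (L.x θ 0 : ℂ) • L.φ 0 + (L.x θ 1 : ℂ) • L.φ 1 := by
  funext h
  rw [L.hx θ hθ h]
  simp only [Pi.add_apply, Pi.smul_apply, smul_eq_mul]

/-- the coefficients of a member of the basic set -/
theorem LatData.classInner_phi_irr [Fact p.Prime] (hM : IsPModular p M)
    {b : Set (IrrCharacter H)} (hb : IsPBlock M b) (L : LatData p b) (k : Fin 2)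
    (θ : IrrCharacter H) :
    classInner (L.φ k) (θ : H → ℂ) =
      (L.x θ 0 : ℂ) * classInner (L.φ k) (L.φ 0) + (L.x θ 1 : ℂ) * classInner (L.φ k) (L.φ 1) := by
  by_cases hθ : θ ∈ b
  · rw [classInner_cut_right _ _ (LatData.cut_phi L k), LatData.cut_eq L hθ, Helper79.classInner_add_right,
      Helper79.classInner_smul_right, Helper79.classInner_smul_right, map_intCast,
      map_intCast]
  · rw [L.hx0 θ hθ]
    simp only [Pi.zero_apply, Int.cast_zero, zero_mul, add_zero]
    have hMp : M.IsPrime := Helper78.isPrime_of_isPModular hM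
    have hφ : L.φ k = ∑ θ' : IrrCharacter H, (L.A k θ' : ℂ) • cut p 1 (θ' : H → ℂ) := by
      funext h
      rw [L.hA, Finset.sum_apply]
      simp only [Pi.smul_apply, smul_eq_mul]
    rw [hφ, Helper79.classInner_sum_left]
    apply Finset.sum_eq_zero
    intro θ' _
    rw [Helper79.classInner_smul_left]
    by_cases hθ' : θ' ∈ b
    · have hbeq := Helper78.isPBlock_eq_blockOf_of_mem hMp hb hθ'
      rw [Cfsg.Agent.S4431.classInner_cut_eq_zero hM 1 θ' θ (by rw [← hbeq]; exact hθ), mul_zero]
    · rw [L.hA0 k θ' hθ', Int.cast_zero, zero_mul]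

/-- Gram matrix times Cartan matrix -/
theorem LatData.gram_mul_cartan [Fact p.Prime] (hM : IsPModular p M) {b : Set (IrrCharacter H)}
    (hb : IsPBlock M b) (L : LatData p b) (k i : Fin 2) :
    ∑ l : Fin 2, classInner (L.φ k) (L.φ l) * (L.C l i : ℂ) = if k = i then 1 else 0 := by
  classical
  -- expansion of `φ k`
  have hexp : L.φ k = ∑ θ : IrrCharacter H,
      classInner (L.φ k) (θ : H → ℂ) • cut p 1 (θ : H → ℂ) := by
    have h1 := Helper79.classFunction_expansion (LatData.isClassFunction_phi L k)
    have h2 := congrArg (cut p 1) h1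
    rw [LatData.cut_phi L k, Cfsg.Agent.Helper16.cut_sum_smul] at h2
    exact h2
  -- rewrite everything in the basic set
  have hterm : ∀ θ : IrrCharacter H,
      classInner (L.φ k) (θ : H → ℂ) • cut p 1 (θ : H → ℂ) =
        (((L.x θ 0 : ℂ) * classInner (L.φ k) (L.φ 0) +
          (L.x θ 1 : ℂ) * classInner (L.φ k) (L.φ 1)) * (L.x θ 0 : ℂ)) • L.φ 0 +
        (((L.x θ 0 : ℂ) * classInner (L.φ k) (L.φ 0) +
          (L.x θ 1 : ℂ) * classInner (L.φ k) (L.φ 1)) * (L.x θ 1 : ℂ)) • L.φ 1 := by
    intro θ
    rw [LatData.classInner_phi_irr hM hb L k θ]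
    by_cases hθ : θ ∈ b
    · rw [LatData.cut_eq L hθ, smul_add, smul_smul, smul_smul]
    · rw [L.hx0 θ hθ]
      simp only [Pi.zero_apply, Int.cast_zero, zero_mul, add_zero, zero_smul]
  have hsum : L.φ k =
      (∑ l : Fin 2, classInner (L.φ k) (L.φ l) * (L.C l 0 : ℂ)) • L.φ 0 +
        (∑ l : Fin 2, classInner (L.φ k) (L.φ l) * (L.C l 1 : ℂ)) • L.φ 1 := by
    conv_lhs => rw [hexp]
    rw [Finset.sum_congr rfl (fun θ _ => hterm θ), Finset.sum_add_distrib, ← Finset.sum_smul,
      ← Finset.sum_smul]
    congr 2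
    · rw [Fin.sum_univ_two]
      unfold LatData.C cartan
      push_cast
      rw [Finset.mul_sum, Finset.mul_sum, ← Finset.sum_add_distrib]
      refine Finset.sum_congr rfl fun θ _ => ?_
      ring
    · rw [Fin.sum_univ_two]
      unfold LatData.C cartan
      push_cast
      rw [Finset.mul_sum, Finset.mul_sum, ← Finset.sum_add_distrib]
      refine Finset.sum_congr rfl fun θ _ => ?_
      ring
  -- linear independence
  have hli := Fintype.linearIndependent_iff.mp L.hli
  set a : Fin 2 → ℂ := fun i => ∑ l : Fin 2, classInner (L.φ k) (L.φ l) * (L.C l i : ℂ) with ha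
  have hzero : ∑ j : Fin 2, (a j - if k = j then 1 else 0) • L.φ j = 0 := by
    have h1 : ∑ j : Fin 2, (a j - if k = j then (1 : ℂ) else 0) • L.φ j =
        (a 0 • L.φ 0 + a 1 • L.φ 1) - L.φ k := by
      simp only [sub_smul, Finset.sum_sub_distrib, Fin.sum_univ_two]
      congr 1
      fin_cases k <;> simp
    rw [h1, ← hsum, sub_self]
  have := hli _ hzero i
  exact sub_eq_zero.mp this

/-- **(CG)** the Cartan matrix is the inverse of the Gram matrix of the basic set. -/
theorem LatData.cartan_mul_gram [Fact p.Prime] (hM : IsPModular p M) {b : Set (IrrCharacter H)}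
    (hb : IsPBlock M b) (L : LatData p b) (i k : Fin 2) :
    ∑ j : Fin 2, (L.C i j : ℂ) * classInner (L.φ j) (L.φ k) = if i = k then 1 else 0 := by
  classical
  set Gm : Matrix (Fin 2) (Fin 2) ℂ := fun a c => classInner (L.φ a) (L.φ c) with hGm
  set Cm : Matrix (Fin 2) (Fin 2) ℂ := fun a c => (L.C a c : ℂ) with hCm
  have h1 : Gm * Cm = 1 := by
    ext a c
    rw [Matrix.mul_apply, Matrix.one_apply]
    exact LatData.gram_mul_cartan hM hb L a c
  have h2 : Cm * Gm = 1 := mul_eq_one_comm.mp h1
  have := congrFun (congrFun h2 i) k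
  rw [Matrix.mul_apply, Matrix.one_apply] at this
  exact this

end Cfsg.Agent.Helper58.Olsson

end
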