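import Cfsg.Agent.Helper76.KleinFourOrder
import Cfsg.Agent.Helper74.DefectZero

/-!
# S4016, piece (CHR): in a perfect group with Klein four Sylow 2-subgroups and one class of
involutions, fewer than half of the involutions `y` have `J * y` of even order.
-/

set_option autoImplicit false

namespace Cfsg.Agent.Helper58.PA

open Cfsg

/-- In a perfect group a non-principal irreducible character has degree at least 2. -/
theorem two_le_charDegree_of_perfect {G : Type*} [Group G] [Finite G]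
    (hperf : commutator G = ⊤) (ζ : IrrCharacter G) (hζ : ζ ≠ Helper79.principalIrr G) :
    2 ≤ charDegree (ζ : G → ℂ) := by
  have hpos := Helper79.irr_charDegree_pos ζ
  by_contra hlt
  have h1 : charDegree (ζ : G → ℂ) = 1 := by omega
  have hχ := Helper74.irr_isCharacter ζ
  have h1' : (ζ : G → ℂ) 1 = 1 := by
    rw [← Helper74.charDegree_cast hχ, h1]; simp
  apply hζ
  apply Subtype.ext
  funext u
  have hu : u ∈ commutator G := by rw [hperf]; exact Subgroup.mem_top u
  exact Helper79.isCharacter_linear_commutator hχ h1' hu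

theorem two_mul_lt_index {G : Type*} [Group G] [Finite G] (hperf : commutator G = ⊤)
    (S : Sylow 2 G) (hS : Nat.card S = 4) (hexp : ∀ x : S, x * x = 1)
    (hone : ∀ s t : G, orderOf s = 2 → orderOf t = 2 → IsConj s t)
    (J : G) (hJ : orderOf J = 2) :
    2 * Nat.card {y : G // orderOf y = 2 ∧ 2 ∣ orderOf (J * y)} <
      (Subgroup.centralizer ({J} : Set G)).index := by
  classical
  haveI : Fintype G := Fintype.ofFinite G
  obtain ⟨M, hM⟩ := Helper74.exists_isPModular 2 Nat.prime_two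
  have hid := Helper76.kleinFour_class_sum_identity hM S hS hexp hone J hJ
  obtain ⟨ζ₂, ζ₃, ζ₄, ε, hε, h2ne, h3ne, h4ne, h23, h24, h34, hB, hv2, hv3, hv4⟩ :=
    Helper76.kleinFour_principal_triple hM S hS hexp J hJ
  -- the count
  have hE : ((Finset.univ.filter
      (fun y : G => orderOf y = 2 ∧ 2 ∣ orderOf (J * y))).card) =
      Nat.card {y : G // orderOf y = 2 ∧ 2 ∣ orderOf (J * y)} := by
    rw [Nat.card_eq_fintype_card, Fintype.card_subtype]
  have hid' : ((Subgroup.centralizer ({J} : Set G)).index : ℂ) *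
        ∑ᶠ ζ ∈ principalBlock M G, ((ζ : G → ℂ) J / (ζ : G → ℂ) 1) =
      4 * (Nat.card {y : G // orderOf y = 2 ∧ 2 ∣ orderOf (J * y)} : ℂ) := by
    rw [← hE]
    convert hid using 4
  -- the block sum
  have hset : principalBlock M G = {Helper79.principalIrr G, ζ₂, ζ₃, ζ₄} := by
    ext ζ
    rw [hB ζ]
    simp
  set a := charDegree (ζ₂ : G → ℂ) with ha
  set b := charDegree (ζ₃ : G → ℂ) with hb
  set d := charDegree (ζ₄ : G → ℂ) with hd
  have ha2 : 2 ≤ a := two_le_charDegree_of_perfect hperf ζ₂ h2ne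
  have hb2 : 2 ≤ b := two_le_charDegree_of_perfect hperf ζ₃ h3ne
  have hd2 : 2 ≤ d := two_le_charDegree_of_perfect hperf ζ₄ h4ne
  have hdeg : ∀ ζ : IrrCharacter G, (ζ : G → ℂ) 1 = (charDegree (ζ : G → ℂ) : ℂ) := fun ζ =>
    (Helper74.charDegree_cast (Helper74.irr_isCharacter ζ)).symm
  have hsum : ∑ᶠ ζ ∈ principalBlock M G, ((ζ : G → ℂ) J / (ζ : G → ℂ) 1) =
      1 + 1 / (a : ℂ) + (ε : ℂ) / (b : ℂ) - 1 / (d : ℂ) := by
    rw [hset]
    rw [finsum_mem_insert _ (by simp [h2ne.symm, h3ne.symm, h4ne.symm]) (Set.toFinite _),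
      finsum_mem_insert _ (by simp [h23, h24]) (Set.toFinite _),
      finsum_mem_pair h34]
    rw [hdeg ζ₂, hdeg ζ₃, hdeg ζ₄, hv2, hv3, hv4]
    have h1 : ((Helper79.principalIrr G : IrrCharacter G) : G → ℂ) J /
        ((Helper79.principalIrr G : IrrCharacter G) : G → ℂ) 1 = 1 := by
      show (1 : ℂ) / 1 = 1
      norm_num
    rw [h1]
    ring
  rw [hsum] at hid'
  -- real arithmetic
  set I := (Subgroup.centralizer ({J} : Set G)).index with hI
  set E := Nat.card {y : G // orderOf y = 2 ∧ 2 ∣ orderOf (J * y)} with hEdef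
  have hIpos : 0 < I := Nat.pos_of_ne_zero (Subgroup.index_ne_zero_of_finite)
  have hreal : (I : ℝ) * (1 + 1 / (a : ℝ) + (ε : ℝ) / (b : ℝ) - 1 / (d : ℝ)) = 4 * (E : ℝ) := by
    have := congrArg Complex.re hid'
    have h2 : ((I : ℂ) * (1 + 1 / (a : ℂ) + (ε : ℂ) / (b : ℂ) - 1 / (d : ℂ))) =
        (((I : ℝ) * (1 + 1 / (a : ℝ) + (ε : ℝ) / (b : ℝ) - 1 / (d : ℝ)) : ℝ) : ℂ) := by
      push_cast; ring
    have h3 : (4 * (E : ℂ)) = ((4 * (E : ℝ) : ℝ) : ℂ) := by push_cast; ring
    rw [h2, h3] at hid'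
    exact_mod_cast hid'
  have haR : (2 : ℝ) ≤ a := by exact_mod_cast ha2
  have hbR : (2 : ℝ) ≤ b := by exact_mod_cast hb2
  have hdR : (2 : ℝ) ≤ d := by exact_mod_cast hd2
  have h1a : 1 / (a : ℝ) ≤ 1 / 2 := by
    rw [div_le_div_iff₀ (by linarith) (by norm_num)]; linarith
  have hεb : (ε : ℝ) / (b : ℝ) ≤ 1 / 2 := by
    rcases hε with h | h
    · rw [h]; push_cast
      rw [div_le_div_iff₀ (by linarith) (by norm_num)]; linarith
    · rw [h]; push_cast
      have : (-1 : ℝ) / (b : ℝ) ≤ 0 := by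
        apply div_nonpos_of_nonpos_of_nonneg <;> linarith
      linarith
  have h1d : 0 < 1 / (d : ℝ) := by positivity
  have hlt : (1 + 1 / (a : ℝ) + (ε : ℝ) / (b : ℝ) - 1 / (d : ℝ)) < 2 := by linarith
  have hIR : (0 : ℝ) < I := by exact_mod_cast hIpos
  have : 4 * (E : ℝ) < (I : ℝ) * 2 := by
    rw [← hreal]
    exact mul_lt_mul_of_pos_left hlt hIR
  have h4 : (2 * E : ℝ) < I := by linarith
  exact_mod_cast h4

end Cfsg.Agent.Helper58.PA
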