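import Mathlib
import Cfsg.Agent.Helper58.PADefs
import Cfsg.Agent.Helper58.PAChr
import Cfsg.Agent.Helper4.PAR4
import Cfsg.Agent.Helper97.PAL1
import Cfsg.Agent.Helper11.PAL2
import Cfsg.Agent.Helper11.PAL3
import Cfsg.Agent.Helper97.PAHOM
import Cfsg.Agent.Helper22.PASYLQ
import Cfsg.Agent.Helper97.PAK0
import Cfsg.Agent.Helper91.PAC1
import Cfsg.Agent.Helper68.PAC2
import Cfsg.Agent.Helper22.PAC3
import Cfsg.Agent.Helper68.PACNT

/-!
# S4016: assembly

`main`: if all Sylow `p`-subgroups of `G` are cyclic and all `p'`-subgroups abelian, then `G`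
has a normal `p`-complement or a normal Sylow `p`-subgroup.

Pieces (WANTED #5064): R0, R1, SUB, R3, R4 helper4; R2, C1 helper91; CYC, L2, L3, C1 helper11;
L1, HOM, K0 helper97; C3, SYLQ helper22; C2, CNT helper68; CHR + assembly helper58.
Paper proof: reduction + local analysis following helper68's notes; the endgame (`p = 3`,
Klein four Sylow 2-subgroup) via `Helper76.kleinFour_class_sum_identity`.
-/

set_option autoImplicit false
open scoped commutatorElement

namespace Cfsg.Agent.Helper58.PA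

universe u

theorem exists_loc {p : ℕ} [Fact p.Prime] {G : Type*} [Group G] [Finite G] (c : Ctx p G)
    (P : Sylow p G) : ∃ K : Subgroup G, Loc p P K := by
  obtain ⟨K, h0⟩ := Helper97.PAL1.exists_loc0 c P
  obtain ⟨h1, h2, h3, h4⟩ := Helper11.PAL2.loc_rest c P K h0
  exact ⟨K, ⟨h0, h1, h2, h3, Helper11.PAL3.loc_K_cent c P K h0, h4⟩⟩

theorem config_three {p : ℕ} [Fact p.Prime] {G : Type*} [Group G] [Finite G] (c : Ctx p G)
    (P : Sylow p G) (K : Subgroup G) (hL : Loc p P K)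
    (hφ : ∃ φ : K →* (ZMod p)ˣ, ∀ k : K, φ k = 1 ↔
      (k : G) ∈ Subgroup.centralizer ((P : Subgroup G) : Set G))
    (hsyl : ∀ (q : ℕ) [Fact q.Prime], q ≠ p → ∀ Q : Sylow q G, (Q : Subgroup G) ≠ ⊥ →
      SylQ p (Q : Subgroup G))
    (d : G) (hdK : d ∈ K) (hdc : d ∈ Subgroup.centralizer ((P : Subgroup G) : Set G))
    (hd1 : d ≠ 1) :
    p = 3 ∧ Nat.card K = 4 ∧ (∀ x ∈ K, x * x = 1) ∧ (∃ S : Sylow 2 G, (S : Subgroup G) = K) ∧
      ∀ s t : G, orderOf s = 2 → orderOf t = 2 → IsConj s t := by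
  obtain ⟨s, hs, hsd⟩ := Nat.exists_prime_and_dvd (n := orderOf d) (by
    intro h; exact hd1 (orderOf_eq_one_iff.mp h))
  haveI : Fact s.Prime := ⟨hs⟩
  set d₁ := d ^ (orderOf d / s) with hd₁
  have ho : orderOf d₁ = s := by
    rw [hd₁, orderOf_pow_orderOf_div (orderOf_pos d).ne' hsd]
  have hd₁K : d₁ ∈ K := K.pow_mem hdK _
  have hd₁c : d₁ ∈ Subgroup.centralizer ((P : Subgroup G) : Set G) := Subgroup.pow_mem _ hdc _
  obtain ⟨hfac, Z, hZp, hZ1, hZK, hfrob⟩ :=
    Helper91.PAC1.exists_Z c P K hL hsyl d₁ hd₁K hd₁c s ho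
  obtain ⟨hp3, hK4, hexp⟩ :=
    Helper68.PAC2.numerics c P K hL hφ d hdK hdc hd1 Z hZp hZ1 hZK hfrob
  subst hp3
  have hs2 : s = 2 := by
    have h1 : d₁ * d₁ = 1 := hexp d₁ hd₁K
    have h2 : orderOf d₁ ∣ 2 := orderOf_dvd_of_pow_eq_one (by rw [pow_two]; exact h1)
    rw [ho] at h2
    exact (Nat.prime_dvd_prime_iff_eq hs Nat.prime_two).mp h2
  subst hs2
  obtain ⟨hS, hone⟩ := Helper22.PAC3.fusion K hK4 hexp hfac Z hZp hZ1 hZK hfrob
  exact ⟨rfl, hK4, hexp, hS, hone⟩

/-- A simple non-abelian group is perfect. -/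
theorem perfect_of_ctx {p : ℕ} {G : Type*} [Group G] (c : Ctx p G) : commutator G = ⊤ := by
  have hs := c.simple
  rcases (Subgroup.Normal.eq_bot_or_eq_top (H := commutator G) inferInstance) with h | h
  · exfalso
    obtain ⟨a, b, hab⟩ := c.nonab
    apply hab
    have h1 : ⁅a, b⁆ ∈ commutator G :=
      Subgroup.commutator_mem_commutator (Subgroup.mem_top a) (Subgroup.mem_top b)
    rw [h, Subgroup.mem_bot] at h1
    rw [commutatorElement_def] at h1
    have h2 : a * b * a⁻¹ = b := by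
      have := congrArg (· * b) h1
      simpa [mul_assoc] using this
    have := congrArg (· * a) h2
    simpa [mul_assoc] using this
  · exact h

theorem no_ctx {p : ℕ} [Fact p.Prime] (G : Type u) [Group G] [Finite G] (c : Ctx p G) :
    False := by
  classical
  have P : Sylow p G := default
  have hloc := fun P => exists_loc c P
  obtain ⟨K, hL⟩ := hloc P
  have hφ := Helper97.PAHOM.exists_hom c P K hL
  have hsyl : ∀ (q : ℕ) [Fact q.Prime], q ≠ p → ∀ Q : Sylow q G, (Q : Subgroup G) ≠ ⊥ →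
      SylQ p (Q : Subgroup G) :=
    fun q _ hq Q hQ => Helper22.PASYLQ.sylow_q_structure c hloc q hq Q hQ
  obtain ⟨d, hdK, hdc, hd1⟩ := Helper97.PAK0.exists_K0 c P K hL hφ hsyl
  obtain ⟨hp3, hK4, hexp, ⟨S, hS⟩, hone⟩ := config_three c P K hL hφ hsyl d hdK hdc hd1
  subst hp3
  have hall : ∀ P' : Sylow 3 G, ∃ (K' : Subgroup G) (d' : G), Loc 3 P' K' ∧ d' ∈ K' ∧
      d' ∈ Subgroup.centralizer ((P' : Subgroup G) : Set G) ∧ orderOf d' = 2 := by
    intro P'
    obtain ⟨K', hL'⟩ := hloc P'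
    have hφ' := Helper97.PAHOM.exists_hom c P' K' hL'
    obtain ⟨d', hd'K, hd'c, hd'1⟩ := Helper97.PAK0.exists_K0 c P' K' hL' hφ' hsyl
    obtain ⟨_, _, hexp', _, _⟩ := config_three c P' K' hL' hφ' hsyl d' hd'K hd'c hd'1
    refine ⟨K', d', hL', hd'K, hd'c, orderOf_eq_prime ?_ hd'1⟩
    rw [pow_two]; exact hexp' d' hd'K
  have hd2 : orderOf d = 2 := orderOf_eq_prime (by rw [pow_two]; exact hexp d hdK) hd1
  obtain ⟨a, haK, ha1, had⟩ : ∃ a ∈ K, a ≠ 1 ∧ a ≠ d := by
    by_contra hno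
    push Not at hno
    have hsub : (K : Set G) ⊆ {1, d} := by
      intro x hx
      by_cases h1 : x = 1
      · simp [h1]
      · simp [hno x hx h1]
    have : Nat.card K ≤ 2 := by
      have h2 : Nat.card K = (K : Set G).ncard := by
        rw [← Nat.card_coe_set_eq]; rfl
      rw [h2]
      calc (K : Set G).ncard ≤ ({1, d} : Set G).ncard := Set.ncard_le_ncard hsub (Set.toFinite _)
        _ ≤ 2 := Set.ncard_insert_le _ _ |>.trans (by simp)
    omega
  have ha2 : orderOf a = 2 := orderOf_eq_prime (by rw [pow_two]; exact hexp a haK) ha1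
  have hS4 : Nat.card S = 4 := by
    have : Nat.card (S : Subgroup G) = Nat.card K := by rw [hS]
    exact this.trans hK4
  have hSexp : ∀ x : S, x * x = 1 := by
    intro x
    have hx : (x : G) ∈ K := by rw [← hS]; exact x.2
    exact Subtype.ext (hexp x hx)
  have h1 := Helper68.PACNT.index_le_two_mul c.hyp.2 hone hall d a hd2 ha2
    (hL.K_comm d hdK a haK) had
  have h2 := two_mul_lt_index (perfect_of_ctx c) S hS4 hSexp hone d hd2
  omega

theorem main {p : ℕ} [Fact p.Prime] (G : Type u) [Group G] [Finite G] (hG : Hyp p G) :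
    Good p G :=
  Helper4.PAR4.good_of_no_ctx (fun G _ _ c => no_ctx G c) G hG

end Cfsg.Agent.Helper58.PA
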