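import Mathlib
import Cfsg.Prelude.Def_Solvable
import Cfsg.Agent.Helper58.PrimNormal

/-!
# Structure of a faithful primitive group: centre and Fitting subgroup (helper58)
-/

set_option autoImplicit false

namespace Cfsg.Agent.Helper58

section prim
variable {H X : Type*} [Group H] [MulAction H X]

/-- a faithful primitive finite group with nontrivial centre has prime order -/
lemma card_prime_of_center_ne_bot [Finite H] [FaithfulSMul H X] [Nonempty X]
    (hprim : MulAction.IsPreprimitive H X) (hZ : Subgroup.center H ≠ ⊥) :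
    (Nat.card H).Prime := by
  have hZc : ∀ a ∈ Subgroup.center H, ∀ b ∈ Subgroup.center H, a * b = b * a := by
    intro a _ b hb
    exact (Subgroup.mem_center_iff.mp hb a)
  have hcent : Subgroup.centralizer (Subgroup.center H : Set H) = ⊤ := by
    rw [eq_top_iff]
    intro g _ z hz
    exact (Subgroup.mem_center_iff.mp hz g).symm
  have hle : (⊤ : Subgroup H) ≤ Subgroup.center H :=
    hcent ▸ centralizer_abelian_normal_le hprim (Subgroup.center H) hZ hZc
  have hcomm : ∀ a b : H, a * b = b * a := by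
    intro a b
    exact (Subgroup.mem_center_iff.mp (hle (Subgroup.mem_top b)) a)
  have htop_ne : (⊤ : Subgroup H) ≠ ⊥ := by
    intro h
    apply hZ
    exact le_bot_iff.mp (h ▸ le_top)
  have hfree : ∀ b ∈ (⊤ : Subgroup H), ∀ x : X, b • x = x → b = 1 := by
    intro b hb x hx
    exact abelian_normal_free hprim ⊤ htop_ne (fun a _ b _ => hcomm a b) hb hx
  have hnt : Nontrivial H := by
    rw [← Subgroup.nontrivial_iff_ne_bot] at htop_ne
    obtain ⟨⟨a, _⟩, ⟨b, _⟩, hab⟩ := htop_ne
    exact ⟨a, b, fun h => hab (Subtype.ext h)⟩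
  have hcard : 1 < Nat.card H := Finite.one_lt_card
  obtain ⟨q, hq, hqd⟩ := Nat.exists_prime_and_dvd (ne_of_gt hcard)
  have := Fact.mk hq
  obtain ⟨h, hh⟩ := exists_prime_orderOf_dvd_card' q hqd
  have hMn : (Subgroup.zpowers h).Normal := by
    constructor
    intro n hn g
    have : g * n * g⁻¹ = n := by rw [hcomm g n, mul_assoc, mul_inv_cancel, mul_one]
    rw [this]; exact hn
  have hMne : Subgroup.zpowers h ≠ ⊥ := by
    intro hbot
    rw [Subgroup.zpowers_eq_bot] at hbot
    rw [hbot, orderOf_one] at hh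
    exact hq.one_lt.ne hh
  have hM : Subgroup.zpowers h = ⊤ := eq_of_le_of_free_trans (X := X) le_top
    (fun x y => normal_trans hprim _ hMne x y) hfree
  have : Nat.card H = q := by
    rw [← Subgroup.card_top (G := H), ← hM, Nat.card_zpowers, hh]
  rw [this]; exact hq

/-- The Fitting subgroup of a faithful primitive finite group is abelian. -/
lemma fitting_struct [Finite H] [FaithfulSMul H X] [Nonempty X]
    (hprim : MulAction.IsPreprimitive H X) :
    (∀ a ∈ Cfsg.fittingSubgroup H, ∀ b ∈ Cfsg.fittingSubgroup H, a * b = b * a) ∧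
    (Cfsg.fittingSubgroup H ≠ ⊥ →
      (∀ b ∈ Cfsg.fittingSubgroup H, ∀ x : X, b • x = x → b = 1) ∧
      Subgroup.centralizer (Cfsg.fittingSubgroup H : Set H) ≤ Cfsg.fittingSubgroup H) ∧
    ∃ p e : ℕ, p.Prime ∧ Nat.card (Cfsg.fittingSubgroup H) = p ^ e ∧
      ∀ x ∈ Cfsg.fittingSubgroup H, x ^ p = 1 := by
  have hFn : (Cfsg.fittingSubgroup H).Normal := Subgroup.sSup_normal _ (fun _ h => h.1)
  by_cases hex : ∃ N : Subgroup H, N.Normal ∧ Group.IsNilpotent N ∧ N ≠ ⊥
  · obtain ⟨N, hNn, hNnil, hNne⟩ := hex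
    have hNc := nilpotent_normal_comm hprim N hNne
    have hF : Cfsg.fittingSubgroup H = N := by
      apply le_antisymm
      · apply sSup_le
        rintro M ⟨hMn, hMnil⟩
        by_cases hM : M = ⊥
        · rw [hM]; exact bot_le
        · have hMc := nilpotent_normal_comm hprim M hM
          exact (abelian_normal_unique hprim M N hM hNne hMc hNc).le
      · exact le_sSup ⟨hNn, hNnil⟩
    rw [hF]
    refine ⟨hNc, fun _ => ⟨fun b hb x hx => abelian_normal_free hprim N hNne hNc hb hx,
      centralizer_abelian_normal_le hprim N hNne hNc⟩, ?_⟩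
    -- exponent p
    have hnt : Nontrivial N := (Subgroup.nontrivial_iff_ne_bot N).mpr hNne
    have hcard : 1 < Nat.card N := Finite.one_lt_card
    obtain ⟨p, hp, hpd⟩ := Nat.exists_prime_and_dvd (ne_of_gt hcard)
    have := Fact.mk hp
    obtain ⟨⟨h, hhN⟩, hh⟩ := exists_prime_orderOf_dvd_card' p hpd
    let T : Subgroup H :=
      { carrier := {b | b ∈ N ∧ b ^ p = 1}
        one_mem' := ⟨N.one_mem, one_pow _⟩
        mul_mem' := by
          rintro a b ⟨ha, hap⟩ ⟨hb, hbp⟩
          refine ⟨N.mul_mem ha hb, ?_⟩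
          have hc : Commute a b := hNc a ha b hb
          rw [hc.mul_pow, hap, hbp, one_mul]
        inv_mem' := by
          rintro a ⟨ha, hap⟩
          exact ⟨N.inv_mem ha, by rw [inv_pow, hap, inv_one]⟩ }
    have hTn : T.Normal := by
      constructor
      rintro n ⟨hn, hnp⟩ g
      exact ⟨hNn.conj_mem n hn g, by rw [conj_pow, hnp, mul_one, mul_inv_cancel]⟩
    have hTle : T ≤ N := fun b hb => hb.1
    have hTne : T ≠ ⊥ := by
      intro hbot
      have hmem : h ∈ T := by
        refine ⟨hhN, ?_⟩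
        have := pow_orderOf_eq_one (⟨h, hhN⟩ : N)
        rw [hh] at this
        exact congrArg Subtype.val this
      rw [hbot, Subgroup.mem_bot] at hmem
      have : (⟨h, hhN⟩ : N) = 1 := Subtype.ext hmem
      rw [this, orderOf_one] at hh
      exact hp.one_lt.ne hh
    have hTc : ∀ a ∈ T, ∀ b ∈ T, a * b = b * a := fun a ha b hb => hNc a (hTle ha) b (hTle hb)
    have hTN : T = N := abelian_normal_unique hprim T N hTne hNne hTc hNc
    have hexp : ∀ x ∈ N, x ^ p = 1 := by
      intro x hx
      have : x ∈ T := hTN ▸ hx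
      exact this.2
    have hpg : IsPGroup p N := by
      intro g
      refine ⟨1, ?_⟩
      rw [pow_one]
      exact Subtype.ext (hexp g g.2)
    obtain ⟨e, he⟩ := IsPGroup.iff_card.mp hpg
    exact ⟨p, e, hp, he, hexp⟩
  · have hF : Cfsg.fittingSubgroup H = ⊥ := by
      rw [eq_bot_iff]
      apply sSup_le
      rintro M ⟨hMn, hMnil⟩
      by_contra hM
      exact hex ⟨M, hMn, hMnil, fun h => hM (h ▸ le_refl _)⟩
    rw [hF]
    refine ⟨?_, fun h => absurd rfl h, 2, 0, Nat.prime_two, ?_, ?_⟩
    · intro a ha b hb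
      rw [Subgroup.mem_bot] at ha hb
      rw [ha, hb]
    · simp
    · intro x hx
      rw [Subgroup.mem_bot] at hx
      rw [hx, one_pow]

end prim

end Cfsg.Agent.Helper58
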