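import Mathlib
import Cfsg.Agent.Helper77.PrimeDegDefs
import Cfsg.Agent.Helper78.Kernel
import Cfsg.Agent.S0135
import Cfsg.Agent.Helper58.PrimeDegE2

set_option autoImplicit false

namespace Cfsg.Agent.Helper58.PrimeDegE

open Cfsg Cfsg.Agent.Helper77.PrimeDeg

universe u

/-- a `2 × 2` complex involutory matrix of determinant one is scalar -/
theorem scalar_of_sq_one_det_one (A : Matrix (Fin 2) (Fin 2) ℂ) (h2 : A * A = 1)
    (hd : A.det = 1) : ∃ a : ℂ, A = a • (1 : Matrix (Fin 2) (Fin 2) ℂ) := by
  have e00 := congrFun (congrFun h2 0) 0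
  have e01 := congrFun (congrFun h2 0) 1
  have e10 := congrFun (congrFun h2 1) 0
  have e11 := congrFun (congrFun h2 1) 1
  simp only [Matrix.mul_apply, Fin.sum_univ_two, Matrix.one_apply_eq, Matrix.one_apply_ne,
    ne_eq, Fin.isValue, zero_ne_one, one_ne_zero, not_false_eq_true] at e00 e01 e10 e11
  rw [Matrix.det_fin_two] at hd
  by_cases hs : A 0 0 + A 1 1 = 0
  · exfalso
    have hd' : A 1 1 = - A 0 0 := by linear_combination hs
    rw [hd'] at hd
    have : (2 : ℂ) = 0 := by linear_combination -(e00 + hd)
    norm_num at this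
  · have hb : A 0 1 = 0 := by
      have : (A 0 0 + A 1 1) * A 0 1 = 0 := by linear_combination e01
      rcases mul_eq_zero.1 this with h | h
      · exact absurd h hs
      · exact h
    have hc : A 1 0 = 0 := by
      have : (A 0 0 + A 1 1) * A 1 0 = 0 := by linear_combination e10
      rcases mul_eq_zero.1 this with h | h
      · exact absurd h hs
      · exact h
    have had : A 0 0 = A 1 1 := by
      rw [hb, hc] at hd e00 e11
      have h1 : A 0 0 * A 0 0 = 1 := by linear_combination e00
      have h3 : A 0 0 * A 1 1 = 1 := by linear_combination hd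
      have h4 : A 0 0 * (A 0 0 - A 1 1) = 0 := by linear_combination h1 - h3
      rcases mul_eq_zero.1 h4 with h | h
      · rw [h] at h1; norm_num at h1
      · linear_combination h
    refine ⟨A 0 0, ?_⟩
    ext i j
    fin_cases i <;> fin_cases j <;> simp [hb, hc, had]

theorem charDegree_ne_two_of_simple {G : Type u} [Group G] [Finite G] (hs : IsSimpleGroup G)
    (hnc : ¬ ∀ a b : G, a * b = b * a) (χ : IrrCharacter G) :
    charDegree (χ : G → ℂ) ≠ 2 := by
  intro h2
  have hfaith := faithful_of_simple hs χ (by rw [h2]; norm_num)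
  obtain ⟨χ, n, ρ, hirr, rfl⟩ := χ
  simp only at h2 hfaith
  rw [Cfsg.Agent.Helper78.charDegree_character] at h2
  subst h2
  -- injectivity of ρ
  have hinj : ∀ x y : G, ρ x = ρ y → x = y := by
    intro x y hxy
    have h1 : ρ (x * y⁻¹) = 1 := by
      rw [map_mul, hxy, ← map_mul, mul_inv_cancel, map_one]
    have h2 : ρ.character (x * y⁻¹) = ρ.character 1 := by
      show LinearMap.trace ℂ _ (ρ (x * y⁻¹)) = LinearMap.trace ℂ _ (ρ 1)
      rw [h1, map_one ρ]
    have := hfaith _ h2
    exact mul_inv_eq_one.1 this
  -- determinant is trivial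
  let d : G →* ℂ := (LinearMap.det : ((Fin 2 → ℂ) →ₗ[ℂ] (Fin 2 → ℂ)) →* ℂ).comp (ρ : G →* _)
  have hdK : (MonoidHom.ker d).Normal := MonoidHom.normal_ker _
  have hd1 : ∀ g : G, d g = 1 := by
    rcases hdK.eq_bot_or_eq_top with hb | ht
    · exfalso
      apply hnc
      intro a b
      have hab : d (a * b) = d (b * a) := by
        rw [map_mul, map_mul, mul_comm]
      have h1 : d (a * b * (b * a)⁻¹) = 1 := by
        have hu : IsUnit (d (b * a)) := by
          have : d (b * a) * d ((b * a)⁻¹) = 1 := by
            rw [← map_mul, mul_inv_cancel, map_one]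
          exact IsUnit.of_mul_eq_one _ this
        have : d (a * b * (b * a)⁻¹) * d (b * a) = 1 * d (b * a) := by
          rw [← map_mul, inv_mul_cancel_right, one_mul, hab]
        exact hu.mul_right_cancel this
      have hm : a * b * (b * a)⁻¹ ∈ MonoidHom.ker d := h1
      rw [hb] at hm
      exact mul_inv_eq_one.1 (Subgroup.mem_bot.1 hm)
    · intro g
      have : g ∈ MonoidHom.ker d := by rw [ht]; trivial
      exact this
  -- an involution
  haveI : ρ.IsIrreducible := hirr
  have hdvd : 2 ∣ Nat.card G := by
    have := Cfsg.Agent.S0135.result ρ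
    simpa using this
  haveI := Fintype.ofFinite G
  rw [Nat.card_eq_fintype_card] at hdvd
  obtain ⟨t, ht⟩ := exists_prime_orderOf_dvd_card 2 hdvd
  -- ρ t is scalar
  set A : Matrix (Fin 2) (Fin 2) ℂ := LinearMap.toMatrix' (ρ t) with hA
  have hAA : A * A = 1 := by
    have ht2 : t * t = 1 := by
      have := pow_orderOf_eq_one t
      rw [ht, pow_two] at this
      exact this
    rw [hA, ← LinearMap.toMatrix'_mul, ← map_mul, ht2, map_one]
    exact LinearMap.toMatrix'_one
  have hAd : A.det = 1 := by
    rw [hA, LinearMap.det_toMatrix']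
    exact hd1 t
  obtain ⟨a, ha⟩ := scalar_of_sq_one_det_one A hAA hAd
  have hρt : ρ t = a • (1 : Module.End ℂ (Fin 2 → ℂ)) := by
    apply LinearMap.toMatrix'.injective
    rw [← hA, ha, map_smul]
    congr 1
    exact LinearMap.toMatrix'_one.symm
  -- t is central
  have hcent : ∀ g : G, t * g = g * t := by
    intro g
    apply hinj
    rw [map_mul, map_mul, hρt]
    simp
  have htc : t ∈ Subgroup.center G := by
    rw [Subgroup.mem_center_iff]
    intro g
    exact (hcent g).symm
  have hcn : (Subgroup.center G).Normal := inferInstance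
  rcases hcn.eq_bot_or_eq_top with hb | htop
  · rw [hb] at htc
    have := Subgroup.mem_bot.1 htc
    rw [this, orderOf_one] at ht
    norm_num at ht
  · apply hnc
    intro a b
    have : a ∈ Subgroup.center G := by rw [htop]; trivial
    rw [Subgroup.mem_center_iff] at this
    exact (this b).symm

end Cfsg.Agent.Helper58.PrimeDegE
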