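import Mathlib
import Cfsg.Agent.Helper77.PrimeDegDefs
import Cfsg.Agent.Helper78.Kernel
import Cfsg.Agent.Helper78.IrrBasic
import Cfsg.Agent.Helper74.CharBasic
import Cfsg.Agent.Helper79.Linear
import Cfsg.Agent.Helper58.PrimeDegE2

set_option autoImplicit false

namespace Cfsg.Agent.Helper58.PrimeDegE

open Cfsg Cfsg.Agent.Helper77.PrimeDeg

universe u

theorem card_eq_degree_of_abelian_hall {G : Type u} [Group G] [Finite G] (hs : IsSimpleGroup G)
    (hnc : ¬ ∀ a b : G, a * b = b * a) (A : Subgroup G)
    (hA : ∀ x ∈ A, ∀ y ∈ A, x * y = y * x) (ψ : IrrCharacter G) (q : ℕ) (hq : q.Prime)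
    (hψ : charDegree (ψ : G → ℂ) = q) (hqA : q ∣ Nat.card A) (hidx : ¬ q ∣ A.index) :
    Nat.card A = q := by
  classical
  have hfaith := faithful_of_simple hs ψ (by rw [hψ]; exact hq.ne_one)
  -- the center is trivial
  have hcen : ∀ a : G, (∀ h : G, a * h = h * a) → a = 1 := by
    intro a ha
    have hac : a ∈ Subgroup.center G := by
      rw [Subgroup.mem_center_iff]
      intro g
      exact (ha g).symm
    have hcn : (Subgroup.center G).Normal := inferInstance
    rcases hcn.eq_bot_or_eq_top with hb | htop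
    · rw [hb] at hac
      exact Subgroup.mem_bot.1 hac
    · exfalso
      apply hnc
      intro x y
      have : x ∈ Subgroup.center G := by rw [htop]; trivial
      rw [Subgroup.mem_center_iff] at this
      exact (this y).symm
  -- ψ vanishes on A \ {1}
  have hvan : ∀ a ∈ A, a ≠ 1 → (ψ : G → ℂ) a = 0 := by
    intro a haA ha1
    have hle : A ≤ Subgroup.centralizer ({a} : Set G) := by
      intro x hx
      rw [Subgroup.mem_centralizer_iff]
      intro y hy
      rw [Set.mem_singleton_iff] at hy
      subst hy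
      exact hA y haA x hx
    have hdvd : (Subgroup.centralizer ({a} : Set G)).index ∣ A.index :=
      Subgroup.index_dvd_of_le hle
    have hcop : Nat.Coprime (Subgroup.centralizer ({a} : Set G)).index
        (charDegree (ψ : G → ℂ)) := by
      rw [hψ]
      apply Nat.Coprime.symm
      rw [hq.coprime_iff_not_dvd]
      intro hd
      exact hidx (hd.trans hdvd)
    rcases Cfsg.Agent.Helper78.irrChar_eq_zero_or_central_of_coprime ψ.2 a hcop with h0 | hc
    · exact h0
    · exfalso
      apply ha1
      apply hcen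
      intro h
      have := hfaith _ (hc h)
      have h2 : a * h * a⁻¹ * h⁻¹ * h * a = h * a := by rw [this, one_mul]
      rw [← h2]
      group
  -- inner product with the trivial character of A
  haveI := Fintype.ofFinite A
  have hψc : IsCharacter G (ψ : G → ℂ) := Cfsg.Agent.Helper74.isCharacter_of_isIrr ψ.2
  have hres : IsCharacter A (fun h : A => (ψ : G → ℂ) h) :=
    Cfsg.Agent.Helper74.isCharacter_restrict A hψc
  obtain ⟨m, hm⟩ := Cfsg.Agent.Helper74.isCharacter_inner_irr_nat hres
    (Cfsg.Agent.Helper79.principalIrr A)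
  have h1 : (ψ : G → ℂ) 1 = (q : ℂ) := by
    rw [← Cfsg.Agent.Helper74.charDegree_cast hψc, hψ]
  have hsum : ∑ a : A, (ψ : G → ℂ) a * (starRingEnd ℂ) ((1 : ℂ)) = (q : ℂ) := by
    rw [Finset.sum_eq_single (1 : A)]
    · simp [h1]
    · intro b _ hb
      have : ((b : G)) ≠ 1 := by
        intro h
        apply hb
        exact Subtype.ext h
      rw [hvan b b.2 this, zero_mul]
    · intro h
      exact absurd (Finset.mem_univ _) h
  have hAne : (Nat.card A : ℂ) ≠ 0 := by
    have : 0 < Nat.card A := Nat.card_pos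
    exact_mod_cast this.ne'
  have hqm : (q : ℂ) = (m : ℂ) * (Nat.card A : ℂ) := by
    unfold classInner at hm
    have h2 : (Nat.card A : ℂ)⁻¹ * (q : ℂ) = (m : ℂ) := by
      rw [← hm, ← hsum]
      rfl
    field_simp at h2
    rw [h2, mul_comm]
  have hqm' : q = m * Nat.card A := by exact_mod_cast hqm
  have hdvd : Nat.card A ∣ q := ⟨m, by rw [hqm', mul_comm]⟩
  exact Nat.dvd_antisymm hdvd hqA

end Cfsg.Agent.Helper58.PrimeDegE
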