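/-
Helper58: the affine representation of a split extension with semilinear action (for S4025).
-/
import Mathlib
import Cfsg.Agent.Helper58.SA1

set_option autoImplicit false

namespace Cfsg.Agent.Helper58.SA

/-- The affine representation of a split extension `X = E ⋊ H` whose kernel `E` is identified
with the additive group of a field so that conjugation is semilinear. -/
theorem affine_rep {X : Type*} [Group X] (E H : Subgroup X) [hE : E.Normal]
    (hc : E.IsComplement' H) {F : Type*} [Field F] (β : E ≃ F)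
    (hβ : ∀ a b : E, β (a * b) = β a + β b)
    (hsemi : ∀ x : X, ∃ (a : Fˣ) (φ : F ≃+* F), ∀ e : E,
      β ⟨x * e * x⁻¹, hE.conj_mem e e.2 x⟩ = a * φ (β e))
    (hCE : ∀ x : X, (∀ e ∈ E, x * e = e * x) → x ∈ E) :
    ∃ f : X →* Cfsg.semiaffineGroup F, Function.Injective f := by
  classical
  have hdisj : ∀ x : X, x ∈ E → x ∈ H → x = 1 := fun x => Subgroup.disjoint_def.1 hc.disjoint
  -- `E` is a transversal of `H`
  have hθ : Function.Bijective (fun e : E => ((e : X) : X ⧸ H)) := by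
    constructor
    · intro e₁ e₂ h
      have h1 : (e₁ : X)⁻¹ * e₂ ∈ H := QuotientGroup.eq.1 h
      have h2 : (e₁ : X)⁻¹ * e₂ ∈ E := E.mul_mem (E.inv_mem e₁.2) e₂.2
      have h3 := hdisj _ h2 h1
      apply Subtype.ext
      exact inv_mul_eq_one.1 h3
    · intro q
      obtain ⟨x, rfl⟩ := QuotientGroup.mk_surjective q
      obtain ⟨⟨e, h⟩, hx, -⟩ := Subgroup.IsComplement.existsUnique hc x
      refine ⟨e, ?_⟩
      apply QuotientGroup.eq.2
      have : (e : X)⁻¹ * x = h := by rw [← hx]; group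
      rw [this]
      exact h.2
  let θ : E ≃ X ⧸ H := Equiv.ofBijective _ hθ
  have hθapp : ∀ e : E, θ e = ((e : X) : X ⧸ H) := fun e => rfl
  let ε : X ⧸ H ≃ F := θ.symm.trans β
  let f₀ : X →* Equiv.Perm F := (ε.permCongrHom : Equiv.Perm (X ⧸ H) →* Equiv.Perm F).comp
    (MulAction.toPermHom X (X ⧸ H))
  have hf₀ : ∀ (x : X) (e : E), f₀ x (β e) = β (θ.symm (((x * e : X)) : X ⧸ H)) := by
    intro x e
    show β (θ.symm (x • (θ (β.symm (β e))))) = _
    rw [Equiv.symm_apply_apply]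
    rfl
  -- the translation part
  have hkey : ∀ (x : X) (e : E), (((x * e : X)) : X ⧸ H) =
      θ (⟨x * e * x⁻¹, hE.conj_mem e e.2 x⟩ * θ.symm ((x : X) : X ⧸ H)) := by
    intro x e
    obtain ⟨e₀, he₀⟩ : ∃ e₀ : E, θ e₀ = ((x : X) : X ⧸ H) := θ.surjective _
    rw [← he₀, Equiv.symm_apply_apply, hθapp]
    rw [hθapp] at he₀
    have h1 : (e₀ : X)⁻¹ * x ∈ H := QuotientGroup.eq.1 he₀
    apply QuotientGroup.eq.2
    have : (x * e)⁻¹ * ((⟨x * e * x⁻¹, hE.conj_mem e e.2 x⟩ * e₀ : E) : X) =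
        ((e₀ : X)⁻¹ * x)⁻¹ := by
      rw [Subgroup.coe_mul]
      show (x * e)⁻¹ * (x * e * x⁻¹ * e₀) = _
      group
    rw [this]
    exact H.inv_mem h1
  have hmem : ∀ x : X, f₀ x ∈ Cfsg.semiaffineGroup F := by
    intro x
    obtain ⟨a, φ, h⟩ := hsemi x
    refine ⟨a, β (θ.symm ((x : X) : X ⧸ H)), φ, fun y => ?_⟩
    obtain ⟨e, rfl⟩ := β.surjective y
    rw [hf₀, hkey, Equiv.symm_apply_apply, hβ, h]
  refine ⟨f₀.codRestrict _ hmem, ?_⟩
  rw [injective_iff_map_eq_one]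
  intro x hx
  have hx' : f₀ x = 1 := congrArg Subtype.val hx
  have hfix : ∀ e : E, (((x * e : X)) : X ⧸ H) = ((e : X) : X ⧸ H) := by
    intro e
    have h1 := hf₀ x e
    rw [hx', Equiv.Perm.one_apply] at h1
    have h2 := β.injective h1
    rw [← hθapp e]
    conv_rhs => rw [h2]
    rw [Equiv.apply_symm_apply]
  have hxH : x ∈ H := by
    have := hfix 1
    rw [Subgroup.coe_one, mul_one] at this
    have h2 := QuotientGroup.eq.1 this
    rw [mul_one] at h2
    have := H.inv_mem h2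
    rwa [inv_inv] at this
  have hxE : x ∈ E := by
    apply hCE
    intro e he
    have h1 := QuotientGroup.eq.1 (hfix ⟨e, he⟩)
    have h2 : (x * e)⁻¹ * e ∈ H := h1
    -- `e⁻¹ x⁻¹ e ∈ H` and `x ∈ H`, so `e⁻¹ x⁻¹ e x ∈ H ∩ E`
    have h3 : (x * e)⁻¹ * e * x ∈ H := H.mul_mem h2 hxH
    have h4 : (x * e)⁻¹ * e * x ∈ E := by
      have : (x * e)⁻¹ * e * x = e⁻¹ * (x⁻¹ * e * x⁻¹⁻¹) := by group
      rw [this]
      exact E.mul_mem (E.inv_mem he) (hE.conj_mem e he x⁻¹)
    have h5 := hdisj _ h4 h3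
    calc x * e = (x * e) * ((x * e)⁻¹ * e * x) := by rw [h5, mul_one]
      _ = e * x := by group
  exact hdisj x hxE hxH

end Cfsg.Agent.Helper58.SA
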