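/-
Helper58: counting planes in a finite vector space, and the arithmetic for S4025.
-/
import Mathlib

set_option autoImplicit false

namespace Cfsg.Agent.Helper58.SA

open Module

section count
variable {K V : Type*} [Field K] [Fintype K] [AddCommGroup V] [Module K V] [Finite V]

/-- counting the `2`-dimensional subspaces of a finite vector space -/
theorem card_planes_mul (hV : 2 ≤ finrank K V) :
    Nat.card {W : Submodule K V // finrank K W = 2} *
        ((Fintype.card K ^ 2 - 1) * (Fintype.card K ^ 2 - Fintype.card K)) =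
      (Fintype.card K ^ finrank K V - 1) * (Fintype.card K ^ finrank K V - Fintype.card K) := by
  classical
  have h1 := card_linearIndependent (K := K) (V := V) (k := 2) hV
  rw [Fin.prod_univ_two] at h1
  simp only [Fin.val_zero, pow_zero, Fin.val_one, pow_one] at h1
  rw [← h1]
  -- the map to the span
  let f : {s : Fin 2 → V // LinearIndependent K s} → {W : Submodule K V // finrank K W = 2} :=
    fun s => ⟨Submodule.span K (Set.range (s : Fin 2 → V)), by
      rw [finrank_span_eq_card s.2, Fintype.card_fin]⟩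
  have hfib : ∀ W : {W : Submodule K V // finrank K W = 2},
      Nat.card {s : {s : Fin 2 → V // LinearIndependent K s} // f s = W} =
        (Fintype.card K ^ 2 - 1) * (Fintype.card K ^ 2 - Fintype.card K) := by
    rintro ⟨W, hW⟩
    have h2 := card_linearIndependent (K := K) (V := W) (k := 2) hW.ge
    rw [Fin.prod_univ_two, hW] at h2
    simp only [Fin.val_zero, pow_zero, Fin.val_one, pow_one] at h2
    rw [← h2]
    refine Nat.card_congr
      { toFun := fun s => ⟨fun i => ⟨(s.1.1 i : V), ?_⟩, ?_⟩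
        invFun := fun t => ⟨⟨fun i => (t.1 i : V), ?_⟩, ?_⟩
        left_inv := ?_
        right_inv := ?_ }
    · have := congrArg Subtype.val s.2
      simp only [f] at this
      have h3 : (s.1.1 i : V) ∈ Submodule.span K (Set.range (s.1.1 : Fin 2 → V)) :=
        Submodule.subset_span (Set.mem_range_self i)
      rwa [this] at h3
    · apply LinearIndependent.of_comp W.subtype
      exact s.1.2
    · exact t.2.map' W.subtype (Submodule.ker_subtype W)
    · apply Subtype.ext
      simp only [f]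
      apply Submodule.eq_of_le_of_finrank_eq
      · rw [Submodule.span_le]
        rintro _ ⟨i, rfl⟩
        exact (t.1 i).2
      · rw [hW]
        have : LinearIndependent K (fun i => (t.1 i : V)) :=
          t.2.map' W.subtype (Submodule.ker_subtype W)
        rw [finrank_span_eq_card this, Fintype.card_fin]
    · intro s
      rfl
    · intro t
      rfl
  have hsig := Nat.card_congr (Equiv.sigmaFiberEquiv f)
  haveI : Finite (Submodule K V) := Finite.of_injective (fun W => (W : Set V)) SetLike.coe_injective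
  let _ : Fintype {W : Submodule K V // finrank K W = 2} := Fintype.ofFinite _
  rw [← hsig, Nat.card_sigma]
  simp only [hfib, Finset.sum_const, Finset.card_univ, smul_eq_mul, Nat.card_eq_fintype_card]

end count

theorem two_pow_ge (m : ℕ) (hm : 3 ≤ m) : m + 4 ≤ 2 ^ m := by
  induction m, hm using Nat.le_induction with
  | base => norm_num
  | succ m hm ih => rw [pow_succ]; omega

theorem num_sa {p n : ℕ} (hp : 2 ≤ p) (hn : 3 ≤ n)
    (h : (p ^ (n - 1) - 1) ∣ n * (p ^ 2 - 1)) : n = 3 ∨ (n = 5 ∧ p = 2) := by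
  obtain ⟨k, rfl⟩ : ∃ k, p = k + 1 := ⟨p - 1, by omega⟩
  have hk : 1 ≤ k := by omega
  by_cases h3 : n = 3
  · exact Or.inl h3
  by_cases h4 : n = 4
  · exfalso
    subst h4
    have e1 : (k + 1) ^ (4 - 1) - 1 = k * (k ^ 2 + 3 * k + 3) := by
      have : (k + 1) ^ (4 - 1) = k * (k ^ 2 + 3 * k + 3) + 1 := by ring
      rw [this, Nat.add_sub_cancel]
    have e2 : (k + 1) ^ 2 - 1 = k * (k + 2) := by
      have : (k + 1) ^ 2 = k * (k + 2) + 1 := by ring
      rw [this, Nat.add_sub_cancel]
    rw [e1, e2] at h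
    have h' : k * (k ^ 2 + 3 * k + 3) ∣ k * (4 * (k + 2)) := by
      have : 4 * (k * (k + 2)) = k * (4 * (k + 2)) := by ring
      rwa [this] at h
    have h'' := Nat.dvd_of_mul_dvd_mul_left (by omega) h'
    have hle := Nat.le_of_dvd (by omega) h''
    have hk2 : k ≤ 2 := by nlinarith
    interval_cases k
    · norm_num at h''
    · norm_num at h''
  by_cases h5 : n = 5
  · right
    refine ⟨h5, ?_⟩
    subst h5
    have e1 : (k + 1) ^ (5 - 1) - 1 = ((k + 1) ^ 2 - 1) * ((k + 1) ^ 2 + 1) := by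
      have e2 : (k + 1) ^ 2 - 1 = k * (k + 2) := by
        have : (k + 1) ^ 2 = k * (k + 2) + 1 := by ring
        rw [this, Nat.add_sub_cancel]
      rw [e2]
      have : (k + 1) ^ (5 - 1) = k * (k + 2) * ((k + 1) ^ 2 + 1) + 1 := by ring
      rw [this, Nat.add_sub_cancel]
    rw [e1, mul_comm 5] at h
    have hpos : 0 < (k + 1) ^ 2 - 1 := by
      have : 4 ≤ (k + 1) ^ 2 := by nlinarith
      omega
    have h'' := Nat.dvd_of_mul_dvd_mul_left hpos h
    have hle := Nat.le_of_dvd (by omega) h''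
    have : k ≤ 1 := by nlinarith
    omega
  · exfalso
    have hn6 : 6 ≤ n := by omega
    obtain ⟨m, rfl⟩ : ∃ m, n = m + 3 := ⟨n - 3, by omega⟩
    have hm : 3 ≤ m := by omega
    have h2m := two_pow_ge m hm
    have hpm : 2 ^ m ≤ (k + 1) ^ m := Nat.pow_le_pow_left (by omega) m
    have e1 : (k + 1) ^ (m + 3 - 1) = (k + 1) ^ m * (k + 1) ^ 2 := by
      rw [← pow_add]; rfl
    have hP : 4 ≤ (k + 1) ^ 2 := by nlinarith
    have hpos : 0 < (m + 3) * ((k + 1) ^ 2 - 1) := by
      apply Nat.mul_pos (by omega); omega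
    have hle := Nat.le_of_dvd hpos h
    rw [e1] at hle
    have h1 : (m + 4) * (k + 1) ^ 2 ≤ (k + 1) ^ m * (k + 1) ^ 2 :=
      Nat.mul_le_mul_right _ (h2m.trans hpm)
    have h2 : (m + 3) * ((k + 1) ^ 2 - 1) ≤ (m + 3) * (k + 1) ^ 2 :=
      Nat.mul_le_mul_left _ (Nat.sub_le _ _)
    have h3 : (m + 4) * (k + 1) ^ 2 = (m + 3) * (k + 1) ^ 2 + (k + 1) ^ 2 := by ring
    omega

theorem num_derive {p n N₂ L : ℕ} (hp : 2 ≤ p) (hn : 3 ≤ n)
    (hcount : N₂ * ((p ^ 2 - 1) * (p ^ 2 - p)) = (p ^ n - 1) * (p ^ n - p))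
    (h1 : N₂ * (p - 1) ∣ L) (h2 : L ∣ (p ^ n - 1) * n) :
    (p ^ (n - 1) - 1) ∣ n * (p ^ 2 - 1) := by
  have e1 : p ^ n - p = p * (p ^ (n - 1) - 1) := by
    rw [Nat.mul_sub, mul_one, ← pow_succ']
    congr 2
    omega
  have e2 : p ^ 2 - p = p * (p - 1) := by
    rw [Nat.mul_sub, mul_one, sq]
  rw [e1, e2] at hcount
  have hc : N₂ * (p - 1) * (p ^ 2 - 1) = (p ^ n - 1) * (p ^ (n - 1) - 1) := by
    have : p * (N₂ * (p - 1) * (p ^ 2 - 1)) = p * ((p ^ n - 1) * (p ^ (n - 1) - 1)) := by
      calc p * (N₂ * (p - 1) * (p ^ 2 - 1)) = N₂ * ((p ^ 2 - 1) * (p * (p - 1))) := by ring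
        _ = (p ^ n - 1) * (p * (p ^ (n - 1) - 1)) := hcount
        _ = p * ((p ^ n - 1) * (p ^ (n - 1) - 1)) := by ring
    exact Nat.eq_of_mul_eq_mul_left (by omega) this
  have h3 : N₂ * (p - 1) * (p ^ 2 - 1) ∣ (p ^ n - 1) * n * (p ^ 2 - 1) :=
    Nat.mul_dvd_mul_right (h1.trans h2) _
  rw [hc, mul_assoc] at h3
  have hpos : 0 < p ^ n - 1 := by
    have : 2 ^ n ≤ p ^ n := Nat.pow_le_pow_left hp n
    have : 2 ^ 3 ≤ 2 ^ n := Nat.pow_le_pow_right (by norm_num) hn
    omega
  exact Nat.dvd_of_mul_dvd_mul_left hpos h3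

end Cfsg.Agent.Helper58.SA
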