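/-
Helper58: pieces for S4025: scalar extension of a linear action, the action on planes,
semilinear groups and the semi-affine group, transport to the Galois field.
-/
import Mathlib
import Cfsg.Agent.Helper58.SA1
import Cfsg.Agent.Helper58.SA3

set_option autoImplicit false

namespace Cfsg.Agent.Helper58.SA

open Module

section linear
variable {p : ℕ} [hp : Fact p.Prime] {V : Type*} [AddCommGroup V] [Module (ZMod p) V]

/-- scalar multiplications as linear automorphisms -/
noncomputable def scalarHom (p : ℕ) (V : Type*) [AddCommGroup V] [Module (ZMod p) V] :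
    (ZMod p)ˣ →* (V ≃ₗ[ZMod p] V) :=
  DistribMulAction.toModuleAut (ZMod p) V

lemma scalarHom_apply (c : (ZMod p)ˣ) (v : V) : scalarHom p V c v = (c : ZMod p) • v := rfl

lemma scalarHom_commute {X : Type*} [Group X] (ρ₀ : X →* (V ≃ₗ[ZMod p] V)) (x : X)
    (c : (ZMod p)ˣ) : Commute (ρ₀ x) (scalarHom p V c) := by
  show ρ₀ x * scalarHom p V c = scalarHom p V c * ρ₀ x
  ext v
  rw [LinearEquiv.mul_apply, LinearEquiv.mul_apply, scalarHom_apply, scalarHom_apply, map_smul]

/-- the action extended by scalars -/
noncomputable def extHom {X : Type*} [Group X] (ρ₀ : X →* (V ≃ₗ[ZMod p] V)) :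
    X × (ZMod p)ˣ →* (V ≃ₗ[ZMod p] V) :=
  MonoidHom.noncommCoprod ρ₀ (scalarHom p V) (scalarHom_commute ρ₀)

lemma extHom_apply {X : Type*} [Group X] (ρ₀ : X →* (V ≃ₗ[ZMod p] V)) (x : X) (c : (ZMod p)ˣ)
    (v : V) : extHom ρ₀ (x, c) v = (c : ZMod p) • ρ₀ x v := by
  show (ρ₀ x * scalarHom p V c) v = _
  rw [LinearEquiv.mul_apply, scalarHom_apply, map_smul]

end linear

section planes
variable {K V : Type*} [Field K] [AddCommGroup V] [Module K V]
  {G : Type*} [Group G] (ρ : G →* (V ≃ₗ[K] V))

/-- the action of `G` on the planes of `V` -/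
@[reducible] def planeAction : MulAction G {W : Submodule K V // finrank K W = 2} where
  smul g W := ⟨W.1.map (ρ g).toLinearMap, by rw [LinearEquiv.finrank_map_eq]; exact W.2⟩
  one_smul W := by
    apply Subtype.ext
    show W.1.map (ρ 1).toLinearMap = W.1
    rw [map_one]
    exact Submodule.map_id _
  mul_smul a b W := by
    apply Subtype.ext
    show W.1.map (ρ (a * b)).toLinearMap = (W.1.map (ρ b).toLinearMap).map (ρ a).toLinearMap
    rw [map_mul, ← Submodule.map_comp]
    rfl

/-- transitivity on planes gives a subgroup of index the number of planes -/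
theorem exists_plane_stabilizer [Finite G]
    (htr : ∀ W W' : Submodule K V, finrank K W = 2 → finrank K W' = 2 →
      ∃ g : G, W.map (ρ g).toLinearMap = W')
    (W₀ : Submodule K V) (hW₀ : finrank K W₀ = 2) :
    ∃ St : Subgroup G, St.index = Nat.card {W : Submodule K V // finrank K W = 2} ∧
      ∀ g : G, W₀.map (ρ g).toLinearMap = W₀ → g ∈ St := by
  letI := planeAction ρ
  haveI : MulAction.IsPretransitive G {W : Submodule K V // finrank K W = 2} := by
    refine ⟨fun W W' => ?_⟩
    obtain ⟨g, hg⟩ := htr W.1 W'.1 W.2 W'.2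
    exact ⟨g, Subtype.ext hg⟩
  refine ⟨MulAction.stabilizer G (⟨W₀, hW₀⟩ : {W : Submodule K V // finrank K W = 2}),
    MulAction.index_stabilizer_of_transitive G _, ?_⟩
  intro g hg
  rw [MulAction.mem_stabilizer_iff]
  exact Subtype.ext hg

end planes

/-- An element of order dividing `13` centralizes a normal subgroup of order dividing `32`. -/
theorem centralizes_of_pow_thirteen {G : Type*} [Group G] [Finite G] (T : Subgroup G) [hT : T.Normal]
    (hcard : Nat.card T ∣ 32) (g : G) (hg : g ^ 13 = 1) : ∀ t ∈ T, g * t = t * g := by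
  classical
  let _ : Fintype T := Fintype.ofFinite T
  -- conjugation by `g` on `T`
  let f : Function.End T := fun t => (MulAut.conjNormal g : MulAut T) t
  have hfapp : ∀ t : T, ((f t : T) : G) = g * t * g⁻¹ := fun t => rfl
  have hfk : ∀ (k : ℕ) (t : T), ((f ^ k) t : T) = ((MulAut.conjNormal g : MulAut T) ^ k) t := by
    intro k
    induction k with
    | zero => intro t; rfl
    | succ k ih =>
      intro t
      rw [pow_succ, pow_succ]
      show (f ^ k) (f t) = _
      rw [ih]
      rfl
  have hf13 : f ^ 13 ^ 1 = 1 := by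
    rw [pow_one]
    have h1 : (MulAut.conjNormal g : MulAut T) ^ 13 = 1 := by
      rw [← map_pow, hg, map_one]
    funext t
    rw [hfk, h1]
    rfl
  haveI : Fact (Nat.Prime 13) := ⟨by norm_num⟩
  have hmod := Equiv.Perm.card_fixedPoints_modEq (f := f) (p := 13) (n := 1) hf13
  -- the fixed points form a subgroup
  let C : Subgroup T :=
    { carrier := {t | f t = t}
      one_mem' := by
        show f 1 = 1
        exact map_one (MulAut.conjNormal g : MulAut T)
      mul_mem' := by
        intro a b ha hb
        show f (a * b) = a * b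
        have : f (a * b) = f a * f b := map_mul (MulAut.conjNormal g : MulAut T) a b
        rw [this, ha, hb]
      inv_mem' := by
        intro a ha
        show f a⁻¹ = a⁻¹
        have : f a⁻¹ = (f a)⁻¹ := map_inv (MulAut.conjNormal g : MulAut T) a
        rw [this, ha] }
  have hCfix : Fintype.card (Function.fixedPoints f) = Nat.card C := by
    rw [← Nat.card_eq_fintype_card]
    exact Nat.card_congr (Equiv.refl _)
  have hCdvd : Nat.card C ∣ Nat.card T := Subgroup.card_subgroup_dvd_card C
  rw [hCfix, ← Nat.card_eq_fintype_card] at hmod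
  have hC32 : Nat.card C ∣ 32 := hCdvd.trans hcard
  have heq : Nat.card C = Nat.card T := by
    obtain ⟨a, ha, hTa⟩ := (Nat.dvd_prime_pow Nat.prime_two (m := 5)).1 hcard
    obtain ⟨b, hb, hCb⟩ := (Nat.dvd_prime_pow Nat.prime_two (m := 5)).1 hC32
    rw [hTa, hCb] at hmod ⊢
    unfold Nat.ModEq at hmod
    interval_cases a <;> interval_cases b <;> first | rfl | (exfalso; revert hmod; decide)
  have hCtop : C = ⊤ := Subgroup.eq_top_of_card_eq C heq
  intro t ht
  have : (⟨t, ht⟩ : T) ∈ C := by rw [hCtop]; exact Subgroup.mem_top _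
  have h3 : f ⟨t, ht⟩ = ⟨t, ht⟩ := this
  have h4 := congrArg (fun s : T => (s : G)) h3
  simp only [hfapp] at h4
  calc g * t = g * t * g⁻¹ * g := by group
    _ = t * g := by rw [h4]

section semilin
variable {p : ℕ} [hp : Fact p.Prime] {V : Type*} [AddCommGroup V] [Module (ZMod p) V] [Finite V]
  [Nontrivial V]

/-- a faithful semilinear group has order dividing `(|F| - 1) * |Aut F|` -/
theorem card_dvd_of_semilinear {G : Type*} [Group G] [Finite G] (ρ : G →* (V ≃ₗ[ZMod p] V))
    (hρ : Function.Injective ρ) {F : Type*} [Field F] [Finite F] (e : V ≃+ F)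
    (hsemi : ∀ g : G, ∃ (a : F) (σ : F ≃+* F), ∀ v : V, e (ρ g v) = a * σ (e v)) :
    Nat.card G ∣ (Nat.card F - 1) * Nat.card (F ≃+* F) := by
  classical
  -- the permutation representation on `F`
  let π : G →* Equiv.Perm F :=
    { toFun := fun g => (e.symm.toEquiv.trans (ρ g).toEquiv).trans e.toEquiv
      map_one' := by
        ext y
        simp
      map_mul' := by
        intro g h
        ext y
        simp }
  have hπ : ∀ (g : G) (y : F), π g y = e (ρ g (e.symm y)) := fun g y => rfl
  have hmem : ∀ g : G, π g ∈ Cfsg.semiaffineGroup F := by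
    intro g
    obtain ⟨a, σ, h⟩ := hsemi g
    have ha : a ≠ 0 := by
      rintro rfl
      obtain ⟨v, hv⟩ := exists_ne (0 : V)
      apply hv
      have h1 := h ((ρ g).symm v)
      rw [LinearEquiv.apply_symm_apply, zero_mul] at h1
      exact (map_eq_zero_iff e e.injective).1 h1
    refine ⟨Units.mk0 a ha, 0, σ, fun y => ?_⟩
    rw [hπ, h, AddEquiv.apply_symm_apply, add_zero]
    rfl
  let g' : G →* Cfsg.semiaffineGroup F := π.codRestrict _ hmem
  have hg' : Function.Injective g' := by
    intro a b hab
    apply hρ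
    ext v
    have h1 : π a = π b := congrArg Subtype.val hab
    have h2 := congrArg (fun s : Equiv.Perm F => s (e v)) h1
    simp only [hπ, AddEquiv.symm_apply_apply] at h2
    exact e.injective h2
  apply card_dvd_of_fix_zero g' hg'
  intro l
  show π l 0 = 0
  rw [hπ, map_zero, map_zero, map_zero]

/-- transport of a semilinear structure to the Galois field -/
theorem transport_galois {G : Type*} (ρ : G → (V ≃ₗ[ZMod p] V)) (n : ℕ) (hV : Nat.card V = p ^ n)
    {F : Type*} [Field F] [Finite F] (e : V ≃+ F)
    (hsemi : ∀ g : G, ∃ (a : F) (σ : F ≃+* F), ∀ v : V, e (ρ g v) = a * σ (e v)) :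
    ∃ e' : V ≃+ GaloisField p n, ∀ g : G, ∃ (a : (GaloisField p n)ˣ)
      (φ : GaloisField p n ≃+* GaloisField p n), ∀ v : V, e' (ρ g v) = a * φ (e' v) := by
  classical
  let _ : Fintype F := Fintype.ofFinite F
  have hF : Nat.card F = p ^ n := by rw [← Nat.card_congr e.toEquiv, hV]
  have hFc : Fintype.card F = p ^ n := by rw [← Nat.card_eq_fintype_card]; exact hF
  have hchar : CharP F p := charP_of_card_eq_prime_pow hFc
  let _ : Algebra (ZMod p) F := ZMod.algebra F p
  let ψ : F ≃+* GaloisField p n := (GaloisField.algEquivGaloisField p n hF).toRingEquiv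
  refine ⟨e.trans ψ.toAddEquiv, fun g => ?_⟩
  obtain ⟨a, σ, h⟩ := hsemi g
  have ha : a ≠ 0 := by
    rintro rfl
    obtain ⟨v, hv⟩ := exists_ne (0 : V)
    apply hv
    have h1 := h ((ρ g).symm v)
    rw [LinearEquiv.apply_symm_apply, zero_mul] at h1
    exact (map_eq_zero_iff e e.injective).1 h1
  have hψa : ψ a ≠ 0 := by
    intro h0
    exact ha ((map_eq_zero_iff ψ ψ.injective).1 h0)
  refine ⟨Units.mk0 (ψ a) hψa, (ψ.symm.trans σ).trans ψ, fun v => ?_⟩
  show ψ (e (ρ g v)) = ψ a * ψ (σ (ψ.symm (ψ (e v))))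
  rw [h, map_mul, RingEquiv.symm_apply_apply]

end semilin

end Cfsg.Agent.Helper58.SA
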