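/-
Helper58: the linear core of S4025: a solvable linear group over `𝔽_p` on `p^n` points (`n ≥ 3`),
transitive on lines and on planes, is semilinear of dimension one and `n = 3` or `(n, p) = (5, 2)`.
-/
import Mathlib
import Cfsg.Agent.Helper58.SA4a
import Cfsg.Agent.Helper58.HupStrong

set_option autoImplicit false

namespace Cfsg.Agent.Helper58.SA

open Module

section main
variable {p : ℕ} [hp : Fact p.Prime] {V : Type*} [AddCommGroup V] [Module (ZMod p) V] [Finite V]

theorem finrank_eq_of_card (n : ℕ) (hV : Nat.card V = p ^ n) : finrank (ZMod p) V = n := by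
  have h1 : Nat.card V = Nat.card (ZMod p) ^ finrank (ZMod p) V :=
    Module.natCard_eq_pow_finrank (K := ZMod p) (V := V)
  rw [hV, Nat.card_eq_fintype_card, ZMod.card] at h1
  exact (Nat.pow_right_injective hp.out.two_le h1).symm

theorem sa_linear (n : ℕ) (hn : 3 ≤ n) (hV : Nat.card V = p ^ n)
    {X : Type*} [Group X] [Finite X] (hsol : Group.IsSolvable X) (ρ₀ : X →* (V ≃ₗ[ZMod p] V))
    (htr1 : ∀ W W' : Submodule (ZMod p) V, finrank (ZMod p) W = 1 → finrank (ZMod p) W' = 1 →
      ∃ x : X, W.map (ρ₀ x).toLinearMap = W')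
    (htr2 : ∀ W W' : Submodule (ZMod p) V, finrank (ZMod p) W = 2 → finrank (ZMod p) W' = 2 →
      ∃ x : X, W.map (ρ₀ x).toLinearMap = W') :
    (n = 3 ∨ (n = 5 ∧ p = 2)) ∧
    (∃ e : V ≃+ GaloisField p n, ∀ x : X, ∃ (a : (GaloisField p n)ˣ)
      (φ : GaloisField p n ≃+* GaloisField p n), ∀ v : V, e (ρ₀ x v) = a * φ (e v)) ∧
    Nat.card {W : Submodule (ZMod p) V // finrank (ZMod p) W = 2} ∣ ρ₀.ker.index := by
  classical
  have hpp : p.Prime := hp.out
  have hp2 : 2 ≤ p := hpp.two_le
  have hfr : finrank (ZMod p) V = n := finrank_eq_of_card n hV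
  have hV1 : 1 < Nat.card V := by
    rw [hV]
    exact Nat.one_lt_pow (by omega) hpp.one_lt
  haveI : Nontrivial V := Finite.one_lt_card_iff_nontrivial.1 hV1
  -- planes exist
  have hcount := card_planes_mul (K := ZMod p) (V := V) (by omega)
  rw [ZMod.card, hfr] at hcount
  have hpn : p ^ 3 ≤ p ^ n := Nat.pow_le_pow_right (by omega) hn
  have hp3 : 8 ≤ p ^ 3 := by
    have : 2 ^ 3 ≤ p ^ 3 := Nat.pow_le_pow_left hp2 3
    omega
  have hp3' : p < p ^ 3 := by
    calc p = p ^ 1 := (pow_one p).symm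
      _ < p ^ 3 := Nat.pow_lt_pow_right hpp.one_lt (by norm_num)
  have hrhs : 0 < (p ^ n - 1) * (p ^ n - p) := Nat.mul_pos (by omega) (by omega)
  have hN₂pos : 0 < Nat.card {W : Submodule (ZMod p) V // finrank (ZMod p) W = 2} := by
    rcases Nat.eq_zero_or_pos (Nat.card {W : Submodule (ZMod p) V // finrank (ZMod p) W = 2})
      with h | h
    · rw [h, zero_mul] at hcount; omega
    · exact h
  haveI hne : Nonempty {W : Submodule (ZMod p) V // finrank (ZMod p) W = 2} :=
    (Nat.card_pos_iff.1 hN₂pos).1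
  obtain ⟨⟨W₀, hW₀⟩⟩ := hne
  -- third conclusion
  have hc3 : Nat.card {W : Submodule (ZMod p) V // finrank (ZMod p) W = 2} ∣ ρ₀.ker.index := by
    obtain ⟨St, hSt, hmem⟩ := exists_plane_stabilizer ρ₀ htr2 W₀ hW₀
    rw [← hSt]
    apply Subgroup.index_dvd_of_le
    intro g hg
    apply hmem
    rw [MonoidHom.mem_ker.1 hg]
    exact Submodule.map_id _
  -- the group `L`
  obtain ⟨L, hL⟩ : ∃ L : Subgroup (V ≃ₗ[ZMod p] V), L = (extHom ρ₀).range := ⟨_, rfl⟩
  have hLmem : ∀ (x : X) (c : (ZMod p)ˣ), extHom ρ₀ (x, c) ∈ L := by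
    intro x c; rw [hL]; exact ⟨(x, c), rfl⟩
  haveI : Finite L := by
    rw [hL]
    exact Finite.of_surjective _ (extHom ρ₀).rangeRestrict_surjective
  haveI : Group.IsSolvable L := by
    rw [hL]
    haveI := hsol
    exact Group.isSolvable_of_surjective (extHom ρ₀).rangeRestrict_surjective
  have htransL : ∀ v w : V, v ≠ 0 → w ≠ 0 → ∃ g : L, L.subtype g v = w := by
    intro v w hv hw
    obtain ⟨x, hx⟩ := htr1 (Submodule.span (ZMod p) {v}) (Submodule.span (ZMod p) {w})
      (finrank_span_singleton hv) (finrank_span_singleton hw)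
    have h1 : ρ₀ x v ∈ Submodule.span (ZMod p) {w} := by
      rw [← hx]
      exact Submodule.mem_map_of_mem (Submodule.mem_span_singleton_self v)
    obtain ⟨a, ha⟩ := Submodule.mem_span_singleton.1 h1
    have ha0 : a ≠ 0 := by
      rintro rfl
      rw [zero_smul] at ha
      apply hv
      have := ha.symm
      exact (map_eq_zero_iff (ρ₀ x) (ρ₀ x).injective).1 this
    obtain ⟨c, hc⟩ : ∃ c : (ZMod p)ˣ, (c : ZMod p) = a := ⟨Units.mk0 a ha0, rfl⟩
    refine ⟨⟨extHom ρ₀ (x, c⁻¹), hLmem _ _⟩, ?_⟩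
    show extHom ρ₀ (x, c⁻¹) v = w
    rw [extHom_apply, ← ha, ← hc, smul_smul, Units.inv_mul, one_smul]
  -- transitivity of `L` on planes
  have htr2L : ∀ W W' : Submodule (ZMod p) V, finrank (ZMod p) W = 2 → finrank (ZMod p) W' = 2 →
      ∃ g : L, W.map (L.subtype g).toLinearMap = W' := by
    intro W W' hW hW'
    obtain ⟨x, hx⟩ := htr2 W W' hW hW'
    refine ⟨⟨extHom ρ₀ (x, 1), hLmem _ _⟩, ?_⟩
    rw [← hx]
    congr 1
    ext v
    show extHom ρ₀ (x, 1) v = ρ₀ x v
    rw [extHom_apply, Units.val_one, one_smul]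
  -- `N₂ * (p - 1)` divides `|L|`
  have hdvd1 : Nat.card {W : Submodule (ZMod p) V // finrank (ZMod p) W = 2} * (p - 1) ∣
      Nat.card L := by
    obtain ⟨St, hSt, hmem⟩ := exists_plane_stabilizer L.subtype htr2L W₀ hW₀
    rw [← hSt, ← Subgroup.card_mul_index St, mul_comm]
    apply Nat.mul_dvd_mul_right
    -- scalars embed in the stabilizer
    have hsc : ∀ c : (ZMod p)ˣ, scalarHom p V c ∈ L := by
      intro c
      have := hLmem 1 c
      have h2 : extHom ρ₀ (1, c) = scalarHom p V c := by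
        ext v
        rw [extHom_apply, map_one, scalarHom_apply]
        rfl
      rwa [h2] at this
    have hst : ∀ c : (ZMod p)ˣ, (⟨scalarHom p V c, hsc c⟩ : L) ∈ St := by
      intro c
      apply hmem
      apply le_antisymm
      · rintro _ ⟨w, hw, rfl⟩
        show scalarHom p V c w ∈ W₀
        rw [scalarHom_apply]
        exact W₀.smul_mem _ hw
      · intro w hw
        refine ⟨(c⁻¹ : (ZMod p)ˣ).1 • w, W₀.smul_mem _ hw, ?_⟩
        show scalarHom p V c _ = w
        rw [scalarHom_apply, smul_smul, Units.mul_inv, one_smul]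
    let ι : (ZMod p)ˣ →* St :=
      { toFun := fun c => ⟨⟨scalarHom p V c, hsc c⟩, hst c⟩
        map_one' := by
          apply Subtype.ext; apply Subtype.ext
          exact map_one (scalarHom p V)
        map_mul' := by
          intro a b
          apply Subtype.ext; apply Subtype.ext
          exact map_mul (scalarHom p V) a b }
    have hι : Function.Injective ι := by
      intro a b hab
      have h1 : scalarHom p V a = scalarHom p V b := by
        have := congrArg (fun s : St => ((s : L) : V ≃ₗ[ZMod p] V)) hab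
        exact this
      obtain ⟨v, hv⟩ := exists_ne (0 : V)
      have h2 := LinearEquiv.congr_fun h1 v
      rw [scalarHom_apply, scalarHom_apply] at h2
      have h3 : ((a : ZMod p) - b) • v = 0 := by rw [sub_smul, h2, sub_self]
      rcases smul_eq_zero.1 h3 with h4 | h4
      · exact Units.ext (sub_eq_zero.1 h4)
      · exact absurd h4 hv
    have := Subgroup.card_dvd_of_injective ι hι
    rwa [Nat.card_eq_fintype_card (α := (ZMod p)ˣ), ZMod.card_units_eq_totient,
      Nat.totient_prime hpp] at this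
  have hρ₀L : ∀ x : X, ρ₀ x ∈ L := by
    intro x
    have := hLmem x 1
    have h2 : extHom ρ₀ (x, 1) = ρ₀ x := by
      ext v
      rw [extHom_apply, Units.val_one, one_smul]
    rwa [h2] at this
  rcases Cfsg.Agent.Helper58.Hup.huppert_strong p (inferInstance : Group.IsSolvable L) L.subtype Subtype.val_injective
    htransL with hsl | hsq | ⟨h81, T, hTn, hT32, hTC⟩
  · -- the semilinear case
    obtain ⟨F, fF, ftF, e, hsemi⟩ := hsl
    have hF : Nat.card F = p ^ n := by rw [← Nat.card_congr e.toEquiv, hV]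
    have hdvd2 := card_dvd_of_semilinear L.subtype Subtype.val_injective e hsemi
    rw [card_ringAut p n hF, hF] at hdvd2
    have hnum := num_derive hp2 hn hcount hdvd1 hdvd2
    refine ⟨num_sa hp2 hn hnum, ?_, hc3⟩
    exact transport_galois (fun x => ρ₀ x) n hV e (fun x => hsemi ⟨ρ₀ x, hρ₀L x⟩)
  · -- squares of primes
    exfalso
    rw [hV] at hsq
    have key : ∀ r : ℕ, r.Prime → p ^ n ≠ r ^ 2 := by
      intro r hr h
      have h1 : p ∣ r ^ 2 := by
        rw [← h]
        exact dvd_pow_self p (by omega)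
      have h2 : p = r := (Nat.prime_dvd_prime_iff_eq hpp hr).1 (hpp.dvd_of_dvd_pow h1)
      subst h2
      have := Nat.pow_right_injective hp2 h
      omega
    simp only [Set.mem_insert_iff, Set.mem_singleton_iff] at hsq
    rcases hsq with h | h | h | h | h
    · exact key 3 (by norm_num) (by rw [h]; norm_num)
    · exact key 5 (by norm_num) (by rw [h]; norm_num)
    · exact key 7 (by norm_num) (by rw [h]; norm_num)
    · exact key 11 (by norm_num) (by rw [h]; norm_num)
    · exact key 23 (by norm_num) (by rw [h]; norm_num)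
  · -- the case `81`
    exfalso
    rw [hV] at h81
    have h1 : p ∣ 3 ^ 4 := by
      have : p ∣ p ^ n := dvd_pow_self p (by omega)
      rw [h81] at this
      exact this
    have h2 : p = 3 := (Nat.prime_dvd_prime_iff_eq hpp Nat.prime_three).1 (hpp.dvd_of_dvd_pow h1)
    subst h2
    have h3 : n = 4 := by
      have h34 : (3 : ℕ) ^ n = 3 ^ 4 := by rw [h81]; norm_num
      exact Nat.pow_right_injective (by norm_num : 2 ≤ 3) h34
    subst h3
    have hN : Nat.card {W : Submodule (ZMod 3) V // finrank (ZMod 3) W = 2} = 130 := by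
      norm_num at hcount
      omega
    rw [hN, Subgroup.index_ker] at hc3
    haveI : Fact (Nat.Prime 13) := ⟨by norm_num⟩
    haveI : Finite ρ₀.range := Finite.of_surjective _ ρ₀.rangeRestrict_surjective
    obtain ⟨y, hy⟩ := exists_prime_orderOf_dvd_card' (G := ρ₀.range) 13
      ((by norm_num : 13 ∣ 130).trans hc3)
    obtain ⟨x, hx⟩ := y.2
    obtain ⟨l, hl⟩ : ∃ l : L, (l : V ≃ₗ[ZMod 3] V) = ρ₀ x := ⟨⟨ρ₀ x, hρ₀L x⟩, rfl⟩
    have hy13 : (y : V ≃ₗ[ZMod 3] V) ^ 13 = 1 := by
      have := pow_orderOf_eq_one y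
      rw [hy] at this
      have h' := congrArg (fun s : ρ₀.range => (s : V ≃ₗ[ZMod 3] V)) this
      simpa using h'
    have hl13 : l ^ 13 = 1 := by
      apply Subtype.ext
      rw [Subgroup.coe_pow, hl, hx]
      exact hy13
    have hcent := centralizes_of_pow_thirteen T hT32 l hl13
    have hlT : l ∈ T := by
      apply hTC
      rw [Subgroup.mem_centralizer_iff]
      intro t ht
      exact (hcent t ht).symm
    have hl32 : l ^ 32 = 1 := by
      have h4 : (⟨l, hlT⟩ : T) ^ Nat.card T = 1 := pow_card_eq_one'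
      obtain ⟨m, hm⟩ := hT32
      have h5 : (⟨l, hlT⟩ : T) ^ 32 = 1 := by rw [hm, pow_mul, h4, one_pow]
      have h6 := congrArg (fun s : T => (s : L)) h5
      simpa using h6
    have hl1 : l = 1 := by
      have h7 : l ^ 65 = 1 := by
        have : l ^ 65 = (l ^ 13) ^ 5 := by rw [← pow_mul]
        rw [this, hl13, one_pow]
      have h8 : l ^ 64 = 1 := by
        have : l ^ 64 = (l ^ 32) ^ 2 := by rw [← pow_mul]
        rw [this, hl32, one_pow]
      calc l = l ^ 65 * (l ^ 64)⁻¹ := by group
        _ = 1 := by rw [h7, h8, inv_one, mul_one]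
    have hy1 : y = 1 := by
      apply Subtype.ext
      rw [← hx, ← hl, hl1]
      rfl
    rw [hy1, orderOf_one] at hy
    norm_num at hy

end main

end Cfsg.Agent.Helper58.SA
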