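/-
Helper58: the abstract form of S4025 for an extension `X` of an elementary abelian normal subgroup `E`,
with `E` identified with a `ZMod p`-module.
-/
import Mathlib
import Cfsg.Agent.Helper58.SA2
import Cfsg.Agent.Helper58.SA4

set_option autoImplicit false

namespace Cfsg.Agent.Helper58.SA

open Module

section abs
variable {X : Type*} [Group X] {p : ℕ} (E : Subgroup X) [hE : E.Normal]
  {V : Type*} [AddCommGroup V] [Module (ZMod p) V] (β₀ : E ≃ V)
  (hβ₀ : ∀ a b : E, β₀ (a * b) = β₀ a + β₀ b)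

/-- conjugation by `x` on `E`, transported to `V` -/
def conjAdd (x : X) : V ≃+ V where
  toFun v := β₀ (MulAut.conjNormal x (β₀.symm v))
  invFun v := β₀ (MulAut.conjNormal x⁻¹ (β₀.symm v))
  left_inv v := by
    show β₀ (MulAut.conjNormal x⁻¹ (β₀.symm (β₀ (MulAut.conjNormal x (β₀.symm v))))) = v
    rw [Equiv.symm_apply_apply, map_inv, MulAut.inv_apply, MulEquiv.symm_apply_apply,
      Equiv.apply_symm_apply]
  right_inv v := by
    show β₀ (MulAut.conjNormal x (β₀.symm (β₀ (MulAut.conjNormal x⁻¹ (β₀.symm v))))) = v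
    rw [Equiv.symm_apply_apply, map_inv, MulAut.inv_apply, MulEquiv.apply_symm_apply,
      Equiv.apply_symm_apply]
  map_add' v w := by
    obtain ⟨a, rfl⟩ := β₀.surjective v
    obtain ⟨b, rfl⟩ := β₀.surjective w
    rw [← hβ₀, Equiv.symm_apply_apply, Equiv.symm_apply_apply, Equiv.symm_apply_apply, map_mul,
      hβ₀]

lemma conjAdd_apply (x : X) (e : E) :
    conjAdd E β₀ hβ₀ x (β₀ e) = β₀ ⟨x * e * x⁻¹, hE.conj_mem e e.2 x⟩ := by
  show β₀ (MulAut.conjNormal x (β₀.symm (β₀ e))) = _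
  rw [Equiv.symm_apply_apply]
  rfl

/-- the conjugation action as a linear representation -/
def conjLin : X →* (V ≃ₗ[ZMod p] V) where
  toFun x := { conjAdd E β₀ hβ₀ x with
    map_smul' := fun c v => ZMod.map_smul (conjAdd E β₀ hβ₀ x) c v }
  map_one' := by
    ext v
    obtain ⟨a, rfl⟩ := β₀.surjective v
    show conjAdd E β₀ hβ₀ 1 (β₀ a) = β₀ a
    rw [conjAdd_apply]
    congr 1
    apply Subtype.ext
    simp
  map_mul' x y := by
    ext v
    obtain ⟨a, rfl⟩ := β₀.surjective v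
    show conjAdd E β₀ hβ₀ (x * y) (β₀ a) = conjAdd E β₀ hβ₀ x (conjAdd E β₀ hβ₀ y (β₀ a))
    rw [conjAdd_apply, conjAdd_apply, conjAdd_apply]
    congr 1
    apply Subtype.ext
    simp [mul_assoc]

lemma conjLin_apply (x : X) (e : E) :
    conjLin (p := p) E β₀ hβ₀ x (β₀ e) = β₀ ⟨x * e * x⁻¹, hE.conj_mem e e.2 x⟩ :=
  conjAdd_apply E β₀ hβ₀ x e

include hβ₀ in
theorem sa_abstract [Finite X] [hp : Fact p.Prime] (n : ℕ) (hn : 3 ≤ n)
    (hcard : Nat.card E = p ^ n) (hidx : (Nat.card E).Coprime E.index)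
    (hCE : ∀ x : X, (∀ e ∈ E, x * e = e * x) → x ∈ E) (hsolv : Group.IsSolvable X)
    (htrans : ∀ Y Y' : Subgroup X, Y ≤ E → Y' ≤ E → Nat.card Y = Nat.card Y' →
      ∃ x : X, Y' = Y.map (MulAut.conj x).toMonoidHom) :
    (n = 3 ∨ (n = 5 ∧ p = 2)) ∧
    (∃ f : X →* Cfsg.semiaffineGroup (GaloisField p n), Function.Injective f) ∧
    ∃ N₂ : ℕ, N₂ * ((p ^ 2 - 1) * (p ^ 2 - p)) = (p ^ n - 1) * (p ^ n - p) ∧ N₂ ∣ Nat.card X := by
  classical
  have hpp : p.Prime := hp.out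
  haveI : Finite V := Finite.of_equiv E β₀
  have hV : Nat.card V = p ^ n := by rw [← Nat.card_congr β₀, hcard]
  have hβ1 : β₀ 1 = 0 := by
    have := hβ₀ 1 1
    rw [mul_one] at this
    exact (add_eq_left.1 this.symm)
  have hβinv : ∀ a : E, β₀ a⁻¹ = - β₀ a := by
    intro a
    have := hβ₀ a a⁻¹
    rw [mul_inv_cancel, hβ1] at this
    exact (neg_eq_of_add_eq_zero_right this.symm).symm
  -- the subgroup of `X` attached to a subspace
  let Y : Submodule (ZMod p) V → Subgroup X := fun W =>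
    { carrier := {x | ∃ h : x ∈ E, β₀ ⟨x, h⟩ ∈ W}
      one_mem' := ⟨E.one_mem, by
        have : (⟨1, E.one_mem⟩ : E) = 1 := rfl
        rw [this, hβ1]; exact W.zero_mem⟩
      mul_mem' := by
        rintro a b ⟨ha, ha'⟩ ⟨hb, hb'⟩
        refine ⟨E.mul_mem ha hb, ?_⟩
        have : (⟨a * b, E.mul_mem ha hb⟩ : E) = ⟨a, ha⟩ * ⟨b, hb⟩ := rfl
        rw [this, hβ₀]
        exact W.add_mem ha' hb'
      inv_mem' := by
        rintro a ⟨ha, ha'⟩
        refine ⟨E.inv_mem ha, ?_⟩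
        have : (⟨a⁻¹, E.inv_mem ha⟩ : E) = (⟨a, ha⟩ : E)⁻¹ := rfl
        rw [this, hβinv]
        exact W.neg_mem ha' }
  have hYE : ∀ W, Y W ≤ E := fun W x hx => hx.1
  have hYcard : ∀ W : Submodule (ZMod p) V, Nat.card (Y W) = p ^ finrank (ZMod p) W := by
    intro W
    have h1 : Nat.card W = Nat.card (ZMod p) ^ finrank (ZMod p) W :=
      Module.natCard_eq_pow_finrank (K := ZMod p) (V := W)
    rw [Nat.card_eq_fintype_card (α := ZMod p), ZMod.card] at h1
    rw [← h1]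
    refine Nat.card_congr
      { toFun := fun y => ⟨β₀ ⟨y.1, y.2.1⟩, y.2.2⟩
        invFun := fun w => ⟨(β₀.symm w.1 : X), (β₀.symm w.1).2, by
          have : (⟨(β₀.symm w.1 : X), (β₀.symm w.1).2⟩ : E) = β₀.symm w.1 := rfl
          rw [this, Equiv.apply_symm_apply]
          exact w.2⟩
        left_inv := ?_
        right_inv := ?_ }
    · intro y
      apply Subtype.ext
      show ((β₀.symm (β₀ ⟨y.1, y.2.1⟩) : E) : X) = y.1
      rw [Equiv.symm_apply_apply]
    · intro w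
      apply Subtype.ext
      show β₀ ⟨(β₀.symm w.1 : X), _⟩ = w.1
      have : (⟨(β₀.symm w.1 : X), (β₀.symm w.1).2⟩ : E) = β₀.symm w.1 := rfl
      rw [this, Equiv.apply_symm_apply]
  have htr : ∀ W W' : Submodule (ZMod p) V, finrank (ZMod p) W = finrank (ZMod p) W' →
      ∃ x : X, W.map (conjLin (p := p) E β₀ hβ₀ x).toLinearMap = W' := by
    intro W W' hWW'
    obtain ⟨x, hx⟩ := htrans (Y W) (Y W') (hYE W) (hYE W') (by rw [hYcard, hYcard, hWW'])
    refine ⟨x, ?_⟩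
    apply Submodule.eq_of_le_of_finrank_eq
    · rintro _ ⟨v, hv, rfl⟩
      obtain ⟨a, rfl⟩ := β₀.surjective v
      show conjLin (p := p) E β₀ hβ₀ x (β₀ a) ∈ W'
      rw [conjLin_apply]
      have h1 : (a : X) ∈ Y W := ⟨a.2, hv⟩
      have h2 : x * a * x⁻¹ ∈ Y W' := by
        rw [hx]
        exact ⟨a, h1, rfl⟩
      obtain ⟨h3, h4⟩ := h2
      exact h4
    · rw [LinearEquiv.finrank_map_eq, hWW']
  obtain ⟨hcases, ⟨e, hsemi⟩, hN₂⟩ := sa_linear n hn hV hsolv (conjLin (p := p) E β₀ hβ₀)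
    (fun W W' h1 h2 => htr W W' (by rw [h1, h2])) (fun W W' h1 h2 => htr W W' (by rw [h1, h2]))
  refine ⟨hcases, ?_, ?_⟩
  · -- the embedding
    obtain ⟨H, hH⟩ := Subgroup.exists_right_complement'_of_coprime hidx
    refine affine_rep E H hH (β₀.trans e.toEquiv) ?_ ?_ hCE
    · intro a b
      show e (β₀ (a * b)) = e (β₀ a) + e (β₀ b)
      rw [hβ₀, map_add]
    · intro x
      obtain ⟨a, φ, h⟩ := hsemi x
      refine ⟨a, φ, fun y => ?_⟩
      show e (β₀ _) = a * φ (e (β₀ y))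
      rw [← h, conjLin_apply]
  · refine ⟨_, ?_, hN₂.trans (Subgroup.index_dvd_card _)⟩
    have hcount := card_planes_mul (K := ZMod p) (V := V) (by
      rw [finrank_eq_of_card n hV]; omega)
    rw [ZMod.card, finrank_eq_of_card n hV] at hcount
    exact hcount

end abs

end Cfsg.Agent.Helper58.SA
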