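/-
Helper58: the abstract form of S4025 (`sa_main`).
-/
import Mathlib
import Cfsg.Agent.Helper58.SA5

set_option autoImplicit false

namespace Cfsg.Agent.Helper58.SA

open Module

theorem card_semiaffine_galois (p n : ℕ) [hp : Fact p.Prime] (hn : n ≠ 0) :
    Nat.card (Cfsg.semiaffineGroup (GaloisField p n)) = (p ^ n - 1) * p ^ n * n := by
  rw [card_semiaffine, card_ringAut p n (GaloisField.card p n hn), GaloisField.card p n hn]

theorem card_affine_galois (p n : ℕ) [hp : Fact p.Prime] (hn : n ≠ 0) :
    Nat.card (Cfsg.affineGroup (GaloisField p n)) = (p ^ n - 1) * p ^ n := by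
  rw [card_affine, GaloisField.card p n hn]

/-- The abstract form of S4025. -/
theorem sa_main {X : Type*} [Group X] [Finite X] {p : ℕ} [hp : Fact p.Prime] (E : Subgroup X)
    [hE : E.Normal] (n : ℕ) (hn : 3 ≤ n)
    (hEc : ∀ a ∈ E, ∀ b ∈ E, a * b = b * a) (hEp : ∀ a ∈ E, a ^ p = 1)
    (hcard : Nat.card E = p ^ n) (hidx : (Nat.card E).Coprime E.index)
    (hCE : ∀ x : X, (∀ e ∈ E, x * e = e * x) → x ∈ E) (hsolv : Group.IsSolvable X)
    (htrans : ∀ Y Y' : Subgroup X, Y ≤ E → Y' ≤ E → Nat.card Y = Nat.card Y' →
      ∃ x : X, Y' = Y.map (MulAut.conj x).toMonoidHom) :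
    (n = 3 ∧ (∃ f : X →* Cfsg.semiaffineGroup (GaloisField p 3), Function.Injective f) ∧
      (p = 2 → Nonempty (X ≃* Cfsg.semiaffineGroup (GaloisField 2 3)) ∨
               Nonempty (X ≃* Cfsg.affineGroup (GaloisField 2 3)))) ∨
    (n = 5 ∧ p = 2 ∧ Nonempty (X ≃* Cfsg.semiaffineGroup (GaloisField 2 5))) := by
  classical
  letI : CommGroup E := { (inferInstance : Group E) with
    mul_comm := fun a b => Subtype.ext (hEc a a.2 b b.2) }
  have hVp : ∀ v : Additive E, p • v = 0 := fun v => by
    show Additive.ofMul ((Additive.toMul v) ^ p) = 0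
    have : (Additive.toMul v) ^ p = 1 := Subtype.ext (by
      rw [Subgroup.coe_pow]; exact hEp _ (Additive.toMul v).2)
    rw [this]; rfl
  letI : Module (ZMod p) (Additive E) := AddCommGroup.zmodModule hVp
  obtain ⟨hcases, ⟨f, hf⟩, N₂, hcount, hN₂⟩ :=
    sa_abstract (p := p) E (V := Additive E) Additive.ofMul (fun a b => rfl) n hn hcard hidx hCE
      hsolv htrans
  have hEX : p ^ n ∣ Nat.card X := by rw [← hcard]; exact Subgroup.card_subgroup_dvd_card E
  have hXS := Subgroup.card_dvd_of_injective f hf
  rcases hcases with rfl | ⟨rfl, rfl⟩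
  · left
    refine ⟨rfl, ⟨f, hf⟩, ?_⟩
    intro hp2
    subst hp2
    rw [card_semiaffine_galois 2 3 (by norm_num)] at hXS
    have hN7 : N₂ = 7 := by norm_num at hcount; omega
    subst hN7
    have h56 : 56 ∣ Nat.card X :=
      Nat.Coprime.mul_dvd_of_dvd_of_dvd (by norm_num : Nat.Coprime 8 7) hEX hN₂
    have hX : Nat.card X = 56 ∨ Nat.card X = 168 := by
      obtain ⟨a, ha⟩ := h56
      have hle := Nat.le_of_dvd (by norm_num) hXS
      have ha3 : a ≤ 3 := by norm_num at hle; omega
      have ha0 : 0 < a := by
        rcases Nat.eq_zero_or_pos a with h | h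
        · rw [h, mul_zero] at ha
          have : 0 < Nat.card X := Nat.card_pos
          omega
        · exact h
      interval_cases a
      · left; omega
      · exfalso; rw [ha] at hXS; norm_num at hXS
      · right; omega
    rcases hX with hX | hX
    · -- order `56`: the image lies in the affine group
      right
      have haut : ∀ x : X, saAut _ (f x) = 1 := by
        intro x
        have h1 : orderOf (saAut _ (f x)) ∣ 3 := by
          have := orderOf_dvd_natCard (saAut (GaloisField 2 3) (f x))
          rwa [card_ringAut 2 3 (GaloisField.card 2 3 (by norm_num))] at this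
        have h2 : orderOf (saAut _ (f x)) ∣ 56 := by
          have h3 : orderOf (saAut _ (f x)) ∣ orderOf x :=
            orderOf_map_dvd ((saAut (GaloisField 2 3)).comp f) x
          have h4 := orderOf_dvd_natCard x
          rw [hX] at h4
          exact h3.trans h4
        have h5 : orderOf (saAut _ (f x)) ∣ Nat.gcd 3 56 := Nat.dvd_gcd h1 h2
        have h6 : orderOf (saAut _ (f x)) = 1 := by
          have : Nat.gcd 3 56 = 1 := by norm_num
          rw [this] at h5
          exact Nat.dvd_one.1 h5
        exact orderOf_eq_one_iff.1 h6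
      have hmem : ∀ x : X, ((f x : Cfsg.semiaffineGroup (GaloisField 2 3)) :
          Equiv.Perm (GaloisField 2 3)) ∈ Cfsg.affineGroup (GaloisField 2 3) :=
        fun x => mem_affine_of_saAut_eq_one _ (haut x)
      let f' : X →* Cfsg.affineGroup (GaloisField 2 3) :=
        ((Cfsg.semiaffineGroup (GaloisField 2 3)).subtype.comp f).codRestrict _ hmem
      have hf' : Function.Injective f' := by
        intro a b hab
        apply hf
        apply Subtype.ext
        have := congrArg (fun s : Cfsg.affineGroup (GaloisField 2 3) =>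
          (s : Equiv.Perm (GaloisField 2 3))) hab
        exact this
      have hbij : Function.Bijective f' := by
        apply hf'.bijective_of_nat_card_le
        rw [card_affine_galois 2 3 (by norm_num), hX]
        norm_num
      exact ⟨MulEquiv.ofBijective f' hbij⟩
    · left
      have hbij : Function.Bijective f := by
        apply hf.bijective_of_nat_card_le
        rw [card_semiaffine_galois 2 3 (by norm_num), hX]
        norm_num
      exact ⟨MulEquiv.ofBijective f hbij⟩
  · right
    refine ⟨rfl, rfl, ?_⟩
    rw [card_semiaffine_galois 2 5 (by norm_num)] at hXS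
    have hN : N₂ = 155 := by norm_num at hcount; omega
    subst hN
    have h4960 : 4960 ∣ Nat.card X :=
      Nat.Coprime.mul_dvd_of_dvd_of_dvd (by norm_num : Nat.Coprime 32 155) hEX hN₂
    have hX : Nat.card X = 4960 := by
      apply Nat.dvd_antisymm _ h4960
      have : (2 ^ 5 - 1) * 2 ^ 5 * 5 = 4960 := by norm_num
      rwa [this] at hXS
    have hbij : Function.Bijective f := by
      apply hf.bijective_of_nat_card_le
      rw [card_semiaffine_galois 2 5 (by norm_num), hX]
      norm_num
    exact ⟨MulEquiv.ofBijective f hbij⟩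

end Cfsg.Agent.Helper58.SA
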