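/-
Helper58: group-theoretic pieces for S4025: Burnside fusion for subgroups of an abelian Sylow
subgroup, and the centralizer of an abelian normal Sylow subgroup.
-/
import Mathlib
import Cfsg.Agent.Lib.Cores

set_option autoImplicit false

namespace Cfsg.Agent.Helper58.SA

open Subgroup MulAction

/-- Burnside's fusion argument for subgroups of an abelian Sylow subgroup. -/
theorem fusion_subgroup {G : Type*} [Group G] [Finite G] {p : ℕ} [Fact p.Prime] (P : Sylow p G)
    (hab : ∀ a ∈ (P : Subgroup G), ∀ b ∈ (P : Subgroup G), a * b = b * a)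
    (Y : Subgroup G) (hY : Y ≤ P) (g : G) (hg : ∀ y ∈ Y, g * y * g⁻¹ ∈ (P : Subgroup G)) :
    ∃ n ∈ Subgroup.normalizer ((P : Subgroup G) : Set G), ∀ y ∈ Y, n * y * n⁻¹ = g * y * g⁻¹ := by
  obtain ⟨S, hS⟩ : ∃ S : Set G, S = {z | ∃ y ∈ Y, z = g * y * g⁻¹} := ⟨_, rfl⟩
  have h1 : (P : Subgroup G) ≤ centralizer S := by
    intro a ha
    rw [mem_centralizer_iff]
    intro z hz
    rw [hS] at hz
    obtain ⟨y, hy, rfl⟩ := hz
    exact hab _ (hg y hy) a ha
  have h2 : ↑(g • P) ≤ centralizer S := by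
    rintro - ⟨a, ha, rfl⟩
    rw [mem_centralizer_iff]
    intro z hz
    rw [hS] at hz
    obtain ⟨y, hy, rfl⟩ := hz
    show g * y * g⁻¹ * (g * a * g⁻¹) = g * a * g⁻¹ * (g * y * g⁻¹)
    have := hab y (hY hy) a ha
    calc g * y * g⁻¹ * (g * a * g⁻¹) = g * (y * a) * g⁻¹ := by group
      _ = g * (a * y) * g⁻¹ := by rw [this]
      _ = g * a * g⁻¹ * (g * y * g⁻¹) := by group
  obtain ⟨h, hh⟩ := exists_smul_eq (centralizer S) ((g • P).subtype h2) (P.subtype h1)
  simp_rw [Sylow.smul_subtype, Subgroup.smul_def, smul_smul] at hh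
  refine ⟨h * g, Sylow.smul_eq_iff_mem_normalizer.mp (Sylow.subtype_injective hh), ?_⟩
  intro y hy
  have hc := h.prop (g * y * g⁻¹) (by rw [hS]; exact ⟨y, hy, rfl⟩)
  calc (h : G) * g * y * ((h : G) * g)⁻¹ = (h : G) * (g * y * g⁻¹) * (h : G)⁻¹ := by group
    _ = g * y * g⁻¹ * (h : G) * (h : G)⁻¹ := by rw [hc]
    _ = g * y * g⁻¹ := by group

/-- The centralizer of an abelian normal Sylow `p`-subgroup `R` lies in `R · O_{p'}`. -/
theorem centralizer_le_sup {M : Type*} [Group M] [Finite M] (p : ℕ) [hp : Fact p.Prime]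
    (R : Subgroup M) [hRn : R.Normal] (hRp : IsPGroup p R) (hRidx : ¬ p ∣ R.index)
    (hRab : ∀ a ∈ R, ∀ b ∈ R, a * b = b * a) :
    ∀ c ∈ centralizer (R : Set M), ∃ a ∈ R, ∃ q ∈ Cfsg.pPrimeCore p M, c = a * q := by
  classical
  obtain ⟨C, hC⟩ : ∃ C : Subgroup M, C = centralizer (R : Set M) := ⟨_, rfl⟩
  haveI hCn : C.Normal := by rw [hC]; infer_instance
  have hRC : R ≤ C := by
    intro a ha
    rw [hC, mem_centralizer_iff]
    intro b hb
    exact hRab b hb a ha
  obtain ⟨k, hk⟩ := IsPGroup.iff_card.1 hRp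
  have hcop : Nat.Coprime (Nat.card (R.subgroupOf C)) (R.subgroupOf C).index := by
    rw [Nat.card_congr (subgroupOfEquivOfLe hRC).toEquiv, hk]
    apply Nat.Coprime.pow_left
    rw [Nat.Prime.coprime_iff_not_dvd hp.out]
    intro h
    exact hRidx (h.trans (relIndex_dvd_index_of_le hRC))
  obtain ⟨Q, hQ⟩ := exists_right_complement'_of_coprime hcop
  obtain ⟨m, hm⟩ : ∃ m, m = Nat.card Q := ⟨_, rfl⟩
  have hmidx : m = (R.subgroupOf C).index := by
    have h1 := hQ.card_mul_card
    have h2 := (R.subgroupOf C).card_mul_index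
    rw [← h2] at h1
    rw [hm]
    exact Nat.eq_of_mul_eq_mul_left Nat.card_pos h1
  have hmp : Nat.Coprime m p := by
    rw [Nat.coprime_comm, Nat.Prime.coprime_iff_not_dvd hp.out, hmidx]
    intro h
    exact hRidx (h.trans (relIndex_dvd_index_of_le hRC))
  -- decomposition of elements of `C`
  have hdec : ∀ c : C, ∃ a : C, (a : M) ∈ R ∧ ∃ q ∈ Q, c = a * q := by
    intro c
    obtain ⟨⟨a, q⟩, hx, -⟩ := Subgroup.IsComplement.existsUnique hQ c
    exact ⟨a.1, a.2, q.1, q.2, hx.symm⟩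
  -- characterisation of `Q`
  have hchar : ∀ c : C, c ∈ Q ↔ c ^ m = 1 := by
    intro c
    constructor
    · intro hc
      have := pow_card_eq_one' (G := Q) (x := ⟨c, hc⟩)
      rw [hm]
      exact congrArg Subtype.val this
    · intro hc
      obtain ⟨a, haR, q, hq, rfl⟩ := hdec c
      have hcomm : Commute a q := by
        apply Subtype.ext
        have hq' : (q : M) ∈ centralizer (R : Set M) := by rw [← hC]; exact q.2
        rw [mem_centralizer_iff] at hq'
        exact hq' a haR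
      rw [hcomm.mul_pow] at hc
      have hqm : q ^ m = 1 := by
        have := pow_card_eq_one' (G := Q) (x := ⟨q, hq⟩)
        rw [hm]
        exact congrArg Subtype.val this
      rw [hqm, mul_one] at hc
      have hapk : a ^ (p ^ k) = 1 := by
        have := pow_card_eq_one' (G := R) (x := ⟨a, haR⟩)
        rw [hk] at this
        apply Subtype.ext
        have h' := congrArg (fun r : R => (r : M)) this
        simpa using h'
      have ha1 : a = 1 := by
        have h1 : orderOf a ∣ m := orderOf_dvd_of_pow_eq_one hc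
        have h2 : orderOf a ∣ p ^ k := orderOf_dvd_of_pow_eq_one hapk
        have h3 : orderOf a ∣ Nat.gcd m (p ^ k) := Nat.dvd_gcd h1 h2
        have h4 : Nat.gcd m (p ^ k) = 1 := Nat.Coprime.pow_right k hmp
        rw [h4] at h3
        exact orderOf_eq_one_iff.1 (Nat.dvd_one.1 h3)
      rw [ha1, one_mul]
      exact hq
  -- the image of `Q` in `M` is a normal `p'`-subgroup
  have hQn : (Q.map C.subtype).Normal := by
    refine ⟨fun x hx g => ?_⟩
    obtain ⟨c, hc, rfl⟩ := hx
    have hmem : g * (c : M) * g⁻¹ ∈ C := hCn.conj_mem _ c.2 g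
    refine ⟨⟨_, hmem⟩, ?_, rfl⟩
    show (⟨g * (c : M) * g⁻¹, hmem⟩ : C) ∈ Q
    rw [hchar]
    apply Subtype.ext
    rw [Subgroup.coe_pow]
    show (g * (c : M) * g⁻¹) ^ m = 1
    rw [conj_pow]
    have := (hchar c).1 hc
    have h' : (c : M) ^ m = 1 := by
      rw [← Subgroup.coe_pow, this]; rfl
    rw [h', mul_one, mul_inv_cancel]
  have hQcard : (Nat.card (Q.map C.subtype)).Coprime p := by
    rw [Nat.card_congr (Q.equivMapOfInjective C.subtype C.subtype_injective).symm.toEquiv, ← hm]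
    exact hmp
  have hQle := Cfsg.Agent.Lib.le_pPrimeCore hQn hQcard
  intro c hc
  rw [← hC] at hc
  obtain ⟨a, haR, q, hq, hcq⟩ := hdec ⟨c, hc⟩
  refine ⟨a, haR, q, hQle ⟨q, hq, rfl⟩, ?_⟩
  exact congrArg Subtype.val hcq

end Cfsg.Agent.Helper58.SA
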