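import Mathlib
import Cfsg.Agent.Helper58.SLGrp2

/-!
# The structure of the centralizer of a maximal abelian normal subgroup (helper58)
-/

set_option autoImplicit false

namespace Cfsg.Agent.Helper58.SL

open scoped commutatorElement
open QuaternionGroup

variable {G : Type*} [Group G]

/-- two involutions in a `2`-group with a unique subgroup of order `2` are equal -/
theorem invol_unique
    (hU : ∀ (p : ℕ) [Fact p.Prime] (P : Subgroup G), IsPGroup p P →
      Cfsg.Agent.Helper73.UniqueOrderP p P)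
    (T : Subgroup G) (hT : IsPGroup 2 T) {u w : G} (hu : u ∈ T) (hw : w ∈ T)
    (hu2 : orderOf u = 2) (hw2 : orderOf w = 2) : u = w := by
  haveI : Fact (Nat.Prime 2) := ⟨Nat.prime_two⟩
  have h := hU 2 T hT ⟨u, hu⟩ ⟨w, hw⟩ (by rw [← hu2]; exact Subgroup.orderOf_mk u hu)
    (by rw [← hw2]; exact Subgroup.orderOf_mk w hw)
  obtain ⟨k, hk⟩ := Subgroup.mem_zpowers_iff.1 h
  have hk' : u ^ k = w := by
    have := congrArg Subtype.val hk
    simpa using this
  have h1 : u ^ (k % (orderOf u : ℤ)) = u ^ k := zpow_mod_orderOf u k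
  rw [hu2] at h1
  have hw1 : w ≠ 1 := by
    intro h; rw [h, orderOf_one] at hw2; omega
  rcases Int.emod_two_eq_zero_or_one k with h0 | h0
  · exfalso
    apply hw1
    rw [← hk', ← h1]
    have : k % ((2 : ℕ) : ℤ) = 0 := by exact_mod_cast h0
    rw [this, zpow_zero]
  · rw [← hk', ← h1]
    have : k % ((2 : ℕ) : ℤ) = 1 := by exact_mod_cast h0
    rw [this, zpow_one]

theorem card_of_q8 {R : Type*} [Group R] (φ : R ≃* QuaternionGroup 2) : Nat.card R = 8 := by
  rw [Nat.card_congr φ.toEquiv, Nat.card_eq_fintype_card, QuaternionGroup.card]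

theorem q8_a1_sq_ne : (a 1 : QuaternionGroup 2) ^ 2 ≠ 1 := by decide

theorem q8_a1_pow_four : (a 1 : QuaternionGroup 2) ^ 4 = 1 := by decide

theorem q8_central_sq : ∀ z : QuaternionGroup 2, (∀ y, z * y = y * z) → z ^ 2 = 1 := by decide

/-- **Case II**: if the maximal abelian normal subgroup `A` is not self-centralizing, its
centralizer contains a normal quaternion group `R` with `C_C(R) = A` and `|C : A|` divides `24`. -/
theorem case_two_structure [Finite G]
    (hsol : Group.IsSolvable G)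
    (hU : ∀ (p : ℕ) [Fact p.Prime] (P : Subgroup G), IsPGroup p P →
      Cfsg.Agent.Helper73.UniqueOrderP p P)
    (A : Subgroup G) [hAn : A.Normal] (hAc : ∀ a ∈ A, ∀ b ∈ A, a * b = b * a)
    (hmax : ∀ B : Subgroup G, B.Normal → (∀ a ∈ B, ∀ b ∈ B, a * b = b * a) → A ≤ B → B = A)
    (hCA : Subgroup.centralizer (A : Set G) ≠ A) :
    ∃ R : Subgroup G, R.Normal ∧ R ≤ Subgroup.centralizer (A : Set G) ∧
      Nonempty (R ≃* QuaternionGroup 2) ∧
      Subgroup.centralizer (A : Set G) ⊓ Subgroup.centralizer (R : Set G) = A ∧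
      Nat.card (Subgroup.centralizer (A : Set G)) ∣ 24 * Nat.card A := by
  classical
  haveI : Fact (Nat.Prime 2) := ⟨Nat.prime_two⟩
  set C := Subgroup.centralizer (A : Set G) with hC
  have hAC : A ≤ C := by
    intro a ha; rw [Subgroup.mem_centralizer_iff]; intro b hb; exact hAc b hb a ha
  obtain ⟨R, hRn, hRC, ⟨φ⟩⟩ := exists_normal_q8 hsol hU A hAc hmax C hAC le_rfl hCA
  haveI := hRn
  have hAR : A ≤ Subgroup.centralizer (R : Set G) := by
    rw [Subgroup.le_centralizer_iff]; exact hRC
  have hR2 : IsPGroup 2 R := IsPGroup.of_card (n := 3) (by rw [card_of_q8 φ]; norm_num)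
  have hinf : C ⊓ Subgroup.centralizer (R : Set G) = A := by
    by_contra hne2
    have hle : A ≤ C ⊓ Subgroup.centralizer (R : Set G) := le_inf hAC hAR
    obtain ⟨R₂, hR₂n, hR₂B, ⟨φ₂⟩⟩ := exists_normal_q8 hsol hU A hAc hmax
      (C ⊓ Subgroup.centralizer (R : Set G)) hle inf_le_left hne2
    haveI := hR₂n
    have hR₂2 : IsPGroup 2 R₂ := IsPGroup.of_card (n := 3) (by rw [card_of_q8 φ₂]; norm_num)
    have hT : IsPGroup 2 (R ⊔ R₂ : Subgroup G) := IsPGroup.to_sup_of_normal_right hR2 hR₂2
    -- elements of order 4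
    set x : G := ((φ.symm (a 1) : R) : G) with hx
    set y : G := ((φ₂.symm (a 1) : R₂) : G) with hy
    have hxR : x ∈ R := (φ.symm (a 1)).2
    have hyR₂ : y ∈ R₂ := (φ₂.symm (a 1)).2
    have hpow : ∀ {S : Subgroup G} (ψ : S ≃* QuaternionGroup 2) (n : ℕ),
        ((ψ.symm (a 1) : S) : G) ^ n = ((ψ.symm ((a 1) ^ n) : S) : G) := by
      intro S ψ n
      rw [map_pow, Subgroup.coe_pow]
    have hx2 : x ^ 2 ≠ 1 := by
      intro h
      rw [hx, hpow φ 2] at h
      have h1 : φ.symm ((a 1) ^ 2) = 1 := Subtype.ext h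
      rw [MulEquiv.map_eq_one_iff] at h1
      exact q8_a1_sq_ne h1
    have hy2 : y ^ 2 ≠ 1 := by
      intro h
      rw [hy, hpow φ₂ 2] at h
      have h1 : φ₂.symm ((a 1) ^ 2) = 1 := Subtype.ext h
      rw [MulEquiv.map_eq_one_iff] at h1
      exact q8_a1_sq_ne h1
    have hx4 : x ^ 4 = 1 := by
      rw [hx, hpow φ 4, q8_a1_pow_four, map_one]; rfl
    have hy4 : y ^ 4 = 1 := by
      rw [hy, hpow φ₂ 4, q8_a1_pow_four, map_one]; rfl
    have hord2 : ∀ g : G, g ^ 2 = 1 → g ≠ 1 → orderOf g = 2 := by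
      intro g h2 h1
      exact orderOf_eq_prime h2 h1
    have hycR : y ∈ Subgroup.centralizer (R : Set G) := (Subgroup.mem_inf.1 (hR₂B hyR₂)).2
    have hxy : x * y = y * x := by
      have := hycR
      rw [Subgroup.mem_centralizer_iff] at this
      exact this x hxR
    have hx2o : orderOf (x ^ 2) = 2 := hord2 _ (by rw [← pow_mul]; exact hx4) hx2
    have hy2o : orderOf (y ^ 2) = 2 := hord2 _ (by rw [← pow_mul]; exact hy4) hy2
    have hxT : x ∈ R ⊔ R₂ := (le_sup_left : R ≤ R ⊔ R₂) hxR
    have hyT : y ∈ R ⊔ R₂ := (le_sup_right : R₂ ≤ R ⊔ R₂) hyR₂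
    have hsq : x ^ 2 = y ^ 2 :=
      invol_unique hU _ hT (Subgroup.pow_mem _ hxT 2) (Subgroup.pow_mem _ hyT 2) hx2o hy2o
    -- `y ∈ R`
    have hyR : y ∈ R := by
      have hv2 : (x * y⁻¹) ^ 2 = 1 := by
        have hc : Commute x y⁻¹ := (Commute.inv_right hxy)
        rw [hc.mul_pow, inv_pow, hsq, mul_inv_cancel]
      by_cases hv1 : x * y⁻¹ = 1
      · have : y = x := by
          have := mul_inv_eq_one.1 hv1
          exact this.symm
        rw [this]; exact hxR
      · have hvo := hord2 _ hv2 hv1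
        have hvT : x * y⁻¹ ∈ R ⊔ R₂ := Subgroup.mul_mem _ hxT (Subgroup.inv_mem _ hyT)
        have h3 := invol_unique hU _ hT hvT (Subgroup.pow_mem _ hxT 2) hvo hx2o
        -- x * y⁻¹ = x ^ 2
        have : y = x⁻¹ := by
          have h4 : y⁻¹ = x := by
            have : x * y⁻¹ = x * x := by rw [h3, pow_two]
            exact mul_left_cancel this
          rw [← h4, inv_inv]
        rw [this]; exact Subgroup.inv_mem _ hxR
    -- `y` is central in `R`
    have hycen : ∀ r : R, (⟨y, hyR⟩ : R) * r = r * ⟨y, hyR⟩ := by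
      intro r
      apply Subtype.ext
      have := hycR
      rw [Subgroup.mem_centralizer_iff] at this
      exact (this r r.2).symm
    have h5 : (φ ⟨y, hyR⟩) ^ 2 = 1 := by
      apply q8_central_sq
      intro z
      have := hycen (φ.symm z)
      have h6 := congrArg φ this
      rw [map_mul, map_mul, MulEquiv.apply_symm_apply] at h6
      exact h6
    rw [← map_pow, MulEquiv.map_eq_one_iff] at h5
    apply hy2
    have := congrArg Subtype.val h5
    simpa using this
  refine ⟨R, hRn, hRC, ⟨φ⟩, hinf, ?_⟩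
  -- the conjugation action of `C` on `R`
  let κ : C →* MulAut R := (MulAut.conjNormal).comp C.subtype
  have hker : κ.ker = A.subgroupOf C := by
    ext c
    rw [MonoidHom.mem_ker, Subgroup.mem_subgroupOf, ← hinf, Subgroup.mem_inf]
    constructor
    · intro h
      refine ⟨c.2, ?_⟩
      rw [Subgroup.mem_centralizer_iff]
      intro r hr
      have h1 := congrArg (fun f : MulAut R => ((f ⟨r, hr⟩ : R) : G)) h
      simp only [κ, MonoidHom.comp_apply, Subgroup.subtype_apply, MulAut.conjNormal_apply,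
        MulAut.one_apply] at h1
      calc r * c = (c * r * (c : G)⁻¹) * c := by rw [h1]
        _ = c * r := by group
    · intro h
      have h2 := h.2
      rw [Subgroup.mem_centralizer_iff] at h2
      ext r
      simp only [κ, MonoidHom.comp_apply, Subgroup.subtype_apply, MulAut.conjNormal_apply,
        MulAut.one_apply]
      rw [← h2 r r.2]; group
  have h1 := Subgroup.card_mul_index κ.ker
  rw [Subgroup.index_ker, hker, Nat.card_congr (Subgroup.subgroupOfEquivOfLe hAC).toEquiv] at h1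
  have h2 : Nat.card κ.range ∣ 24 := by
    have h3 : Nat.card κ.range ∣ Nat.card (MulAut R) := Subgroup.card_subgroup_dvd_card _
    rw [Nat.card_congr (MulAut.congr φ).toEquiv] at h3
    exact h3.trans card_mulAut_q8_dvd
  rw [← h1, mul_comm]
  exact Nat.mul_dvd_mul_right h2 _

end Cfsg.Agent.Helper58.SL
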