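import Mathlib
import Cfsg.Agent.Helper58.SLGrp1
import Cfsg.Agent.Helper58.SLGrp3

/-!
# Normal subgroups of index 2 in the quaternion case (helper58)
-/

set_option autoImplicit false

namespace Cfsg.Agent.Helper58.SL

open QuaternionGroup

variable {G : Type*} [Group G]

theorem exists_index_two_of_quotient (W : Subgroup G) [W.Normal]
    (h : ∃ M : Subgroup (G ⧸ W), M.Normal ∧ M.index = 2) :
    ∃ N : Subgroup G, N.Normal ∧ N.index = 2 := by
  obtain ⟨M, hMn, hM⟩ := h
  refine ⟨M.comap (QuotientGroup.mk' W), Subgroup.Normal.comap hMn _, ?_⟩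
  rw [Subgroup.index_comap_of_surjective _ (QuotientGroup.mk'_surjective W), hM]

theorem exists_index_two_of_card_four {X : Type*} [Group X] (h : Nat.card X = 4) :
    ∃ M : Subgroup X, M.Normal ∧ M.index = 2 := by
  haveI : Fact (Nat.Prime 2) := ⟨Nat.prime_two⟩
  haveI : Finite X := Nat.finite_of_card_ne_zero (by omega)
  obtain ⟨K, hK⟩ := Sylow.exists_subgroup_card_pow_prime (G := X) 2 (n := 1)
    (by rw [h]; norm_num)
  have h1 := Subgroup.card_mul_index K
  rw [hK, h] at h1
  have h2 : K.index = 2 := by omega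
  exact ⟨K, Subgroup.normal_of_index_eq_two h2, h2⟩

theorem exists_index_two_of_card_two_or_six {X : Type*} [Group X]
    (h : Nat.card X = 2 ∨ Nat.card X = 6) : ∃ M : Subgroup X, M.Normal ∧ M.index = 2 := by
  haveI : Fact (Nat.Prime 2) := ⟨Nat.prime_two⟩
  haveI : Finite X := Nat.finite_of_card_ne_zero (by omega)
  obtain ⟨P⟩ : Nonempty (Sylow 2 X) := inferInstance
  obtain ⟨k, hk⟩ := IsPGroup.iff_card.1 P.isPGroup'
  have hnd := P.not_dvd_index
  have h1 := Subgroup.card_mul_index (P : Subgroup X)
  have hk1 : Nat.card P = 2 := by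
    rcases k with _ | _ | k
    · exfalso
      rw [hk, pow_zero, one_mul] at h1
      apply hnd
      rw [h1]
      rcases h with h | h <;> rw [h] <;> norm_num
    · rw [hk]; norm_num
    · exfalso
      have h4 : 4 ∣ Nat.card X := by
        rw [← h1, hk]
        exact Dvd.dvd.mul_right (by rw [pow_succ, pow_succ]; exact ⟨2 ^ k, by ring⟩) _
      rcases h with h | h <;> rw [h] at h4 <;> omega
  have hcyc : IsCyclic P := isCyclic_of_prime_card hk1
  apply exists_index_two_of_cyclic_sylow P hcyc
  rcases h with h | h <;> rw [h] <;> norm_num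

theorem q8_a2_central : ∀ y : QuaternionGroup 2, y * a 2 = a 2 * y := by decide

theorem q8_a2_sq : (a 2 : QuaternionGroup 2) ^ 2 = 1 := by decide

theorem q8_a2_ne : (a 2 : QuaternionGroup 2) ≠ 1 := by decide

/-- **Part B, quaternion case**: if `A` is central, `C_G(R) = A` for a normal quaternion group
`R`, and `|G : A|` divides `24`, then `G` has a normal subgroup of index 2 or `|G : A| = 12`. -/
theorem index_two_or_twelve [Finite G] (A : Subgroup G) [hAn : A.Normal]
    (hAZ : ∀ a ∈ A, ∀ g : G, a * g = g * a)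
    (R : Subgroup G) [hRn : R.Normal] (φ : R ≃* QuaternionGroup 2)
    (hcent : Subgroup.centralizer (R : Set G) = A)
    (hdvd : Nat.card G ∣ 24 * Nat.card A) :
    (∃ N : Subgroup G, N.Normal ∧ N.index = 2) ∨ A.index = 12 := by
  classical
  haveI : Fact (Nat.Prime 2) := ⟨Nat.prime_two⟩
  -- the central involution
  set z : G := ((φ.symm (a 2) : R) : G) with hz
  have hzR : z ∈ R := (φ.symm (a 2)).2
  have hzA : z ∈ A := by
    rw [← hcent, Subgroup.mem_centralizer_iff]
    intro r hr
    have : (⟨r, hr⟩ : R) * φ.symm (a 2) = φ.symm (a 2) * ⟨r, hr⟩ := by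
      apply φ.injective
      rw [map_mul, map_mul, MulEquiv.apply_symm_apply]
      exact q8_a2_central (φ ⟨r, hr⟩)
    exact congrArg Subtype.val this
  have hzo : orderOf z = 2 := by
    apply orderOf_eq_prime
    · have : (φ.symm (a 2)) ^ 2 = 1 := by rw [← map_pow, q8_a2_sq, map_one]
      have := congrArg Subtype.val this
      simpa using this
    · intro h
      have : φ.symm (a 2) = 1 := Subtype.ext h
      rw [MulEquiv.map_eq_one_iff] at this
      exact q8_a2_ne this
  have hAR : A ⊓ R = Subgroup.zpowers z := by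
    apply le_antisymm
    · intro r hr
      obtain ⟨hrA, hrR⟩ := Subgroup.mem_inf.1 hr
      have hcen : ∀ y : QuaternionGroup 2, φ ⟨r, hrR⟩ * y = y * φ ⟨r, hrR⟩ := by
        intro y
        have h1 : (⟨r, hrR⟩ : R) * φ.symm y = φ.symm y * ⟨r, hrR⟩ := Subtype.ext (hAZ r hrA _)
        have h2 := congrArg φ h1
        rwa [map_mul, map_mul, MulEquiv.apply_symm_apply] at h2
      rcases q8_central _ hcen with h | h
      · have h1 : (⟨r, hrR⟩ : R) = 1 := by rwa [MulEquiv.map_eq_one_iff] at h
        have h2 : r = 1 := congrArg Subtype.val h1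
        rw [h2]; exact Subgroup.one_mem _
      · have h1 : (⟨r, hrR⟩ : R) = φ.symm (a 2) := by rw [← h, MulEquiv.symm_apply_apply]
        have h2 : r = z := congrArg Subtype.val h1
        rw [h2]; exact Subgroup.mem_zpowers z
    · rw [Subgroup.zpowers_le]; exact Subgroup.mem_inf.2 ⟨hzA, hzR⟩
  have hcard2 : Nat.card (A ⊓ R : Subgroup G) = 2 := by rw [hAR, Nat.card_zpowers, hzo]
  have h4 : A.relIndex (A ⊔ R) = 4 := by
    rw [Subgroup.relIndex_sup_left, ← Subgroup.inf_relIndex_right]
    have h1 := Subgroup.relIndex_mul_relIndex (⊥ : Subgroup G) (A ⊓ R) R bot_le inf_le_right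
    rw [Subgroup.relIndex_bot_left, Subgroup.relIndex_bot_left, hcard2, card_of_q8 φ] at h1
    omega
  have hWn : (A ⊔ R).Normal := inferInstance
  have h5 := Subgroup.relIndex_mul_index (le_sup_left : A ≤ A ⊔ R)
  rw [h4] at h5
  have h6 := Subgroup.card_mul_index A
  have h7 : A.index ∣ 24 := by
    rw [← h6, mul_comm 24] at hdvd
    exact (Nat.mul_dvd_mul_iff_left Nat.card_pos).1 hdvd
  have h8 : (A ⊔ R).index ∣ 6 := by
    rw [← h5] at h7
    have : 4 * (A ⊔ R).index ∣ 4 * 6 := h7
    exact (Nat.mul_dvd_mul_iff_left (by norm_num)).1 this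
  have h9 : (A ⊔ R).index = 1 ∨ (A ⊔ R).index = 2 ∨ (A ⊔ R).index = 3 ∨ (A ⊔ R).index = 6 := by
    have hle := Nat.le_of_dvd (by norm_num) h8
    have hpos : 0 < (A ⊔ R).index := Nat.pos_of_dvd_of_pos h8 (by norm_num)
    generalize (A ⊔ R).index = m at *
    interval_cases m <;> simp_all
  rcases h9 with h | h | h | h
  · left
    apply exists_index_two_of_quotient A
    apply exists_index_two_of_card_four
    rw [← Subgroup.index_eq_card, ← h5, h]
  · left
    apply exists_index_two_of_quotient (A ⊔ R)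
    apply exists_index_two_of_card_two_or_six
    rw [← Subgroup.index_eq_card, h]; left; rfl
  · right
    rw [← h5, h]
  · left
    apply exists_index_two_of_quotient (A ⊔ R)
    apply exists_index_two_of_card_two_or_six
    rw [← Subgroup.index_eq_card, h]; right; rfl

end Cfsg.Agent.Helper58.SL
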