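import Mathlib
import Cfsg.Agent.Helper58.SLGrp4
import Cfsg.Agent.Helper2.SL23Rec

/-!
# Recognizing `SL(2,3)` from a normal quaternion subgroup (helper58)
-/

set_option autoImplicit false

namespace Cfsg.Agent.Helper58.SL

open QuaternionGroup

theorem q8_sq_one : ∀ x : QuaternionGroup 2, x ^ 2 = 1 → x = 1 ∨ x = a 2 := by decide

theorem q8_rel : ∀ X Y : QuaternionGroup 2, X ^ 2 ≠ 1 → Y ^ 2 ≠ 1 → Y ≠ X → Y ≠ X⁻¹ →
    X ^ 2 = X * Y * X⁻¹ * Y⁻¹ ∧ Y ^ 2 = X * Y * X⁻¹ * Y⁻¹ ∧ (X * Y * X⁻¹ * Y⁻¹) ^ 2 = 1 ∧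
      X * Y * X⁻¹ * Y⁻¹ ≠ 1 := by decide

theorem q8_third : ∀ X Y W : QuaternionGroup 2, X ^ 2 ≠ 1 → Y ^ 2 ≠ 1 → W ^ 2 ≠ 1 → Y ≠ X →
    Y ≠ X⁻¹ → W ≠ X → W ≠ X⁻¹ → W ≠ Y → W ≠ Y⁻¹ → W = X * Y ∨ W = Y * X := by decide

/-- an automorphism of order 3 of `Q₈` -/
theorem q8_aut_aux (β : QuaternionGroup 2 ≃* QuaternionGroup 2) (h3 : ∀ r, β (β (β r)) = r)
    (hne : ∃ r, β r ≠ r) :
    ∃ x : QuaternionGroup 2, x ^ 2 = x * β x * x⁻¹ * (β x)⁻¹ ∧
      (β x) ^ 2 = x * β x * x⁻¹ * (β x)⁻¹ ∧ (x * β x * x⁻¹ * (β x)⁻¹) ^ 2 = 1 ∧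
      x * β x * x⁻¹ * (β x)⁻¹ ≠ 1 ∧ β (β x) = x * β x := by
  obtain ⟨x, hx⟩ := hne
  have hsq : ∀ r : QuaternionGroup 2, r ^ 2 ≠ 1 → (β r) ^ 2 ≠ 1 := by
    intro r hr h
    rw [← map_pow, MulEquiv.map_eq_one_iff] at h
    exact hr h
  have hfix2 : β (a 2) = a 2 := by
    have h1 : (β (a 2)) ^ 2 = 1 := by
      rw [← map_pow]
      have : (a 2 : QuaternionGroup 2) ^ 2 = 1 := by decide
      rw [this, map_one]
    rcases q8_sq_one _ h1 with h | h
    · exfalso
      rw [MulEquiv.map_eq_one_iff] at h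
      revert h; decide
    · exact h
  have hx2 : x ^ 2 ≠ 1 := by
    intro h
    rcases q8_sq_one _ h with h | h
    · apply hx; rw [h, map_one]
    · apply hx; rw [h, hfix2]
  set y := β x with hy
  set w := β y with hw
  have hwx : β w = x := h3 x
  have hy2 : y ^ 2 ≠ 1 := hsq x hx2
  have hw2 : w ^ 2 ≠ 1 := hsq y hy2
  have hinvne : ∀ r : QuaternionGroup 2, r ^ 2 ≠ 1 → r ≠ r⁻¹ := by
    intro r hr h
    apply hr
    rw [pow_two]
    nth_rewrite 2 [h]
    exact mul_inv_cancel r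
  have hyx : y ≠ x := hx
  have hyx' : y ≠ x⁻¹ := by
    intro h
    have h1 : β x⁻¹ = x := by rw [map_inv, ← hy, h, inv_inv]
    have h2 : w = x := by rw [hw, h, h1]
    have h3' : β w = x⁻¹ := by rw [h2, ← hy, h]
    rw [hwx] at h3'
    exact hinvne x hx2 h3'
  have hwy : w ≠ y := by
    intro h
    exact hyx (β.injective h)
  have hwy' : w ≠ y⁻¹ := by
    intro h
    have h1 : β y⁻¹ = y := by rw [map_inv, ← hw, h, inv_inv]
    have h2 : β (β (β y)) = y⁻¹ := by rw [← hw, h, h1, ← hw, h]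
    rw [h3 y] at h2
    exact hinvne y hy2 h2
  have hwx1 : w ≠ x := by
    intro h
    have : β w = β x := by rw [h]
    rw [hwx, ← hy] at this
    exact hyx this.symm
  have hwx' : w ≠ x⁻¹ := by
    intro h
    have : β w = β x⁻¹ := by rw [h]
    rw [hwx, map_inv, ← hy] at this
    apply hyx'
    rw [this, inv_inv]
  rcases q8_third x y w hx2 hy2 hw2 hyx hyx' hwx1 hwx' hwy hwy' with h | h
  · obtain ⟨r1, r2, r3, r4⟩ := q8_rel x y hx2 hy2 hyx hyx'
    exact ⟨x, r1, r2, r3, r4, h⟩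
  · have hx2' : (x⁻¹) ^ 2 ≠ 1 := by
      rw [inv_pow]; intro h'; exact hx2 (inv_eq_one.1 h')
    have hy2' : (y⁻¹) ^ 2 ≠ 1 := by
      rw [inv_pow]; intro h'; exact hy2 (inv_eq_one.1 h')
    have e1 : y⁻¹ ≠ x⁻¹ := fun h' => hyx (inv_injective h')
    have e2 : y⁻¹ ≠ (x⁻¹)⁻¹ := by
      rw [inv_inv]; intro h'; apply hyx'; rw [← h', inv_inv]
    obtain ⟨r1, r2, r3, r4⟩ := q8_rel x⁻¹ y⁻¹ hx2' hy2' e1 e2
    have hb : β x⁻¹ = y⁻¹ := by rw [map_inv]
    refine ⟨x⁻¹, ?_, ?_, ?_, ?_, ?_⟩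
    · rw [hb]; exact r1
    · rw [hb]; exact r2
    · rw [hb]; exact r3
    · rw [hb]; exact r4
    · rw [hb, map_inv, ← hw, h, mul_inv_rev]

theorem q8_aut {R : Type*} [Group R] (φ : R ≃* QuaternionGroup 2) (α : R ≃* R)
    (h3 : ∀ r, α (α (α r)) = r) (hne : ∃ r, α r ≠ r) :
    ∃ x : R, x ^ 2 = x * α x * x⁻¹ * (α x)⁻¹ ∧
      (α x) ^ 2 = x * α x * x⁻¹ * (α x)⁻¹ ∧ (x * α x * x⁻¹ * (α x)⁻¹) ^ 2 = 1 ∧
      x * α x * x⁻¹ * (α x)⁻¹ ≠ 1 ∧ α (α x) = x * α x := by
  let β : QuaternionGroup 2 ≃* QuaternionGroup 2 := φ.symm.trans (α.trans φ)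
  have hβ : ∀ X, β X = φ (α (φ.symm X)) := fun X => rfl
  have hβ3 : ∀ X, β (β (β X)) = X := by
    intro X
    rw [hβ, hβ, hβ, MulEquiv.symm_apply_apply, MulEquiv.symm_apply_apply, h3,
      MulEquiv.apply_symm_apply]
  have hβne : ∃ X, β X ≠ X := by
    obtain ⟨r, hr⟩ := hne
    refine ⟨φ r, ?_⟩
    rw [hβ, MulEquiv.symm_apply_apply]
    intro h; exact hr (φ.injective h)
  obtain ⟨X, r1, r2, r3, r4, r5⟩ := q8_aut_aux β hβ3 hβne
  refine ⟨φ.symm X, ?_, ?_, ?_, ?_, ?_⟩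
  · apply φ.injective
    rw [map_pow, map_mul, map_mul, map_mul, map_inv, map_inv, MulEquiv.apply_symm_apply, ← hβ]
    exact r1
  · apply φ.injective
    rw [map_pow, map_mul, map_mul, map_mul, map_inv, map_inv, MulEquiv.apply_symm_apply, ← hβ]
    exact r2
  · apply φ.injective
    rw [map_pow, map_mul, map_mul, map_mul, map_inv, map_inv, MulEquiv.apply_symm_apply, ← hβ,
      map_one]
    exact r3
  · intro h
    apply r4
    have h1 := congrArg φ h
    rw [map_mul, map_mul, map_mul, map_inv, map_inv, MulEquiv.apply_symm_apply, ← hβ,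
      map_one] at h1
    exact h1
  · apply φ.injective
    rw [map_mul, MulEquiv.apply_symm_apply, ← hβ]
    have : φ (α (α (φ.symm X))) = β (β X) := by
      rw [hβ, hβ, MulEquiv.symm_apply_apply]
    rw [this]
    exact r5

/-- **Recognition of `SL(2,3)`**: a normal quaternion subgroup `R` whose centralizer has order
prime to `3`, in a group of order divisible by `3`, lies in a subgroup isomorphic to `SL(2,3)`. -/
theorem exists_sl23 {G : Type*} [Group G] [Finite G] (A : Subgroup G)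
    (R : Subgroup G) [hRn : R.Normal] (φ : R ≃* QuaternionGroup 2)
    (hcent : Subgroup.centralizer (R : Set G) = A)
    (h3 : 3 ∣ Nat.card G) (h3A : ¬ 3 ∣ Nat.card A) :
    ∃ S : Subgroup G, Nonempty (S ≃* Matrix.SpecialLinearGroup (Fin 2) (ZMod 3)) := by
  classical
  haveI : Fact (Nat.Prime 3) := ⟨by norm_num⟩
  obtain ⟨g, hg⟩ := exists_prime_orderOf_dvd_card' 3 h3
  have hg3 : g ^ 3 = 1 := by rw [← hg]; exact pow_orderOf_eq_one g
  have hg1 : g ≠ 1 := by intro h; rw [h, orderOf_one] at hg; omega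
  have hgA : g ∉ A := by
    intro h
    apply h3A
    rw [← hg]
    exact Subgroup.orderOf_dvd_natCard A h
  let α : R ≃* R := MulAut.conjNormal g
  have hα : ∀ r : R, ((α r : R) : G) = g * r * g⁻¹ := fun r => MulAut.conjNormal_apply g r
  have hα3 : ∀ r, α (α (α r)) = r := by
    intro r
    apply Subtype.ext
    rw [hα, hα, hα]
    have hggg : g * g * g = 1 := by rw [← hg3, pow_succ, pow_two]
    calc g * (g * (g * r * g⁻¹) * g⁻¹) * g⁻¹ = (g * g * g) * r * (g * g * g)⁻¹ := by group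
      _ = r := by rw [hggg]; group
  have hαne : ∃ r, α r ≠ r := by
    by_contra hno
    push Not at hno
    apply hgA
    rw [← hcent, Subgroup.mem_centralizer_iff]
    intro r hr
    have h1 := congrArg Subtype.val (hno ⟨r, hr⟩)
    rw [hα] at h1
    calc r * g = (g * r * g⁻¹) * g := by rw [h1]
      _ = g * r := by group
  obtain ⟨x, r1, r2, r3, r4, r5⟩ := q8_aut φ α hα3 hαne
  obtain ⟨x₀, hx₀⟩ : ∃ x₀ : G, x₀ = (x : G) := ⟨_, rfl⟩
  obtain ⟨y₀, hy₀⟩ : ∃ y₀ : G, y₀ = ((α x : R) : G) := ⟨_, rfl⟩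
  have hgx : g * x₀ * g⁻¹ = y₀ := by rw [hx₀, hy₀]; exact (hα x).symm
  have hgy : g * y₀ * g⁻¹ = x₀ * y₀ := by
    have h1 := congrArg Subtype.val r5
    rw [hα] at h1
    rw [hx₀, hy₀]; exact h1
  have q1 : x₀ ^ 2 = x₀ * y₀ * x₀⁻¹ * y₀⁻¹ := by
    have h1 := congrArg Subtype.val r1
    rw [hx₀, hy₀]; exact h1
  have q2 : y₀ ^ 2 = x₀ * y₀ * x₀⁻¹ * y₀⁻¹ := by
    have h1 := congrArg Subtype.val r2
    rw [hx₀, hy₀]; exact h1
  have q3 : (x₀ * y₀ * x₀⁻¹ * y₀⁻¹) ^ 2 = 1 := by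
    have h1 := congrArg Subtype.val r3
    rw [hx₀, hy₀]; exact h1
  have q4 : x₀ * y₀ * x₀⁻¹ * y₀⁻¹ ≠ 1 := by
    intro h
    apply r4
    apply Subtype.ext
    rw [hx₀, hy₀] at h; exact h
  obtain ⟨S, hS⟩ : ∃ S : Subgroup G, S = Subgroup.closure ({x₀, y₀, g} : Set G) := ⟨_, rfl⟩
  have hxS : x₀ ∈ S := by rw [hS]; exact Subgroup.subset_closure (by simp)
  have hyS : y₀ ∈ S := by rw [hS]; exact Subgroup.subset_closure (by simp)
  have hgS : g ∈ S := by rw [hS]; exact Subgroup.subset_closure (by simp)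
  refine ⟨S, ?_⟩
  apply Cfsg.Agent.Helper2.nonempty_mulEquiv_sl23 (⟨x₀, hxS⟩ : S) ⟨y₀, hyS⟩ ⟨g, hgS⟩
  · exact Subtype.ext q1
  · exact Subtype.ext q2
  · exact Subtype.ext q3
  · intro h; exact q4 (congrArg Subtype.val h)
  · exact Subtype.ext hgx
  · exact Subtype.ext hgy
  · exact Subtype.ext hg3
  · intro h; exact hg1 (congrArg Subtype.val h)
  · subst hS
    have h1 := Subgroup.closure_closure_coe_preimage (k := ({x₀, y₀, g} : Set G))
    rw [← h1]
    congr 1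
    ext s
    simp only [Set.mem_insert_iff, Set.mem_singleton_iff, Set.mem_preimage, Subtype.ext_iff]

theorem q8_a1_xa0 : (a 1 : QuaternionGroup 2) * xa 0 ≠ xa 0 * a 1 := by decide

/-- a central maximal abelian normal subgroup cannot exist in a group of order 8 containing `Q₈` -/
theorem q3_impossible {G : Type*} [Group G] [Finite G] (A : Subgroup G) [hAn : A.Normal]
    (hAZ : ∀ a ∈ A, ∀ g : G, a * g = g * a)
    (hmax : ∀ B : Subgroup G, B.Normal → (∀ a ∈ B, ∀ b ∈ B, a * b = b * a) → A ≤ B → B = A)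
    (R : Subgroup G) (φ : R ≃* QuaternionGroup 2) (hG : Nat.card G = 8) : False := by
  classical
  set x : G := ((φ.symm (a 1) : R) : G) with hx
  have hxo : orderOf x = 4 := by
    rw [hx, Subgroup.orderOf_coe, MulEquiv.orderOf_eq, QuaternionGroup.orderOf_a_one]
  have hZn : (Subgroup.zpowers x).Normal := by
    apply Subgroup.normal_of_index_eq_two
    have h1 := Subgroup.card_mul_index (Subgroup.zpowers x)
    rw [Nat.card_zpowers, hxo, hG] at h1
    omega
  have hAcen : ∀ (T : Subgroup G), A ≤ Subgroup.centralizer (T : Set G) := by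
    intro T a ha
    rw [Subgroup.mem_centralizer_iff]
    intro t _
    exact (hAZ a ha t).symm
  have hZZ : Subgroup.zpowers x ≤ Subgroup.centralizer ((Subgroup.zpowers x : Subgroup G) : Set G) := by
    intro u hu
    rw [Subgroup.mem_centralizer_iff]
    intro v hv
    obtain ⟨i, rfl⟩ := Subgroup.mem_zpowers_iff.1 hu
    obtain ⟨j, rfl⟩ := Subgroup.mem_zpowers_iff.1 hv
    rw [← zpow_add, ← zpow_add, add_comm]
  have hle : A ⊔ Subgroup.zpowers x ≤
      Subgroup.centralizer ((A ⊔ Subgroup.zpowers x : Subgroup G) : Set G) := by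
    apply sup_le (hAcen _)
    rw [Subgroup.le_centralizer_iff]
    exact sup_le (hAcen _) hZZ
  have hB : A ⊔ Subgroup.zpowers x = A := by
    apply hmax _ inferInstance _ le_sup_left
    intro u hu v hv
    have := hle hv
    rw [Subgroup.mem_centralizer_iff] at this
    exact this u hu
  have hxA : x ∈ A := by
    rw [← hB]
    exact (le_sup_right : Subgroup.zpowers x ≤ _) (Subgroup.mem_zpowers x)
  have h1 := hAZ x hxA ((φ.symm (xa 0) : R) : G)
  have h2 : φ.symm (a 1) * φ.symm (xa 0) = φ.symm (xa 0) * φ.symm (a 1) := Subtype.ext h1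
  rw [← map_mul, ← map_mul] at h2
  exact q8_a1_xa0 (φ.symm.injective h2)

theorem card_sl23 : Nat.card (Matrix.SpecialLinearGroup (Fin 2) (ZMod 3)) = 24 := by
  rw [Nat.card_eq_fintype_card]; decide

/-- a subgroup `S` and a central element `z` of coprime order with `|G| = |S| · o(z)` give a direct
product decomposition -/
theorem nonempty_mulEquiv_prod_of_central {G : Type*} [Group G] [Finite G] (S : Subgroup G) (z : G)
    (hz : ∀ g : G, z * g = g * z)
    (hcard : Nat.card G = Nat.card S * orderOf z) (hcop : Nat.Coprime (Nat.card S) (orderOf z)) :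
    Nonempty (G ≃* S × Subgroup.zpowers z) := by
  classical
  have hcomm : ∀ (s : S) (t : Subgroup.zpowers z), Commute (S.subtype s) ((Subgroup.zpowers z).subtype t) := by
    intro s t
    obtain ⟨k, hk⟩ := Subgroup.mem_zpowers_iff.1 t.2
    have hc : Commute z (s : G) := hz s
    show Commute (s : G) (t : G)
    rw [← hk]
    exact (hc.zpow_left k).symm
  let f : S × Subgroup.zpowers z →* G :=
    MonoidHom.noncommCoprod S.subtype (Subgroup.zpowers z).subtype hcomm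
  have hf : ∀ p : S × Subgroup.zpowers z, f p = (p.1 : G) * (p.2 : G) := fun p => rfl
  have hinj : Function.Injective f := by
    rw [injective_iff_map_eq_one]
    rintro ⟨s, t⟩ hst
    rw [hf] at hst
    have h1 : (s : G) = ((t : G))⁻¹ := eq_inv_of_mul_eq_one_left hst
    have h2 : orderOf (s : G) ∣ Nat.card S := by
      rw [Subgroup.orderOf_coe]; exact orderOf_dvd_natCard s
    have h3 : orderOf (s : G) ∣ orderOf z := by
      rw [h1, orderOf_inv, Subgroup.orderOf_coe, ← Nat.card_zpowers z]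
      exact orderOf_dvd_natCard t
    have h4 : orderOf (s : G) = 1 := Nat.eq_one_of_dvd_coprimes hcop h2 h3
    have h5 : (s : G) = 1 := orderOf_eq_one_iff.1 h4
    have h6 : (t : G) = 1 := by
      rw [h5] at h1
      exact inv_eq_one.1 h1.symm
    exact Prod.ext (Subtype.ext h5) (Subtype.ext h6)
  have hbij : Function.Bijective f := by
    apply hinj.bijective_of_nat_card_le
    rw [Nat.card_prod, Nat.card_zpowers, hcard]
  exact ⟨(MulEquiv.ofBijective f hbij).symm⟩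

end Cfsg.Agent.Helper58.SL
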