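import Mathlib
import Cfsg.Agent.Helper58.ModuleCore

/-!
# Solvable groups: abelian normal subgroups; multiplicative form of the module core (helper58)
-/

set_option autoImplicit false

namespace Cfsg.Agent.Helper58

/-- a nontrivial solvable group has a nontrivial abelian normal subgroup -/
lemma exists_abelian_normal_of_solvable (K : Type*) [Group K] [Group.IsSolvable K] [Nontrivial K] :
    ∃ B : Subgroup K, B.Normal ∧ B ≠ ⊥ ∧ (∀ a ∈ B, ∀ b ∈ B, a * b = b * a) := by
  classical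
  obtain ⟨n, hn⟩ := Group.IsSolvable.solvable (G := K)
  have hex : ∃ n, derivedSeries K n = ⊥ := ⟨n, hn⟩
  set n₀ := Nat.find hex with hn₀
  have h0 : derivedSeries K n₀ = ⊥ := Nat.find_spec hex
  have hpos : n₀ ≠ 0 := by
    intro h
    rw [h, derivedSeries_zero] at h0
    exact top_ne_bot h0
  obtain ⟨k, hk⟩ := Nat.exists_eq_succ_of_ne_zero hpos
  refine ⟨derivedSeries K k, derivedSeries_normal K k, ?_, ?_⟩
  · intro h
    have : n₀ ≤ k := Nat.find_min' hex h
    omega
  · have h1 : ⁅derivedSeries K k, derivedSeries K k⁆ = ⊥ := by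
      rw [← derivedSeries_succ, ← Nat.succ_eq_add_one, ← hk]
      exact h0
    intro a ha b hb
    have hmem : a * b * a⁻¹ * b⁻¹ ∈ ⁅derivedSeries K k, derivedSeries K k⁆ :=
      Subgroup.commutator_mem_commutator ha hb
    rw [h1, Subgroup.mem_bot] at hmem
    have := congrArg (fun z => z * b * a) hmem
    simpa [mul_assoc] using this

/-- an abelian subgroup is nilpotent -/
lemma isNilpotent_of_comm {K : Type*} [Group K] (B : Subgroup K)
    (hB : ∀ a ∈ B, ∀ b ∈ B, a * b = b * a) : Group.IsNilpotent B := by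
  let _ : CommGroup B := { (inferInstance : Group B) with
    mul_comm := fun a b => Subtype.ext (hB a a.2 b b.2) }
  exact CommGroup.isNilpotent


/-- automorphisms of a commutative group as `ℤ`-linear endomorphisms of the additive version -/
def autEndInt (A : Type*) [CommGroup A] : MulAut A →* Module.End ℤ (Additive A) where
  toFun := fun α => (MulEquiv.toAdditive α : Additive A ≃+ Additive A).toAddMonoidHom.toIntLinearMap
  map_one' := LinearMap.ext fun _ => rfl
  map_mul' := fun _ _ => LinearMap.ext fun _ => rfl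

theorem mul_core_comm {A : Type*} [CommGroup A] [Finite A] [Nontrivial A] (p d : ℕ)
    [hp : Fact p.Prime] (hA : Nat.card A = p ^ d)
    {H : Type*} [Group H] [Finite H] (ρ : H →* MulAut A) (T : Subgroup H) [hTn : T.Normal]
    (hTc : ∀ a ∈ T, ∀ b ∈ T, a * b = b * a) (hTne : T ≠ ⊥)
    (r : ℕ) (hr : r.Prime) (hexp : ∀ t ∈ T, t ^ r = 1)
    (hcent : Subgroup.centralizer (T : Set H) ≤ T)
    (hsemi : ∀ t ∈ T, ∀ v : A, v ≠ 1 → ρ t v = v → t = 1)
    (horb : ∀ (h : H) (v : A), ∃ t ∈ T, ρ h v = ρ t v)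
    (hgen : ∀ w : A, w ≠ 1 → ∀ P : A → Prop, P 1 → (∀ x y, P x → P y → P (x * y)) →
      (∀ x, P x → P x⁻¹) → (∀ h : H, P (ρ h w)) → ∀ v, P v) :
    Nat.card T = r ∧ r ∣ p ^ d - 1 ∧ (∀ i : ℕ, 0 < i → i < d → ¬ r ∣ p ^ i - 1) ∧
    (∃ h : H, ∀ x : H, ∃ n : ℤ, x * h ^ n ∈ T) ∧ Nat.card H ∣ r * d := by
  have : Finite (Additive A) := inferInstanceAs (Finite A)
  have : Nontrivial (Additive A) := inferInstanceAs (Nontrivial A)
  exact module_core (V := Additive A) p d hA ((autEndInt A).comp ρ) T hTc hTne r hr hexp hcent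
    (fun t ht v hv h => hsemi t ht (Additive.toMul v) hv h)
    (fun h v => horb h (Additive.toMul v))
    (fun w hw P h0 hadd hneg hρ v => hgen (Additive.toMul w) hw (fun a => P (Additive.ofMul a))
      h0 (fun x y => hadd _ _) (fun x => hneg _) hρ (Additive.toMul v))

theorem mul_core {A : Type*} [Group A] [Finite A] [Nontrivial A] (hAc : ∀ a b : A, a * b = b * a)
    (p d : ℕ) [hp : Fact p.Prime] (hA : Nat.card A = p ^ d)
    {H : Type*} [Group H] [Finite H] (ρ : H →* MulAut A) (T : Subgroup H) [hTn : T.Normal]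
    (hTc : ∀ a ∈ T, ∀ b ∈ T, a * b = b * a) (hTne : T ≠ ⊥)
    (r : ℕ) (hr : r.Prime) (hexp : ∀ t ∈ T, t ^ r = 1)
    (hcent : Subgroup.centralizer (T : Set H) ≤ T)
    (hsemi : ∀ t ∈ T, ∀ v : A, v ≠ 1 → ρ t v = v → t = 1)
    (horb : ∀ (h : H) (v : A), ∃ t ∈ T, ρ h v = ρ t v)
    (hgen : ∀ w : A, w ≠ 1 → ∀ P : A → Prop, P 1 → (∀ x y, P x → P y → P (x * y)) →
      (∀ x, P x → P x⁻¹) → (∀ h : H, P (ρ h w)) → ∀ v, P v) :
    Nat.card T = r ∧ r ∣ p ^ d - 1 ∧ (∀ i : ℕ, 0 < i → i < d → ¬ r ∣ p ^ i - 1) ∧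
    (∃ h : H, ∀ x : H, ∃ n : ℤ, x * h ^ n ∈ T) ∧ Nat.card H ∣ r * d := by
  let _ : CommGroup A := { (inferInstance : Group A) with mul_comm := hAc }
  exact mul_core_comm p d hA ρ T hTc hTne r hr hexp hcent hsemi horb hgen

end Cfsg.Agent.Helper58
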