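import Mathlib

/-!
# The spectrum `{1,2,3,4,5}`: the alternating group of degree 6 and the affine groups `F₄² ⋊ SL₂(4)`

Shared by S3488 and S3491 (helper58).
-/

set_option autoImplicit false

namespace Cfsg.Agent.Helper58

/-! ## Element orders of `A₆` -/

set_option maxRecDepth 100000 in
theorem a6_pow_cases : ∀ σ : Equiv.Perm (Fin 6), Equiv.Perm.sign σ = 1 →
    σ ^ 4 = 1 ∨ σ ^ 3 = 1 ∨ σ ^ 5 = 1 := by
  decide +kernel

/-- if `x ^ 4 = 1` or `x ^ 3 = 1` or `x ^ 5 = 1` then the order of `x` is one of `1,2,3,4,5` -/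
theorem orderOf_mem_of_pow_cases {G : Type*} [Monoid G] (x : G)
    (h : x ^ 4 = 1 ∨ x ^ 3 = 1 ∨ x ^ 5 = 1) : orderOf x ∈ ({1, 2, 3, 4, 5} : Set ℕ) := by
  simp only [Set.mem_insert_iff, Set.mem_singleton_iff]
  rcases h with h | h | h
  · have hd : orderOf x ∣ 4 := orderOf_dvd_of_pow_eq_one h
    have hle : orderOf x ≤ 4 := Nat.le_of_dvd (by norm_num) hd
    interval_cases hx : orderOf x <;> simp_all
  · have hd : orderOf x ∣ 3 := orderOf_dvd_of_pow_eq_one h
    rcases (Nat.dvd_prime Nat.prime_three).mp hd with h1 | h1 <;> simp [h1]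
  · have hd : orderOf x ∣ 5 := orderOf_dvd_of_pow_eq_one h
    rcases (Nat.dvd_prime Nat.prime_five).mp hd with h1 | h1 <;> simp [h1]

def s2 : Equiv.Perm (Fin 6) := Equiv.swap 0 1 * Equiv.swap 2 3
def s3 : Equiv.Perm (Fin 6) := Equiv.swap 0 1 * Equiv.swap 1 2
def s4 : Equiv.Perm (Fin 6) := Equiv.swap 0 1 * Equiv.swap 1 2 * Equiv.swap 2 3 * Equiv.swap 4 5
def s5 : Equiv.Perm (Fin 6) := Equiv.swap 0 1 * Equiv.swap 1 2 * Equiv.swap 2 3 * Equiv.swap 3 4

theorem s2_mem : s2 ∈ alternatingGroup (Fin 6) := by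
  rw [Equiv.Perm.mem_alternatingGroup]; decide
theorem s3_mem : s3 ∈ alternatingGroup (Fin 6) := by
  rw [Equiv.Perm.mem_alternatingGroup]; decide
theorem s4_mem : s4 ∈ alternatingGroup (Fin 6) := by
  rw [Equiv.Perm.mem_alternatingGroup]; decide
theorem s5_mem : s5 ∈ alternatingGroup (Fin 6) := by
  rw [Equiv.Perm.mem_alternatingGroup]; decide

theorem orderOf_s2 : orderOf s2 = 2 := by
  rw [orderOf_eq_iff (by norm_num)]; decide
theorem orderOf_s3 : orderOf s3 = 3 := by
  rw [orderOf_eq_iff (by norm_num)]; decide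
theorem orderOf_s4 : orderOf s4 = 4 := by
  rw [orderOf_eq_iff (by norm_num)]; decide
theorem orderOf_s5 : orderOf s5 = 5 := by
  rw [orderOf_eq_iff (by norm_num)]; decide

theorem spec_A6 : Set.range (orderOf : alternatingGroup (Fin 6) → ℕ) = ({1, 2, 3, 4, 5} : Set ℕ) := by
  apply Set.Subset.antisymm
  · rintro _ ⟨⟨σ, hσ⟩, rfl⟩
    rw [Subgroup.orderOf_mk]
    exact orderOf_mem_of_pow_cases σ (a6_pow_cases σ (Equiv.Perm.mem_alternatingGroup.mp hσ))
  · intro n hn
    simp only [Set.mem_insert_iff, Set.mem_singleton_iff] at hn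
    rcases hn with rfl | rfl | rfl | rfl | rfl
    · exact ⟨1, orderOf_one⟩
    · exact ⟨⟨s2, s2_mem⟩, by rw [Subgroup.orderOf_mk, orderOf_s2]⟩
    · exact ⟨⟨s3, s3_mem⟩, by rw [Subgroup.orderOf_mk, orderOf_s3]⟩
    · exact ⟨⟨s4, s4_mem⟩, by rw [Subgroup.orderOf_mk, orderOf_s4]⟩
    · exact ⟨⟨s5, s5_mem⟩, by rw [Subgroup.orderOf_mk, orderOf_s5]⟩

/-! ## Affine 3×3 matrices -/

open Polynomial

section mat
variable {R : Type*} [CommRing R]

/-- the shape `[[A, v], [0, 1]]` -/
def IsAffMat (M : Matrix (Fin 3) (Fin 3) R) : Prop := M 2 0 = 0 ∧ M 2 1 = 0 ∧ M 2 2 = 1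

lemma affine_mat_eq (M : Matrix (Fin 3) (Fin 3) R) (h : IsAffMat M) :
    M = !![M 0 0, M 0 1, M 0 2; M 1 0, M 1 1, M 1 2; 0, 0, 1] := by
  obtain ⟨h20, h21, h22⟩ := h
  ext i j
  fin_cases i <;> fin_cases j <;> simp [h20, h21, h22]

lemma cayley3 (a b c d x y : R) (hdet : a * d - b * c = 1) :
    (!![a, b, x; c, d, y; 0, 0, 1] - 1) *
      (!![a, b, x; c, d, y; 0, 0, 1] * !![a, b, x; c, d, y; 0, 0, 1]
        - (a + d) • !![a, b, x; c, d, y; 0, 0, 1] + 1) = (0 : Matrix (Fin 3) (Fin 3) R) := by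
  ext i j
  fin_cases i <;> fin_cases j <;>
    simp [Matrix.mul_apply, Fin.sum_univ_three, Matrix.one_apply] <;> grind

lemma IsAffMat.det_eq (M : Matrix (Fin 3) (Fin 3) R) (h : IsAffMat M) :
    M.det = M 0 0 * M 1 1 - M 0 1 * M 1 0 := by
  obtain ⟨h20, h21, h22⟩ := h
  rw [Matrix.det_fin_three, h20, h21, h22]; ring

/-- Cayley–Hamilton for an affine matrix of determinant 1, as a polynomial evaluation -/
lemma aeval_affine (M : Matrix (Fin 3) (Fin 3) R) (h : IsAffMat M) (hdet : M.det = 1) :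
    aeval M ((X - 1) * (X ^ 2 - C (M 0 0 + M 1 1) * X + 1) : R[X]) = 0 := by
  rw [h.det_eq] at hdet
  have key := cayley3 (M 0 0) (M 0 1) (M 1 0) (M 1 1) (M 0 2) (M 1 2) hdet
  rw [← affine_mat_eq M h] at key
  generalize M 0 0 + M 1 1 = t at key ⊢
  simp only [map_mul, map_sub, map_add, map_pow, aeval_X, aeval_C, map_one]
  rw [pow_two, Algebra.algebraMap_eq_smul_one, smul_mul_assoc, one_mul]
  exact key

lemma affine_pow4 (M : Matrix (Fin 3) (Fin 3) R) (h : IsAffMat M) (hdet : M.det = 1)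
    (ht : M 0 0 + M 1 1 = 0) : M ^ 4 = 1 := by
  have h0 := aeval_affine M h hdet
  rw [ht] at h0
  have : (X ^ 4 - 1 : R[X]) = ((X - 1) * (X ^ 2 - C 0 * X + 1)) * (X + 1) := by
    rw [C_0]; ring
  have h1 : aeval M (X ^ 4 - 1 : R[X]) = 0 := by rw [this, map_mul, h0, zero_mul]
  simpa [sub_eq_zero] using h1

lemma affine_pow3 (M : Matrix (Fin 3) (Fin 3) R) (h : IsAffMat M) (hdet : M.det = 1)
    (ht : M 0 0 + M 1 1 = -1) : M ^ 3 = 1 := by
  have h0 := aeval_affine M h hdet
  rw [ht] at h0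
  have : (X ^ 3 - 1 : R[X]) = ((X - 1) * (X ^ 2 - C (-1) * X + 1)) := by
    rw [C_neg, C_1]; ring
  have h1 : aeval M (X ^ 3 - 1 : R[X]) = 0 := by rw [this, h0]
  simpa [sub_eq_zero] using h1

lemma affine_pow5 (M : Matrix (Fin 3) (Fin 3) R) (h : IsAffMat M) (hdet : M.det = 1)
    (ht : (M 0 0 + M 1 1) ^ 2 + (M 0 0 + M 1 1) = 1) : M ^ 5 = 1 := by
  have h0 := aeval_affine M h hdet
  set t := M 0 0 + M 1 1 with htdef
  have hC : (C t : R[X]) ^ 2 + C t = 1 := by rw [← C_pow, ← C_add, ht, C_1]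
  have : (X ^ 5 - 1 : R[X]) = ((X - 1) * (X ^ 2 - C t * X + 1)) * (X ^ 2 + (1 + C t) * X + 1) := by
    linear_combination (X ^ 3 - X ^ 2) * hC
  have h1 : aeval M (X ^ 5 - 1 : R[X]) = 0 := by rw [this, map_mul, h0, zero_mul]
  simpa [sub_eq_zero] using h1

end mat

/-! ## The field with four elements -/

section field
variable {F : Type*} [Field F] [Fintype F]

lemma two_eq_zero_of_card_four (hF : Fintype.card F = 4) : (2 : F) = 0 := by
  have h4 : ((Fintype.card F : ℕ) : F) = 0 := FiniteField.cast_card_eq_zero F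
  rw [hF] at h4
  have : (2 : F) ^ 2 = 0 := by
    have : (2 : F) ^ 2 = ((4 : ℕ) : F) := by norm_num
    rw [this, h4]
  exact pow_eq_zero_iff (by norm_num) |>.mp this

lemma neg_one_eq_one_of_card_four (hF : Fintype.card F = 4) : (-1 : F) = 1 := by
  have h2 := two_eq_zero_of_card_four hF
  linear_combination (-1 : F) * h2

lemma trichotomy_of_card_four (hF : Fintype.card F = 4) (t : F) :
    t = 0 ∨ t = 1 ∨ t ^ 2 + t + 1 = 0 := by
  have h := FiniteField.pow_card t
  rw [hF] at h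
  have h' : t * ((t - 1) * (t ^ 2 + t + 1)) = 0 := by linear_combination h
  rcases mul_eq_zero.mp h' with h1 | h1
  · exact Or.inl h1
  rcases mul_eq_zero.mp h1 with h2 | h2
  · exact Or.inr (Or.inl (sub_eq_zero.mp h2))
  · exact Or.inr (Or.inr h2)

lemma exists_omega_of_card_four (hF : Fintype.card F = 4) : ∃ w : F, w ^ 2 + w + 1 = 0 := by
  classical
  have : ∃ w : F, w ≠ 0 ∧ w ≠ 1 := by
    by_contra hcon
    push Not at hcon
    have hsub : (Finset.univ : Finset F) ⊆ {0, 1} := by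
      intro w _
      by_cases hw : w = 0
      · simp [hw]
      · simp [hcon w hw]
    have := Finset.card_le_card hsub
    have h2 : ({0, 1} : Finset F).card ≤ 2 := Finset.card_le_two
    rw [Finset.card_univ, hF] at this
    omega
  obtain ⟨w, hw0, hw1⟩ := this
  rcases trichotomy_of_card_four hF w with h | h | h
  · exact absurd h hw0
  · exact absurd h hw1
  · exact ⟨w, h⟩

lemma sl3_affine_pow_cases (hF : Fintype.card F = 4) (g : Matrix.SpecialLinearGroup (Fin 3) F)
    (h : IsAffMat (g : Matrix (Fin 3) (Fin 3) F)) : g ^ 4 = 1 ∨ g ^ 3 = 1 ∨ g ^ 5 = 1 := by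
  have hdet : (g : Matrix (Fin 3) (Fin 3) F).det = 1 := g.2
  have hn1 := neg_one_eq_one_of_card_four hF
  rcases trichotomy_of_card_four hF ((g : Matrix (Fin 3) (Fin 3) F) 0 0 + (g : Matrix (Fin 3) (Fin 3) F) 1 1)
    with ht | ht | ht
  · left
    apply Subtype.ext
    rw [Matrix.SpecialLinearGroup.coe_pow]
    exact affine_pow4 _ h hdet ht
  · right; left
    apply Subtype.ext
    rw [Matrix.SpecialLinearGroup.coe_pow]
    exact affine_pow3 _ h hdet (by rw [ht, hn1])
  · right; right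
    apply Subtype.ext
    rw [Matrix.SpecialLinearGroup.coe_pow]
    exact affine_pow5 _ h hdet (by linear_combination ht + hn1)

lemma sl3_affine_pow_of_trace (hF : Fintype.card F = 4) (g : Matrix.SpecialLinearGroup (Fin 3) F)
    (h : IsAffMat (g : Matrix (Fin 3) (Fin 3) F)) :
    ((g : Matrix (Fin 3) (Fin 3) F) 0 0 + (g : Matrix (Fin 3) (Fin 3) F) 1 1 = 0 → g ^ 4 = 1) ∧
    ((g : Matrix (Fin 3) (Fin 3) F) 0 0 + (g : Matrix (Fin 3) (Fin 3) F) 1 1 = 1 → g ^ 3 = 1) ∧
    (((g : Matrix (Fin 3) (Fin 3) F) 0 0 + (g : Matrix (Fin 3) (Fin 3) F) 1 1) ^ 2 +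
      ((g : Matrix (Fin 3) (Fin 3) F) 0 0 + (g : Matrix (Fin 3) (Fin 3) F) 1 1) + 1 = 0 → g ^ 5 = 1) := by
  have hdet : (g : Matrix (Fin 3) (Fin 3) F).det = 1 := g.2
  have hn1 := neg_one_eq_one_of_card_four hF
  refine ⟨fun ht => ?_, fun ht => ?_, fun ht => ?_⟩
  · apply Subtype.ext
    rw [Matrix.SpecialLinearGroup.coe_pow]
    exact affine_pow4 _ h hdet ht
  · apply Subtype.ext
    rw [Matrix.SpecialLinearGroup.coe_pow]
    exact affine_pow3 _ h hdet (by rw [ht, hn1])
  · apply Subtype.ext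
    rw [Matrix.SpecialLinearGroup.coe_pow]
    exact affine_pow5 _ h hdet (by linear_combination ht + hn1)

end field

/-! ## Affine elements of all orders `1,…,5` -/

section elements
variable {F : Type*} [Field F]

/-- the translation by `(1, 0)` -/
def tauMat (F : Type*) [Field F] : Matrix (Fin 3) (Fin 3) F := !![1, 0, 1; 0, 1, 0; 0, 0, 1]

lemma tauMat_det : (tauMat F).det = 1 := by
  simp [tauMat, Matrix.det_fin_three]

def tau (F : Type*) [Field F] : Matrix.SpecialLinearGroup (Fin 3) F := ⟨tauMat F, tauMat_det⟩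

lemma tau_aff : IsAffMat (tau F : Matrix (Fin 3) (Fin 3) F) := by
  simp [tau, tauMat, IsAffMat]

lemma tau_ne_one : tau F ≠ 1 := by
  intro h
  have := congrArg (fun g : Matrix.SpecialLinearGroup (Fin 3) F => (g : Matrix (Fin 3) (Fin 3) F) 0 2) h
  simp [tau, tauMat] at this

lemma tau_sq [Fintype F] (hF : Fintype.card F = 4) : tau F ^ 2 = 1 := by
  have h2 := two_eq_zero_of_card_four hF
  apply Subtype.ext
  rw [Matrix.SpecialLinearGroup.coe_pow]
  show tauMat F ^ 2 = 1
  rw [pow_two]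
  ext i j
  fin_cases i <;> fin_cases j <;>
    simp [tauMat, Matrix.mul_apply, Fin.sum_univ_three]
  linear_combination h2

lemma orderOf_tau [Fintype F] (hF : Fintype.card F = 4) : orderOf (tau F) = 2 :=
  orderOf_eq_prime (tau_sq hF) tau_ne_one

/-- a unipotent Jordan block -/
def jMat (F : Type*) [Field F] : Matrix (Fin 3) (Fin 3) F := !![1, 1, 0; 0, 1, 1; 0, 0, 1]

lemma jMat_det : (jMat F).det = 1 := by
  simp [jMat, Matrix.det_fin_three]

def jEl (F : Type*) [Field F] : Matrix.SpecialLinearGroup (Fin 3) F := ⟨jMat F, jMat_det⟩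

lemma jEl_aff : IsAffMat (jEl F : Matrix (Fin 3) (Fin 3) F) := by
  simp [jEl, jMat, IsAffMat]

lemma jEl_sq_ne : ¬ jEl F ^ 2 ^ 1 = 1 := by
  intro h
  have := congrArg (fun g : Matrix.SpecialLinearGroup (Fin 3) F => (g : Matrix (Fin 3) (Fin 3) F) 0 2) h
  rw [pow_one, Matrix.SpecialLinearGroup.coe_pow, pow_two] at this
  simp [jEl, jMat, Matrix.mul_apply, Fin.sum_univ_three] at this

lemma jEl_pow4 [Fintype F] (hF : Fintype.card F = 4) : jEl F ^ 2 ^ (1 + 1) = 1 := by
  have h2 := two_eq_zero_of_card_four hF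
  apply Subtype.ext
  rw [Matrix.SpecialLinearGroup.coe_pow]
  apply affine_pow4 _ jEl_aff (jEl F).2
  simp [jEl, jMat]
  linear_combination h2

lemma orderOf_jEl [Fintype F] (hF : Fintype.card F = 4) : orderOf (jEl F) = 4 := by
  have := orderOf_eq_prime_pow (p := 2) (n := 1) (jEl_sq_ne (F := F)) (jEl_pow4 hF)
  simpa using this

/-- companion matrix of `X² + wX + 1` (in characteristic 2) -/
def cMat (w : F) : Matrix (Fin 3) (Fin 3) F := !![0, 1, 0; 1, w, 0; 0, 0, 1]

lemma cMat_det [Fintype F] (hF : Fintype.card F = 4) (w : F) : (cMat w).det = 1 := by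
  have := neg_one_eq_one_of_card_four hF
  simp [cMat, Matrix.det_fin_three, this]

def cEl [Fintype F] (hF : Fintype.card F = 4) (w : F) : Matrix.SpecialLinearGroup (Fin 3) F :=
  ⟨cMat w, cMat_det hF w⟩

lemma cEl_aff [Fintype F] (hF : Fintype.card F = 4) (w : F) :
    IsAffMat (cEl hF w : Matrix (Fin 3) (Fin 3) F) := by
  simp [cEl, cMat, IsAffMat]

lemma cEl_ne_one [Fintype F] (hF : Fintype.card F = 4) (w : F) : cEl hF w ≠ 1 := by
  intro h
  have := congrArg (fun g : Matrix.SpecialLinearGroup (Fin 3) F => (g : Matrix (Fin 3) (Fin 3) F) 0 1) h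
  simp [cEl, cMat] at this

lemma orderOf_cEl_one [Fintype F] (hF : Fintype.card F = 4) : orderOf (cEl hF (1 : F)) = 3 := by
  apply orderOf_eq_prime _ (cEl_ne_one hF 1)
  apply Subtype.ext
  rw [Matrix.SpecialLinearGroup.coe_pow]
  apply affine_pow3 _ (cEl_aff hF 1) (cEl hF 1).2
  simp [cEl, cMat, neg_one_eq_one_of_card_four hF]

lemma orderOf_cEl_omega [Fintype F] (hF : Fintype.card F = 4) {w : F} (hw : w ^ 2 + w + 1 = 0) :
    orderOf (cEl hF w) = 5 := by
  have : Fact (Nat.Prime 5) := ⟨by norm_num⟩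
  apply orderOf_eq_prime _ (cEl_ne_one hF w)
  apply Subtype.ext
  rw [Matrix.SpecialLinearGroup.coe_pow]
  apply affine_pow5 _ (cEl_aff hF w) (cEl hF w).2
  have hn1 := neg_one_eq_one_of_card_four hF
  simp [cEl, cMat]
  linear_combination hw + hn1

/-- all of `1,…,5` occur as orders of affine elements -/
lemma exists_affine_orderOf [Fintype F] (hF : Fintype.card F = 4) {n : ℕ} (hn : n ∈ ({1, 2, 3, 4, 5} : Set ℕ)) :
    ∃ g : Matrix.SpecialLinearGroup (Fin 3) F, IsAffMat (g : Matrix (Fin 3) (Fin 3) F) ∧ orderOf g = n := by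
  simp only [Set.mem_insert_iff, Set.mem_singleton_iff] at hn
  rcases hn with rfl | rfl | rfl | rfl | rfl
  · exact ⟨1, by simp [IsAffMat], orderOf_one⟩
  · exact ⟨tau F, tau_aff, orderOf_tau hF⟩
  · exact ⟨cEl hF 1, cEl_aff hF 1, orderOf_cEl_one hF⟩
  · exact ⟨jEl F, jEl_aff, orderOf_jEl hF⟩
  · obtain ⟨w, hw⟩ := exists_omega_of_card_four hF
    exact ⟨cEl hF w, cEl_aff hF w, orderOf_cEl_omega hF hw⟩

end elements

/-! ## The affine subgroup -/

section subgroup
variable {R : Type*} [CommRing R]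

lemma IsAffMat.one : IsAffMat (1 : Matrix (Fin 3) (Fin 3) R) := by simp [IsAffMat]

lemma IsAffMat.mul {A B : Matrix (Fin 3) (Fin 3) R} (hA : IsAffMat A) (hB : IsAffMat B) :
    IsAffMat (A * B) := by
  obtain ⟨a0, a1, a2⟩ := hA
  obtain ⟨b0, b1, b2⟩ := hB
  refine ⟨?_, ?_, ?_⟩ <;> simp [Matrix.mul_apply, Fin.sum_univ_three, a0, a1, a2, b0, b1, b2]

lemma IsAffMat.adjugate {A : Matrix (Fin 3) (Fin 3) R} (hA : IsAffMat A) (hdet : A.det = 1) :
    IsAffMat A.adjugate := by
  have hd := hA.det_eq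
  obtain ⟨a0, a1, a2⟩ := hA
  rw [Matrix.adjugate_fin_three]
  refine ⟨?_, ?_, ?_⟩
  · simp [a0, a1]
  · simp [a0, a1]
  · simp
    rw [← hdet, hd]

/-- the block entries of a product of affine matrices depend only on the block entries -/
lemma IsAffMat.mul_block {A B : Matrix (Fin 3) (Fin 3) R} (hB : IsAffMat B) (i j : Fin 2) :
    (A * B) (Fin.castSucc i) (Fin.castSucc j) =
      A (Fin.castSucc i) 0 * B 0 (Fin.castSucc j) + A (Fin.castSucc i) 1 * B 1 (Fin.castSucc j) := by
  obtain ⟨b0, b1, b2⟩ := hB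
  fin_cases j <;> simp [Matrix.mul_apply, Fin.sum_univ_three, b0, b1]

variable (R) in
/-- the affine subgroup of `SL₃(R)`: matrices with last row `(0, 0, 1)` -/
def affSubgroup : Subgroup (Matrix.SpecialLinearGroup (Fin 3) R) where
  carrier := {g | IsAffMat (g : Matrix (Fin 3) (Fin 3) R)}
  one_mem' := IsAffMat.one
  mul_mem' := by
    intro a b ha hb
    show IsAffMat ((a * b : Matrix.SpecialLinearGroup (Fin 3) R) : Matrix (Fin 3) (Fin 3) R)
    rw [Matrix.SpecialLinearGroup.coe_mul]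
    exact ha.mul hb
  inv_mem' := by
    intro a ha
    show IsAffMat ((a⁻¹ : Matrix.SpecialLinearGroup (Fin 3) R) : Matrix (Fin 3) (Fin 3) R)
    rw [Matrix.SpecialLinearGroup.coe_inv]
    exact ha.adjugate a.2

lemma mem_affSubgroup {g : Matrix.SpecialLinearGroup (Fin 3) R} :
    g ∈ affSubgroup R ↔ IsAffMat (g : Matrix (Fin 3) (Fin 3) R) := Iff.rfl

end subgroup

/-! ## Fibre powers of the affine group -/

section fiber
variable {R : Type*} [CommRing R]

variable (R) in
/-- the linear part `A` of `[[A, v], [0, 1]]` -/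
def linPart : affSubgroup R →* Matrix (Fin 2) (Fin 2) R where
  toFun g := ((g : Matrix.SpecialLinearGroup (Fin 3) R) : Matrix (Fin 3) (Fin 3) R).submatrix
    Fin.castSucc Fin.castSucc
  map_one' := by
    ext i j
    fin_cases i <;> fin_cases j <;> simp
  map_mul' := by
    intro a b
    ext i j
    have hb : IsAffMat ((b : Matrix.SpecialLinearGroup (Fin 3) R) : Matrix (Fin 3) (Fin 3) R) := b.2
    simp only [Subgroup.coe_mul, Matrix.SpecialLinearGroup.coe_mul, Matrix.submatrix_apply,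
      Matrix.mul_apply, Fin.sum_univ_two]
    have := hb.mul_block (A := ((a : Matrix.SpecialLinearGroup (Fin 3) R) : Matrix (Fin 3) (Fin 3) R)) i j
    rw [Matrix.mul_apply] at this
    rw [this]
    rfl

variable (R) in
/-- the `k`-fold fibre power of the affine group over its linear part -/
def fiberPow (k : ℕ) : Subgroup (Fin k → affSubgroup R) where
  carrier := {f | ∀ i j, (linPart R).toHomUnits (f i) = (linPart R).toHomUnits (f j)}
  one_mem' := by intro i j; simp
  mul_mem' := by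
    intro a b ha hb i j
    simp only [Pi.mul_apply, map_mul, ha i j, hb i j]
  inv_mem' := by
    intro a ha i j
    simp only [Pi.inv_apply, map_inv, ha i j]

lemma trace_eq_of_mem_fiberPow {k : ℕ} {f : Fin k → affSubgroup R} (hf : f ∈ fiberPow R k) (i j : Fin k) :
    ((f i : Matrix.SpecialLinearGroup (Fin 3) R) : Matrix (Fin 3) (Fin 3) R) 0 0 +
      ((f i : Matrix.SpecialLinearGroup (Fin 3) R) : Matrix (Fin 3) (Fin 3) R) 1 1 =
    ((f j : Matrix.SpecialLinearGroup (Fin 3) R) : Matrix (Fin 3) (Fin 3) R) 0 0 +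
      ((f j : Matrix.SpecialLinearGroup (Fin 3) R) : Matrix (Fin 3) (Fin 3) R) 1 1 := by
  have h := congrArg Units.val (hf i j)
  rw [MonoidHom.coe_toHomUnits, MonoidHom.coe_toHomUnits] at h
  have h00 := congrFun (congrFun h 0) 0
  have h11 := congrFun (congrFun h 1) 1
  simp only [linPart, MonoidHom.coe_mk, OneHom.coe_mk, Matrix.submatrix_apply] at h00 h11
  have e0 : Fin.castSucc (0 : Fin 2) = (0 : Fin 3) := rfl
  have e1 : Fin.castSucc (1 : Fin 2) = (1 : Fin 3) := rfl
  rw [e0] at h00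
  rw [e1] at h11
  rw [h00, h11]

end fiber

section fiber2
variable {F : Type*} [Field F] [Fintype F]

lemma fiberPow_pow_cases (hF : Fintype.card F = 4) {k : ℕ} (f : Fin k → affSubgroup F)
    (hf : f ∈ fiberPow F k) : f ^ 4 = 1 ∨ f ^ 3 = 1 ∨ f ^ 5 = 1 := by
  rcases Nat.eq_zero_or_pos k with rfl | hk
  · left; funext i; exact i.elim0
  · let i0 : Fin k := ⟨0, hk⟩
    have key : ∀ i, _ := fun i => sl3_affine_pow_of_trace hF (f i : Matrix.SpecialLinearGroup (Fin 3) F) (f i).2
    have htr : ∀ i, _ := fun i => trace_eq_of_mem_fiberPow hf i i0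
    rcases trichotomy_of_card_four hF
      (((f i0 : Matrix.SpecialLinearGroup (Fin 3) F) : Matrix (Fin 3) (Fin 3) F) 0 0 +
        ((f i0 : Matrix.SpecialLinearGroup (Fin 3) F) : Matrix (Fin 3) (Fin 3) F) 1 1) with ht | ht | ht
    · left
      funext i
      apply Subtype.ext
      simp only [Pi.pow_apply, Subgroup.coe_pow, Pi.one_apply, Subgroup.coe_one]
      exact (key i).1 (by rw [htr i]; exact ht)
    · right; left
      funext i
      apply Subtype.ext
      simp only [Pi.pow_apply, Subgroup.coe_pow, Pi.one_apply, Subgroup.coe_one]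
      exact (key i).2.1 (by rw [htr i]; exact ht)
    · right; right
      funext i
      apply Subtype.ext
      simp only [Pi.pow_apply, Subgroup.coe_pow, Pi.one_apply, Subgroup.coe_one]
      exact (key i).2.2 (by rw [htr i]; exact ht)

omit [Fintype F] in
/-- the diagonal embedding -/
def diagHom (k : ℕ) : affSubgroup F →* fiberPow F k where
  toFun g := ⟨fun _ => g, fun _ _ => rfl⟩
  map_one' := rfl
  map_mul' := fun _ _ => rfl

omit [Fintype F] in
lemma diagHom_injective {k : ℕ} (hk : 0 < k) : Function.Injective (diagHom (F := F) k) := by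
  intro a b h
  have := congrFun (congrArg Subtype.val h) ⟨0, hk⟩
  exact this

lemma spec_fiberPow (hF : Fintype.card F = 4) {k : ℕ} (hk : 0 < k) :
    Set.range (orderOf : fiberPow F k → ℕ) = ({1, 2, 3, 4, 5} : Set ℕ) := by
  apply Set.Subset.antisymm
  · rintro _ ⟨⟨f, hf⟩, rfl⟩
    rw [Subgroup.orderOf_mk]
    exact orderOf_mem_of_pow_cases f (fiberPow_pow_cases hF f hf)
  · intro n hn
    obtain ⟨g, hg, hgn⟩ := exists_affine_orderOf hF hn
    have hg' : g ∈ affSubgroup F := hg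
    refine ⟨diagHom k ⟨g, hg'⟩, ?_⟩
    rw [orderOf_injective _ (diagHom_injective hk), Subgroup.orderOf_mk, hgn]

omit [Fintype F] in
/-- many elements: the translations -/
def boolEmb (k : ℕ) (b : Fin k → Bool) : fiberPow F k :=
  ⟨fun i => if b i then ⟨tau F, tau_aff⟩ else 1, by
    have h1 : (linPart F).toHomUnits ⟨tau F, tau_aff⟩ = 1 := by
      apply Units.ext
      rw [MonoidHom.coe_toHomUnits]
      ext i j
      fin_cases i <;> fin_cases j <;> simp [linPart, tau, tauMat]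
    intro i j
    have : ∀ i, (linPart F).toHomUnits (if b i then (⟨tau F, tau_aff⟩ : affSubgroup F) else 1) = 1 := by
      intro i
      split_ifs
      · exact h1
      · exact map_one _
    rw [this i, this j]⟩

omit [Fintype F] in
lemma boolEmb_injective (k : ℕ) : Function.Injective (boolEmb (F := F) k) := by
  intro b c h
  funext i
  have := congrFun (congrArg Subtype.val h) i
  simp only [boolEmb] at this
  have hne : (⟨tau F, tau_aff⟩ : affSubgroup F) ≠ 1 := by
    intro h1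
    exact tau_ne_one (congrArg Subtype.val h1)
  by_cases hb : b i <;> by_cases hc : c i <;> simp_all

end fiber2

end Cfsg.Agent.Helper58
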