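import Mathlib
import Cfsg.Agent.Helper58.EPDer

/-!
# Derangement classes in primitive groups: tools for two classes (helper58)
-/

set_option autoImplicit false

namespace Cfsg.Agent.Helper58.UDer

open MulAction Cfsg.Agent.Helper58.EP

section three
variable {G Ω : Type*} [Group G] [MulAction G Ω]

theorem pow_smul_of_smul {g : G} {ω : Ω} (hω : g • ω = ω) (k : ℕ) : g ^ k • ω = ω := by
  induction k with
  | zero => rw [pow_zero, one_smul]
  | succ k ih => rw [pow_succ, mul_smul, hω, ih]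

theorem isDer_of_pow {g : G} {k : ℕ} (h : IsDer Ω (g ^ k)) : IsDer Ω g :=
  fun ω hω => h ω (pow_smul_of_smul hω k)

/-- three derangements of pairwise different orders from a subgroup of derangements containing
elements of two prime orders and a commuting element of prime order -/
theorem three_orders [Finite G] (D : Subgroup G) (hD : ∀ d ∈ D, d ≠ 1 → IsDer Ω d)
    {p q r : ℕ} (hp : p.Prime) (hq : q.Prime) (hr : r.Prime) (hpq : p ≠ q)
    {x y c : G} (hx : x ∈ D) (hy : y ∈ D) (hxo : orderOf x = p) (hyo : orderOf y = q)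
    (hco : orderOf c = r) (hxc : Commute x c) (hyc : Commute y c) :
    ∃ a b d : G, IsDer Ω a ∧ IsDer Ω b ∧ IsDer Ω d ∧ orderOf a ≠ orderOf b ∧
      orderOf a ≠ orderOf d ∧ orderOf b ≠ orderOf d := by
  have hx1 : x ≠ 1 := by
    rintro rfl; rw [orderOf_one] at hxo; exact hp.one_lt.ne hxo
  have hy1 : y ≠ 1 := by
    rintro rfl; rw [orderOf_one] at hyo; exact hq.one_lt.ne hyo
  -- a general fact: if z ∈ D has prime order s ≠ r then z * c is a derangement of order s * r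
  have key : ∀ (z : G) (s : ℕ), s.Prime → z ∈ D → orderOf z = s → Commute z c → s ≠ r →
      IsDer Ω (z * c) ∧ orderOf (z * c) = s * r := by
    intro z s hs hz hzo hzc hsr
    have hcop : (orderOf z).Coprime (orderOf c) := by
      rw [hzo, hco]; exact (Nat.coprime_primes hs hr).2 hsr
    refine ⟨?_, ?_⟩
    · apply isDer_of_pow (k := r)
      rw [hzc.mul_pow, ← hco, pow_orderOf_eq_one, mul_one, hco]
      apply hD _ (D.pow_mem hz r)
      intro h1
      have := orderOf_dvd_of_pow_eq_one h1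
      rw [hzo] at this
      exact hsr ((Nat.prime_dvd_prime_iff_eq hs hr).1 this)
    · rw [hzc.orderOf_mul_eq_mul_orderOf_of_coprime hcop, hzo, hco]
  by_cases hpr : p = r
  · -- use y * c
    have hqr : q ≠ r := fun h => hpq (hpr.trans h.symm)
    obtain ⟨hd, ho⟩ := key y q hq hy hyo hyc hqr
    refine ⟨x, y, y * c, hD x hx hx1, hD y hy hy1, hd, ?_, ?_, ?_⟩
    · rw [hxo, hyo]; exact hpq
    · rw [hxo, ho]
      intro h
      have : q ∣ p := ⟨r, h⟩
      exact hpq ((Nat.prime_dvd_prime_iff_eq hq hp).1 this).symm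
    · rw [hyo, ho]
      intro h
      have h2 : q * 1 = q * r := by rw [mul_one]; exact h
      have := Nat.eq_of_mul_eq_mul_left hq.pos h2
      exact hr.one_lt.ne this
  · obtain ⟨hd, ho⟩ := key x p hp hx hxo hxc hpr
    refine ⟨x, y, x * c, hD x hx hx1, hD y hy hy1, hd, ?_, ?_, ?_⟩
    · rw [hxo, hyo]; exact hpq
    · rw [hxo, ho]
      intro h
      have h2 : p * 1 = p * r := by rw [mul_one]; exact h
      have := Nat.eq_of_mul_eq_mul_left hp.pos h2
      exact hr.one_lt.ne this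
    · rw [hyo, ho]
      intro h
      have : p ∣ q := ⟨r, h⟩
      exact hpq ((Nat.prime_dvd_prime_iff_eq hp hq).1 this)

end three

section ctx2
variable {G Ω : Type*} [Group G] [MulAction G Ω] [Finite G] [FaithfulSMul G Ω]
variable {N T : Subgroup G}

omit [MulAction G Ω] [FaithfulSMul G Ω] in
/-- if `x * c` is conjugate to `x * c'` by an element moving `T`, and `c ^ p = 1`, then `x ^ p = 1` -/
theorem Ctx.pow_eq_one_of_conj [N.Normal] (h : Ctx N T)
    (hminN : ∀ M : Subgroup G, M.Normal → M ≤ N → M = ⊥ ∨ M = N)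
    (hna : ¬ ∀ a ∈ N, ∀ b ∈ N, a * b = b * a)
    {g x c c' : G} (hx : x ∈ T) (hc' : c' ∈ cen N T) (hgT : cj g T ≠ T)
    {p : ℕ} (hcp : c ^ p = 1) (hconj : g * (x * c) * g⁻¹ = x * c') : x ^ p = 1 := by
  have ha : g * x * g⁻¹ ∈ cen N T := h.cj_le_cen hgT (conj_mem_cj hx)
  set a := g * x * g⁻¹ with hadef
  set b := g * c * g⁻¹ with hbdef
  have hab : a * b = x * c' := by rw [← hconj, hadef, hbdef]; group
  have hbp : b ^ p = 1 := by rw [hbdef, conj_pow, hcp]; group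
  have hb : b = x * (a⁻¹ * c') := by
    have e1 := (mem_cen.1 ((cen N T).inv_mem ha)).2 x hx
    calc b = a⁻¹ * (a * b) := by group
      _ = a⁻¹ * (x * c') := by rw [hab]
      _ = (a⁻¹ * x) * c' := by group
      _ = (x * a⁻¹) * c' := by rw [e1]
      _ = x * (a⁻¹ * c') := by group
  have hC : a⁻¹ * c' ∈ cen N T := (cen N T).mul_mem ((cen N T).inv_mem ha) hc'
  have hcomm : Commute x (a⁻¹ * c') := (mem_cen.1 hC).2 x hx
  rw [hb, hcomm.mul_pow] at hbp
  have h1 : x ^ p = ((a⁻¹ * c') ^ p)⁻¹ := eq_inv_of_mul_eq_one_left hbp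
  have h2 : x ^ p ∈ cen N T := by rw [h1]; exact (cen N T).inv_mem ((cen N T).pow_mem hC p)
  exact h.inf_cen hminN hna (T.pow_mem hx p) h2

/-- three pairwise non-conjugate derangements in case (B) -/
theorem Ctx.caseB_three [N.Normal] (h : Ctx N T)
    (hminN : ∀ M : Subgroup G, M.Normal → M ≤ N → M = ⊥ ∨ M = N)
    (hna : ¬ ∀ a ∈ N, ∀ b ∈ N, a * b = b * a)
    (htr : ∀ x y : Ω, ∃ n ∈ N, n • x = y) (α : Ω) (hα : T ⊓ stabilizer G α ≠ ⊥)
    {g₀ : G} (hg₀ : cj g₀ T ≠ T) :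
    ∃ a b d : G, IsDer Ω a ∧ IsDer Ω b ∧ IsDer Ω d ∧ (¬ ∃ g : G, g * a * g⁻¹ = b) ∧
      (¬ ∃ g : G, g * a * g⁻¹ = d) ∧ (¬ ∃ g : G, g * b * g⁻¹ = d) := by
  have : Nonempty Ω := ⟨α⟩
  obtain ⟨x, hxT, hxd⟩ := h.exists_der_coset hminN htr α hα
  have hxder : IsDer Ω x := by
    have := hxd 1 (cen N T).one_mem
    rwa [mul_one] at this
  have hx1 : x ≠ 1 := hxder.ne_one
  obtain ⟨p, q, hp, hq, hpq, y₁, hy₁, y₂, hy₂, hy₁o, hy₂o⟩ := exists_two_primes T h.hT1
    (fun z hz hzc => h.center_trivial hminN hna hz hzc)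
  have hc₁ : g₀ * y₁ * g₀⁻¹ ∈ cen N T := h.cj_le_cen hg₀ (conj_mem_cj hy₁)
  have hc₂ : g₀ * y₂ * g₀⁻¹ ∈ cen N T := h.cj_le_cen hg₀ (conj_mem_cj hy₂)
  have ho₁ : orderOf (g₀ * y₁ * g₀⁻¹) = p := by
    have := (MulAut.conj g₀).orderOf_eq y₁
    rw [MulAut.conj_apply] at this
    rw [this, hy₁o]
  have ho₂ : orderOf (g₀ * y₂ * g₀⁻¹) = q := by
    have := (MulAut.conj g₀).orderOf_eq y₂
    rw [MulAut.conj_apply] at this
    rw [this, hy₂o]
  set c₁ := g₀ * y₁ * g₀⁻¹ with hc₁def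
  set c₂ := g₀ * y₂ * g₀⁻¹ with hc₂def
  have hc₁1 : c₁ ≠ 1 := by
    intro h1; rw [h1, orderOf_one] at ho₁; exact hp.one_lt.ne ho₁
  have hc₂1 : c₂ ≠ 1 := by
    intro h1; rw [h1, orderOf_one] at ho₂; exact hq.one_lt.ne ho₂
  -- x is not conjugate to x * c for c ∈ cen, c ≠ 1
  have hxc : ∀ c ∈ cen N T, c ≠ 1 → ¬ ∃ g : G, g * x * g⁻¹ = x * c := by
    rintro c hc hc1 ⟨k, hk⟩
    by_cases hkT : cj k T = T
    · have hyT : x * c ∈ T := by
        rw [← hk, ← hkT]
        exact conj_mem_cj hxT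
      have hcT : c ∈ T := by
        have := T.mul_mem (T.inv_mem hxT) hyT
        rwa [inv_mul_cancel_left] at this
      exact hc1 (h.inf_cen hminN hna hcT hc)
    · have hyC : x * c ∈ cen N T := by
        rw [← hk]
        exact h.cj_le_cen hkT (conj_mem_cj hxT)
      have hxC : x ∈ cen N T := by
        have := (cen N T).mul_mem hyC ((cen N T).inv_mem hc)
        rwa [mul_inv_cancel_right] at this
      exact hx1 (h.inf_cen hminN hna hxT hxC)
  refine ⟨x, x * c₁, x * c₂, hxder, hxd _ hc₁, hxd _ hc₂, hxc _ hc₁ hc₁1, hxc _ hc₂ hc₂1, ?_⟩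
  rintro ⟨k, hk⟩
  by_cases hkT : cj k T = T
  · have h1 : k * x * k⁻¹ ∈ T := by
      have := conj_mem_cj (g := k) hxT
      rwa [hkT] at this
    have h2 : k * c₁ * k⁻¹ ∈ cen N T := cen_conj_of_cj_eq hkT hc₁
    have e : (k * x * k⁻¹) * (k * c₁ * k⁻¹) = x * c₂ := by rw [← hk]; group
    have h3 : x⁻¹ * (k * x * k⁻¹) = c₂ * (k * c₁ * k⁻¹)⁻¹ := by
      calc x⁻¹ * (k * x * k⁻¹) = x⁻¹ * ((k * x * k⁻¹) * (k * c₁ * k⁻¹)) * (k * c₁ * k⁻¹)⁻¹ := by group
        _ = x⁻¹ * (x * c₂) * (k * c₁ * k⁻¹)⁻¹ := by rw [e]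
        _ = c₂ * (k * c₁ * k⁻¹)⁻¹ := by group
    have h4 : x⁻¹ * (k * x * k⁻¹) ∈ T := T.mul_mem (T.inv_mem hxT) h1
    have h5 : x⁻¹ * (k * x * k⁻¹) ∈ cen N T := by
      rw [h3]; exact (cen N T).mul_mem hc₂ ((cen N T).inv_mem h2)
    have h6 := h.inf_cen hminN hna h4 h5
    rw [h6] at h3
    have h7 : c₂ = k * c₁ * k⁻¹ := by
      have := mul_inv_eq_one.1 h3.symm
      exact this
    have h8 : orderOf c₂ = orderOf c₁ := by
      rw [h7]
      have := (MulAut.conj k).orderOf_eq c₁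
      rw [MulAut.conj_apply] at this
      exact this
    rw [ho₁, ho₂] at h8
    exact hpq h8.symm
  · have hkT' : cj k⁻¹ T ≠ T := by
      intro h1
      apply hkT
      have := congrArg (cj k) h1
      rw [← cj_mul, mul_inv_cancel, cj_one] at this
      exact this.symm
    have hp1 : x ^ p = 1 := h.pow_eq_one_of_conj hminN hna hxT hc₂ hkT
      (by rw [← ho₁]; exact pow_orderOf_eq_one _) hk
    have hk' : k⁻¹ * (x * c₂) * k⁻¹⁻¹ = x * c₁ := by rw [← hk]; group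
    have hq1 : x ^ q = 1 := h.pow_eq_one_of_conj hminN hna hxT hc₁ hkT'
      (by rw [← ho₂]; exact pow_orderOf_eq_one _) hk'
    have hd1 := orderOf_dvd_of_pow_eq_one hp1
    have hd2 := orderOf_dvd_of_pow_eq_one hq1
    have hcop : Nat.Coprime p q := (Nat.coprime_primes hp hq).2 hpq
    have := Nat.eq_one_of_dvd_coprimes hcop hd1 hd2
    exact hx1 (orderOf_eq_one_iff.1 this)

end ctx2

section affine
variable {G Ω : Type*} [Group G] [MulAction G Ω]
variable (N : Subgroup G) [N.Normal]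

/-- conjugation on an abelian regular normal subgroup is induced by the point stabilizer -/
theorem aff_conj_stab (hc : ∀ a ∈ N, ∀ b ∈ N, a * b = b * a)
    (htr : ∀ x y : Ω, ∃ n ∈ N, n • x = y) (α : Ω) {n : G} (hn : n ∈ N) (g : G) :
    ∃ h ∈ stabilizer G α, g * n * g⁻¹ = h * n * h⁻¹ := by
  obtain ⟨m, hm, hmα⟩ := htr α (g • α)
  refine ⟨m⁻¹ * g, ?_, ?_⟩
  · rw [mem_stabilizer_iff, mul_smul, ← hmα, inv_smul_smul]
  · have h1 : (m⁻¹ * g) * n * (m⁻¹ * g)⁻¹ ∈ N := ‹N.Normal›.conj_mem n hn _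
    have h2 := hc m hm _ h1
    calc g * n * g⁻¹ = m * ((m⁻¹ * g) * n * (m⁻¹ * g)⁻¹) * m⁻¹ := by group
      _ = ((m⁻¹ * g) * n * (m⁻¹ * g)⁻¹) * m * m⁻¹ := by rw [h2]
      _ = (m⁻¹ * g) * n * (m⁻¹ * g)⁻¹ := by group

/-- fixing a point = centralizing the corresponding element of the regular normal subgroup -/
theorem aff_fix_iff (hfree : ∀ n ∈ N, ∀ ω : Ω, n • ω = ω → n = 1) (α : Ω)
    {h m : G} (hh : h ∈ stabilizer G α) (hm : m ∈ N) :
    h • m • α = m • α ↔ h * m * h⁻¹ = m := by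
  have hhα : h⁻¹ • α = α := by
    rw [inv_smul_eq_iff]; exact (mem_stabilizer_iff.1 hh).symm
  constructor
  · intro hfix
    have h1 : m⁻¹ * (h * m * h⁻¹) ∈ N := N.mul_mem (N.inv_mem hm) (‹N.Normal›.conj_mem m hm h)
    have h2 : (m⁻¹ * (h * m * h⁻¹)) • α = α := by
      rw [mul_smul, mul_smul, mul_smul, hhα, hfix, inv_smul_smul]
    have h3 := hfree _ h1 α h2
    calc h * m * h⁻¹ = m * (m⁻¹ * (h * m * h⁻¹)) := by group
      _ = m := by rw [h3, mul_one]
  · intro hcm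
    have : h • m • α = (h * m * h⁻¹) • α := by
      rw [mul_smul, mul_smul, hhα]
    rw [this, hcm]

variable [Finite G]

/-- if a nonidentity element of the stabilizer fixes a second point, some derangement lies
outside the regular normal subgroup -/
theorem aff_exists_der_not_mem (hc : ∀ a ∈ N, ∀ b ∈ N, a * b = b * a)
    (hfree : ∀ n ∈ N, ∀ ω : Ω, n • ω = ω → n = 1)
    (htr : ∀ x y : Ω, ∃ n ∈ N, n • x = y) (α : Ω)
    {h : G} (hh : h ∈ stabilizer G α) (hh1 : h ≠ 1) {β : Ω} (hβ : β ≠ α) (hfix : h • β = β) :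
    ∃ d : G, IsDer Ω d ∧ d ∉ N := by
  let φ : N → N := fun m => ⟨(m : G)⁻¹ * (h * m * h⁻¹),
    N.mul_mem (N.inv_mem m.2) (‹N.Normal›.conj_mem m m.2 h)⟩
  obtain ⟨n, hn, rfl⟩ := htr α β
  have hn1 : n ≠ 1 := by
    rintro rfl
    rw [one_smul] at hβ
    exact hβ rfl
  have hninj : ¬ Function.Injective φ := by
    intro hinj
    have e1 : φ ⟨n, hn⟩ = 1 := by
      apply Subtype.ext
      show n⁻¹ * (h * n * h⁻¹) = 1
      rw [(aff_fix_iff N hfree α hh hn).1 hfix, inv_mul_cancel]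
    have e2 : φ 1 = 1 := by
      apply Subtype.ext
      show ((1 : N) : G)⁻¹ * (h * ((1 : N) : G) * h⁻¹) = 1
      rw [Subgroup.coe_one]; group
    have := hinj (e1.trans e2.symm)
    exact hn1 (congrArg Subtype.val this)
  have hnsurj : ¬ Function.Surjective φ := fun hs => hninj (Finite.injective_iff_surjective.2 hs)
  rw [Function.Surjective] at hnsurj
  push Not at hnsurj
  obtain ⟨v, hv⟩ := hnsurj
  refine ⟨(v : G)⁻¹ * h, ?_, ?_⟩
  · intro ω hω
    obtain ⟨m, hm, rfl⟩ := htr α ω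
    apply hv ⟨m, hm⟩
    apply Subtype.ext
    show m⁻¹ * (h * m * h⁻¹) = v
    have hhα : h⁻¹ • α = α := by
      rw [inv_smul_eq_iff]; exact (mem_stabilizer_iff.1 hh).symm
    have h1 : m⁻¹ * ((v : G)⁻¹ * (h * m * h⁻¹)) ∈ N :=
      N.mul_mem (N.inv_mem hm) (N.mul_mem (N.inv_mem v.2) (‹N.Normal›.conj_mem m hm h))
    have h2 : (m⁻¹ * ((v : G)⁻¹ * (h * m * h⁻¹))) • α = α := by
      rw [mul_smul, mul_smul, mul_smul, mul_smul, hhα, ← mul_smul (v : G)⁻¹, hω, inv_smul_smul]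
    have h3 := hfree _ h1 α h2
    have h4 := hc _ (N.inv_mem hm) _ (N.inv_mem v.2)
    calc m⁻¹ * (h * m * h⁻¹) = v * ((v : G)⁻¹ * m⁻¹) * (h * m * h⁻¹) := by group
      _ = v * (m⁻¹ * (v : G)⁻¹) * (h * m * h⁻¹) := by rw [h4]
      _ = v * (m⁻¹ * ((v : G)⁻¹ * (h * m * h⁻¹))) := by group
      _ = v := by rw [h3, mul_one]
  · intro hd
    apply hh1
    have h1 : h ∈ N := by
      have := N.mul_mem v.2 hd
      rwa [mul_inv_cancel_left] at this
    exact hfree h h1 α hh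

/-- if the stabilizer is semiregular off the point, all derangements lie in the regular normal
subgroup -/
theorem aff_der_mem (hc : ∀ a ∈ N, ∀ b ∈ N, a * b = b * a)
    (hfree : ∀ n ∈ N, ∀ ω : Ω, n • ω = ω → n = 1)
    (htr : ∀ x y : Ω, ∃ n ∈ N, n • x = y) (α : Ω)
    (hsr : ∀ h ∈ stabilizer G α, h ≠ 1 → ∀ β : Ω, β ≠ α → h • β ≠ β)
    {d : G} (hd : IsDer Ω d) : d ∈ N := by
  obtain ⟨w, hw, hwα⟩ := htr α (d • α)
  have hh : w⁻¹ * d ∈ stabilizer G α := by
    rw [mem_stabilizer_iff, mul_smul, ← hwα, inv_smul_smul]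
  set h := w⁻¹ * d with hdef
  have hd' : d = w * h := by rw [hdef]; group
  clear_value h
  by_cases hh1 : h = 1
  · rw [hd', hh1, mul_one]; exact hw
  · exfalso
    have hhα : h⁻¹ • α = α := by
      rw [inv_smul_eq_iff]; exact (mem_stabilizer_iff.1 hh).symm
    let φ : N → N := fun m => ⟨(m : G)⁻¹ * (h * m * h⁻¹),
      N.mul_mem (N.inv_mem m.2) (‹N.Normal›.conj_mem m m.2 h)⟩
    have hinj : Function.Injective φ := by
      intro m m' hmm
      have e : (m : G)⁻¹ * (h * m * h⁻¹) = (m' : G)⁻¹ * (h * m' * h⁻¹) := congrArg Subtype.val hmm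
      -- h centralizes m * m'⁻¹
      have hk : (m : G) * (m' : G)⁻¹ ∈ N := N.mul_mem m.2 (N.inv_mem m'.2)
      have e2 : h * ((m : G) * (m' : G)⁻¹) * h⁻¹ = (m : G) * (m' : G)⁻¹ := by
        have c1 := hc _ m.2 _ (N.inv_mem m'.2)
        have c2 := hc _ (‹N.Normal›.conj_mem m' m'.2 h) _ (N.inv_mem m'.2)
        calc h * ((m : G) * (m' : G)⁻¹) * h⁻¹
            = m * ((m : G)⁻¹ * (h * m * h⁻¹)) * (h * m' * h⁻¹)⁻¹ := by group
          _ = m * ((m' : G)⁻¹ * (h * m' * h⁻¹)) * (h * m' * h⁻¹)⁻¹ := by rw [e]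
          _ = (m : G) * (m' : G)⁻¹ := by group
      have e3 := (aff_fix_iff N hfree α hh hk).2 e2
      by_contra hne
      have hne' : ((m : G) * (m' : G)⁻¹) • α ≠ α := by
        intro h5
        apply hne
        have := hfree _ hk α h5
        apply Subtype.ext
        exact mul_inv_eq_one.1 this
      exact hsr h hh hh1 _ hne' e3
    obtain ⟨m, hm⟩ := (Finite.injective_iff_surjective.1 hinj) ⟨w⁻¹, N.inv_mem hw⟩
    have e : (m : G)⁻¹ * (h * m * h⁻¹) = w⁻¹ := congrArg Subtype.val hm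
    apply hd ((m : G) • α)
    have c1 := hc _ (N.inv_mem m.2) _ (‹N.Normal›.conj_mem m m.2 h)
    have e4 : w * (h * m * h⁻¹) = m := by
      calc w * (h * m * h⁻¹) = w * (m * ((m : G)⁻¹ * (h * m * h⁻¹))) := by group
        _ = w * (m * w⁻¹) := by rw [e]
        _ = m * (w * w⁻¹) := by
            rw [← mul_assoc, hc w hw m m.2, mul_assoc]
        _ = m := by group
    calc d • (m : G) • α = (w * (h * m * h⁻¹)) • α := by
          rw [hd', mul_smul, mul_smul, mul_smul, mul_smul, hhα]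
      _ = (m : G) • α := by rw [e4]

end affine

end Cfsg.Agent.Helper58.UDer
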